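import Cfsg.Agent.OddHalf.D9.KillAny_m3
import Cfsg.Agent.OddHalf.D9.Ru.XCover
import Cfsg.Agent.OddHalf.D9.Plug.Ru
import Cfsg.Agent.OddHalf.SpTwo.EndCOP_m3
import Cfsg.Agent.OddHalf.D8.RuFam.BDef_m3
import Cfsg.Agent.UGT.EndJ1.Main_m3
import Cfsg.Agent.OddHalf.Front.FE
import Cfsg.Agent.StdL2.FTTower_m3
import Cfsg.Agent.Transfer.ThompsonTransfer
import Cfsg.Agent.SmallSimple.SylowMaxInter
import Cfsg.Agent.OddHalf.D8.Rows
import Cfsg.Agent.S1152
import Cfsg.Agent.S1157
import Cfsg.Agent.S1073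
import Cfsg.Agent.SporadicB.J1.Main
import Mathlib
import Cfsg.Agent.OddHalf.MM.Main_m3
import Cfsg.Agent.StdL2.G23Aut
import Cfsg.Agent.SmallSimple.Simple168Classes
import Cfsg.Agent.KFacts.M24Two.QGroup
import Cfsg.Agent.OddHalf.D8.MainE_m3
import Cfsg.Agent.OddHalf.D8.SheetMap_m3
import Cfsg.Agent.KFacts.TwoSix.M24
import Cfsg.Agent.KFacts.M24Pair.Letters
import Cfsg.Agent.SmallSimple.Simple168Klein
import Cfsg.Agent.SporadicA.M24Trans
import Cfsg.Agent.KFacts.M24Two.Out
import Cfsg.Agent.Lib.ListFast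
import Cfsg.Agent.OddHalf.D5.DblClean_m3
import Cfsg.Agent.S0280
import Cfsg.Agent.OddHalf.Small.Sp_m3
import Cfsg.Agent.Lib.ModFour
import Cfsg.Agent.Lib.FastPerm
import Cfsg.Agent.ClassicalGeometry.AutPSL.Main
import Cfsg.Agent.H597.L2Aut
import Cfsg.Agent.ClassicalGeometry.AutPSL.SylowU
import Cfsg.Agent.LieRecognition.FieldSemilinear
import Cfsg.Agent.OddHalf.D4.NoBig
import Cfsg.Agent.StdSpFour.CaseCDefs_m3
import Cfsg.Agent.StdSpFour.SpEnv_m3
import Cfsg.Agent.UFiveTwo.AutOut_mg_m3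
import Cfsg.Agent.OddHalf.NI.LemmaP
import Cfsg.Agent.OddHalf.D9.DoubleKill_m3
import Cfsg.Agent.SignalizersComponents.PCompQuot
import Cfsg.Agent.SignalizersComponents.ComponentImage
import Cfsg.Agent.OddHalf.NI.Ex.Defs
import Cfsg.Agent.KFacts.RgdFld.Two_m3
import Cfsg.Agent.Lib.PSL2Inv
import Cfsg.Agent.TwoFusion.QuatCoverSL
import Cfsg.Agent.S1304
import Cfsg.Agent.FastGrp
import Cfsg.Agent.Prune
set_option linter.all false

section
prune_inst 0x7fbcbcf98fb82ddfdfff7e7faedcdffc3990dfffefdff94bffe061ff8fdf030209e52b8d0de010ff0ef6629410b87813f9ffee7fea6bdc7ffffd5ff45ffbee0fe5f7bd08519688340fbc0fff63f07f8e7f3fffffffffffffffffffffffffffbeffffffffffff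

-- part: KFacts/Ru/PackD
section
set_option linter.all false
open scoped Cfsg.Agent.FastGrp

section
set_option autoImplicit false
set_option maxRecDepth 100000
set_option exponentiation.threshold 5000

namespace Cfsg.Agent.RuFast

open Cfsg.Agent.RuD.Letters Cfsg.Agent.SporRec.R3.Kernel

section fast
open Cfsg.Agent.Lib.BitNet

private def trs (x : ℕ) (l : List (ℕ × ℕ)) : ℕ :=
  l.foldr (fun p y => dsw (Nat.pow 2 p.2 - Nat.pow 2 p.1) (trMask 16 p.1 p.2) y) x

private theorem testBit_trs (x : ℕ) : ∀ l : List (ℕ × ℕ), (∀ p ∈ l, p.1 < p.2 ∧ p.2 < 16) → ∀ I < 2 ^ 16, ∃ J < 2 ^ 16,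
    (trs x l).testBit I = x.testBit J ∧ ∀ j, J.testBit j = I.testBit (l.foldr (fun p i => swapIdx p.1 p.2 i) j)
  | [], _, I, hI => ⟨I, hI, rfl, fun _ => rfl⟩
  | p :: l, h, I, hI => by
    obtain ⟨h1, h2⟩ := h p List.mem_cons_self
    obtain ⟨h3, h4⟩ := sw_trMask h1 h2 hI
    obtain ⟨J, h5, h6, h7⟩ := testBit_trs x l (fun q hq => h q (List.mem_cons_of_mem _ hq)) _ h4
    exact ⟨J, h5, (testBit_dsw (trMask_valid h1 h2) _ I).trans h6, fun j => (h7 j).trans (h3 _)⟩

private def swL : List (ℕ × ℕ) :=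
  [(0, 12), (1, 13), (2, 14), (3, 15), (0, 8), (1, 9), (2, 10), (3, 11), (0, 4), (1, 5), (2, 6), (3, 7)]

/-- the table of a network -/
private def tabN (l : List (ℕ × ℕ)) : ℕ := trs (appMr 4096 4 l.reverse (pack (fun r => idxMask 16 r) 4096 4 0)) swL

private theorem tabN_eq {l : List (ℕ × ℕ)} (h : In 4096 l) {c : ℕ} (hc : c < 4096) :
    Nat.mod (Nat.shiftRight (tabN l) (Nat.mul 16 c)) 4096 = app l c := by
  have h0 := h.app_lt hc
  refine Nat.eq_of_testBit_eq fun r => ?_
  show (tabN l >>> (16 * c) % 2 ^ 12).testBit r = _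
  rw [Nat.testBit_mod_two_pow, Nat.testBit_shiftRight]
  rcases Nat.lt_or_ge r 12 with hr | hr
  · obtain ⟨J, h1, h2, h3⟩ := testBit_trs (appMr 4096 4 l.reverse (pack (fun r => idxMask 16 r) 4096 4 0)) swL
      (by decide) (16 * c + r) (by omega)
    have h4 : J = 2 ^ 12 * r + c := Nat.eq_of_testBit_eq fun j => by
      rcases Nat.lt_or_ge j 16 with hj | hj
      · have h5 : ∀ j < 16, swL.foldr (fun p i => swapIdx p.1 p.2 i) j = if j < 12 then j + 4 else j - 12 := by decide
        rw [h3, h5 j hj, Nat.testBit_two_pow_mul_add r (show c < 2 ^ 12 from hc),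
          show 16 * c + r = 2 ^ 4 * c + r from rfl, Nat.testBit_two_pow_mul_add c (show r < 2 ^ 4 by omega)]
        by_cases h6 : j < 12
        · rw [if_pos h6, if_pos h6, if_neg (by omega), Nat.add_sub_cancel]
        · rw [if_neg h6, if_neg h6, if_pos (by omega)]
      · have h6 : 2 ^ 16 ≤ 2 ^ j := Nat.pow_le_pow_right (by decide) hj
        rw [Nat.testBit_lt_two_pow (h1.trans_le h6), Nat.testBit_lt_two_pow (lt_of_lt_of_le (by omega) h6)]
    have h7 := testBit_appMr (k := 4) (l := l.reverse) (fun p hp => h p (List.mem_reverse.1 hp))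
      (pack (fun r => idxMask 16 r) 4096 4 0) (r := r) (by omega) h0
    rw [Cfsg.Agent.Lib.BitNetSimple.app_reverse, appInv_app h.valid, testBit_pack _ 4 0 (by omega) h0, Nat.zero_add,
      testBit_idxMask (by omega), decide_eq_true (show app l c < 2 ^ 16 by omega), Bool.true_and] at h7
    rw [decide_eq_true hr, Bool.true_and, ← h7]
    exact h2.trans (congrArg _ h4)
  · rw [decide_eq_false (by omega), Bool.false_and,
      Nat.testBit_lt_two_pow (h0.trans_le (Nat.pow_le_pow_right (by decide) hr : 2 ^ 12 ≤ 2 ^ r))]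

private noncomputable def nthT (l : List ℕ) : ℕ → ℕ :=
  List.rec (motive := fun _ => ℕ → ℕ) (fun _ => tabN [])
    (fun x _ ih a => Nat.rec (motive := fun _ => ℕ) x (fun b _ => ih b) a) l

private theorem nthT_map : ∀ (l : List (List (ℕ × ℕ))) (a : ℕ), nthT (l.map tabN) a = tabN (nthL l a)
  | [], _ => rfl
  | _ :: _, 0 => rfl
  | _ :: l, a + 1 => nthT_map l a

private theorem in_nthL : ∀ (l : List (List (ℕ × ℕ))), allL (inn 4096) l = true → ∀ a, In 4096 (nthL l a)
  | [], _, _ => fun _ hp => absurd hp List.not_mem_nil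
  | x :: _, h, 0 => inn_sound ((allL_iff _ _).1 h x List.mem_cons_self)
  | _ :: l, h, a + 1 => in_nthL l ((allL_iff _ _).2 fun y hy => (allL_iff _ _).1 h y (List.mem_cons_of_mem _ hy)) a

private theorem in_NL : allL (inn 4096) NL = true := by decide +kernel

private def TL : List ℕ := [
  0xfff0ffe0ffd0ffc0ffb0ffa0ff90ff80ff70ff60ff50ff40ff30ff20ff10ff00fef0fee0fed0fec0feb0fea0fe90fe80fe70fe60fe50fe40fe30fe20fe10fe00fdf0fde0fdd0fdc06860c90053a08b0046805170809080a019f0a670d3005ec09750b0505160f5d0112040a0b3d0106045c010e0e3f00bc097e09f603200f5105970f3e06c60f9d04160a8e028f0aab0f220e2405ed0d6300bf0802068d044b01a207f90fac0fad02ad05650a4a050c02b605a10cb10aba022303110ae500bb034e04af0fbc08e80f250f4701e90eac0e400d730a80008103ea06ef0b1b0ba60df00d97076105f20c29046107630aee045f00fb0cea09d405a6052701550305051808db09f209870c3f00160d5e06fc040105b20ab50a4d0b2104c908770dff0904096e0cd80f0d0d7608010b550be200a406b50aa80b6b0d540e5406e40d59029102eb0fcc060a0ea00e7a090201af0c30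053c07030b3204c409be0fc00ea90b19042c0b480e360a8403100c5d01bb0f9a0a3808fc0243004f0b0c0ba0028406f20fbe0c4401d9056201be0f0f087c07950d1408d30ccc0621043d011709bb03630486032402330d6405d709520d4409f80d0b0f9b017b05fd0fb704600ee8072d06d30b08093401bd02bb02a303930242099a089f0cc103070a1a0cf705700f3905c60f6c043f056908e00c5a039e06a704a1085b0af4070a070b03440b9e02c40698003f00f407110cf90d9b05f4013004c805860715029c0e5b07810972028008c903810939090101f803300f200d0901770df70d8101c4008406a00c010df5019d00a208c30581038d076505cf03f40ad9009409eb0d8702e507b80a9d01080399080308200bf0008d0c180a170a6402e20b0704080c2409360aa50e4c0c7e0bef077f02be058001940a830bcb07ac041b07fa05a50b2a0b740c7706420c7101ce01460f9805c1026e0f500d0c04220afc007c03fe059b09aa01c70f5b02c80328055908a505470431005f0e8f0d740645062d01d00b35057305000a160e9809f404d205b90914021002280966066a02f60526010903f90d4e0b9a03180d9004340b4c000a09150f5a032708500054077c006a0d120d7a054d0a0502120ae102ef08a80d61027e00fa04050ce4095e05140cdd05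4f0bdd07f707f602bc0cca001e03a9089d0ef2055f0172044e011104bd0d940f620a3a00100411064d06bf029e05310ec0078a0b340c48001c07fd0d3a02e7060506650ab80ba90f970fc50c45083d0b8206150ca30dec0473020c0f4c0bd105dc041803970a6a010a02ba087e01e40a3e0bf80d1c0b670cf80cab00b307b20fb607a3078b07a9063004940d6507d1066d06380e1700b200b80e1a09ff0ac108ce0d6e0640017f0d3100ee0d1d0a25079306c8075d0a1501b206dd01f409ea08c70599002b0c59029d0f7002700ca90b8f0b270625007b09540ee500d40edf018a04d7014707340f8f08680b2e09580e390c32099e043603df0bbd025508210c2a03690ce901d405de0070088d0da40d1608e50af6052f011c044802e40cb60d180c27095301050d49026c005d0d6d07aa0003087d0b0e06a90be40924014b02a602bd0d8305030d3b096b0c6d08060ab30c0a085503e401db045801ec07a007a20a52098c0d070433046e0071099409ed081004fa02d50c22084c02a5022b0ddd00db01280533017907b000af0af704aa0ef90729026208610f8e003c06590e5504b80b8809700e7f099c0d7007ff02aa0c3a0ab9002107ef0ed30a90033303060dc2067b0ee40cb30676006c063f09fe06840e730bb00ca00a2b0f6b04ef0e970f960065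0c810d8e02510e130dcd0ba70aa60463089a011407bb0c0e0e1e0f2b0fb40afb0e6c059d01580f7906e50c5205ca09730f60063a061e02cd04300f630480042008ef046200c50e82051e0316093a04700dd00b3e05bd08e3092a0f280524042608f0073204b70c89033a0c1c0dc00e46056c07b3007d094606ae0c0d0be105570e100fd10542050803a104be032b06fd0a46034705ee013401f00175058f030b09a5068f049e0c2e0e0e0e2a049703cd0c930dd401ef0ddc088f0f36019e0e74022d01dd01a70ac606340ea80f260ab70ee703780db1098a04d509980a9c08ee00f804e703b0042f0b99019a01a906950efa0e280f11073c068806ac02f5097400d30c9c03d20a5c0ccd023c05c80f850de202db0b63067c0a4b0e68079f07e40651072b0657036c0e65096007350af008170f6d09a602ff019908b505c5032a030e01cc060805eb0ced0f3401780e5f00ec0744071d0a810c6301d30173004a0f14058402dc08f705e7008f009a055403150c99052d0dd5078d08a20d80083b0fa50838024b054c052c002e0e270a360dfd0beb02220837082a04e20e3a020706910d780543003809e70cf00abf0ab20cb808a00c410bac027d06070d19058d05d80fda0be800430c1e047a01cb08de0d3e020202390b6e01950168065205e00d7102a905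e30ebf0bb708bd0890013e04bc027f0eb1025b049a025002b701b80eaf0544008e07f80dbe085f0737027a0353099504ca09c60bfa01860cc5044504510a7c00b504fb0f490baf06fb0f090e010b180b20031903010b8c02e10d5c08490459064c0883061404b0071f00450c130e4901d1049c0e3e0f3d067408dc0c9701ed0f7b05e2033b026d09b70d8b064b0c00074f055c01a406e90c030deb02ce0f57001f0d1e0989003b00ca0de40f8b0a880dd30b09018c0ec3018b0da80197085e03870c8d0a920d3c062301a606530ec903ed00df09ba084d0c490a8a099603f5056e0d660d34093e057a0dbb03b7007907c90332040705090c33065f0ee00c38067f031b06a80558012d0c65080e0e2b0bd90a19047107c70167095d00080ecb0ebe026603ac0b940ca802d706f10c8f0a3d069706270dc703bc0f680d3308a406d207200e63084f090a01fe0bf708ae02d306ce04910a7a035807d40e35013b078f029000070a090eb8001305a800ba06800818053805a70a9604e400ea0882053d0a760de70a1e03c102c508af04bf0c7d048701d8028709470a3903f60d790c5c056005740c96032c074b0e41094f0d6c0f900121037f09680b5604f00f4108810f0008a605c700c20e810cfd04e3039a0a7507fe0bec06bd018d082502fe0dfc0400011d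0c54006306da00ab0d92000e057c01260ad302820e3c0967099f02810886087108aa07ca04da082603e10843099702f10eb206f609dc0ae7026009190c8609a409170f640135099203aa0e290753060f06890ce702ed09d10ac30b5a076406f7000f08230b5f021e0a4f07ab0ba20f6901ee08b6035e06d5023804f7042e05360e7d09a00862013f0f4d04a609820b4104400ae606600b45057805cd0d480fc90a0106f000b1063303dc014d040c0e930e4a05b70f5404a5001803d60dee047d043e07680eb306c70a020dfb00000a5b0b11003707740f730c57012c0215024e09ad0f91076e0f4f0c58042b066202850b1202130b140b2404ec08be0dc906470f42009c061f0c260f1d0ec500cf0fce059c017403b204d40074073601e303260ea60d620039005302690d9d0dda07880f040513007809fa0cda0aaa0f880965009d04560481098001100b710b430fa1045a083f06700e6f086e03c3060e03c70550016b02050ed603ff03d5044a090e073e0b840499016f015c063b004e069303d70a2803d906b00a3303db0d0e052504a40b6000ad0e1501de0c9b08d401c007480a9f0fa40d8a0e420d0a08880f75021d0dbc0c9a08b8098e03e5076b07ae04ab0fb80aef09050f6509c90d6b0ec10959027109ae05fc08110abb05750ed00d03042d0a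71067307df0a620bc309f107ec04c70c1d04dc0d86032f0fba07800062050f0c1203610c2804db014a04f80f4b0eb903700cc60f9502b8053402ac0c6002fa0bd405c400f300200bbe0b9607060371027c0a9a05fb08e709d5061308f600880e3101ff020e0fd2013206cc0ec7068c0a97036a008b055d04d304cf0cee0b2507050382023b07be065c057d02c706770db3006408870b5806ff0f7404820ce50fa9026f00d000ce0d290898078602de07ce059a091a007e0e2c0be705ad00850e530bb20f4606af0caa040601760ac808cc041e06d0014f06e102b502a70d7703c806f30acb0429082b0e0d00350297073008bb03de03fb0bbc089e095008f80f120bf609570ec80e900e0907cc008006ea012e0441074d05920738013c084406440bcc0339084008480e7109b306480b280b3c05df0e160d7c04f6086709310af100020f27041c0fc206c00e8e07270f7d0a95063e007f09b20dac04fd0ed40e05023d05880c9d038a055b027406b304bb0650079600d807a807a60b7200b4038506be06b10707028a0a6e0f840783049f0b6107af00b9087907da025f052901870aa7087b01610c66025208b9064100830051028802310f5204e5073b0f300c1501f906dc0c3b024f071a044f0a0409ee065a060301b10aa20b1c072406090ea209120990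02990cd70d210b6d02a1029f050e0b4b0b800dea00950d8f01510f16086a0d040b760c110c680dad031f0b69002609a805550ab008930db206850d060c2d02fb0f7c072105ff065803e20b46075f0ae903e60fc3077d05bb0643031307bf022c080409100fcf0cf20d5a0ef000ff0d91023a0f6e01f603640dbf069f05d90ba30b810e880aed0267008c005900c60cdc045d0e670bf2029401df05530aa40ded0a1802b3000d0df80dd20f2909080a1c0ba80196081c0119035401b9041f01e20bb30d36091b03da0666028b07c2084707750c0c06c4004802650d4b0eec061902370ec2015a0f1c01cd05ef09fb0373045e0309085d010b00190d4503cf07a40709074005fa0dc6012f060d02cc0229064e06db08da02d109450a400b6f05f90b6c07790e7b0e8b052209a900c8097601220ad50760022504130bdb05be0951046408e40aa90f6f03e70f590eeb070d03d006cf07ba0f45086006ec00910a1b0cbe0a6c03b503600664040207390d410d510d020549086c0626085304570f9c0a6f05010ddb09060d4602c902b10f0a031c0c8a03a50c420f7e091d02a2050403b300bd06b40abe0f3507850546075503920e14020a0a32022a01250eee048a0e04050a01ab02c20edc047c086f034f02780b0f0c7c049d0a21078909c40ab102e90b530c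d4005a04c30234053e0fd80bb90bd8006d028607b60b7c08350e6d046f0b9d0e9c0be0059f0cb401bf0c980f150a1d0e5c05a301ba0d6908950a45068704c60899058e098d04e104eb0c7b0d1506bc0dde010206a502f9076a0ab60a500b7e048b01fd0c4e0bc00b9f05d3017c0e2e0dca0f3809c8038f09ce03950f71043c025e04f40203082f0b7d074c08c10ae0007a08ec00170999076d0def09fc04cc0583051f02950b4a0d9808fb0c6c0c20092d032e0f0506df04b603ae066307de0dba02bf08ea0246064a0e780bdc06750c140da7024c04850c510a060940034c07990a0b0b7704e605850a070ae3073a0e3d02540cb204b906b80cb00ca6038b08a904e807bc0506059e04e9087206f9001500c00a260ca5075e057703a60b790b9103ab0b5b07710de50ecc047907a7004d094d0050014200a70bc60cd9051d03b604880567055a0aa00dab05c00bf904d604b407570fd40fd5022e060b0dbd00de09770ecd0fb20f6a06220d8d0b950e47029a02ca0eb50fae0c6e0e620e6104240014040404ac037403450d88007307500a94015e048407e106b901a505e900a10ce20410008907e9024d0a980856037a01b503ad09cd016d02980489043500d60bd20624072f0e1d0366018e0a4206e30a14072a0b7b0c0702140bf40004046700d70548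0941040b05d509790a57018008330d6708fd034b0ed1008708ab010f068e0d380e25038e0d9f09d00aad07460eb70b570dcc0e2109de081e09dd05e509280e230db4037e0db50ce3071206e6026404490368084506e8078209e00f3704c10e0c0139025603080bcf01650cb503430e220e4b08ba0af503140a4408d2035709d307970ef10a8d0ebd046c097d0e76026802ab091602cb06aa019c093f0b2205bc03770822070803b10b1a086901150aae088907470b2b03c601200ed90b5e0f8901c30f8d090d098108290e0a04de040f047703400276080b02b408d003750b660656054507ed0c3706a10a0f08700baa05d106720abc076907ad003e0cc8069e013102fc092605980ad4031a0cf609bc083e08f10a0d0c6b0aff0cdb0df104f30d4004dd0a2207d200a90f1f03ec0ce007cb0d9a015009f30148047e09ac035004ba09860bde0c4b065e0cc70384044709b504a206e0024901810ef4066703f2079e0efb01c9014305b6090005b30f020f030927077009d70a740a5a066e0f55023f04df06d10a4e05ac0d2a0f780c5b0057082e06eb0b5d0b7301b300560a290f3f0be90b3b0f920100003008fa06f80a120c340798057f079d0d5d0f6107cd00cd0a2e0718085a00f70e0709b8091e0b8a05fe025304c004720b5103fc0f1e0bdf07000a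3008fe0bd601e50a650321049601ea0e0b0b290fbd0671093d067d01e605da09f50e4f09d90b93088e00c4061807e80839005c00e70f6608d509e3061c09d80ac90a370d35025c0cf4011e07770dc80bfd0f070699088b034106120587074e0ee1096a0743058c0182020d005806a60efe0be602480cfa068b0acd050b0ca104a90d2007b40fb10a63069405f10b640cf508970fdb098b0d7b025a00b603c50bc70bff05c906c30ce60d820541017102240a530d7f084e0c430a99074906c50ae2032307040e1c059400060e8705790219071409430e4308f308570b1601c80b420c02071e02d90a56050209b10d9509840cdf0752024702d40c190c830ce109e1048e091f0e500c4f0c39085100ef0a030b0d05630e960a0a097b0eb009c30e120d7d09f003e905c30acf0d58045b0e1b02ae04f200600d0d0b39017a035c0e2002a404760e9503b80184016c04f102d00be508eb0dfa07d30c1b08000f33054b0b0a0d57044406b2046500aa093806ba0033042a0e3b0c4d0a6d06a3050503360b650ade0922002408070f5c09ab0ccf0c94048d0e4402cf09b0004b01e8015d098506d90f230aa10a7009250918002f0164020103a20ef803ca0f8c068a01ca09320d270fb50fd00cce00f207e605190cbd055207a505b40c7f0c3e01a00c820a000de0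01230e34053f06c109690c910f2a00c307c001f1088001fc074a04a80ed802720b3f009300820d5b067e0ceb0b9c0f0e0cd30a79063c02060eab080f00e309090d470773097c02200e8c00be0b33070e036505e4070c0f76055e02b2039805390a3c06fe013601bc00520bc90bc40f830eb4030c089c041d0fa6001b08a308310d600b040ea30a410e03073f0fbf02320116066c058b0a0e0226011b0d2308940c92069d0593016e047409e806a20ef508410cc0086502e30edb0ebb06e7009f0a550b8602630c0b06690b400828021a0a9e0bad0e9200e2054e0f1002730c0f00d20d39023501370f0b00f50813012b0faa000106460f3b00a30bae0e5a05b10a5f0c3609e508120e9d0bfc0d3201e7098f0cba095a05e604550adc0e6405710e720cae0620052b08ed07c30e9b08d107510c700c9f0d2f067a041705db08b10bbf0f5603030fd905ae0bc504b50b4d044d0a7e0da103a30e4d01fa0dd904b10cb70cad054a008a09cb04b20f820e850ac50d4302dd091300e802e808640d4d0816047b002802af05e80f7f0fd60fcd03960e660af304fe042103a70a8b09a100eb0fa8069208c60c040d2e02d20832061108d80dc1065b08e60e9101f3051209ec01890c5e0daa01f20a850b4f09fd04cb08740733063606290ba10d7500fe03560b1008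910041083008340d00084209bd0bc20b980ca4089201560701075c07310a910a870b7a040e034d0df3080d0d050b010a5e0e8d0124046a0a5d03420346086604f50c670f720ef60a930896032d0f5308b3009e079406d70bb80d2c0e560c7909e20722083a0d930d3f08590537080c01930528052e0c4c0f9e02f4007707f20aac0d9c069005d003f10b470b310ac402f707190f0603ba09d20d1f08bc0c4600f60c750ad200f10d1b06ca021b0e1f047501180bd502f30442064f06060098088508c807d708140bb60f2e084a07ea03380a4c0aea0d5303cc07250b2d08c2051c0c8c081f0230075a062e049305890e3806d60bf50d4a08a70daf03eb077e013a04d001910fd707c50044061b09070d6a0d500f8a0f210f87092f095f0fc706390ae40c500db708e90aeb055100e40427041a0c6101fb09b40e58053503590fb00ad6079b0dd7071b030a0c62061d0236048f0a100b440f0c0b2c0f32087603a8012a002701da004c0de907d60e7e0db001ad0e9a0d550cfe0b4e0a9b0f4e0b1706160a2700fc04530d4203e807f502b00ea705110d5209490a3105a209f70eb60452010d0e3305400fbb039100d1090b023e0e5107e3075b04d900e10b3607c10fca01c50ec40c050a350e6907f3020008f20f770b8e0ad80ea403a006d40a1f00d90e83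001103b40bb10c100ed70211071304a7030f03a402920c17072c046d0f93063d04250903097f0aaf0db9031209830b7800610de80a20026a0b380ac709440aca003a0acc0b2f0ad703bd03be0cef035d08ff092902750d1a047f02fd05f302ee0a2a0add0767068103bb0adf02450bbb029b013d03d303d40be303c404a00138062c0c09081508f503f708d70b02076f0cff0042085807db0bed08240b680e5d043b0510082708dd03ef053205f50d2d03fd03830f0801cf01c1006e0b970ece05af0e3205150878037c0f1808cf04150283087a07b10eda0049083609e6034802770c1f014409da071c039f0a590eed02170ba407a100cc0394001d07dd00460d08077201e0075407f10930005e0a730a8201d2036b01600cde036e0a610de3079a033e07d005b5096c0f2f017e0a8908f401b70b5203d1063103350104044c0bd3078404ed0133094b0c6901ac0090072308c00f9f04d8084607b90198015f03890d2804cd07f00f01078c04ce06a4075902e60367010c02960c3d0d3d0a08048302e00610035b01dc0d850c06021f0ee90a8f085c04c50bab0d2b0cd201660e9e0e790afd003d0f2d066f031d06cb0fc109930258032208df0bfe073d0c560e80021c0d4c0cb90787097a03e30fa20f4a03f00cd1030405a40d220446092e07900f130d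840f80030d053b00e90c5501d50cd60b9003cb074109880a7b088a000904a30e860cf304ae049002ea0b7501620e6e03c90b6200f90f5e02f208b705200e45033f0ed20dd605820ec60c53033701d60a4305230cbf0ce80216065d00b00bea009b0da906540bd70507091c062806040c310d560921077807fb08e20e9f0a5401570bba0eff015408c4011f01e108540ebc0dc30e600f1a0e2f02930a7f0c730fa70a2d0756095605b008e10423051a06370fab0a7d077a0d8c0c80025d0a2c0dc40da6062f0f1908d909a3015309a20e4e0e000ef303c007fc09a707d80a23033c0863095c02b903ee0f5f0bce0fb9016a005b006f094209d6008609c00bb408ac0b150f4003900b830b7f0eef0c780e6b0c950a72019b0c6a00ed08bf0388075803ce09e4056f05ce0aa30dfe0a490eaa0c3c0dcf025703dd0af8077b09640bee093b079c057b0d9900970b7009cc087502a806ad0c7606830107031e026b07910de6083c06d809c50d6f0c7409b60b1d07e0084b0caf0103071706960655085203c200b70f440f1701d701400702041209e90cec0a58096f0c870b5009370443056b08b20f2c059609bf0478006b08080d1109780da508cb09200e8902080591090c06780fa30ca701a105ba03310b590ab4031704950576066800d5038002da0b1e07c8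0b130e7003f30e8a01270a68069b0e37002c08cd00a502270ca205c20ada018508730c8805f604030a690bda088405d20450053009b90eea01eb096d00750e0604ff04f905d40d250d170b540c400db601f706c90f990601055606c206cd0e2d0afe094802c00376095b0ac00d1003340db804380f3c0bb5024102df03000de10cc4036f0c470e94039d0eae09330cd00c8b05f0071006610ea1019204090ee3076200e5039c0abd08a10f3a0f1b05aa0f48089b094a0c72035f00da07dc00dd06f50e0809af00290f5801a80432035208c500a60cfb01ae0d0f0c1a07e70c3500550faf022105e10fd30d130ede0776027b0cfc0cd5034a0c21094e0c850eba04b301c60469014c007207cf0b920c250c230df404fc003209ca0c640204062b0068069c071607bd0e1103620092087f0f2406320da00ccb0ee60a340d240b030cc30e59067900dc0ad1058a07d9062a0adb028e00e00c840bf30329078e05f7010102f009c7036d034907eb06000ad000fd093501450d5f02c604e00f8102c302a000ac099b07280a2f00a00b3701900dc50a86000507260df20ead01590386070f081a011302400b490c7a03bf0a0c0bd0046b079203b9056a05ab0b6a0d2603550a6607420ef709230a110bfb0b1f0566043a00230da2020f0b8508ca04d105dd090f0b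a5076602c106ab0b8d0dd805900031094c04920f310595076c0d6801410fcb0e570ae807b50fc60419033d092c0e300e840ecf02590fc80dd1035a024a088c016306ee097104ee015b04280f860e6a02ec0d0106de049b05680efc0a7805ea0498000b06490e0f02790cc9050d0bc10302052106b6003601c2045405bf0572040d01690c16080501b401700da301b603fa09df07c407d502180df60cf1056d04140a480b060a4706e2037d00ae0c2b00c7091100c909610d4f06bb05d60b9b0067082c0fb305b808d60fc40fa00bc809cf0e18024406820c5f09db0e260e190b3a02d80d9e00cb0ac201520b89061a072e000c081901aa02090f6705610edd07e5014e057e04c20aec0b0b02d60cbb0047048c0261001a099d0ed505cc017d08f903510cbc0c6f0eca09630a60052a07e20a6b07b702890a3b0ee209c205cb0f940a1309ef0a3f0d370ea50df9086d0c080af204ad006601f50b0007ee018f0dae0ddf028c039b08ad0d7e022f0e750012018300c100760d720a510b8b0a8c03e006350e9903720dce06b7028d08b40962069a06fa06f401a30e770af905a909c1081b0f430ace081d043706020cc2038c093c009903790c4a04660c8e03af04ea00340efd074503250d960c2c03d80afa0c9e0b2300e60a24004006170188011a06ed05f80cac0025020b0e02002201b0051b04390991002d060c0129002a0d890a770c2f0e5e037b0e4805a00096092b0b30086b0f7a082d07f40bca006903f80e520b5c0b87095500a800f00e7c02f80bf10bcd066b014907c60dcb09f905640b26,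
  0xfff0ffe0ffd0ffc0ffb0ffa0ff90ff80ff70ff60ff50ff40ff30ff20ff10ff00fef0fee0fed0fec0feb0fea0fe90fe80fe70fe60fe50fe40fe30fe20fe10fe00fdf0fde0fdd0fdc088b0c220c0c0807082e0996056b07bd0203095c097d09e805e2043405380f5703f101e502050b2208920da10d1305ad0e1e0da60d3f0d000e6409e5037400e60c6504b90788099d09de0727048b0d4f0a170e470680021908760a610cba05540844093f0d8b0bb20a410751013605c8029200ff04980a6e001108780036030b085a0ac0023e03db064f01080bd0073700850899011c065d03d0022905040ef90dc9069d076e0710037a05a60a4d0d930f8b0e760771041002b30ecd0bf703f50c3f078500ce007001d30bec0bf40e59097206470423036600960f2500c804bd02dd01440f18082c06f2019f0b7f0b4700730adc049e00d50bbe06670c3009ed00a107440bcb01e7006f05de01bd0de60d4a024b04e70f2f0f4f0bd409bb04000d180679030803a101de065b043306cc0e6907dc0b5308a407f0055b03cc022d03570987072203c70671006a08d90a710740076707a10f80035c0d570b390e910de102720c14046d0a8503fc06df02ab063407a808130f39085c0ee50c9b0ba10ed20e9e0a84033502d50ccb004e04d704320b1e00720ba804ba0a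800e5604f40eb20fac072b08e209ac0f89062b0d850e5306b301e10a01005908880a60012305e50b8b0d30068809660607094b0146097e0e3e0e2608190d0903e5036708bf05b80d5809390f0f04d2058606050f610e7200b60dc203c00afd07d30d5b0a4603b50c1600e4041c09140eac02d607b703fa05c405c203ce009d00f003cd06ec0efe0424013f05a906c60c640b4b08e3015b0acd090c08e0041f0a420ea1024c08180e8a04eb0af00e5207a002aa08360a4c0ed402e40cd3059b0254025c0ac705cb0b7a03630b77066d0e1101220edc0475037807ad07e50a9002860382089703ac0d5a05da044709aa074d0dcf0c6306a60d490a550754071b0ee0079100ef0bf50f810f130cd604360d250eee026006a90f580ad00cff0056006709c50fc104830cc80c7f096e0a1e04920d38045308600520078c0a100e7409ef0f6c044e0aa4077f096d0f6b010b0c5703bc0be20820083105070ef70cb90ad9075e0f010c45021a00b008ad08560cad0c43055005ee0c2e0dc40ece01cd083809f90f0a0848078d083b07070fb203d4028f06dc0fc00ded0b89048e019e0f7f0149057504810f1c093c0dca04310b8e058e0ac5078001d704220e7909be030007ab022004e6032c023d0e860e38089e079509f30081049c063509280f1908c509f209b5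0f9909d00a7c016507af05ac0019011b022f0c6c005b07020de800e3063b04b5034e0b9f0aee04200d5c068a02830bb70d0f02980e000cd507d0009f01470f5d00970d4500690e390e4402d00326016d0c6a0f9a016208ff04140aa105e60048035103dd06780c0f0dff0bb307f206b5023606fb0d07059f007c07bb0239010903a30e140e2f038f09d30a5b005d0e1f0b41080d08140e8f0ea0044b06ea054a071c0c0500fb09a3093b0fb1021e0f7101cb06850f970e230df90a3301ce019a023701d904cc031807c10464097502e20191073a09db0b430df5043b08790f230d420f7509310b0c05ae0d2e0da50c87029906cb065a0b4c03120e0f090306ab0fd103ed0c390dee09200487079f06740e3d0f620aa806f40cf605d30d0601380fa102490aa9080400d9016302440a23098b002e06e40edd06c90ca40e5c01f80ebe08fb004c0c7e0b2f05230eb70ea20ecf08060e3208800089006b0a12056f043f04e0051e049f011f02db01ab01d400c5033b0e5802f5024e0a470e0a01a205c3096302180c7908470b540dad07ee0160088a0e2e01f2018701af0dc50133034a07320e9801390b510c9e0bd303eb015200d7048c0415041d0e3a02a4094a07a303bd07f901dc012b0ae90ebb001700830750023f077d06e703bb07f606f801e80e8308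340b2308c808f2090a00a007fa0ba7084e039a04b604ef05bf0bab0d1b0356041804940e0d0e840ec40e7507d20427028b080901b60c930f5c084306d40ee60e8d004a00b40d8d08ab0f960bf004a800620cd107e90e6c067d0fa40a620be1006302f6018f07ec06d103b40c4c072001880e66092405a509cf094e0dbc0f740c5b0e060ade0b2c0faa0d76031d06f60f6009f10d360b950be308c20c8e0b400a87091101a502bc0c8f060309f802b40e4305910ccf00d000b90a9a0524031503f4023b0a24010e072c02e30d3d0d740df300b20d8a0d9f040f06d70c1e0ec00760029a03480dce04580fb700a2080005ab04fc0dd9067008a806bf047303140df2000c045f074b02fc0d9a093405b40e810ebf0cdb088f09df05140cf406ae07fc0e8e0f8e06210bc400e80e330ba20a190da80e010b79032f05f3014206d80ca30c330fa60b55079b034905a30cf903970d0b07db09490b2b00e50dd7031b09fe07180dd607e6082105d106e803960ea30ad806720fd80ac802160dc00bc10b2106f104a90eb105e80a0903ec01e20b420abc0b360ad307900fab03cf0ce0029d02c30a110ce1024601950bfd0faf00aa0bad0b9d089f0b8302c70c5a0cf109c10cb207ef09e70518047f01030f1a0d9708d00f7b041b06b006b60b860ae50fb608930553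0d6f08ae08fc0d4c00900451028c05290d75051c03010c620f660b0e092f0b45035a0ce500fd0aae0f420d920aa204f60a8f046e01b90f4104d30b760b49006c0c0a055d0955005107df0fca039d0d9e0ce8086b08d30b0b09370bc80ca801680e4e0e2707c90316050e029b098d09ff02a80c5305680091051906530842094107040cc90ba30f3108450f04069807ce0eab0dfb0b8500a801670b0a0c5908d5021701ae02650da200c009c2091307c5098e0ecc09830cf80cbe07c20f070bc00247012f0d530a5009ee08940af10b4e07be07c60db40cda0f54038e01fa0cef0c9a01920a8e093801580cc101ac02f207f30f700d200fa50e700e3506560768017407720b110bca0e990287043702ad0b140c180f3300db074300ab0df1027302d90f0602c60daa0cb80d3e08b600c90b3c08a90dc3098f015c06c3088e0e77047709bd0126034d03fd01a10b900fcc0e36001b0c8509dd07260c720e5404400071077e0b0f072d0a9e009e02fa028a08860ede02f702ac04030c9f0a15025f0092009a09eb0953079e0c280a9f09890f690b310fbc04a605720ec7053d09e90bac0a8a07a9060e0b5f0cae07b900c40ab4010f0bba064806bb0d690cbf0cf70c990393008f08cc0de707330c5f07b202cb059402520bd20ef40c500f30013c0385002906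3d0c34067e01b00f59018507920ada0b1c05eb0cd9028501b20243059206990cb50a2102550c7c0e6305a805fc0ef6087208b404820143087102610ce90c6600400e5d00760ef0012e0f56041904d909810dd801210b19015408cb04090945074f01aa0c370034062600250f860f2101b500d2084a01040abf09a003a70e7e0bbb003e04ae0bcf02070b980b8d0c1d017f0c3d05640e4b050503e708ce03ab033307d70ccc05c605780e1a01c90e120d040d980921065e0e890a8806e900f104a40b0900200d120541072a042b0a960c210aa5002f0f980023015d068300780a1308be069a01d8065c02c203e60e2b071d0cc306da0794099f001e0d1907f70df0034b0846092b0ca906ac058b03410cc00d160ceb0717095801770d0307c70d5e0cfc0d35040d01bc03040ccd01da099c00950e170ac1028103d10f0c02250d26018a0c200aeb0a310ddc002b02750ecb0045090e05af00f204460619071f0aac064c0daf0828010102f1083a0ac6081f0dc70a980d94045e01ca03b206420dd408910c410fc6013b0f320773019b07480c6d04800f5508a70b610404075a0f5a07d506970ad509300830044a0296091206390ea706f30f4002940a6607790fbd089b030a059804f208f60e710a5d0eb409c605b90e480a7404bf069103650d6006c80469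00e00dfa02dc0c5c01720ed305650c3a0a6b080b0b5e04e8059908ed055f05fe0d8e05df0cd705ba06b40468048d0d27005f0502050a07870a630ce60b80062305ed051f026704440ee3004403d60ee80a30017301000e3f0acf0a0a02df0762007509780a7f068f090604c5024d0215066e0288005203750f8805cd070e038a0cf00b5c0a18023801ec018306ff03d707a206590afe062a034302950ed90b7d09ad0c0d06fe0eea06860472076c0f0e00fc04f803a502a50bd50c0102620bd90c4b0dab08a50ec505fd0b13008703900808022300d8012a07470da7049006e6022204af0e22006105e007120d640827004f09190e9d0d910ad604b803f0095b054c0495018b03af01c009b40a1b00cc035d0f7a086a0c7706640c3601dd08840af30e9608fd0caf058a03d903050a5f026e0f1e057c01b40e310d0c08630b070cc600f70deb085e075f01a408250d0809ba0fcd0d1c07e7067504a506fd053b07c807d40a7b026a0f49073c038101780f5e0d73017d040a0be909ce03590a6408b10516049605aa01d2083e06a107ff047b02910c10047a0c4809320efc09da0b9e071e08830d6505f207cd09760afa0c7a0140090009180c3e0bde008c00a70b160f650e680f9b06be093d007b0dcc0b1b04fa04c202ff06400f2a020c01270c71047c0b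a4092c0799027f03d30bae0134055209c00e5b00eb0dec04d6084d0e46032d073409ea00cb09270ab7095e020b060c00130980032404be062e085507d100c30c250f350e20017a030c019802780f380eda069308e504f0067b0aad01150aa706c2070806090d3c0d8903580000096c0868075300bf068d006e073d049b0a820c3c00150c2702a00f2d0a000c2d03f20f9d014d03380471020e0c150abe05f906fc0af20102021f02740e2809e00d3a07a707810e15001a06760eb800be0c47045a054e09600db0042a0b30012d07e007b009a9001d0a5a0da00e6b04d10098087e05d00dea01a30a6f005c07eb0d2204e903b605320ef10038000708c10fad0fbe0253062902bb08030dd3053a0761002a05db04dc059302a205950f820ac20ea605900c8a0c1b0b630d710aaf070a0c7d02a7029c0d170d2902310b920dc107fb002d01c2066a01f508ea055c00e10c700a3209b008c7086c0b1801cc060b0bd106a7042f08dc0ad204a304c70f0d0ed50835068705220b1f0f2204fd09f40ace08e40344026801f10d4d06040e0302ef07ca02cf064a036f0c6f082a0448040802010d670e5f0c1f0b38013d0a9c06250b7e0aa00cfa0f15035200c702b608d601d504070add001605d9004205be02b006dd083f08410c2a0a34019d0986018d067a0ad4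0055091a02eb010600d106d6008d06ce0a69090107150b2e061602da09ae09ab061401840e780ee402bf03100e570f3c055706b704b10bb90f6e03e20209000d05390e2c0995061a016c05d60c4002500a4e09cc09360d6b01e30c260a7e0005006506220c9503da01890baa04ee0a9303fe02c80bfc05dc04ec01760fc40fd405970fc5074103470a3d02e60543022102e70a03019404ac08fa01c807380e7300ae0b870b9c0c690ab204db058100d40a7304c901d0041e04260bff0c190ce20c670b3b01800235008a04ad0eae09af070d0d1a07fd03860985098a04e50802058d03300d8c036a08b0059e02d203e40d8402fb00dc0b6906370977092203ae04ab00030f5001db017502930a510e950b730f4d08b90db80c2f05ea011106500fda0e300abd01130b820c4909cd0dd109b20a02082b0f7d0b520a4906d90c730b3f05610a7d0c8405350968039e02d4063e070b0e1d0e4a047e013e0bb806db0e9f02c10cdc04a202060f0b04990701068e03340f370d7703e3021b043800fa00100f11052b006003e00a0d0c82031f03640f940ec602d70fcf0322076a02690b62004101310c7405bb0b000f9e06c50d6205370d2b0eef0aab042e02700db701a60c460a06085308240692054901160112030f007400b30d0e01c70f760f8c0118020d06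ba0b3704d40ab80a43018c0066098c033d0eba01f702480ba50fc80f170ced03bf031c005a0a1f00300454021d0b1a061c08d8088c0f000d28088103c50ec30d4404250c0806f00d9000ad029f0c9602900da40858095a0ee109570721069e0bf2045c058408df0e6a003c0a58069c08670a830b660d3900800d540a940aca053401240db60d3b04e3004302f001c10391036201c30a26048f032e08120a9500a30c17064e0d9909bc05d50c35026603c80c8c0ab00f0906570035045705730a6a04500a670a4f04c30ead09c70643088907a50b7801e0086d01d10e6f09e30a3a0def01eb05590e7a0e8c01930f1b0340013a01370baf080f03f90ddf092902a900bc083907b50dd206f5032a06d00345061f0cce0895090406cf001806b809e60f45097c0b060af8075d0d1f02b7057a061d0fd2085005b10c5206d3082d01480684000602cd036804f300570df70467056a0864057106550fd609160cdd00330af70f9f070f07f104f7063003b10b71050c049109330f4304d805f6026402ee0d24094405f701500fd30a9102f300470b6f04c108c605800b4a03f70d9c0e4202a102e10724007d038707d60e1b004b06a00d8307aa018206e1083706520d050d370ab603800b990d3306d20bf805cc0b9a03790b9707b40bc701ba0bdf0c0e0e210700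0e6e06a5074e0bef00bb02d1019003d20e1602ce076f043e0cac0a9d039f08bc0e0b01ea00a5024a03980fc70b4f0a77066f04b3071a0b7c020a0de90b930cb6016104760f5101790f4a01c50d0105c909a10cdf085b0ca10c510a810ce305ef09460bce027706940997089c0d590ca708c0026d039908a60e2408af08f40765046003ea0a0f0acc091005c50d10085f089d081000500cb308c404bc07cf01e900a402110257060a0b150954048407a40a2804dd026c06c70ba600530ed8050101a808e7092a0b280ba005ff09260f92048509400f8a009909080a38087c03c90b9b081d0aea0282033c063804bb0b330c120b17031a00ca00770dac0b9106080521056309b8062006de06730d4803d50e490d7b0d0d045603730fb3071303cb078907360fbb0cf5074c0d9b0d6600b107ae048a088505880a48060f006405f5075b06aa0993079703ad0eb60a200efa0d3408a3084f052504390fa80f910bf605ce0f2e072504060fa708b2095d008609f70a2f02040a360350063c0c310ab302bd0f950f2707030d80081c0082067f0b81079606d50db206e30ebc06490a0408bb007a023307820ae10b940cd4096a06a204130fd705c0059c0974092507b10fba0c29038b050f077b000a05450840012c0e340cf303c104930d7001a7056c054f062708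7b08aa0f6d0b500026016a0eb508510b560a2e0cd80cde0e7b0fa3060203540aa60e190bd600ed08f50bc600cf00b805b50dae03aa009c06bd09020be707760e020ec90dd00e130120094f0f9c00af06e20fae09c305f40b7405110f720e93077502e00f93078403420b12057608b50a6c025107690e940a5900f507ed039406ca0e4c056007770d0201970f68076602e80ae206ef05b0099e0f020bed05270ddd03ff0735057f0ed0053100270cd002ea0de00a16093e090b01c60463066c065f05bc09b102ec000204b202ba003b03890e6d02b20e2908f80c09077c08c90e6200ac023a0a680b2d0a2d01ff014b0edb09d806b908d703a209560c110bc50ba90b2004890d21083205420be4021409520a3900930a2c0c0703c40f48055809e20f8d0e4008490815057d064d09a5021303320b840ab50ab10eb00e250fdb045d0585039c03f305cf0c8907ac0a5c0f7e08eb0ca50c540b100ea4030e0ec2016e0d5f06bc0729008e0e0c046b0681017e057705f002000bc20329027a07e407b6078f0a050256072e0cfb04cf0adf02af0eca095f06900b0d0c940c4f0b7b08f0047008ec0e0e0afb0d56075206eb052c0d7c079d0a2a027d083d05a20d810d6a04ca0c9103b70c2c0a540395036b0c6e01700d8f011e0046028905620a0c08bd0f8f0b4d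01fb07630a1a01df08590e870c9d06150de500580fa9049706170aef02a300c608d1092307c308f1034f0646095008110f030c1303710b03061e0c680ea903720d8702cc036d061307c004c809bf06b103ca066109170f28073109610915087d079a00ec0d4000940edf0b9605b20b5d01a90a5206f9065406af0951081e015604f9058c056707dd01e6037f04e1018e0ac40574040b015e086108ee0b5b070c02d306600ac30ea8006d0c0207110668025a04ea07830e92046a0948046103690739000f03e90874082f03c60e0709b70d6d087f06580d4b022407da00c10ae60ae8097309940d6107780c4a0a7a022a004d06ee054005b307c40d310db90e510e1c050602f9002c0fb50e7c08dd0db50bd703ba0a8d0e4d0bfa04c4011909e4061202a60b480c2404e404620a0e0b3406cd03110d460cab068c01f6098801f9027e0cc40f4c012908c308e106fa02b80eb30dc806770b080bb401cf0e8b0efd097b0f3b0c7b0c000fd00d7e055a0a750a3b081b0e100d7f0c4e030d086601fe00f40e0908a2056e022c0a440e080e5e0d2c0b8a0dbf0cc70bc90600046501140dc60a700ae40b260ae004ed0a6d0fc908700f240f200bc303fb014c09f607cb027c0cb10c980b720d68061b01280fc20f12058f0b2900ba0df6037b0f1d002202f4069607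e104300854010a0b270e450bbf08290c3b0d2f033f04f10c3800f904160e6102b1066302c90f3a05bd09f50054000b058702410e4109090d4e035b0afc0f530cec09690a2b00df023200fe043a052d058309fd080103a608e90857001c033e024501570bea0fb40e82051d09e104b40cc2010c03b809a2099209c9058900d60c9703a40a86042c07fe014a073f044307420145035e0f2c06c4063106660e55070502c40bbd05fb07ea0c8608750efb08870fcb08db02020d0a0f73045208050bee050303f8016601ed07190bb00c040cb70037051a02ae02c00c1a03c3043503e80b460159016f0c440ac9062f0d95005e031305b70b6e0f3600b7029e0adb0eec0b750c4d0d410da306010756057908ac05e30a9207cc0633032303390e6504b7044c0dde0a080f3e025d0f63065103b00d510355090d050b00390bda09710171089006650e850a8b0d6c04d007700fb801ad029707e305260e900b05085203170e6002fe0b3d0eb90f5f0dbe03dc092e053601f004b0036e0548057b0cbb0570007f017b0b5a093507140263054402b50fb909820a790b250279018606a8097a07f40e5a096f0ab901f409650f050f850bf30a7809fb068b088201bb015308e6054b0c6101ee00f60b010ee90bcd0d86059d04cb0212096201fc01ef031e063f0d32084b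0c8b013003280f520a3f043d0798059a01c40e7f0ef2069f086f041103b30f670a0b027b061803b90f2607bf0466087705080acb0f4b0fd90d2a0ee203030cb001990fc308a00c920e2a0e3c01d60f3d0eeb0c78007e05ec0a760a570af50dda03920dfc0dba0970055106450b240c42091b0be0023c0f1f09d60ee706e0095905a70be604c600ea040102ca08650079086e084c08e8014f0df4057e008804da00e70f5b0b6407860611069b05d705c105a402ed0b68064b0e9b0abb044f0ae30979086205e90fa00107088d0689028009470d72066b08f307e2074a00dd040e001f0a3e052f0a890b580cfd0388052e0a720bf10a650da9012501a0075906a3022e019607060ce405a100b5038d0de306410c5805000be507ba0b6c0b6a052a09420240022b0ce703700307022709910331049d03ee0f87085d02be016b089a0f7908ef0aaa019c0dd5031903c20aed010d044d00a60441003f015501b702840c830e9a0d7808de0512020805e4094d05f8003d0de40c030aff09b90a2908f7069502340b6005280eaa063a000909d9033605f10e5008b80a350bdb0a250cbc0755090702f80d9d04120b3e037c0ae705170b57011d00240d7d062c03be0dfd0fd50d140e8009840d11037708ca0014021c0db1058203ef0d880cc501be083c0d82022608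1a0b3a03e100f8074609a80fa2054d06b209a40d4706a409ec0f7c02e50cf20d2d05d40e6705150eff08980c9009b601b30d520c3208da0556038c0110041a0ef301bf0a97004900da0a5e02b90bd80716043c092d03de0873072f062402de08960aba0be80d790b880e050449021005d809900db3003101e4026f03a00a4b076b07d90c06042d037d0bcc03250f900b6b0ca608b3091e028d09430bf900bd077a0df80e7d0d430ef5067c014e0745033a02d803830c750bb5036c01410af90ec10af6025b015f011706690dfe08ba08330f1009990f4e05090dcb0ad70a5605e70ddb099b0b1d04f50793082205d20084099a0eed091f096400280f44011a0b590b020f84073b0f4706ad01510f6a037605c7027105e104590bfe09dc006809fa06f7032b0d230ef80b0400e204020c88013209fc0e88039b0c9c08f9053c0b350dcd02e90321035f046c0c8100a90bdc0f7804a106ed025804aa05a0087a028e075c07090546037e09c8024209d20aa304a707de022804df053304a00ad10c1c03270b700aec025907740488025e03610cca07bc0f6f06620cee0cbd04170f830ebd015a0a8c055e0e3b042105dd046f0b650a4a01f3036003df0f770ed70f290f140fce047d072802300b6d082309670d6e0d500c760dbb01b1024f049a09a70a450b2a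078b09f001050c560628003200cd094c0757051007640c0b0d6307b804450d5d08d406e50eaf09ca079c0486055500e90fbf0ec809b3053f0a3c09d505300c23078e0008091c040c0f2b0a1d0c6008170cea00ee0ed1034c0f1601b80f4604420276035308a104fe0f3f04ce05ca062d051b0e180d1d0998056d00f30c8d0a220a1c05470a270c5d009b0caa080e0bfb00de04c0074907f50e3706360b6709c4045b056904550606068201fd07230c6b05b60e9c09a60566090f0012073e0beb0f3407f8076d06100ca2060d0e2d03a80ea50b8f06c00cfe04e2013507b303d80f64030208690dbd016907a604790cb4026b06c104740fb0016408cf0e04020f04d50c800cd201810bbc078a05fa0513000e0405097f0d7a093a0a990e97059606320730080c00d30a3708260d550b8c0bb1008b0d960a140bb60c55096b00010d1503a90478064403f600c20a9b04de08fe02fd0e4f0c5e0ca007d80346091d07e8017c053e04fb0c2b08b704cd090509d109cb0ed6081609d70a07042900210bdd0a4008d2080a03060b32003a0a530d1e02c50b44050d075804ff032003090af4000408cd09d40f080384042803370de2,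
  0xfff0ffe0ffd0ffc0ffb0ffa0ff90ff80ff70ff60ff50ff40ff30ff20ff10ff00fef0fee0fed0fec0feb0fea0fe90fe80fe70fe60fe50fe40fe30fe20fe10fe00fdf0fde0fdd0fdc0cd107140180091d081d0d3a0da609b704f60f7e094f031a00ce043a044e077603a2061d05860fc800fb088d051f016005ba0a980a4d02030c92074f0ea307510b830b48014b0954057802ec07bc09230d400d7d0ce70a0b0921020e0478023008cd0eb609a4086b0cb80f0a0cd307fc0bee0455055d0b5a026d0a5b054508230c2e00ea0850005d097c071606f40f6900f70869018509f50b6e0bdf0b22018f018c0a3000e40c2409a8045c0267087a0c3e0bba08b4025700860fd20c5f03de03cc08d20ce5016a03e6074705b303200dd6063a090205900d61019806430961040d02cb0f9405c80e960049032104d402d60e72049e02870cf6045a019c0ed806a80510087706cf0e710ec80ad707960b0a0d2c0873017d046402470a8e03020cf8077b01e308970bc10bbe0a8d0c1b0dd704a40e2b0a2300fe0c370f3d0a960579045901bf0228030b0575057c098e080603bf011400e003dc02ae0a8302c80d0805a20db80f1f018e09450d1e0685009c0b4004f903d60f28054a035f0c8508f4089d09bf07dc0387043c003f001102cd0bd105700cf708a10a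aa00c6065d08ad0fa60d150414022606710bcc03f5034b014208dc086308bc00c8089f0a3405f00b3b070d0b5301bc085f0b3d009902f50db909cc090907600e2001ee05540ee5046202390b2f0a9b09650eeb04cf066c0cc60757005903f4060501720a8b007d0a5103090f5c0df50ac100820bc5020806490b5702480b590ece00da01f6023f01c501890f5608a804f402dc086f0aee06cc09a100a50ebf07290ebd017e0abb0c4b032400270bb00faa0c58074d03fa0ca702550041075e0be406c20dce0d820813009200cd0b4b0275036601d50fbd076203480bfd02330e9e092c08a4026406330c070bca08620f6709fc062a02690353005102e8001303f70549015d0e8b0d46087c0ce808a00dab019106d9017103cd03c20b2900c709e60e18040e040703a700e301e90dcb0bbc016706740a570f620f57039a07a501d60a64090408e7080d01ba0b0d0aa4047e04d306bc0c7b01b905220ad409890253007502bb03e4012800a205160acb0b230daa054d0467063809de002c029205e101680209093c091e084a0d2608ac05170dbe019d01ae0b880b8905bb08640463078209d20bd704f8081209e20c8000e90a1a04ec0c83080700fd09b60929025407ef0df90f410e2a0cc40a84012b063401eb00f90161062c0c760eee0870062e05420710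0010075605840e7d02b4000f0ad902c20601002f08d703d90d9e0c7f014e086601de09d00bd20887073a0078098402b1029407a105d5012e011b0da7015003bc06950b760e2c0aab090107ea0ed7021b0ba4045d05c20c860792055702b5055a077a051c0abf0de806b90c77009a0da90dc10cc70b710cb2051b010e04fe04e206d50d2403d705e40f430f7308de00d70125052d09e90c660dcf0eac0dcd0b7d0e7708f50b5e0db001ce01d8028f04a9082f07a60de308ff07310e4506210a410c9501100ef20f290c0c0db608920d4f096c0481061c0dc80d9c047902f109b40e860e550de40c6b0dfe0fd50bab05120299055f0bb902740cbe0e0f07410daf09000bef0d960ca806d20d9906df04fa0c550ab8006f00c9046a04e30cec00a606b409b5000601e402270489033203a109dd0eab0a5d0a2f06fa0c910fb204da019307be07ac04ff05d200e1031d0b4a01810d290ae20b9808f101e80d6d076e01870c450ac80117058e086d04760378012f00330f6f066605ce0a4b0af1041a024e06c90bb404c9095703070cd4009b0616080e0bac01f80db40d1a04c302fe0a08062209c606730c390e8a0631072d049b047c05b50fb305c30bbb0373083003d00fd6007f01df0581056b07ce0c0409d50b2e0aca0ba807d1065e03060f5200070ac60d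720b6902930e4808fd0dda07b1079508bf0bff06e40f2505e30d1c01fe0d4e085707c4035e0ca40f090a9e0c110c43099b076b054e06fd00b306e2091b0b2d042d0f2b06b2043809910af5097604e008d901150979037a028d020104040b2706f00f4b0f100f5f02ac0263029c05f1088c0cf00c70053003c40d8d0be20964071d0e880fb10c9f0f79064706120746025203fd0c2307870a5e072106b303790968097b06540a710b200d550fa502710fdb06970c0f01b103bb0ab005bc0c2d0afd0bf70de20ee200950e2909c9045e03f800b20b070d9f09b20add0821093907860fa709530c8a0661053f014f0de005c501cf03c3097a0b330a78056607c807280d980eb2032303fc0d160a85024608b101f30ce60c7d09550c9c0436070402b6066a007e08ef0dbb025e06630fbf0d7e06670c8f012309b0063e0bdc0cb603c1013303300df00f1c05310e33061806700e370e0e0c7e0c9e036e0e6300d802dd00300de60e210a3b021f02360c7208290cef0ab4002002e704c80da806b60573012c017c0dd00a75039b099d094104c10c600f7d060e0afe0ac704ce088f07c00eb50199090b0d93059c0131045207ec01be01070808034d024c0eba026a032d048502f007e90d6a0c440d1203440a3f07d6047f0f830341034e080a08d50d470b620f3e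02760380039f0c3302ab01c00a0501c10f9b0cca0a140b5002d50c25073008ca02da0c290f880cdf07370b7c0949024206030c1d04e90f4402de062804fc0bc6041001c201e004c509800d130af40ccf007a05090db70629027d034500a90e99033309150d340c030845096202ed0d20070f0ea000020a7f0b9604200ba00cc80b70011e0359006a05cc0b4907020d9a0fa3036f0b5d0861063d09250be803b201cc09310eae0b8f0ceb0a6e08a50f8e008008900c8b05f304970744065c0e3b08600585029005010e090f1207d901830a7a032b0f0504390e980b13084708be0c170ed4006001d900b00f47053406780f4607e80e760d3e0f820da10277003804f309240d5900a700f505390eb703db046b02400d510da5074300ab0d300b1a06c007700df3081707360a490bf8011302950835082607da0245005b0d7002120bfa0adb06f7075a07710a6303160be30a1208480b0403510ab60e410e42029808d306b70ad10fbb049f0b8101a3034309c80dcc0c21077909fe05c70b58041c0dfa099402220b730b720de10bf607910f8f0a4a07fb0b0107c60d28029b01d3083400b90237068d0c380b4107e700bb0dc90bec09ff08e80fa00ecf0b780ed10aff008103810ef801ef08e50c2b0a030b4e030300b80ea70d740bf10fba0b4704ab09d103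be05a3098f0b610f2201490a990ef509b80efa045304310363056a07060af806db0cad09e0057705d40ee80d320d0a054809f100d90e8000be0cfa083904af057e0e560f8d02e40cd50995031e05ca096a02040ba7090707fa0772095603e7077e0bc9046c009f05dc068007640e680ac405fd0f53021601b70cbf01e2012a0b8c08f80a3d0b6b003d0b560c5d0cc903ce0617024107900b3502fc01750d040c10041e01f40d5d004605c60ec3017702fa08b9098c0a8a085501d4089c0a5f02eb0ada0d7105e504cd024b04fb0cbc09a20b950ae30e15033d0f55089305b60e60016f09ac0b8408ab090f0814019b052f0e570d310ac20d690c5c0d2a09d70b0c01a50ac90ed606c80de909bc02ce01320ebb029a071a0d92047d0b8a070c0c6f059a066e04030ccc06c401dd0aad09820df80f0e0a4e06cb017309ca050e0e67032a000b04420a1c05800d14069609100ee702ff0b3e0fc203850f3c076808490a930a92091207d7048d0f4d0f4500150edc0ae9031f0a22024a08f60ca30e280f2d0450008400560bfb088206880a7c009d0bce0a790cac07f80a380c65040c058200580cd607de027e0be1033c014a0136015b06cd07f908db074809360e6d0b9109da001407d50ae50cdd0d8101fa0f9e0a5a0626060c0e7308ae088503d804f50364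0eda01b203e10aa90fc10a4c0d5e0b6d0ba102ee0975006501e7031501a606ae0dbc08320c41007b0b0208650c7507c505680a760466021407830efc089a04c605130f8a0d800908095807b401fc013804650111065003bd00a007cb0f400a8807f109870a1f077c08dd0aa001740e350260061e053c052007d40c2c07200b8e029d08e905a5057f07a701440fb00944085b0d4b017a011d0c3005b00b4f05b806dc04170b5c0b7a019f0e95062706e5055807cf084307df0f9003b409cb00b50b2b047a056c05e7044f02c3053806580dd108a7000d0e7e0853017907350e3804290b32013e0e510d8309dc06ad0a6201a100320ac505760d33038f04060e3c0b450e0a060f00dc00c20ef109f30aa60cc30b7e07a30d490651045600f203ef050005280f1904be044d0abe016900e5023a0b3c0fd40e300d8a0dac02b20cbd04190c8d05eb00f0069f0ad208fa01c304dc0f8700db02d402780fa9020d0adc0ec104220055047b0c6304d00d110876035b07880625019e0b1f0b75036103470d05045f0b420f34044a0aea017b01da0e5f02e60a20096000520e0502f30aac07d30c120401022000cb0f970cd80cae0cff00b7094d0d030a47068a01ea05be04b5028c01f9034a08200db304dd0b1c04b10cd9096702db0ee60cea04eb0c010f6c098601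4709590093059907b305f7095e0a2d0d570b160c9d0fb80cb701db06e108110fd105ef09770398010407f70c2000cf081902350f260a0a059d06d70c6200ba0749045803e50e4b021c03390cba033e06890a6507e00195007301960be5033a004a0765030f0e9d0668035c0e2f09280572030c0be90bb50fb403500faf048a02c60e4a0fd803ba0d0b0506025603e802ca07ca0c05091407f60a9106980a9c0acf070e0280050b0c5603ca0ef00a2e0b1900d206ff0e6c02850f710df70d9b0dc001af0d25078006ce09ab07120b0307b00a860dca0f1b004008310d6f03650c96015604d203ab0382055b0a100b5b0e6b03580b51056d0210004b08c705a104df0dd50a1d0f010a6708b00d0106200e1102b00c3a073b0b860f7a038406ca011a08c40fab089608b70c270630022908e108c6001208ce050f0426040808c00d210bc7036b0eff037407b50aeb020008cb05f404300f81051e04ba0ca108da05330a560f0b0e470ad0019708a60ec709e808a90be00e9c039105db0f0f0e870efd03a50f1a0ae604050a33006605560f4808cc007607bb0ad60db5008c0bdd0c5a054f0fc60cf10232081503c606da0e08087b0a5506bb022e0a7e0141082c04ca083c03b50e8908860f84017004470f59099a060702e20f5102bd07aa0e1f0ec403460d66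08240fa803350f920139062d0e0c0a3c0e3f0f000e970beb0bd60ef6041f03f003f10a090659085900a80d1905fb0ae807e209e5020701530f9901cb00e60376027004b00e490a940b8d0bc805c90c02044b09f706d104910632020506dd0797087e05de05e90b26039d066f05d60b9d0b6605ed0a4008f20d3c0dc307520062088003d406d40c7104a5061a0b9c068c086c0f9c018d0cbb096d007107380fd708040334070b094703ed0ba306e6088a0ace0eaa0e39095002f607eb0d520e6a006106a00c3b02a50c4e0e320f3306a1081c01b6063f07780470023c016b02860fa40b6c0b180a680a77094a091304a8036a01a9055e0a2103b70e2d01cd01240c51080f0df60c460bbd0b6004b9047207ad00df0854049c093509f60a70042f0f1807db0b9b0bd0000e0a900c400a600a150981069d0d2f007c09f80d3507cd003b0a240916005f0caa044c0b6a0a3a0d18043e044503a80c5903b00d7a053a0fb5089401f0070a07ab0100015c08ba0a2c095b01f70d2308f7075d07ae07e40d7907b80871025b04110a0d0dc20e6f07a409c700c50e0204e106a30091051d05470639079a065f048e083d0f540d22045104cc0def0b6f0af9006800d501c8028103b80048010f09980cde0cb9001603eb0a350e3d025f08fc077f0b1400ae0a1e0f4a0d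eb0b7b080103750fcc0672076101780b170b920ba500220d6c06ef04e70d10076705b20a95076a0356092e0b0e04540ea207740eef06240eaf07af067a07170b930593055c0ee10e1a049606aa04e8082e0fbc04d10fbe00de0eb40494069e058a093f0a660f760ce203a30bd90baa02e10d9d05a4050702bc05ec029108d40e070251081e0c220ba209e30206048700bf0dbf0c28058c00790d44001b03a000350ebe0ca9052903f205140499060d02340cdc0a13019405080ce9054603950ab906940394075b0f9600470fda014808f901ca0e1c0bfe090e0ef90ab5081a07b900e2012105250b3607050c9a03d50bf0031c04e6090504920d0e028e03420d7f065600a30b9406f605150f95061b04ee05fa0cf9076d0087027f0609056104000383064f0592081609fa0d1f06e30d0c0951037c0d9503ea083e0a010b3408880e84001e094200a10ddb082a052b0d97084204610f5808fb0a690ec20aa808d00d5a0ac00318059b04a10aaf03c50ead04280ba603ee022104770e64088405e00de700000b850c6a038c0d8b0cdb0d07018800ad00440a4209db057b0471075404330f5b059104830596033b079f006b0805080b09ad074b07d2069c02a1027c033809110cd00a9d0dfb0719027b0225053e02a6067f02a70b63082504a2097409370a7d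01bb030e0f2404b30097011f067d0b0f068f034c0681054305c1075c03f90bbf04cb005700360e740d4807750f060c8108370ab201c90ee300210c980562092b0c900d6001a800340c9302b30cb5055507990d2e0f0c0bd80446010d085a09ea018b06f9042c0cd702d0041809c50a2706e80157020b025905bd02a00ed204f70ce4004200a403da0f6d04ea05ea05f808020c8c0bea04b701220f72079b0e520486052a05a70e260e9a08400d4508c9062f0e1e08670e22037d0e940c0b0c1909fb0a590997075f02430d4a0dbd08d804c40a180fca0db106f3082703670c820afb0d5302d304d802960ce30589049309cf0c5e07230a58039705cf06ec056e0875032f0ede06040c1e02c90e1305b905a901090b0b048f085606f104250640095a019a011208b60bdb00720cf20efb094e02b90833073d09af0641083a016609ee04a30ae10dd80d1d05a60e4e06ba0540083b00430b1008a200fc052e006c041d08360e010b3000c00d77016e0424060a0d5f00050bf200940b1d08460f680b790aef0cb105c40d3f0df1067b015e03270972064b0ccb0e400fc306000a02052c0ad50d41011c0f75076904ac0a04011903f6058301180088013005ff0213063505e20a0f07400b430f2a08e003ec0415040209430c5406c60ab3095c02d2058d06a505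9501c4075906e706a70f70038e0d670597072f0340074a0611046f022f0fc90bd50e1905ad0a730d370a9f0a0e0b24048b0f3506ac04f10f3b0fb70b3109d60f3601400c69092701a70f110009060808e409ef0d360b37006d0a39026e0cab041b01b003af066906eb013a0da207f20fa1075808ea0dec010b09f90dee089806600eec016402f70311029f088e0d0f0e54031305040f1e0e8d0b2c079c071c0f9d03d2067c0e1d04de05df0cb4069102240a17053607bd0bb109eb00ff053b04e50bc008af003e0c840cee0acc05d90dd205b706d30636072709c002c50469070700f604bc0e6103cb0a160fc508b3079d0dea0ddf014c032902890e460e5806f507250a310da403490f5a08c30aa5025d0017090c050a0c0d071e073f091a0474054b0369030a0bd309c10d780ddd01540c180ade0d940f210e3a06480fd30a530ec60bb6008a057a026f032206f201200e34096306420c1c0753076c0700053502d80d8e0ddc07a00d0208df0541096b09a901030d7c000a0614037f00fa00260f640e6508ed0750099c0ee40c5b0ae007930677087f0d580c6c04c70a320c13061f0d4d01b40c61028b038809be00370523047308b207e60301063c04b6097103e0068402880969084b0b250498033705b10b46046e0dc407f5032e04a608280f4205e6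068b06c502d10b820f6102c407e10d430085072404ae0bda0755018a074c061006fe084103e205fc07980a8f0101057d09200d86004e073306370c4800d406a604820db2042a0c3f0e660ab70d42099e09f00dae0fad06bd0d650336050504bb07e506ab0800058804aa03570b120bae0d8f0526004d0e530a370a290f4f0e3e0eea06d001f209900cc20df20f8604490f5e0f3a093e044109c40fa207630b3a0c5207940a8209ed0fcd09bd07c70844098d045b004f0878065b07c2040a02b70aa1045703d302d907c3013d0f16040b0fce0bcb0d0604120c9b01ed038a06a901450b3908b507dd042e0d0906550377048009e106c100b108c205f905d000bd09a0015f0bf9085e0af305d70b7705650d5c09b106520a000282059f0f080319043707a80c1602490e7c0f6b0a74043b0444008d08c10e7b09d3089b0cfb0ab1059e097f06ea010c03000ce00ca503fb0eb306790cc10e8e05ae0f040edf00ed0726085c085d09c206bf081805a0078406de02d709180b150f77093d0e5b03e304900a4f04b403df0f7c00450f2f0baf06440e100a540dd90f200703082b0440054403d10d3b02ba0afc0e820f7b0521090a00d003b9008f088906c30ced0caf0e810c8903aa0f320b440a260dfc0ccd091c03c8078b07f002f9087d09f4017f0be7002a07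bf0563000c03ad01d208ec03c001f507c10e7a00aa089e008307450fcb0d84072b0c3400d10838001f0c640e700399094c060b01b3071b071801b5003108a3039009d4058f006406b500c3043401c704bf0f17013c0a9708d106e908eb0b540c3504d7002b062b06e003720cfe0cda0d64042b084d077708bb0d3d037b02e301fb0bed0c7c00bc031408bd07f40503036806190ea508f00a520b3802be099301bd0f1d0d17035d092a099903540bf408e6046d07660202035a0e9201520b8b0922034f0c3c0c4d067e0f03096e05110ea10992086e0c090c420b7f06fb0c3d058b02fb09380ad80a6d06a40930093a069904ad0475086a081b0c060d8502500c87060604a70c49022b0bcd0aa30519032805bf00ec00740eb90ca604ef0f650f740a890b1e0d75070101430fd0041306c702650b900a44036c054c031205510268092d0686030d09260f3705020ed900530d560d2d026b03040b4d0f4c04b803fe0a9a0d4c00e80af7033f0aec03b60273055208100ef300f10983020f0dad0c4702df0a480c000fb60ae40127022a0e900c6d098800ef0b21037108740742007702ef0c1a0c790ec509660c26043f04e403e90f630c2a09a60615059804a0065302cf0abd0f1301a20f6a091706020f2c003a091f0527049d09ec0e1400b602c000890362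0872073e0e5c03cf05ee012d04430c990ded0e17066209b30e0408d601900f2e020a0cf50c3201aa020c00eb068e0690080902a4023100f8069b064a055001a00a110cf30b680aba0da30b87028406130b9e0e030d270e4f073c0bd40dc506fc0cfd097004c0021a051804b20f6007fd0903029702830416078c090d06ed0a6f0c0a069a069300e7021109a50bb80c360ea60da002f801580cd2084c04f005670f9f026c03050c4a0e9303100f85022303170e9b0cf4003c025a0a1907810c94050d00b407a90261064c02150f8009190eb10e2e0e5e0ce107390331010a0d5b015a0c4c0adf0a87040f0ed00f4e0ca20b9a022c06230c1f0afa0bad0ecb004c010507ff002409b90ee900ca0b640c73094607220e9f088b02a30fac0587088301510244032c02e908c80f380d870f070692053d02660b7406be097e0c740108008e093b0df4028a0019016501a40b0902580a3605a80b97027908e302f20fae09a302a9064d02ad0e4c0ed308520734083f0b1b0fc003550cfc08b801e50d1b00c40a2b03700a5c096f0d5007b20ecc03a90af20ca00460001807ba0b520eed043501ec0e2509730e780d6e0a45014601ff0d880f490b0601e10c140d380e0b0aae00500952098a0bc30dc600390e6e0ea40ae70b6703ac0162016c0cb00dc707ee0be608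4f0711066d078d0389001a0eca059409aa0c150c2f0c310f390c5003600ef706870e690e6201b80b080803039304c203960a500cce056408fe0e43015900ac006902aa07f3066505710a430ac302170b8002cc09d9029e09fd09960e440f5d0acd05f60c570f6e08aa09320934071f0d7b00960e8502af0f8c0f2708220f8b065704950ec906b10d6b006e0f9100cc0bcf01820d730fd903b30ebc0f500c67098b0a0709e407730aed00f40af60a1b0aa70edd0e8308790ad305d1013b01d007fe0f7809bb0e4d0e7505e802180553009801d10e230fc4042105c00e8c07b60a6a024d01ad0272064e08ee005a04fd08510352022d0dfd0cb30e0d0137051a0fb90a6c0b3f0713095f01e604320a0c031b0f0208810574000809df043d0386016d056008680a2a014d0a6b0004001c0c880abc0c5305aa0d630e0002b80c680e270b0500250e5a02ea005c0dd307ed0c8e063b070804ed06820bf50a0605b40dff08cf05af05ac0d6801160d000f310b9f05f50a280dba07890dde065a03ff0559024f05fe021e0c4f0106023d094b04db00d3048c07b705370f3f0e3105da0fc704d60e2402a20f9305240bb20176002e09c302f409ae02e500af03f3032602a80f9a0e3602fd027a084e09ba0f890e7907090d760f3007e3074e009e09ce09a70ecd0b2a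0c7a0dd4008b078e048401020906039e03c909480fcf0ea80184097d02380d900efe0e7f0f0d07a201fd038b09cd00c105d307320b280423036d0b5f09400b650b4c097802c109f2025c0d0d0cc004270bc200ee077d06b001ac0ba903a60c0808580bb30d8c0ec0064506f80e5906d60a250b1100dd0a7b0f230d540de50ef40163068301920cc505cb095d0ea9079e006303c7021d0409089100d604f202bf05ab06ee0f7f049a0a8103a40ed50b550bde0d390c970edb07d00a3e0c0e072e0e0602e008950e5d0325093305f2081f00280d910186056905d806a20bf301ab078f006708990a46038d0090082d080c0bc407c9001d0f9801260b9901550ee00a7206760a80099f0003030809850e9101dc044804880468023e08e2092f0f66078a07150af003dd06af05dd06460eb008f30f1505320b00026207cc02c701d70bb704bd0675072a06640d6209d803920c780e1200f300230e50037e03b1000100700eb804d50129023b002d076f066b0c6e039c06d8005e0134072c01c6021901f1050c07850a8c0a610e8f08c50f140e1b0e1607d809e703ae0aa204d9056f013f0d2b0d8905cd013500540bfc002906b8,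
  0xfff0ffe0ffd0ffc0ffb0ffa0ff90ff80ff70ff60ff50ff40ff30ff20ff10ff00fef0fee0fed0fec0feb0fea0fe90fe80fe70fe60fe50fe40fe30fe20fe10fe00fdf0fde0fdd0fdc0ad404920a130d1d0bbc09430cf6076c0b0806f807240780079b0eef0ca00d7a0417055e04bf00e70e5f04040efd099205ba0adf004402330da4001b09e104c90bcd0d3e0f1b0bed065902ec078c09c901d209a50ba00215061e00de0c5a0f0902d700670d8504f90e5107f6049e000208ab0bb609880a4503d80f120f7206ad0ec406a009260a050072085b03ca018500d305ab0f690e2700e50cb003e005bb0a95030c00990e3e017402bb02ed07f10b2f06af03280b8c0c56033708b9000f046907d7077a065c0fcf09b80f2d01c904b206210b4e0425030a0959058907170cd5040501000b2b07eb0b260cd7064e018a0d910cd303040da600b80e730275040c00910a230d4a0dce0b700b9b003c0b650dc30f2c07d802fc0f9e052a067506b206c904a00bbb0ee1084f073d0c1b02ca01e00d9d087709e505a002e80b890cc10e9b08590ac6008202620de0036304ea089a061a02b604df073705030a710b5302f70c5c0677015501730408029c03610d95086b05e2015f04750efc080b0d1103570691090b0d2e0d47086406a300cf00c40f4f021404b601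2102490cac043607b10c07041409240671055505e6048c059f082508e50d97043d02c9090401ec0801092f0d080e3d005c0fb000e40fad0eb101eb057e05190b7c086104e301ac02f10f010c3e0f4007730e030d6503c00a3d01950e6503d20a5507e00a8b033d06df0870067900ee0440030b0be30c4004070d180bd806c2048b07bf0bab06e5083f09fb0242011c0a280c0c070708480b170b7208ac080f045704dd07860c550c4b070c0775024c09e90ab303a802a107c10e5d0dbd0b6105a80b590e710ae000660298058b0c390ed80c800e8a0d660eed0d6d0b360203005a092c08ef03b2039f0d150bca0a92081208c2033400940c9b0c150f3d00130cad08c307b80aec0cf009f2076b08510c61047f01df060a04b30d0c0c710ad80d130ae4032d064908f900430ab106fb081d0d27096805770394080907200b430fbc05e10a34045b0efa0a750306034a03510e5b0aba0c290a000f770cd10c820b0906f2045c0c770cff07040e8008740288062b0970050a0dc40514003e060e0a640a2a02860e7d0fb3084a0b6b00a501ab036704d006100c2f0a96018f003f0cc70e770d0f02ea0deb0f670d4d0366084e0b2507530ae8080708f80bda080a02790ccf054f0b63082c01e80f190a030ad009cc00f901610d5f04ef0332030904230ab60fc1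03d4097d00df093c077d03de07e108fd01d306530a7f081e014507d4099f0e3c0672066305e30e230bfe012c00a70f92049006570fce014703e805ce0150053809ff0d1401e50a6d059901170cef07d6018804650e9701c20fcb0cdc09f300a40ce5009a0c6903f2022303e4051c09470eb9046304de0fd3005803d00c5909df056905c608af0f980ee40e1c00970f26081f0e7e0faa0f91075805b40389021a078203c505da06d10f1c094800b30c7900f60a6903680fc6077f062f063a0c6a0ca306520a5e0d3602dc01ca0d8e076f032308d50e2804c107e508ca0462006e07da09220b0c06370ec50c3001f60e010dea0ae50acc0df60fda0edf09070841045e0a1409e00f7008380a9e0a5101840abb02520d9303ff0ede05540c200e040aea03e3000e088101ed07850eee095e01ff08cb0e1e07cb00d2065a0dbf0c7d0d1a082807ac04c408a501990e4c0c1d0f050fa80e5e0cba0fb10cc40348068001870ec303c707ea0622086d02b008b60aa7048e01760e460da702ab0af101e70b1c077b030d075108840e250eb80df4015a0be10e6204d70bf401930d7f03ea0ecc058e0b1b0d7c0b4b01d502630a530872086702f9091e098c089700f30951010e08c5007f06d90fd108ba037508800c8b0b9907a709ac028d0a010b0d054c028202280d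72036d0534048d02c20a790fa608ce08bf01d706b10c0a0bd200c0024f0d4e07af0d0b0d0500d802300d9908fa0ba30bbd0ce80c410cf5028f05930cc30192028409100cf809ae06da03380d64095505610c3b01b603e907d10917088d09720f6a02a30b190e4e01080631068505180db50d460bdb06f10d49010a03170b620d6a02d008f106410ac50d8403f803f00ab80ce409280aa10ef20d1709a2037906740474044702c807830da507c607ed02fd020d002a00fc0dd00f2f0aed05e0081606ab0e7506ae05d70f24092309000612015702700fc206070a330eaa0a39017e016904210261022c0477072a057c0d1f0e8407df010105a9093006480f1107280b540019096c06bf0f5e0c32008306a60f530b1204da04e008e308ad00a200e0066a0e4308a40f9b028a09d005e903250118083107b30ce20ac20a76084d0687026f080c07b501ce0200090f0e36001e00ec08da05c00563064d0f800ca403f10d1003a9085d008b0e6f062d0a1d09d10ed7017c05e702a404c80b490106035800780ab403bb01ba044f0f2a0d310dc805a60f38029203ba0e91077e07c90b050eb500e107dc006f02650bf205560f500c09087b04e80cfc0bb007d50060040e04850db10ed6071d0520017f0c870665021b01910a7c08c00bfa09290481043c09640529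026c0ef4063302d20a4b0225005d06680dbb0f860bef0f780bb309f103a5047905d00c7b0a06037e02ae0e2007b40f5607e40b4a090809380839096609310574094c0c8604a404d9089309e6041907ef007a05d3081504320e3a06aa03590d6e0b6d00cb0e9d050707030cdd02670ec90224043f07fc08d7089b02c10ce70cde0ec80bd900a90ce901cd0da80d5d08e907e80732073301ee07dd08f6059e02640ef904fc0934082d076801cb05d2049d07bd0f8b09d500560526036c016a0149033c046e0356095a031e0a5b0fd00e6e0f1802aa0181093f0aa90a480bd608be0b680a10026a0ad2009606a2029301430d280fa30cf40b480e560c9a08b0064606f7022602a009840d4c05320eb70500000a0c380be00d5501790bc30edb0bc70cab07700eea0ac9073603550af700790ddb045000080e860ea80e1d04e10b32034e091604f305db0eb0040a05680bc50cb40aee093b047e05420d9009c50092065b0c6c031f081401a70d0201a30833025908bb08df016b0a990bbf00f10535053a0b6a040b0f2109a10de1091208b2010f0f340448091f0fa50f4605940601022e0b4104610739024000b9084909990e3f0a0406950759086a0a7d002906000aff06ee01c308e4098608630660012b090201a2045a062702060b79008a049a0311082900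e8048f0a09075e054b0e3b09fe0bb80747080d0bd50e40098e0ed90cd20ed500bf03f70d960a5702c30af00960093d01820c2509a305160ada0e1602de065509090f8207f20528040d0b600e09044a08780b550a7b074107fa0d5405ef0d4204ce0dc7034205be0709076e06c103a0037605fd01f304a800f4093e0bb50280025700fd0cc60d26006c022105ac020c05cf064f067f092007fe04640f0e0c47055204b50021070200460d240c450e4b0d6c0c5f05c30aa80cd801d4044202fb0ddc00be0f510ae602b702d10afb0b4f06b30e9304090b44007d07990980098309da09930ba807050bee0e330fbb06e906320f8c0941063e013d0db8068808c10de40c51081707e9093a006d0a8801b302be0b1609f90312001f01c60026032409bb027a0edd0e4d0fa90ab706ed04290b9d03ac0175043e09a6094509ca09dc0d2d0a740b7e089c010406620b7608ae0f2b0ee70424072f0d9f02bc04990ceb07e70f6608620bf608d20e480c8900b10dfc08ed098d0ad108dd03ab09250c95061c05b308350d3505f3060c0b8d0d2a0f83091404ed0dda065d0f8403470f9f06a802cf051b07f50c3d058f080e086004ad076d0a1b0a3e0da306eb0506014c0dd80c420e600cce0eba055f0962004f0be902470ad30f0f0bfb019c06960399026d09ab066f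00690e9001b00e98071003ae052503330722022f097f0065041a056201a60ee20b180abc054e0e64079c033f04a608c603160bdc0f740cf70b20035f03bf04c60e1209370b2404e9056409490e9c0b64045d05f2059b0e520b800a2f0a9b09bc087a0a24094d06ac0a2209f409a806bb0a1709210f170c440c7f0218039a0b8e02020d9a065107810aca0dc20b3d0bae07160e0b0dd90bc00fd503700cbc0205076903a20a200bb7083b04430ea7023f0a0c0f81000c03c30698052c0fbe09c405c80a580a590020039b05d403bc0819039e0b9a0156052d0ee0074309850d030aad02120ccb0cb80386050e0823049c0ba2037f0f7908710bf903740c4e086609cf0505061f040203d506e702b50a70091b000b0a5003c405a50146013007db03db02e40a8402bd09f70abe0fa70b6e0045071e03cf07ff0d7b09aa0a820a770af40e4707f40886039501d90c11038105b2068b0fae071b02780ccc069703540bf00be500550cbb0b00019d08f405bd0c2704830fd9038a0af20d50009c0a38035e069400ca0a4a05ca06b40b670aa200fb05830b5c0d3205b70683095c0fa20c520f650913022009150e9a085509be012800b70a1f0e3804490f7f0268009f041e04b801bb0aa403390c4f0ebd024e052406b008ee0aae078a0546039608ea00eb01ef01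2e01980933090101230f0003a1072702cc0ebb0c48061304340baf069d0e8e058109560a25032f0a1c0c960cec02cd0658078900d70d6708d80f4a0ed20b340ac003b60d0001770f6808200b980c6d03b9042b0172075703d106e0042204d103c6013707ad0d3401c1057b0bc20c230d760a3001fa01e2058a0692053b0ced0e190bc803880afe07c407480234011b0dd701f000ef009d0f0a0f760f9004730c9303e2012a0723008606f40dfb058c0f1006fa0b2c044608b7029703520cd007190c490b7b031a094004f5082a099009f6007707cd014b0a3c0c8f0caa088a07f7000d0a73024a0d3904ee0ed4025c0d2305730f0b005703000a6101aa038e03dc0c140c72023902e002770a5c0fb70e74047602830c2805de090e01c4014809db07ba023208960285035b08aa030806ef07c5038d0795050f09030d1e0341063f0b1a0e500327038f0df00ead05310eab0906022b07cf04bb04f002310e0e0ab2028e0b510c8d0634031c0b4601a008cf01fb0d5101fc0b31075a06260e87051f07300fc705e502cb0add0813045209b908d0056706440d5b088c037d030504780df908ff06de0fab0db7004a09910a16010706050e35083402b90c080e2a0b8b00ed06810d0e00f007f808f20654042e0afa09b20acd0d7104be0a2103f90c2e0c730fbd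01030d290dd302b1011202360f1e00400dc905f705c20dff08470ef6068e074602dd098f057801bf0b77063b0d6b0c83086c00fe0fb60f6008b80a6e046d0ac40b07073f09e70ea908820e4a0df104e60fc9044d0db00427052f05b804860054032e0b860fbf004901090364012009820b100827079f017003af0d2c011601650c0400100e4f0b2904150114053d0fca07e203400bcf047b032c075f0e1a02a80e0d062a01d00da903aa0c430c3503650a6b08210e39035a09cd0e96011f0a54077400ea0115073c04060e020d58089503fb09790d210e6908fe085e07790209088e05f60dbc08050cbd05df0401021606020a6a061d07aa0f3a0b9f05cc0d3d01a50ebf02740a97099b09950166013b030f058409730a62042a07b00aa60eca0a7a03ef0ad706d6000600ac0208008502580dae06e108880f89023e00840dca00d509870adb0e130d6f072e0994078d0b570a4e02e5074d04fe0da207760dfa03a6080007ca09690dd40f940d0d056b0c3f05fe025f0e6b0c9006110a270603084b015d05760d750c990e170144021f018b09c703b10e320d700011051003260c500a6f03690842003305aa0e7005cb08100b820d7706f3008702ef003b0978074b01580b4c0f8f01d10cc80f3b0ad50036088301bc01f70b3a0731067c0e7b004d06d704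f80d250b3b07ce081b01de04ac0c7a06cc078f0aef056e02fa08e10aaf00300cc204dc018c00250290074c0fc5004709ed0061043a0d5c06c708570711096101e106e200700bc107380726034508080b8501d6033a09cb020e0ce10e830da00fb404390ebc0a9109b005ae011e0b7f02e10e2b06d00c030385016d029e08d40f2e0a3603d9013f01a1029f0d74055106db0fb2073b0a2e01130349074f0e680f7c07cc0ea40f3e0de809de0f3c0d9402560557018000d60c1f006a0cea069f0684045f0f620d450a9d04540cbe06ca03a70db60f73073a0f7a01cc0ab508a300980f6b0aaa0d5e0bfd0b840da100c20ec101970c020e8f07140e890a56046c04c3059502a209b3046008910c0b095f055b0a6c04d601360af9097104cb08d904000b3906170f070afd09fa05c5087d03c208300e540b4002fe031b065e00ba0d2f01cf0670000904aa02950712049308bc065f02370c13029607a601900a8a08cc02bf07490fcd0650067d04e708f50aeb09af0efe0ade0b56053f007b09570c2d0151038c082e0a410000039005ff01620ba409f00a4d0754011a035c02500a4207000f0c0dc6078802ad08560a4003c90a680c850b1d02810d4807c303fa027c0af50f320d9b0f960ef00dc00c3401c006990e1b02410f7b0f4108dc0d3b08360f8a0ecf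01f9073e0e2903cd08de0d5204a10b0f0c18034c03b509c3022a0ae70e1f05c70609056d03eb0e1107d2002706c30fc000dd05330320071c01f4064a03150b7408f70504033605ad0acf09320e530bcc0f5503870f5b02480e6c0f040064025a07a401260b4d03210e8801220e4207ae0f5a00b2074509c808760d590c62008f03fd0c1c055a05600dba08060ef70c19096b023b020a04b70418054500ce03bd06dd0a8e04f20fb90f970d53075b0c060e450a5d047c08f0008c0f020f9505f80189056c0f360071061906cf0041059d04ff01fd068c02f00b6f05ed0dbe098904fb084002f2019a08fb091a0643052b0b450d62050b047a002b03ce0996002209d60398046a02e307fd089f005f074a0b33039d0a8905a3033b053005900af3050104d8013903780c70097c038b054107180a7e03430a8d04280c9f032904b90c94041d03310e6d091d0c600f5f0f4c05f5019f00e30b6606ea01b10d43003d04a3097405120ce00d1c0def0d6302ff0171062c06150131026909ad0846021c0bf10ba500040af60d3f05c9086e06450eff0b2709a0013e043108790ed106a503b40016078b08a80f7506dc07610bec07e3020f02e60667004e00f20cdb00d003dd03d6043b0e7807a5099d0e6104ae04a500dc0d3a026b0c0e0c5802f30c330ddd0a0206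56038408e80ef10a0e0ca805a10a0a07e60b3e0f9c05b9075d0e8102ee044b045302c6003404d2010c030106a70d800ece0502077c01ad0cb906200391087509970c000abf0e34049f07c809420d880ef809ef0f29001d0de909390de506c000c103e10d3c0f1408db0e7c03b00f8d0e5a0dcf0c010dec010b029a0cfd0b5f0c2b0bb20b9e05a204ab09e30fa409d2037c01630d600e0c037106ff0b020ee302df03f40b14005b0b71094a0a1209bf070f02600f4e0080012704410c780faf04e5011d03d7002c03c800f80bb90f030511005207930bc40a2d00370a3703cc086f082f069008e006860e080b0e067601a402990c360936083a031906660d780c31009005370c920d4406e805490ecb046801f20abd046705590b3c04b00ce3097b0f22079a0d610e9209ba0e58058d01f1068f03ee060d0b73027d05660cb2072d069304550fba0a8001330ec0007505d6092700cc0822004204ec09b70433041c001a089202eb01020b810c210efb08020a1908240673046b00bd003202c70b8a013400590edc0aa3099c0f4300030d8206d30f1f021d0f3306b706b507550f58060f09e20ca60dab02f80fd80cae09c004a70a9c079105970a9f0db208a1027f0b220ab90b23070a0d790a1a0a4f0fd2044408a6058506380cd6087e0c7507be0c2a03f5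0f8706c5024b04cc09d80e790ad9052e0a60094f03ec09b60a3202d6092e01ae0f490daf070e03140e7a05af097a0e440790015200880b5d0c6b0c9d09e408b10858063c09350a2c07a806c403e709a700ad098102f502c004cf01a80e0a051e0d9c0bf70894039200a1089d0ce609440d8f04970a1e0cb502c5091905700c240df305a400170b0307670a110cca0a470d1603b70cbf09eb00b50aac0ea508fc07d306a902b20ea2031809bd07a20b1e0ae908e70d81096a08d30e100a6304cd078707290521002e069c0d690039022205d508b504c20f2703530227019e07940d9e03830bcb063d0f590d0904af0f630a070ea307640f4509fc018602da0614064b0f280d33023c0640009500a8023d062405d8011001b9000701420105028904370e660cc000c6013a00e2032a0a0f05b10cfe09d700ae0c570b960e3101e90be8097508a20d3702100b30079e081c00230f5c0579081103a3010d0e0f083c04960e2e0e21085203fc0bad0c370e5c0cf108cd0c6402e905220d0a04d309b5029404980ee907130035023a0ab001db07bb07c20e6a017a0cda084503f30ac1090a007304a204e403720e8202a703d305440213068904f7002d0f06048a091c046f0f4d03ed09110e150211001508c80caf0c840d41077705b506e30aa00d120a810c0f00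da0c9e084303a40d400089066c0f3f0ca707980d6801b80246020b079206470018027b00d106d20d9209180f5408850410060b02ce02d4094e041300b4081a0d8b0c6e027e085a04c707660cb706be0586053c0bfc0c460f85019b0f390d9806e601f803970daa01960afc008d0f2009760a650cb607f00dcc0124014d060408a9095405cd068205fc0b3f05eb0a830de3024307630e22064c07010132016f0dc509fd072107ee040f00bb0adc0db4055300e600c3029d09500bd30d8604ca0e5506a4003a08d6073405d904fd0dd209d90160067b01be0b910baa0dcb07de00cd0a5f0f4400c70aab034f0a7806c8053e014a054a0fa00fcc08c909a404710344001c052301af04300b830750076008b40c8e0e370cc50dc101b40c760c1204660b0b0844025b0b38067807d901b50eaf059c0f93036207440f52071a048701ea07a903cb0bb408500e140f35056a07b70b060e670c540287042c06ba028c0dfd0e9f00f503be0bf808650e8b045804db0c100451098b0b5805b603f601350d040f9d0b13014002070e180bb105c101b2033e055d0c05066d0e8d0acb095d0a8600680c1a04a90dfe062806d80ea002ba037a03770f4206cb00050c4c01e3002f0582090c07b2030306f00201036a08730c3c0b0104bd0f8e0f6e0f370fc406bd08ec0a44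049b030e07840fd40bf300240e95041100010a0d05800b9400a60c4d0ec20e070bea06fd0a8508c70cc90f6c041f04bc0f5702e70ca10cee0be60c98094b0ec70df20fac0c1706bc07f9066b042d0fb801640eeb016706d402a5039301bd02380dee054d03100b7d05f10dd601530c1e04260f710c3a048807bc05e801dd06390f2500280ec60fc80a260d7d0ef50ddf005e069e028b03b80706027204ba00760c6502760bdd096f0b9504c008d106b90be204590e76079609ea09a9057f09ee0f0d0031092d0c8a0a520a0b0e630a290db9085c0ae20eb4068d0ae10d8d0ad6061605980a98056f092a0d7305360e2408a7066106230508099a08180aa5004c0f080e30012d0f4804b40b420138034609520ba10a9a0b280f4b0cf30f9a0a350de70244096d0b150ccd0f7d051a059203500b9c07b6092b01c709ce0bf502ac0f300b04009b025e0eb20062079d02530a1502510be40bde02540c9c02d300db00d907d0036e0596031d02af09c2067e01c509c60c810a49034d0f990e2c0e850bd1086805b00d010c4a0b750f130a080de60b1f044e06f6072b08c404d50762049505f00307085407400e990b5a045609dd060806fe0d560b930dd505dd0d4b02db0f5d0946009e00ab05910f1601830ca9075c017b0df80d0701dc0bdf0bc9035d069b0b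be067a0b210a3a0dcd02d8042f029b0dac00510b8806f508eb0547022d05ea03c107780bac089e04f606640bd40d0604eb07a3001409580470007e00af0a900eda032b0dde0a3f0c9706b80c68071500a00d570ea102910f1d06ec057d005002e20b6c09d309ec063002b30eae071f0d8a00b00d1b0ed30e5704120642089007a104350d2006e405fb09b40c660963018d05480ed0062502b80a6607ec00630ef3048000d4096505bc01b705c4015b012f066e04940fc30a5a0e8c0472070b0b350b500c6f04030de2090d0c2c08e607b90998088700b609530c7e05d1026601a90e5904f1084c04d409670e9e096e08a00df7036003fe0b11080407650d870e2605fa08bd03df061b021e06290558083e0e9401e40bc6082604e200c80d8305ec03da0a2b0168037b0ace0cb106060e0008320c53083d016e0c8803b30ac309f507c0076a0fa10bd7085f0335027105bf0d1907080bce00bc0c740f880eac0beb09e80a8f0c5d00aa075203e504840e2d054004f40f6d023507f30c9100c90c0d01fe095b01e60db306b605650550027300f7034b00530a3101f50cfb0b5e0f1a0cf90ca200a30b9004b10eec0f6f02d90543072c043804450159082b051d0fd7058706180fdb059a00e909c1007c02c405dc0572008e01190899098a097e099e08f30129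017807ab0a3b0a8c0f3107a005f40dd1006b01d803e6024504fa075606fc0e410ba60ba9050d07c70a180cf202f6041b0509036f088b062e0b69089806ce0b0a004801c80420087c0b5b015c0c1604910e2f0df502b40cd90ee50e7f0fb50141048202d50d2b0322015e0f7e024d0bd009770cb308370ba70f230772026e038003130e050b2d00740d2207420a940ca50c670ac8087f0ae30515019405a70d5a08690081068a0b470be703ad0af802040b97038205710d3002a906cd06c6044c0d890a6706a102550d7e009301110125069a0e7205f906d509b10f4705ee05170b920eb6074e050c001207250b8f03300636088f0b3705e406f90b2e018e08530a7208b3057a014e0c5b022907350ac7016c07fb0416025d09f80f15070d0a930ee602170ee806350bba0d38003807710ecd08e205390c6305750ebe00fa0bff0b7a05270302014f08030c5e0f61058800ff051303730eb3036b0cdf00c50ded055c0cd40b520b2a0c8c08890d4f0b8709d402190c260ea60f6402f4047d039c01540a460489078e004b09050fd6066902a60cfa017d0e490a4c01da04c50a870c220d8c0e060c7c0dad0797013c0b780a43,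
  0xfff0ffe0ffd0ffc0ffb0ffa0ff90ff80ff70ff60ff50ff40ff30ff20ff10ff00fef0fee0fed0fec0feb0fea0fe90fe80fe70fe60fe50fe40fe30fe20fe10fe00fdf0fde0fdd0fdc08360833059f0de40c4600e00c190bb6074d00f406b1089b011a080d07010a100b3008fc025a0c1d051103bc067900d8087700d406d20d570a540ec8085f0b8302a900cf0ea505ae0c9909e102d1073d0e5802e103ea06e00b4907220ed504a7025506c30b34023e0e2c05f507240c610c800bd70458052c07ab05c70266072b07640c4709c406ed089d0211091f036504950c5705ce02820c1301e004aa0cd207c90d0e08220ddc08ba086e0c410f850c04095b051b00ca05240176072109d50aa20e0e005b07950f9c0be906a40388012301510ab30b5b07c108610ef103cb00410f8d08f0098f0e320e44010102e501f604b20e41083901dd0e1609c105250953040a031f070b0b5c08f605140f020b6d09da052b030802fe031b06a0023604180f2409e4025f05630da60e7a055c00cc0d860c080b0b0e8e01c10399013508200e5b0a880d0507680fcc001f037008e10f92078c060c0fb80ae20d6b0b8205f90bd40080085d039e0da40b2e082b08620e6f07cf0ae703f007f80387053e00ec0e7e0bc4009808630ada092605700a990da8088c0881038208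be0c100f2808d3011200ed01f206a6015505cb089300740bef06d60f1d0f6206340309026008d000d702b40d98048003ef066201d6016b0f1606b20aee026d06130def066908da0fa5031a0e9d0b840b2708b003960a180999095109a20b010397048a02fa0bc30bd9086f070703c603950bdd0fd909070ed7013b07ca0d170304067c0cba0f230d5c008d0a860a20035700060efd0eac07390dbc0a7807a401af01e10bcb0dd60d2408bf0d7005a603c50b4a03370a0d02a20b4b07b603330c7d0888090904310ba1033f0e670fab0f9b04f70b800ef60be00d7d02b70a1a00670726090603a900e60e1b0b2c023f080705bb0218028b0a340a9e0ede0ab9037507280e0104a600a0004b02930f6609bb047f00a70f7d07c304bb0bc20ad8097c02d0069401ad07c409840f79053303d30ae4001201db028809ff0334007b01aa05f8076908a40aa70d63079b0e610a7f09500d600a090d840ea80a7a0a530571018908670cad05b505830c3b0bfd039d0c310eeb0ca20c290fa40aaf091b09710f2507840d10061f08d507f906a805a3023d0e870f2e0b9e06e4037306890ccb01720576047d0026018b045b0ba6052d021a06980757038c0ebe01da0aab09f10cb9065f00a90de8083c0f4d00880047078806b4015e0e06040c02960c9502b006d005fe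00890147029906530cef00b604ed03170b350463085a08b20e190196070807f100f70bc10cb60dec0b0908c80785080807d40a43077804d40bac017d00850c49088201a9079909cf049d01e308890b630994090006e5021206470afc0b3c0bb4098603d20a2d0a7c0b6606b30f9509c00802093c07130eb20d720df003ee0c78049803000790096601840c8e095c083a05500a280f0602dc06e30ef008c0067008af018e0c8400900d040646088305c80ad90e46063f0457095d0105028f097e09af0f07043c0bde0c680c330a40009b0f7b0c6c01bb0063071205bd0032025c016901c0052805460f5006280b900c650d9e005401280adf074305840db408f9047b07960f8703920d9309a8048f0e1e0a4d05300f820ba40c2302be07b40e340cb501930dd0021b0bab01df036f09ed0e860b390ee405ee0f0a0878074208550d4e0a1400a803e5095e0cbc0f86028408c408b401ae01ed0bb204bc077f071f01cd0ec70bbd0fda0f5d06f9090c07f60329074a03a8036c0ac304280c6a01040f0302300887013600200ca100d3074109790cf60ce00a960d5409b5097f0abc07a00b310ce605050cfe0a250a97063303f5025b0da10516046705910e95097b0e910f3008dd04a40cb10dfa0c770a3207730168057a0e7f04940501038e0a620d7607d10f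810e4e09df0a68030503fe07f7086c075a03e9049e0d3206580c030d1b0d8a06e70a8d092e097203f303d0039f079401a40cc709b20cce05dc0f2b049103ac00e704250643068e037b06360d23059b09f308470158055b014d02ce00d509920fca065201410aae0b5e06860690004d0f140a1f070d0b0806fb0a2c0ef30247073c0d2706de066e0b9901ee0749033a06f8011b0a5008170d2001710d350711059d021305d9007e078f0102049908b705d60eaa0a660f8a088a06ce002f022a0183063e0e4b035b0980087e07e5020e0430081e07040baa0c170d2b091902d606c80df90e470b2100f90b560fc40ca70b6a00970c5d04a30f3a0609099b04e30977003100f80bda033005be060205c3061106300ab20acf0c0e0b4709fd01b606b00a16070f0d4d05eb05d000d003d804470118042e0ebb032a06a90ca402e4058700b205e80b97069102ac0ee10c11030306c00932030d090f04df085b014f0b040f880cdb0a7404d2029a028604b60b2d0ef90bfc020300280156071c09ce03e10100054f0ec50f260fcb03190bdb0e510db60cdc0ed107df0b320a940e14079e0d740f320d2c0fc1060103690c1803bb0b5f041f0a03096303790dda00ea088d0650026a05ca08a80c7e04510b050f8402140c200d340cb407f20fb30b85037a09210c2f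0fa80d580c820c60051f02250af305690b0e02e90a1301f00df70a9d073b093106bb069604e201b202c800ba01910a5c0c2d0b4e0f480758048b0bbe079c054e07c2053a05b601dc09be0c34051807480a3a0d79012c0d260e1d0c27019000100311026f04c6048205e50627047502d70cd60443084208d8068c078a08920c8c08db0a0c07d60e7105b30c3807fa0f540e3702d30b0a0a00086a00f10b720853040703450c9e039a02f50a6402c30c1404a20fad0d16069b08370a690e930ab70b290bfa025d04460c8a0c6b0c3c076d04b108160094044c05480db10b4508040d0f01800a480ad2086003af0177066c0fd50454044006a707b30e5a0301008a08bd01620e0802f306a303cf05e20f5808a300c403fd0316074b0ba900c700550bee02100b7509cd0dbf0cd00db50cc10564002c0e5e0c670e6801e90435010e082504db05320eb90de704fe02270e70038902a50a5609f00a2a0d1f02950da20a17084a0170020c073707ae037107bc01b40c8109400f8b0d3e08180b70010b07f30d9005530328010601480a67015704c50b5d0c4d08950d3705e106650f370b920363077a01e40faf08aa03b0087605310f53006a051e05b7035e0bf6016d0c3d0e770e810ca807400e6c07ba0e040fc80dcc072a08cd02970b6209480a790b6501150f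1807a60dc4019707a504e4023a02b302e00dd402c7043f04ab0a4b08c2059c03a304590a6a010f0c64092c0e4d01d204b306fc09a700b00c010347099c09ee0ce90838046e0e0900680a5f0b0c081d097a0ef7099f060804020cf70b2302090b1f061c07e0042002ef0c7502750639052708f20a4a04cc0ab80c9a0f4b06e808ae05380dae007605f1034109f60bcf0688006106aa06410c5405540ba7052a0289011f086506b608800dfd0dce0537008b028d02440d4506a20598023b077e05130db90e430ac9019b061a05b1000703b701030ef201200d3007250d430f8e0bce05c20edb0879079d0be400e4012409880ea004f1084507e809e00d2f0ab602c501850c02071b07ef095808a100bd04640f7301ab0aa90cee0fa2013804dd0002067e09c604f808fb08350d5205950bb1060f0bc70e8f0e76043a04770361052206770db3017f0bea02940d3b0e520dac0ad1065509b904840ae9000401d300400ece09dc0d010215051c080b03a708000aec06310fc3056c0cf30fbe02c90a8e018701490e65002d062001a005570e2a014e09690c9c06ec059400b809450996076e0f210c970a12058b0e6d04ff0f3503800c5c0eda0c0b0b78022b077506400ddd0c5603c807700b140bff04cf00010b790a920d390fd6095202dd002b016e00720107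0744046a092b00130d9701ec06c10bec06970f1905400dbe07350fb107eb055602200ba0087a0b400479079708ed0c9d0a650b4c05e30bf405450a1904880c3e016706fd02b90fba0a0f010a0d6409d709a300e9078d0257050f084805fd09ef05740d6a060409b10626063d0c15028a0e92067808ad00a40a9f072007be01c707670f360de9072f00ee054b037c016c03f104e103c40e18041e0b4102b101250c9b01980bf30bbb0a010e4000be0ad306df00580b7103c3041605960a910864028e006401bf06d80e62076205600a37067101f1063c0f9705a907ea02ad0449005c015b0ce807fc0dab0a5a0d2d090b027803ff0b8a08d101780a9a0f9009d60d000f4709290d5d07870d07091206bd047204c208850c9f08e605da00920fbd0d670fd80060009505f00f0f0d830bae0f13007704f3098a0d7b00b401270bc603930aa3087004690cf4007d04f40759095a07b5020202a8093306db00de07f00a4106ae01750df204130287021701be067f063b062a0c760ae500c9084609650372001504a901fb0961022c0d25088604f502700c45023707dd00160e8405390afa04be0c960ec10b6f0f1a05a805e6027204e0054907b105df07b90f050bdc0d280a900c8500ce00c503cc08a20cae0e6009430283036d0cfa0f4e0b6c09fb05210b6403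2f09180ba205dd0d9105de03e805a50c6e0e56007a03f608ac000a0c830a81018800440e8d0c0501c509760e850908066d0944051201d0087f0d6e05f302f203b1024d0a6d076b0f9600790f63069a09f2067206ee067301a108d20c09038a0aca0ecf067503f205730c630df80f3d0e27021e02f401d105ec08910bf10e3d0de504c40da906670841093a01290d77072307e204f003fb01fc08d900a609b40eae02770ade019a0f5207e30ec30b48056e08e703cd05b202e2059a02c4099e044100fd026b0cf905cd0ec6060009eb08f7074f0f27032604ce0f4000f5000e04c3048106800cc40abe0c39057508b30e9c05a0090401c30a6008b807d008a700bf05990a5900a10b580e5409cb047e065904fa06b7089e053c0c7f09d2044d096e02730eb1000c018f0be508a60e22007c0b81041102f80e8a03830b5202c00b93081c0fd40e720c260d990cfd087c0f8c097501130ddf059001340589054d00810c790b860f5b051d05b00ca00987001801f309ec00d209ba070c08eb00490ed9073009e600240239004e0a1109a0078103ae03f40dc0049b0832037d047802c207da0dfc001104ee07ec0649060a055a09b6037e03740621029e07720755096808ec033e08e20e3002670a9b02bd0a890c5002ed002e06d30c91029b0dbb089f0d750656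016a004c0aa001990e3807ad0a21083d0937035f0ecb04170e8009c20a520f0c0c7b085c021d0c72050905920c53006b0ed005ff086d02de0456005d0d440320052f05350c3a08f3080909d1050e0ae109470de10c6f0e4f06640b5a02400af203ab04dc0b3b04d00b160ca603130e5007710d680bf80a230cd80e1509e7003c04960f4a0fb40d0a00620274025305850f7803a00814025607a20985013307e90f0e0be303db01c90a5b00c206420c510f890a49065700840ae607a10f5f017305970a840d400a240b4f06b508c703ca0aaa0cbf0400015d045f0b7e0be20f4c04c1034d059e062901c40d030a2b06100f5c056b0bd001400ee007860a830ae00ccd0e020f490b1d076307bf0f5a079802bb06a10248097400870caf0b8e081f01630aad017c034e0f9402580a360ba5058002410663074c0f330a720de60e9e040e0b8d08540b7b0d8e017e058109550f4506ff06f306f1009101300c2c017404a008ff031007e10eef0c0c040d0d96024f006f0bb7094a07b0092408c60e5c085807600b6806ba0e7400af05170a3e04c70a550f3b01a6014c08f10774008f0c520b9a034f0cb80cc301f4014208240250073a0ce4064e05ea03600644048506fe00a2009f062201220ba30ac000e303e70f9d0edd04e906f003d1099500560419068509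60018c0e8c00fe08e90a390c5903de0f1006b908e306cc01940afd09b30de200660b510b670899040f0b590ea60ac808a507c00f9f03b40c060bb50bb00ed60324056d068106e1095f0af007d3089a000d0fbb015f0f56046504ad0d2a0cbe0427002a032c0925093009a406cd069e0ea10d4f08c1041c02d4082a0b2403a5021600220c880f2c0731020a042d044e0c7c009308d4063505060e9a071e0f770a3808fe094d02220ee803860eea0448045e0e830d7a058206eb02910bd107170a4e07cc07100ac102790efe05ed084305b9024c01090a710bb80e17096b0baf049c0f72009d036a04260c8f080304710b1804870aa10e820f3101b10254017a0fa60207030a003e062f06f502c60c1601d70f6f061d0cc9046c01cb0ec0072c0dc107060c4202a304ea016f0f6102a40d080e3303e205fc03150bad0436074505cf0bb30b2501e800fa04ae092302240c550ab40c0a081a00050a5102510bbc09bd0fac0e2d0f34097802e70b9d041206da0b370fa30b9109ca06be066608bb047c083408120e4900dc0e96066107ce0f6d037f0fb705bf089803060552012d09810bf70cb709fe0dba075f05cc0d6f04da090a0e2802630d9f0c9301820c6203b503c10d8c081306380a7e003b0fc70daa096f0a870cc600dd0d880bd50f29070a00b50dee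0b1309ad03d40bca01520a050c1b0a3b0ee20f710f440021092d0eb702ab0ee309b00186067b08c504740568005a0b4d03230d490844061e00da052002fc0c6905ac031407aa03b603c901ac0e240adb0fa70bd30f1f02690d2e0321008e046606b8085209d4052e0a0601e2035801c8034400cb0e2000f00a3d0e230df5014b0eed03dd066a040409cc0bcd03d70be106ea04330335082e01eb022d02450c2503c00dc70a0e0715084e0034038508a900c108d607e40078035001650e480f460b28007f0e9409f4041b05770dc50e6600960bbf0780068704100da00f080d13080c0cff0d850dd7020b093f0d56013f0e2f0b57004f0d3a02e80ead00a502080c000e1a060b0cf00cca005e0af80d9c0be70394083109f901310d610d0c0a6e083b047606fa0a4702a10989046806ca06af05b4011706d40e1f0dd90efa03fc001e0b1c0ac202db09ea075c04b50d4208b609a90dd502df0ab50f9905d703560cd7054c0801039b084b09590c9202cc06c201a50ab00f7509730fd70aa50b4203ed015007c609140e5309fa030f02a005ef0c8b0b020e120d3d0f590daf0dd3083f0bdf0bb90d80033b08e5090d0b61026e0f2f078b091c05720b6003b20d3c057f067a0abf04080dc2029009e809c50ed40bf004ca0e1300b7034c00430f200617062407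db054a08e402310b7a08e806ad019c0afb05a704fd00b103070057033802610b960da303b80d6c05c50e03058c071d0851039c02f7004a096d02b607890384077608660a4f012b0b9c0cf10f090ed309aa0f390b760d5e0c37093601450d11050c0e4209d00af7001b08f8000307d9093e067d0d470d59073f0d9503ce04220b9505620529038b0eaf05b80b9b0cbd0ee50cd10bf50a770ca9068404520f1202230a8f066b0461089605f40aff01f90f510f0b06370a1b02ba013a0534048605d30aed0b55001a0cf501b702e6041d01110205053d01ce0b74091d0b1e064c07f402fd06d700cd098d064503f90f7003c705440d290a0801ba0f0d0b43080a0515013c0e750a75069304440d46099305a2024305f603ad07ac05610b7703390195011e05fb0252065b058e093d06bf0a6f054704ac062e09f804d50fb90eb405f2046d036b01f7092f039807500039082f091107fb032b08970a3302b2044200c0045003620030051a06c6073208cc05db05f705550ae80e730f43094f08dc0ab100ef08110b0f04210f6001b308490acd0e070c8d0cd90a6b08ee0ebf0f83005001920401023c09de065c084d0cc50fc909420b54001c0510090e075208590b690b3a0e980eff0ad404e505e7043b0fd3028000b90f6a0f68049306c902cf082d0489096a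0db80c6d0b7f0c220b890c2a068a0f0405c60462040b066f004601de0ac60008011402920a0b055809c90dea065a015307820d3804e80fcd03aa0a2703a601100d1c04c80b1b09490bfb045507a9045d038d064b00820221050b060709340381048e02b80990067602cb09ab093503910cdf02590b0002460d1d020d0d4c05bc0cd3027d03670a8c0fae0d9b03460868000f03e4015a089400fc0e3b0d69003a04fc03310b3f01b9031c0efb0ebc08190f6c013909170872065e061b04b90e5703b307bb06cb0d8209050f1b0ae306d50e6a07c702a70eb6019f00270ce20cc805af02d90b9f00710705027a038f0cd402040126056a0d6206e906e201a20cfc0a420322004803640682065405590017094b01b50b060f6e04060bc50460035c0faa06740445006c07190eb0019e0ddb07e60e5d01ef015909f50ee9078e0e3a070208ef0de302f10eba0dff0c8705c407a70c3208b5077703dc0ad60b6b00090b2f0e63065d0ea30a630f9e06510b150a440cdd05d20e4c0823033c0b3303e30fb0066804530a4c0d330dc6095406cf0cfb04ba05d10af901d406ab077b0aa8048d0d6d00510aac0a7d043e000b044a00df07d201e608ab0ed2043703420afe0473022f053b086907dc0f80032d08150c9001460e5900590840093806a504e609e5061205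aa0e0a0541039008290e290536035405fa0d180a980c280aea0fa905d4044f03e6061808f50956014a03a2081b092809150e900d81075b0e1c0a1e0ef800e5050a02ff09db03510f6706ac074607de03760f000ad70a8a0e3c0b3609bc03c204c90fd109c7092204900f3808ea01ca09130d550f740f3f02da09fc02280ea406c7061508df0dd80e6409b70ed808560ebd0414064807d80c4f0b460caa05c90cd50f170765079a099d068f02640c4003ec08fa024900d90e9b0efc0cb0047a008c035d055e04eb090203250fcf027b0fb20ee6031d08ca012a0fb50a07053f015400f2027c0ba80d780bf20434072e0c8904f608750a1c0b8f05510bed0c43016607560d5a0fc60c0f06e604cb0e69026c094e013d024e0d21049704d1048c04bf05ba0ac4045c073309640405092a098e0c5a0d870ce706bc0fdb069c075e0b500036069f0c4401080a950ce10ec40da708b1058f098b0a930b7d0c73070e0c4b042c01320f7f0eec09c300d606320d7300c3089c07fe074706d90b7c09d80c4a00b309bf033604290a3104e70c1e06050070084c012e0bd201d500f303480ded0d0d057d0b8c0d8900bc08840eab0a820a5e0ecc090100eb033203d60343011d0e8b04230b3e0c940b22060d001d049f04b4009a031e02d50ea20265045a0dcd0c0707c8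0d7e09a6062d0982011c07030acb00ad09b80c7000ac02ea0c4e0d940e2b0d7101e70dc90fc50ef4075102bc009e024a07cb0dcf0d190de0094101610a020dfb076a02a601a800690e0f055f0eb5064d01b00a15013e0d0b057e050d022e0e2e013707d70bd80e9f00c608bc0b26030208740c58011609d3049204fb084f03400542087d00fb0734021c007304b8086b0c2e024b01810d5308cb0acc094c043207b80b73017b0f9a04c00c2b0a3f0783088f01f5030e0828003703530c1c04240f2a0a9c05e004bd09ae028c023800250ea70b2b01a700a3076f0d120d8d034b055d0cda0827029c05d8091601430d3f0b0d03a4056501fa075401fd009c0c36006509c8081002cd0fd00a260deb07fd0a0a0cc20e3506f20857032e06990dbd00e200830ccf0603062c09910da504830e5508730a3501640aa609a10aba0f150e110716068d02330fd206250cab07930970035908300dde093b07d50c210234074e0fbc0eee0a4503eb0b190d660d090fa001bc09570b2a0abd0e890dc801fe083e0378031800290f1c0f3c00380939035a0a3c08c9061905a1026805a407920eb803df09980bcc0ce5052309e30a610db00df401790cf803680ad50f420f93080e0f8f04d9087b09ac0042023202aa01a302d2030b0c7107af094606830af50f2d0e7b0f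980c4c044b0c480a7006f7041a0f1e059307bd006d06920a2200bb0b20042a0bc9012f03a101b80d920b07077c07ff0a5d0d8f0a300b880e3102ae01cc0ef5021f00990d3608710826080f0f91056602e3025e09a5069506dc0e2108a0050007ed0d6503bf0beb0a040f7a0d480a730d1a091e0c3f0f41027100d10ace005f00000e0b040904d707ee046f0d5f061406ef031208ce0415070004390053088e08fd0ced0df60f7c00ff00190b1a01c20fce09200c5f0ee70df10fbf060e02350ceb0d2209dd0d1e02eb0ca50997072703be075d05c00c7a04ef064a05d50f6b0ac70fa10be60616097d0db20dd1027e0c1a01cf0709049a0160012108b90d4b0366057c02d809f706060014011905040cea0d9a0b170e0c07f50e8808f40f550c5e0b0309e20ac50aeb0c3501f80e100cc00f4f050307e705190f6403d507b705ab064f0cbb0d41076c02ec029f04cd0abb0e250a7b0dc30c3001440e7d0a2f0d51034a056703ba071409670bc8028103f80d7f0e3602260d4a0c860f650dad05070cec0718003f085e0be80a460eca0660042b010d0db70bc003f70729085003490f010d8b0cb2018a00e8079f021909030ea90f7605260e000eb3056f043d073e02f00dd200860206072d046b018d0e05063a0add0a5808050a290d060af10355054300db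0cb305e90edc03da00aa03770e6b0dca069d0a2e08cf0aa404d8079103bd0df30e26033d0af4057906dd057b0cde06f604b0036e0962020105e4099a020f0b3800350d020f5e0e3f09100b10073800330bd603fa0a8005780b3d00ab0fc202af0c0d098304ec0cac0c98050205ad04d608c30bf904380e0d0e970d9d06f40e6e0b4403520e4a0c1201ea073602fb076101ff0ad008d70075062b0a8b07b20e9909270b1200f60aef04d3098c08900dcb068b0a1d0bfe01d908060f2207c5091a022902b50edf0ec90d5b09d90e5f005206c50bba05880f3e07660d7c0f570c7401bd07cd029d0e450b8b01e50262058d02ee07790ca3027f0fb60e7809e90adc04f9006e00230af60b870dfe042f0d140b6e02ca0753003d027602000d31019d0b1100c8082c01d8032708de0045015c0c5b030c01c60cf204a50e7c03e0088b04f2058605c10a7602f9058a010c0b530c240e3e028500ae06c407a30ce3024204a10b980403082102f6077d0ec20ecd0fc00a6c04af0a8503d905080b940f7e08e006230e79047003b9071a07a80f1102bf02c10f6904b704de096c0a570d1504a800e10c660ccc0d50029806d10c1f0e39,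
  0xfff0ffe0ffd0ffc0ffb0ffa0ff90ff80ff70ff60ff50ff40ff30ff20ff10ff00fef0fee0fed0fec0feb0fea0fe90fe80fe70fe60fe50fe40fe30fe20fe10fe00fdf0fde0fdd0fdc0c9509850c1309dd09cf032509260efc05e90a81040909e200ad098409c40f41076208ce0efe026c015b095c07e8076b083b093b0a0e038d015e0f220d0c098c03a40920020d08bc096e015f043e0a3b086a011e092203210512058505c5088204c604350ca40b03000f06150534027504fb07b603ed0ead06c6015a059c07f809de0cad07010e5a006600aa0e6b061f0d8406e80a6907f6059f06a506a80ad2066d0d170c8109cd02bf0b42054204610ea70541086d0e5302450084064404eb0c2009300c3d0e4601c404b40b70056101740d030eb701ff002b0f3e0ee60f23047d0cb704c40346047c04a20a0b05bf0dca03dc013307ba0dc50df902530f470b2204e4095a0a1a0b530a3e02a70e240943070607e70ee301b308090242047e08f30c6d0de909b00f5c010808270be3058f0cb20fcc049a06510f6e0c7e0d3c0099026a09ab0e7f08da0c080c9f0a01036d0c420dee0f030e7209860045078d09c20a0a08a00ae70cba0bf1055b04a10f6c0fbe0b3d085d01d4072b062c01a20649076704ee047008c80a490c190a21001c016b0e0c0226004b0b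540ca905980e7502d309b800a60cf70125060303fc0f30066103f4007809540fc905e60fd40bc604ad069a0e7103fd042504f905790da8069703470a3900b7093d059e015207680aed045b06a20d0b0f6d0a950d4c0f50095d0e25055a08dc01940948065e08b701a50cae0bc1013d0842058101dc083708f4065c0e760d0e0ebf0682039e03cb00260188007b06c809ef09750b1c0672055f0b1e0a850ece010304a608a30c150a1301be04370f7101ed0e690dd407430d380d340bd7064e0a3c0fa00936042b0ae30401034e0f8307fc04650ae906e203a20a0c0503070b0a1f0ae8009a073002400d9605bd098d0d42048e03c0060e04f30db70a73053103ec0af40a2c01e1070e038202b20db80528096c04a5040404a0081c0c5d0f380a11038b040c0bb5024b080d0cb406bc0ed00f0b03b20c120f2f0ef806810a8607a20dac05fc0f9500e30eb500e807d9030202190dcb0b130495055e0b9205e1019c037f0cc90c470f9803420bea08560df205fe0b670f8004230c2e0ca00ad109890d4704520c7a0365029c0d5d04aa0f780d8f0bde023704f2081e07e5052e03800a2e012400410d5c09e7031a090d098a06cf0367099806ba06600dd20b1d004d0d6a045a07760d1c0b3801fa060d00370ee10f540a54035f069403e50836062202670c31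07b505dc020200c3033e0cb80c1a05cd07830d58058d023a0b2a0746069d0f11044f070705650adc0d3e0863043a0a04021404420cec094e0b1b061e05fd08de04a704880f5e0c4609740958043d0d1108dd0e5608b102be07fa0f3103f300590ae207410f490482096909f308a4016907610cb3088404a4020707c801950ba308780a14015807d0038e0a1b03bc0eb406710e30029f0540034f0a650be8018d0e640f63071a051e03bb07ee0f5f0d75057d0795077404b00999046a0aae05270cd101410cd00e870e910c7209ee0a8f01910b04085c08b302b80b2c08740e6d09c0010909bb0ef30a18030c022b092100db06cc027f0d180a0d00d9051c012d0b160d8b0c070bf305a70e9905b20577058c02f9089606260e45021205d504140d9a079405f402170c0f00f806fa0f93091d03770abc0445033204980bf503f20c430300055302960d6e03400dc40519078006f9077a03c501c60d770283060b00420e2d03f907dd01a708b401b5028202970249037e008107440a4f0e480e3a060c01a007f00e12047a09fa043f03d20641022e042a0cd8048d033102fb0ee40af0062e039c0a630e4d090e037100c403300e96084f033502380e0709c90f3c0c68007409940eb2008204e809120eb10c4d037a06070d05072a0a8b01840b3601540a7606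5604f5076c0af10c090c2c070907a608760cfd00b208ea00680e2a06f5025005020da00f8a09a40b3c07b7017501930df40160044d0ecf01470fbd0ee70593000803ef0cfa07250d300c510f7207b806b300df07900b2e0d200a9d01710d07027300400f07028f0aa9070f084a09f105740067087d066405ad0e01054607cb0c6209b30350057c034107020c670c7f023101bc0a460030014d00d508d90b140a4a0d500937069f09ea02d90bc00bc30dbb0db90227092e01ce088f0a6b09730e5c052f014f00930952036303730bfa041c06e40ac907a706ca027e01860f270a200e160f6a024301420e780de20f4204780af70bc20ed90f9a005e068d010e0f0d006a01df056e03f50fa900a503bd05c20e500f350af2096207ae06c705e508cf0c63068609c30fdb096f009d05c004ae01ab0390053a089702700b3406230675049e049b036202cc001307880ba70f8902800ce20f3d01f40ab50bc90e4b0c6c078709cb07190923091c06200db6056d03b5075b0b8b0f4a0c7902f5062906c10d3b0ce305df0c3808a50c980ce90b0e04b603da02690e80027b01e20ab006ea01ba0b0508c2072f0545044302090d040324052608aa0d3309950720045900430c220e5b0df807ef03990d7b0f32027d07d40aa20b4b0f7900cd0aa00a8701680c650198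053804630055085904540e1c066b0a000e5101ea0d240b2607b902ce0264098b01480abd00c200650c4804200f7b0a8e0bcc03280aa30b8f0e150f150b1505f002b90ebb09f40fd90e730af605490d8700be0529005106b60a3f0d250f360d990b6f007302550a7c01b60955004a028d02630369039507fd0cc20b7c001e0acc05b30d7d0a9f0d9808db0f26064706b40ade011204ca05690e5802c70dcd067401d1026b08650f44071c00b4039b05960e4407c606db0b24090705ce0b570eb009f6020e023500d6041b07fe0aa407e4083400180c1e0bae064b0c7b090a04730efb0050088b0cd20caf0ed80cd30053021e051f0248073a04de06ed08c3029503530e7b03b70262003e02f60902028a0bcb06330480032c03fa08f709910c8205b102410a1d0ddc067f043c06d80559003808c90500074900860aff06c304e3045e08fe079f00bb0e6006730a660c1b07ff014304810c6e026e0738008a02510a310690029200830a270b470a9706ff07de08220bf908440b09093e06a403f8004e007f00a80b4e02c006bb0f750c0604150968077300fa08900a5302a80e540a7a087e01ae05660a750a030873075a0ab9087f0031009006c206fd033b0bd8005b06660f0e0f57038f09f908390b410b730ace04940c3e03290945048a0b8108ec06a109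90086c0f860b4f074f040a08b20f210d15033700f100d30e2906680d2c02660c8b00ea034904fa09ec006b0cfe07590dae05f10e0f0afe007a06b20c2b0a400bdb045d0f5b050c0658024c0ec10e2f0ec40dff06180497079206a60d9b0c180cda0e63093a00ba075605ec0c6102fd097e0150059d0b7a08400ac204ce0c570db20fa804b304d606fc0b990b2902bb06fe021d0770097902230cb00c1107ec0e8d05430c9e0d260d4b083107750eea065b02d707510ea40e9d0f28098201ca053c0eaa0deb070408d103a70bee0a6f0e0801af081302de037b068e0166075f077106110f8c0e4f00ae083d0b4d05760bf705fb08750cbf067906930a38014502200a510b0706d108a801e308b80c250d8101c201180b5e03b6040d05670c7c0717067a0a6c094b0c5a08a90dbd00c1089c07e903810cf507ca07850a6105560bd00c1c0c3f07a10c3b0bf401000cfc05f8091b040804ba021c0b8008300ee5065207a403fb07ce09e30db40c1f061a01630d2e01d504dc046d0c3a0e6f0ec00a5c03dd04b90fd2008f0286023002810c0306630b6608c6001d08230d2a0b62040e0e9002b309ad09c80add025c020b0ab20ccb00fb0f9100dc05cc0b900dce09b40d4803830aa606aa0711013701320a84024d05c400c9024e098008ee07c10e230b690259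0ac301050d5e02ac057f069c03e10cd90f16003902dc0cdf0258089104e6036102c50b250c0a0f5606840eae0fb409fb0ef00ac603600294060109b701a908cd0b86035e07c20e3d07ea0e8c09d305af0366087b0b82024604b80964008503570f140cb90e9e05f60ba4080a0dd60f58036b0da702eb092a07d60dda0eba023c0e7e019009e40fc10d9f0ea10f650f2a0687004603b8057b00210e040b6101550f340c2f03920216037007980a3a0d560b5101ac08bb0bd609130c140de605d70cf209570ec60db501de0b3002760cd5055006e60e39029d07a80a0f0a900fd00750051101270f9b0fd80914061406e9094c09030432019b034d01ef0a2b07ed080505250fd707f90f8809920c7700140d3d0a7005fa001f00fe0fcd0c960f2b08260dab06f204d9054e02000da9044c03d90f090a34052d04510a640ce808d0050b0f48054c085e0a71018f0f3901d2031f00890299066504f00d16014b0887031e0846039f039d066a0268021b08bf0dbf0e33053607cc0c4c0d3906ae09cc0ba80b44045c06dc0e970fbc0c270e360e4e06a907860f2e0fda0fce082d0ae608e30a5700920b0c0311089901f803090af907600518063a0ec50df70cca074505f202ad0c940fb702aa0e8500bf086f0de70b6d077f08e106430a2403de0c9d009c02ae00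b309420ee20fc603ae0f5906d70df609f009000c010eff02cb0cc5012200f4008d0e00028909d90ab1022d03cc0edd07c902900b4905a20f53095e071d009f07da0b790eee00d80fc20b12018e02b40cd70eac050604fe0915043403050f7a02ed0cce05870855056a0a1605ca030d004f0fd5003a04070c750fb10da40fba00d208f00d830c740a9b07e0067604bc05ab06cb093309dc09f50d3501f2064007970d460e37041904260bc8056807820bda02c60343048f09d80bb0068a0956084b0b9503450181031701bf06ab086b0ba907a502d60ed20f4b05c6001a091e00f20a56082a0b46087c0d1e02af006306f4077705580829098108a10966064208a20dfc0df30edf0bf20f370cdb02360597010f024a03540513033a0ae009b20c990fca0a32006f007d017b0b9d0f1702db0a7905ff061d0bb80c5602ff0106099a04bb02600fb809f7001003e90abe0edb000605070d660db00b3e0df1030b036c01560167046e077d0c4e0aaf0ac0081606c40c640de50ebc08df08e20f2904a303a9076a0aac013907f3097c050e0c8d0d9106d604e505e805e70a440b6a0ccc03b1059901400bc4052a00ec020509a2011103a80de1080e0fac0110014c0b5d0b650cef08eb0a2806d008410ddb05f70d210aca0dad0b60043b073e05d6096a05c80f81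0b4308f80fb3064f040506ef05700be405d90e06044a006d07df05f909ae0f200db101bb00610c330222030a0e57092c03d30411051b0120031c0d4106dd072c063e08ff0cf30418031b03ca09a008030b7b03740ed608790b0806da00e60acf00b90fc304f60b50047b0ed30e1f06300bce081f04af0aef0a96048b018b0983051a002808ed08e406d90f4509c1072205a30a770b7d006e01aa08330e41060f0e81055c0233005f055d04e208a7063603030ada000d01760539017f08830e79065900010a1c0f4e019705e000bc09d103c208450091024f07dc0b8e0bd10bfb0ea601780def09ce0f9c01510f9007340563089a052200110d590c450dc609d20af503b30a2d0aab0fc50f5104500e400bcf01150440049d091a08600b7e0d68080006f6093f0e67009607350a1507540c400210014e00350dd800ac0a91060409960cea0aa809470dde00e50bdd0627027407bc0a2f0a550400053d03fe012307c305350f600c2a0d020d140fa20e1b015d000c01b000e200ab01590c9c0183016404e002bc038c09e50cbe0d2208f60a9306f10e6e0aa107550b94063f002d03eb00f606e300b609fc090f00f90dc20d8a06a70b1803330cff05e307210f2c0688017a02f202b00c830c7809870aa705470e13090804cb0d730967037908ab019a02e70d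71044b010a08e60e2b0aee0dc10b6c04830ad40afa00540397062d0d270fc4089d06df0eeb0f1a058a01b104c102ab0fcb0de309780ad5015701ad059a0c6f0b5f0b2d033401eb0b1007a007d5056b06570aea09e10b4004f700d700b800af03560b9b031603e00e0e09720d5f0eb3054b0dea042c043008710680069b035a0bbb02980b890485068f07d707f500fc04dd035b0e9b0c5506ee01fd084d0f1e0d2f04db00c6050904da0d060537012b0825078e0c4b060504bf09410be200020dc90c7606920ab403a6025a005202da04710a5f01c00cf40e8a027c036e0e9f02d50d2300d00e0a0f52050a0ae105b90ce40f9901a60b7f0afc0b590b0000a20d850d72059206a307db0d1b08e7011c09bf07a302f80867072e0bb902c903200c5909da0f9200a309e803070cc0079a0ea3063b065a0769062b084e098e0bdc083f08280ba009590895044704d205aa06350ac1087a0e35026501850da209160cbd029e0ec70c9b0f9f068508a60b980b5a0c6904ac047403b901460e770b710e3204b104b702a60c0b025b0bef0d010b27018900ce02e5099304d8011d08f90a6009880f8d07930b170f8e0b7806f70ee80b4500290cd600ee0e0d0a4c073c0ef905c104600ef20201032e0e210ac7071805d00b8507360ad70cab0234004909010654078c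0a090c9706c50a3d06690ecd0e70073d0ba205a6039a041e03380ab30ac80308025f09190c890be70b910ec30dd300e40208014a0f8b017d0c30099d06830b3700690b5509a60cee0a7b00580f020e3102c10edc02d20ed10aec06e0080c0b2007520d2905a4068902f70a940f3f049f08690eaf033c03640bca016e0f1b00de0bf0018704130f7d096508e00d530910079e084c0516000006e10976052400bd0218081506d204bd0bad01b702e3083505950d4a076d0f1d06de03aa0c6a003f07c50d90053b05b60c8a0e1e01dd0c730f940dfe08c403f105b40a8d04ec0b1a008e05ea0fa609db04ff017c0ad3027a081d0e930e270d5b0d6c052c060203230d3102df071f07cd0f0506090a3503d508c50e550dfd0e6c0acb09c7085f0a9c08770a1e036f0d89057e09710b2b0c17012e041000710b0f031306160fd3089308920efd0c9a007c078f034c0e5f08070c6605ba032d0e1a04df04870864042709f208700d8d02c3044101e802a0069105b70bd90e140a67022a09290422086e045808f20fad0a5a00ca0ca106990c920f6403a30e980136047205de0703005a05cf062401cb061b0bf60d950ba602b10a2a02880ced029a091706d3001201350d97067e017906550824094404ea03f70f8f0eed0b0a0f9d026d075c088d0f0c08d70bdf06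2f03e60d0a06f804cc01e50f4305710e110d9300e10766016f0025092d00c80fae035503c402e80ed503590a4d05f30dc30ce60a0604750ef4034a0d940acd00a90cf104280448058e086600770ca60c7104f40753092b0beb09090ab60b630e0901f707f400970f74004c0ec20e610818081b0f250ee00b9f08e501140aa500fd03520d7902d000cb09e9002a09bd01d309af074203a00c10047907840ceb0c54009b0af30f850f820dd001e9042407bf0ae406250c8e08100c360724099707bb0fa5031400f50e8f00340cc80e3f09b6060a0130088a0c0d0e860dbc0c4f09d0063903e807f2023f035c0bbd0dc800230d9d0852082c0d740977016a063d01fe043808d30faf09e002d80277089801d00b2109b107050727038808b5093503ee02e10ea00d19008b0b9c06130934000703e70fa30b310ef5041a074e083a0d28056c0e920e42033609a5005c0f19015306190f7c05a1032a0d3602930a4308940f5a0b970817049607ab05db0bba07320a890729072609be06ad00750b0101c50327001906d40429031002fe0b060384059107810bec002f02dd03040fab01800f69033f01c70764013b071e000a0634091808be0a990a820a2506b80c6000720f760b0203f606b90dc008320c910efa06c003ab0e47031d02060dfb0ebd0e840de0089f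0f660f240e8206500c8807e102c40c870f4000ff0d7e0b1904e10e620b4c00e703ce0170010109040e950d4f03e2082f0b4802a20dfa05da01650737027907720de80b8c0bac000b0f4c0f6b0f6708380d5705480cb101e60393057a06bf0bc705bb07120f18012908ac0a88033904390dbe01070254025701bd0ea503960c3501770f84069803be0b960b23098f0ee90e2c0c4a05c700c0044e015c0c3202f40e4c09b507e60e0b04560d0f09ba077908620239057206d502fa0d8001490c530e0205d307e20d550fb50df50ba108720e05046b05140eb803180faa093202e609d70102073f011703ad013f07400eab0d5104d1057305d8090b0ef6053e0e5205c902ec0c2100f0067c00b50cc10bd204f8090c084901c103780b6e0d8c06450027085305ee00330a740ab70e7c02bd0b3f0fd10a9a092401fc08680e83010401ee0ea907c000f307be0ef70f040a920baa0d690b7705a004b20ca50f010ded0d7c061c03d60d0805050fa10e8e079c037d08b9052304fc05940e2002f001b8048c0a4b0747018209630a830f62021a0c5f09b90161027203f00600007008540d540116012c0024049202d109490ecb084701210221005603260d70058300b0080400360e940344045f0ca20dd50dc7021f06be0a070bb40ab80c7001e007eb0e74088e02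24036a095b042e01c304ab062a089e08850adf071601f50fbb05be0ea200f7054a099f0ecc099e0d490be0067d0c4401a1076e04640bfc0225047609ff017e0c8f0b520dd70fc007a90e7d019601b40508022900dd01a304cd0a620e890aaa0e3e0e5d0d6103ea010d0ad80d32077e04160d82001b035808430cc3033d0d4509fd05f5070c0f3308af0a1903af0bfd02cf0e340a290e4a064c0cc40c860a420a370e220a3002a405200731073b058003750a22074a058408d40bb6055400200ce70dcf0ea809d505e200e005780b3201440ef10f6808fd03bf09050e590ce50d7604c30e170372064d0b5808d2046c067b0b3b04f10d40075807910d7f0d4e0d4302ef069505dd0bab01f104e90b4a0c1d04d403c60fd60c50060801260fb006eb09a909a104a9085008480e3800a4043608fb0748008c053305eb01ec097d04d0022f007e09280da608b00857097a067806e500cc093104c708140e6600a00d7a08c104cf0b0d01cf0d4d04460d9206f006530bb10c6b04530062078a02e203e4032f01d7092f04210a17013e00940582077b043306af0017063102f10504000906060ad904c80a4708c707130cd405100aeb08f5070a01a80f0a065d03cd055203680c2901340c850953008806ec01c80be909060a41049c05d40005065f0b720f870df0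040b07aa0afd023b0c160daf0131011a00ed09380a720e8805b0078908e9096009700a4e0763096d02440b680f5506b70247035d02520489029105d10dd106c909e60e4900eb05ac09a707390d630d780bb70a3604e70b8402a109460cf6003d0bff020a016d0baf094d05ae01f00a7f0032012f0d6d0d640a7d0c800da10cbc0c41070d0c5c06100484026f050f09eb0fa407c40cf903d701d90c8c02780b8a059b0fc80be50f3a0c5e099c0e1d0b3506ce0c280bfe0bb3004708bd067701f9016c0a6e06b507150a520a45046700570c0404680f5d02a30b870d1a08010a580a5b0b1f0e7a08d50d620bbc02a50a260f7f02a90cb60f4d0ba50e9a0521013a01b20a1202ba0e1004490d3f0e4308d80bd4068c081a00600ce10a7e030f0d52094a020c0da505cb038700c70ccf0f10039403b00af8085803c80ac403ba0bbe0afb0a98099b03db0e6506370d8809fe01e70e0300040d8e00d407d300480bd50fb9022c0a6d028c0c52066f0ddf04a80888011b00640e19069609bc0f700515072d0406019f0e28025e097b056400d103a50c7d002c0911032b028709d404020eb6031207570c2d053f05d202150477059001a40abf0c5b0e8b03b40ca709ed06210ed4009500e9027101cd02ee00c50a8a0f1f054d09aa0be6050d02fc0ccd01d8016205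b50ae5018c02c804c20d6f04d50f7703ac0abb0417071008fa0eb904660ce0085b0c58018a03e306320c020d6503890f4f023d076507b20adb0b64075d09f80c9008200a3302d40d6707000eda01e403850f1c03980d5a01fb003b00800e5e09d6077c012a0c370808038a0ddd0ede0d12000e0db30a1009ac09390dcc01c9082e01b906b10ec906460cbb06cd0d2d07ad03df08fc04c5080f0391066c061208ca078b05a507fb046208110d130f73001600cf0cfb04910589064a028b025d0f1205170de40c3908ad0ad6048607ac0a8c01cc03d80d100fb60fbf07b404550fc70f9e07af0dd9075e08ae0a020d2b04ed0eec07f70b0b0cc707d20cdd088009a3066e04440c260d0d06bd0ac503480b8d0cb50dba088c042d02ea0ed7009e04c0023e089b01190a5e05bc05a802cd0f610a5d02b7052b028405ef0d9c03d007230199046f005d09df03220f060e3c07bd095103c9085100da0fb206ac06f3020402b601380aba042f03d107e30557010b0bed0886088108d60caa037c002e011307780daa0f46046908c00a5004030ebe043104900a9e049909c5055507330a6a0b6b07960d8603a1079b0532095003ff08ef0b3a041f0044069e02b50889029b0b3301da0e680493083e07c706700e6a07b1058b034b0d00064803860a680da3011f0d9e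093c074d0bd30cdc02110b39091f01f60708017206b00c3c0306055105c30a5905860228072801d60d440e180c240aad0457096b0c0e063808060b930b11083c074c0eef0799041d0be1095f0d1f006c03c3074b0ad00fcf07cf07b00f9605750b74003c0f080ca3031906e706fb007603010940013c0c93096105440e9c0f3b0015056207d801db02e90cc6097f08020b5b0a800617094f031505010b8809a802ca00790b9a0a230f7e0b830d370d60019d0b75030e08cb05e40ec80b2800870f00056f00a104d70d3a0c0504b505ed03d408cc0821086100b10b2f0ca806670d1d0cf00f970c23020308e802f3085a023208190cac012804ef0b5605b80dec0662025603c70c34076f0bbf07140c0c0bc509270b760e2e05600f0f0c00068b020f02610a080f2d00ef0c490d6b0e3b0cf806280bb2028e00a7019e09250a480b9e0e2603c107d10530040f02850b5c0cde04c9010c079d01f30f6f054f06a0082b04120eca058803cf051d00030a05035109c60bf80a780f13037608f104d30bcd02e40173009809ca0c8405a907f108ba0fa70192081207b3047f04be02e00d0904fd08b602c202130022071b080b063c,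
  0xfff0ffe0ffd0ffc0ffb0ffa0ff90ff80ff70ff60ff50ff40ff30ff20ff10ff00fef0fee0fed0fec0feb0fea0fe90fe80fe70fe60fe50fe40fe30fe20fe10fe00fdf0fde0fdd0fdc04f607dc02a20c6e05ad06cd01dd082d06b506e00d9b03ee07a000e909a80b8f03570c1103cb076d06720a81082b082e029c03bb0e7c0e4300c008df0a640b6c05f505a702e703080cb40c39041e037d05fa0e470dc6005d0c52056c08e00f0a0c5c0ce5049805da05d30c870bbb0cfc058801c50d8b025a06c807960917056f096e0df20e1b0ad90dc10d0405c607a30563062005d9018404a40c970504077d0f83061d0f060a1502220b0e02d8014900fb08d10e8a0f300e3e04ed07d101be0c3f09c8021d012200ed077e0daa0cea035305670dc40bbd0100085005930e6d0e6801440b6e054f02ae0c2a09700068031a0d920ee40ce102fb09990dfc0d0d026c0a740b400e820fcc0b1f0a790bca039102ba066507ea0f4f016007e3040002a30663099d0507014700aa06e9014d06be0c220c1b0a6800a4031c0296085503f1039d0f20093807b20334093e00780bac0a7f0bf30b480f5005d6091b036500b4096400eb047705c502a90f6e03c90dac08a20b0d03c8028209b803b40e3a07030c420e1f0f69076c00ac088300ea0e8903ba07ab01620ee809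fa08a80aa607b70e4c071f00040bd80ba502d90bf1048a05480e5c075f01b70ecb03f30983035905e00f8c01370e600b2d01770b4a01ab02b308e40b2107910e8501510330029509fe02ca0a2a02800d0a0f1e08590a2d02a0074e0e8e046e0b7d0d800ea4051d09370a03062900ec001e08a70eb20a4c0f1b00ae05410d730e500f7e0bdd0a9c04cc057400bf0b6907a209ee0d15075b04e6016b0cba0ca00d7b00fa05ba0d35077102fc09020d7505e2058f0a5c03fa0f0b0c6604f800c6080607150ed60bee01f90484044f0a6a08cf007004e80c710d740ebd0dcf07bc0f1a09d7007f0261020c0bb20d49004a09c007e5055a056604470f2c03030dd00c980d09070503f40eba0ae80130049d0e28030d0d160d2a037c0ca101db02b40b050179041d058907060e30085a0b970f820d140e6f081d0ee30a5e0bba070c0687052c0cfe08f207460f43096f01b90cf003210fbf0b30052503a102ff088c03db0b230d7d095602de0f740d6108560f0d03610b880f030eb7042301f3002e0c06041705540af907c105ff0a590fb2095103ab0df70cd106aa039605030a260ef20d93029800f60d3e0df80e27008c0b8e0bb9059e0c930d7109b507db0dd90d510072084b0acd0299052a090a0c050ef104f7064b0dc009df0689093d0dd40fc307c20422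06a30aef0584009f0aaa067f09050dda05720aed0ea603e80d9e04c20d1704e006770d5d03e103dc043c0ce80196005a089805750c8f0e010de7016501de028c0bed0a500dbf017a06d303b60daf02710cc10ca90ba80ac407090d980e42095409af08ed066a0e0f0b520f54049a0203023600000f2b053c06fc031e05450a9f015a028e0caf0b1b0c7b0c7702190a8408da06f607d505730e950cb6012a096a015e0e380f8b03f90a8b03d20d4d0e510b9c0ee108c00c6b03d802fa00650ceb00df028b042407e1078d0738041b0bcc019105bc01d408fc0a92057c0d55060a09f00ba302420c9009e40fc20da50751032c0be30fc608f30cbe0c0f01ea06ab05f20ca407270aeb0c41003e03390a890f840c2109d6075604ab0a410d0607fa0fa90cbf092b01d1048202c80f0407f406a001cd04b605c303e703ed01e104bc05fe004d0198020b07b10ce40c2e0cc20998025408ca059a0c3600e2043a030b084104b50b5903be088d05f1097e09db00cc0794042f0a5404e40ab400c90e070edd0e9a06510eea0f2e04c00042073d0bd401b2031700e10fb40394089a0c3304370f530e92060101c104080dfa075a01780dab032d04700fc10ba10cc3092c07370908073f0e7506990cdf0ab205df069502bf04250ef903a70da601bb03da079202a108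c3075e0a3a0aa40e8606b9013808e805120bbc06e40010009e09a70d1b08030ac60f4b08c40abb003801dc0fc50ae101d906410e03078005fd09b40c8003540eef09aa0de10d8d069a0aec0ab6055106610fc00e80006d02480ab304d008840c820bdb0b570d8f05f40c9b059d01bc0c4a0a110bc700fe076b03900aba00b00b260c0e022a0a340c25023a0659080d0c560c5a065e058a06cb07ba0c9f0bcb0b3a058b0a3f0e880e0005b10eb000560d00053e0ccf06f00aae0af20f1601020bf50e7a03d709b101d004010acb03780bc10abc0b580bda00fd01ee02f10fad0e5f0ba2034806680b340061063c0c4803c1029e09be0b610e56067b040700930ac00c080650018204eb0d7e0c890074065c002c0b790d46049c012e0f1d0bc60b5603c003700753083a04c80d0e029a04b301b50cd50cdb009a072102bd08cd04f001330da4035b0b8c07c9020d07a6012500570e790d7808c70b3103f009790d58029409c600e00170079907cd0b89096108b7089204ad0a7b0e1200810df308190485080c0b250fbb0ec60e940c2b02ce00b20b50002d00950a4e0ce90c4b0be802340e6600d5003b04ea0bfd06dd065b0b4904c703e6032e0cf309f1042d07d709850900078b0e5b033c0e5502860a8208460f7b09750afb091f03a80a4a0d9903a40b12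09c407240b430c8801b105c90f5d07e00e52091904b10024087305a60b71091d083f093f040f00b90fda0adc0aa2088b0cbb0afd010b08cc0343080e0bad07290eda09120f290489060f051709870de8068a0a000fd900cd0c1605280758050901890dca03490202044d09f403ef080f013e0c53083200910416017d06930f7d05d80e8b0f7502d7074a02440d030684035005470f760079037e099501990577027c0232050f0cdd0e640cfa0284068b09740018012301f0031209f201a4041a058309f50f4e0d450b4b08af0f950b01065602c901860f590bb303d60c09068d058005160c9503c704d90c6a0bd703aa0f5f035e00540b040b5c085107be0e04003c016f03f60de60fa80040034a06ff095a0c500b660d1c083705150f100d22062b076e095f0bf40c920f1c06230e0a09810c4f081a0617069106960aff068f046d0cde05b2066908c106090b90006f0e360afe00410efa03d90e410197081b0c3b0bec04fb0c4d07d805bf0a330f6508860a02066c04c60eaa0c8e07100ea80c19032f056907e403bf06c2010906b1033500e502300183022f07f10263008a074000f2026b08cb079c0a7701fb0b620a47046b0a10045402ed014b024901e4058d0c860d560f4107d00d47059206710bcf04a30da00ec506ad0c1804100f64033f0c2700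0e0db00c610dd30cda07cc01e802fd0b9e080b01ca0f2d088a07790c5f012b040b061000130b6d08fa0d77086105210ce60c7d00d903b8062403ac03cf02e402870d280fc80c69051408a30f1201580b3c096907630b1908b2060e097106330bae09ec05600bb404e90b840c2904c90da80c0b0be90ae303f709b206e7030201360487014a02cb079702010a070edf039204c1097a016c06e606c9016a028f000809c1090e0bd00eb804950e09021601080aa106150d36043201e604330c3a03d0025e054c05b303ce04ce0ce7087c0f6203310b3d0e5e0c70015d09d50a71086d0c5e08ab010c0e810a25089f0ec2064402a4073b033b0c6d0eac0a8d0e34045a045008d00aa90f9a0b08091107da0c600260019a02dc0777094b069804fa0b5e05c8081804f9072008c90c2309320a940790021b0d890d91093005850adb0e6b01130c200dee08850b700b82067a088800320ccc004b0a8a01a90add072b073c0835032606b40e9f0c1e0bc4041800f8030c0b65024a0ae70cd9036e0f270f1907410920065a0f0e0a1f083e07ca0e19099f042c02e502d60670029103eb0a58081402450f3403d108eb0fa003cc055d0a49071a0864052207180a66024309920a350cfb0fae0efd09ba01a60a5d04ee0dd608f4055907440290015c0e9104b000110469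07e60bd3071708440f850eb3018c00f107cf05eb0d5e0edc00da03dd07760ebe0fa7001702b9024c082800bc03ea070a050c061a004405cc01f108720dbe08b60aa00a2905ce058c0520050a038e04ba01ff062f0096072f01ef0cc70d8400990b3305e107670e7700b3009809cb04a00c910a0f0fb3053b0b78003d0ad40d6d0c570e700645040c07a704a602ad0a240c64031d001b078a04d305b8082307d30f00091a0bff0c790387013102d5013b0e4d0cd305cf03c4039b08a00e240e1d0ce000d70e6e0bd20f5c01bf0b74094e0b670fd00c4606ea0fbe0413070b0505037a09090c9d0fb70b8b013d0db1098201f6051c001c028100bb00050dd7011400200e1a0ced099407d60843001f00c50373011607140a5b0e7d0089056b0be10c490957047c0e2f0b9507260f4d09a902000605043b01b40e1c09cc00be07d4053308b50805085e0a010f07085d0e9708f601c600db007e04fe01c20dc80375065f0b070ac805490fb80aac015901520161009d06530fd6084a043005e50374022601920b9b0bde0c0007730d8307ff0b6f04040f3a0870080001da0bdc02e60b1c0946004e0ef30fd106e803f202e0025d0a2007ef097b0db505aa04310f730311028a02dd0e780e690928003a05b0038f07c700e30ef702da014f0d5a02c4047508fd04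cb094a05d10fd209d2074f027e0ab8074d05180c1406320b73050d0465048c05700cec020600d10ef50d3c0c7e0445025506570b1506b8017e022d0bf7061e0faa053a096c0e390dc7004c0ee90bc30c0a084202ec0ca306bf09840da90a700c2802f801a1095e0ac1062506fb0e20094c062105a90cef049107ee0aea0d9701500180002900b60285086b09d80976047806cc04740ed70be00a6c0cd80643007c0a9a03150ec105390d250395061b01ec0a1d002106ee0d9d0578086309770df0003009bf0c340d7a0820012d052901fe0a5f0581064902520d26048f04c5021c04550a4404c304ec08ba03840273062602d00935089e0ec40f0803fd0ec00747020a041c08ac035601b00f350761051a087f0be700c80c0c001604920c40005b0af600060b530b1701d705260d2708b406af0e1e063b03fe0cdc08e1064f0eec0ad304a5067805b7016407e201f200230ba0055e0b2b018105d2099107f8064a0c350e5803280d0505940b9d0cad0a78064c09ef0f4005de03e000a6029b0c4e0e26063f06520a63021e0f9201b60e9c019b06ef0bd10c380fc70a83030f0c9e0b98025807600fdb0d5207120efe03580b7e05ed09c2097f02d3075d0d70043908ef047306190595011c0dad0f9e02a60faf035a043f019f0b2c0b2803ca02b10275070e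08b30c0d09c700660927074203e4027706d009b3025c04560e73064009ae02210f1f065d0f9b049e075003830e57094203ae07890301058e06df05dd0d210952027402be0b0a05020e4b0d570ac20bf20fab0d0c0bf8087405a00875098c04b801ce0e490a8e06f80e4e069c0eb408a60d29016305110e620a6f043e0fd706db0f6807d2089103a90a9109da004309ab078800e401550c750e630a8c0464061605c203e901cb0ef00ebb00b1001d05010dd10f21072c048b063e06fe00920dd200460a4800150d1009e90fd80d7203510d8808db07fd03860cb2098a036c08020c9908bf0d230d3900770ac50d2d008d02df0bbe0de506c60f3f0c470d5405570cf608e9035c0cff002809a60c760ea004d60305025103b008f80c120111045f0f420c7f0435018a002b0af306a40a7309a00ede0d1309410dff06390bef097c032503c308960c0409a10ab50bcd0bdf042604900bd90db7047e02a80bce0fd401010dde02310b6000cb0ed404d506f7068e006a0b4f05a808f70e1705ef0ea104ef0e2d069f0b640f2209070063071106300d3b0a090f310eb60d950b7204bb00c40c850472095d02b705e405be0e250ac901560b3e0e8d0c5d04d400b80e4a0e7100d8005305f70fb90a36026a0f7a0562044805b409060e330e6a0b850d30052705a301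7b0a65042e05520576056501060a7e0bb50f810309067d0f89007609fb018b079e055b0bb70f32054e064800ce04a10a2208d80cb909ad0e5d06e5011a05e70a75023f000c00d0032a01ed0e90092604bf0fa60d320b1406850e9605f30ca60250008e0a7c09e501c701740f5a0baa0368082a0f33036a007a0922099c01480db20442081e0f9405f60543094f0b510d4a04760047019e04d10b830cc50f090adf04e200e70fb60b8a05d506a700820f39074c0cf20a9509800acc0dcb0e8f066d034b0c780ab901a3086202eb05f909dc044c0f8806c70a130804045307c308c80119092e0e48023b03600bf605c40e1007b506880a0b09ff09a3090f0de203fc04680d2c013a0ce206f50d900a690f670c680757054b042901200ecc04be0dcd0ae60c730d2f09e200c70d8105bb056d069d027f0f25060308760e4407bd0aca07ce0c8a0cbc086705bd0d0b06dc06940cf506f306ed0865040a0f440da205550d7f0a53062c0ec7079503640b99092f005f006e0cac096d057904e30b5a077a051b06eb08530c3c0de40a3d0f0201c3047b0c3d04660c9a01460abf0d9c05e60e8302e108ae0e93068601c0023e05af098b06a102b2074b0f8a074302680ad20b350bf00a7203b101fd0654093607870a5604ca0a1e07b40924040602d40e0602570ef8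08a509fd0dc206d90ad6008404de0fb105c00b420cfd01760933086e0f4a0de903f8090309a50d9406020c6f0f370cae066f0a190ea70536025308bc0166044b0f5e0362030e09c5039f00ff0479045105350ae90f900ad00f460da10a080438071e0bb806ce04670bf9069b031907dd0f97072804ff0a930262089405b90b5b0f72048d0288003507130a850235096502c007c40b4405ca0e0d01f80a6b061207f0008b0e210f2303240048036306c4033a094300a101e00f050a0608dd00d405960b100887019d0a32083b0c96060406f1048606e1076203bd08490a9602ab04960860049b085c047f04120269007505ea0b630073094808b00634092d06080ef600850ee508990cd40587032b03d506220a4209ed0b2e035d00520910020506b706bc05e8056a0c8c097d01f404db06580e530a3102920b3b07df025b0c65015b0ded0efb020703270fcf014009dd0a400f5600f4083108d60e99087a019302670847072501ba0d8e01540c7408ee04f105d70a1406920eab00a206600fa401420af106420ed20d5b0ed1026605ac0d1d0878039c053407980a3e0a5a0eeb03360080057d0ca20427046c06de054a0a990da70fc40e160cb1098e0ec80b2f027d0f860cee02650c8304b70239011d0de007f702c705ab0eaf02b60a450a61082c004908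d20b4d08d40b360cd008ce03b90e3507fc04610abe09bd037205ec03980ee604f40748038801d3081606ae05420270050009b702f206e203290af004dc055f0e3c0459071b0b6a06cf02f00d6c03df009c05980fd506d100870bfc0460007d0a4b0afa060604a707cb05530a4300f70c1508b90f3e03ec07070506085401af00c20fac0c37095802890e54059708fe01c409d102cf0dcc078602f30097011805a102e9082605100ae0042800bd00260b68012c09a208d9084c0fcd079302f707c8073a010e08e5054000ba024b0246038904bd07aa022e0c2f01fa0546030405dc0ccb0d7608a406070e720a300d69037b0c2d00a003460bfa0c4501e5099001b80c9c00510209056800cf05a40c02000d06c103140a37015f02a50e6104210af80f8d034f0a3806280233000b00a508a10cb000250968046209f806c50c1f01570f0c06d50a6003a509340d1e083603cd08300eb9044908e70a460f510e2b07fe040e0736006c045c0d6a010f0031062e08d50817026e0b1d06bd0f140953005807780c1a0ee708f1030a04cf00a300220db902c604b40813047d08a9027b0a1c04150716096706b0008f0a5709440f6c063a06110f0f0fba09d403200d1f0e0c0379066e0530085202f509e00b020807082107ec011e0c670d0201120b6b09a40ae408aa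07b90121010d0d680f6102240e22092100dc07b60fa10497098f09d00d18059b0e7606c009e3072e0e400a3b0d410fb505ee051301050d9600c3061f06310e7b0b2a0e3b0a7a0c4407c000e8096009890986006200360b9606660ea3005e0cab09fc091404c400f30c1d0f28012604df04460a520a3c06d202a703d40db60537040d044406470ca70a8804f50749008808ff013f0cb5071c05fc008607650e7403520c310719025f0e6c0214031f0dce0a6e019508900e980a9700ca0a2e036900a902120b870d6b067c02b801a20dae038a05db07ae0bb00e8703410fce0f450f130e3703af08ad078f0188036d0ade08fb001a00020d12081007590eca0f710e3100f50e080ebf08110d3f0ed80c3e01ac0b1e0d1900fc03a20d400def05ae01e902b00f800cbd024e0ab100b5045809960b16088f087d05d4004f0a760b7a013402790f4c054408340b920f2603c60ed306fd034e06ac00340f7c0cc904f209180fcb09d301d202230d9a0c630d440646044003400af70ace0eee07f507b0084f01c907a800ee01a00dea02f90f98083909bc00690a0a0a2b06000e46095b06800aa70f8f0c5b0ed00ecd0f3d05f8047a061807220f38043d075c050803420217059c0ee0076a01df0d3a0e650d2e041902aa037604b208e60edb0cf402af0a8606c303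1809ce07ed05e30e9b0af5057b003700710b06038509f7036f0ddb05190f48018d067907c60c1004f3012f0d20064d06730c810c7204af05560b55028d073209ea0dd80bc9023701ae05a50a12052d024706a508010b46000301710e9d099b0697045d0117018701e703b50f8706900ea201d801430a160fbd05fb048304880229089302f40480016e04ae07f9044306d60eed0f700a5507a40ea90731010300ef0127036609c90f2f03930c260993092a0f3b0d1a0316058600a708820deb05cb048e0e0b0b9300ad0ac30d4b0c840cb70829002a06f2089d0a0505610abd070203a60381077206130d62017303220915000101f50f1807b30af404fc022507fb0c8d072d09500e2a013906f404d802bb010a0df5018509450323079f0128000a07a502c10ce307690c7a060d02180db803000c030cca0caa03370d9f04090857078304e703e5093b0f9c0a6200090f490228001409bb0aaf029f00670c2c0e2e096602fe002f0ca507f30b80042001eb0b7c0cf80d6003b206b30bbf0a8f0734089706ba02640532086a053d0129054d0824082701bd0eb10cc40db406a805640a23019c0f6b0a4f0d66085f0ba6017207a10ed50f1707c5045207f606820df60895067e06d704810b4e0278039e08330c4c0ba4000f035f0c580acf07bb034408580220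05c70cd608dc052f01a503fb06e3088002e80cd20f7f052b03a0087704cd03450baf0b7b0f240eb506fa0bfe08c6041109f60d3d049408d306a9091c075403320c5908c50c010cb80da30e0203060a6d0a040a6707e70fa3098807520e45011b017f0c300d110b7f04a80a180bb10e9e0b39020e0e0506140aa80256095c040204b903c202ac04d702e30939065500a80a9d090b0ba70f2a0141078e018e09b9064e062d0060099e079d089c0a2f07230be406bb02ea09f30b270e840b770104031b0ead0169044a0107011f063504d20b320eae08de0b4c055c084500dd0d5f0a1b0ebc0f5206740d8a076f0bd60c5503800d850b3701150397022c0d310f990e2902830cc805230ddd0a0e0dbb0de3080901fc05b5038c08c200e60e13023d0f3c03de022b042b0f8e0110022701cc0aa5043609e809e108250e2c090c0dc5076401d507af0e5a0fb00d590be60c6c0a1a050e04fd02c50636019400590913077b09630949066b084e02080b0007b80fc905cd0fd30355088e04da051f03e3008302c304a20bc804030d7c0770040508bb02db00f00d50089b02f602c202cd034c0a0d0708067606380d2b0f58045e0fca018f08400c620f01070f049f0f4709c30d3807e90aad0dba0ad10e320297087e0d640f77098d070d081203f50dbd0e4f08b10d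c30a870aee081f077f0538066202b5073008bd073309cd01aa01cf0f550ab002d2068c0c1c00ab020f0d0f0b0c09b601b30b3800de0b410d4e0be503070bc00d650b13046a06270599078c0cd709ac08ec0d5c0b9102400f660e3f0871021a0a7d0dbc029d093a0550023c0c54082207040bc50db306810cf7045b086f077509cf0aa308380cf10d4f02e20b3f085b0a0c069e0055080a0afc04dd0997002702ee093c0664099a0ab7082f07e80bb60a280a4d031004ac033d04e50df40848021f059000640c070bea034d0e18005c0d860df106670d53016804570ad70b9a0ec300f9033e0bc2037f046302100b1802d10d43014506b602720175091603c5051e036b0e3d06da0dfd0ef403670f6a0b290c8b016d09780ec907bf08890b470a8007010d480d8c07000fa5006b09590d4c0132079a02bc0bd50b2008f9059f0d3709e603ff03bc09620b94024107390efc0ea50b1a05710d6704aa01e30f910e14014c0414077c01670785093103d307d9078407de01ad0b5d0cc6021503770e6703ad0ddc0f960259086900d60b090c43090d0a900a270fa2038b0c2409f90dc907ad03a301c809b002cc055803e2009b0a980ae50ece0e8c00af058204710955027a00c10c94026d0fbc0c7c0ed90e0e013508b80a51038d0090024f07f20bab01a70d87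09e70d4203710f60081500450b0b08680cce057f0f7900d209ca094d060c0b9f0f6d088104930d630b5f0940003304340be209250901017c06f9068303b70ccd057e03330ee202380d0707810cc005f00e59056e081c075505240ba90c5101240beb0972021306750637072a0cb30f5b0d240dfe0b810ecf057a00940b75061c08f00dfb0f6f0aab046f050b0b760bfb0c320b5404e108660973003f08080d6f026f09eb05d00f9301530d3305c10e23073e02ef029306a60ddf096b05b602760ad5060b0b220a2107820f630f110b860f780f570923044e0c170d6e0f360df9013c0e7e0774083c05e90cf90d0109de07a90a3903380dd508ea0e1107680eff049906d40e7f086c039a062a0a170c13063d09d90f15042a0d7906a20d0801a80dec06b204a90a9b0a2c07350879079b0b2402110b0302040745052e0012031308e303470f9d071d0b1106ca00d3019007660ada0d8208be041f0a9e08d70b45014e053f05910b0f01e20ad803b300190ae2024d0ac708f503820b8d09040e1506ec0d34087b091e01d60947007b0f9f07ac04410050084d0ca8039905a201f700b708e206d8083d000707eb053100390929,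
  0xfff0ffe0ffd0ffc0ffb0ffa0ff90ff80ff70ff60ff50ff40ff30ff20ff10ff00fef0fee0fed0fec0feb0fea0fe90fe80fe70fe60fe50fe40fe30fe20fe10fe00fdf0fde0fdd0fdc00e80d9f099704bf00eb00120a0502ba0de004ad0d370bd00f770e0106c703340def08250844027a089d0dc0076402c101700cbe0e1c0670083a09f3086d0e6e0ace04f20634029608d8085200aa074a0e4a07310d6f0ef5053609a70ef3029c088b0dd10ab00d7209bb0d230b6a054f0bbd0982012803350a750f4e02ef058b0c95022f02000dd806330696062907b703160e040dd00911078902c4055e0acb0bdd068907d0011d04a20c2d03840a770a7c0b2309f80c7b097400a30228072a068e070e09d70c2b0e61091205b30a3707100f9d02840d9800f402c3011002a807090cf90f91093b0e390a930980001c042b07180032085105e10ca401dc03f9065d064f042e04c502a50c1f065f039a0ca003130ae20c510f11053b03c105e0023109420492023a006b0b690427033e04cf02d5068d0ee703a907270e900724078607f003820c5f02c20625030a0b6d04c9069800d4021d0ccc073a0f750f510a9c0c63056b042104370dd4027d0cc4009c05040b73037904cb0866019f0dc70fb900fb0e280bce0a1701d7004b056201f70f9e0caa09070a590a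f6025d06a808e509130fac023d06e703c50d73065a052e062a0ee9095a05bf06c00fc50f1d04de0e6a0be6056d0641085f02770c35017b0cdd059206950fce0d850ea200f502940ba403e000460a9b004800ac0dd705460a420f4709e50d9e0d8f0ab204d20ba801ab0b370ea60c700c460b3508e90190094105b901810688057d00400d4b050e07dd0bff0bf6029e027b0da70f9b0d6a02af070204ef07eb003b096b074809560a600de30d550bb000670c580252002d02190ef20b920318019508b9011c08b70cbb08490b9a09fb001d045407280429044f01a102d902ff01550c040a2b0f3a097c01e80a4e0df1080f02b701420adb05010c5c0a5006ff095002e3016e02fa0ea406fd065308a00b9b01fe0cb0074c03cd05880e5800ab0dd20e4b0560077d048e049d05a40e3d02630cc708d70f5d006f0eac07960c740bcf05e4065b07b103d80801072b030604110ee00a3e02570d5105a10a620fc70d710eb103eb0e65055d015a04ff018f0bba035006e006610a260fa708bd082a0cf60ab10d750aed0847000d0a8f09b00d60062f048b0c97065100c90b390b5e0f880ef70e0c0b3f0c0a0812097603260c82088405720acf07a10404023c00b003f1011301ff0741088006850db10f90014b0d5602460e08036503f00c2106790d810b990dd6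0690081e091f02eb07a70b2703be030b07c90a310674044503f408b0081c054a0a0804740b1e052002ae000600970d8c0ee508070da40133086102dc03000a8c090907bd088e01d201520da000af0d540462029d084608ba05d2028d0029055a0e3a0da305690726022d01f505670ac4036801670b710f35027601a905970ae40b9e0a790a070a640917028801e007b8086a034900d10ccd055c0f5701c70374034207cd08640c610b1306a703600e520f520a0c032406940d7d06190eb007fa0c2e064302550ac7088a07110cf10359010704b70c470842049107d3000401c304c1037d08190bf10d5f0f5f0cd40fbf0a6807bf0704074b0a9804320f41047206970a100d1403810eff0b320f2207230d91039c0f620b89046a0db5024f0007039001930078056e014c03520fa90ce4013c04cd0448057e0d4d007402780d4809b50fcc04b005160792092707a9073402480d29087307a007c80c070ea10aec08560ce9043d03a609440ea30ee40d0305d1060e0502054b0e2207070bf0075f08930089064a080601a201e20bab0b170632068208a5099400220d1a0e380bb201de0f580ced069d0f160cf00717051105d90b1503b803ac05c30fba07ed0563068b059d08eb004303ff0db80a81092c042009860c62007d06da0f170aa4082f00a60a7d08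6b0bbe0e750b0107790aef08e70094080201890cb108c10fd805d301910d7b01220ed10cdc045a0e990dfa0e7e03b30f1b0c780e3c087c07b60e810d1803e5042d0ef801d101b40d1702f009e20b8101fa093d0e5a040905570c4d00fd000f00fa0d070a360fd50d0e0bbc023000c303ea0e8a0df502a2092009490a95071c0bf30d100bf8046c0deb0ce005060c8d074d05d4002b0bf70c010dee05a903d600ad0ae80f6504a80f6b00270f610b360e6009000e2d0a61022909a409df045c02a907870e3e0b0203250d6e0d0b076a0f3b04100458071407f80a03099e0d70057909de038a037604670b8e009f04f601350f8e03ba04be0e8e0f0c0ba608f101d5059003a804c200910c7a0dbb00f902a30fcd05ea03af048502100e920bb907a802a001a7094a0a8505e7090f0512010d07b008f2032708ac00240d33025a0a8e012e0c420c1506a003b908550e5f02030ea50a15015e0d7c00050c2507730dc405370e5b032204a6011e086e08dd0e8005f30169038f09380b8504860dbc0de901a500900185026d03e8003d06490e8605e20aeb003301180f2900540fad0ddd059a04060f7f0ebb0305013109810ac3079c096c09d302b002d20eba01f908fe09550af503850aee0a1608170a630d0f0ed307b40ee80a7002c70d0002830ea70bad03ec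051b0816069305980ca305150da60e42086f06ba0165055504a40e6308d40999001e0b2b04630928000804df0d8d071e02860d7406460f4402de0640067f029b00b20e9108de06cf032109ab02f703b1059b010b0ec506f40d1e0c5008810f09063002e5082c073f0700055b057400390e07070603860a580c3c09d502fc04710a91021f0d4f02b90c5305c709a10c2c0ad00fb805b0011b02ad0a5c0402008402a109a002130ed402650d520bac01cf0212026b0a380cef0e300bf50ed001270bc80b3a01b503530d1d01fd00a1082201200fbb066004300e9801ce091e0ba701400b8f052a0ba9092907570a060b7901cb0d110fd70f480044052f0b3d09fe0fa20b06030d0c2a055402ea0c4c09520a0a03ed01b90ecc034300c70ad2009d00c805c606b10d1209d902340fb107ef05530aac02240f5509e80d32093900800405026902b201e10068034400f700620a120a7e0f80087f04d50f3c01c10021083b07520705032b079304e00a2507430aa2028a0eee08fd00380b49000108580a9e01f8066804f90ec105410f56061b09ba0c06019a0e480b7500bc0bc6098b05dc0f530a2a0e2b0cea0eaf0b1f055600fc0487098700b401e70ead02f407c406be0b1b0ca80f2b002608ad016a0add0f710655078a0d470c1d0c6b0bbb008508a9060f0a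d90e6f02380b6506df036b058c0a0b05080778078006e9031c005e0ea0016b094005ff0b9708a303fd0f83005b009609050f6800250829023205be0f660e350a2f04b204b401c90a3501f4044b069f0d5b0d4908be0cf70a410ec20abb022a054302ee0c9f014f08340680051f0d2d0da9031f00b90e5e0fd3084c03070c59021c045f054702c6099d0b56091c06e6037b0ade087606ee00820ba005c4069909b105f809950d5d0b2f07700b8d0ccb0e8b06c20d8b044a0e33067a0ae10da20e7d008d025302500eab0fc206bf089a035a07ca0b28049c0e7f07da024e07850fdb0a5a0bc30a890e260663013608740da102e20a0d0ba3008f00510f380ce5084d012c0c8c03d3093f057309bc050b0a400d930e6404b30ce10aaf0e1d070c0c670eb508af0e7803dc076c096609e10455033c07080bca0ae90d6307de023f096e04d1098a0cde03b404b80d96071604bb0a2302330b7a024b07e90e410f8b009200490e97074701ac0119063605ec00d50edc06cb05fd0abe000902e002ab09bf036909b303b204f10e1105ee0b590c3e0b1a07dc0d24033a09b20c8b0e690aa308ed00580f2c09ca079b084f0df806f1081407f30dc206a10077017e03770e4e044407e108e2049a033f0db9062e08d90bd1016f09ef09f00b3106fc0ede080d0d440259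0d9509c704ae07c306af000c0c32098e02020bc9045b00170fa002be000006aa06b606a301a80a690ee208f300d601c80cba099205270739022e0e6c0cbc049600ff09260a24072f0529047f01390e4d02560ec607ae0279094d0a200f590a1d087109ff097704680c72094b0a6a04af04dc00c40a19088702150d9a0fd9053f045d0bc5040b059102b409f90258058e0b4201f6042a0c240f980b5d0e2705960d2e0e620dfb0b3e035f04260ec906e50aba004c09bd08f7012b0a1c0ded0e890c2906b0056c025e07620198045702610eb6011a084a0c110f3f0484055004c30fbd0d990ddc072501e50aa508cf0ad40348049e040806070bdc00200199054e0c710c9309d1022008100e25074f0aa60fb4064c07a302040b8809f2067c020700e504bd053e097a044d0a220ab4050008970f7604e7049703e3018606f70875006c074606c10d0605ca0d300a5309b402600a1b047b0aa80fb203320b2a0cdb0b7205bd0e0d00db05a204d007e802410b5f01620575060907e707c60ad30fc4088808f8085b0b380a8a0d3f02f500dd06180fa107cb0b5209e30bb30ad5083504790ad60a4700dc0e1a05f20505048c0803078d00a00378040105d607e20cfa06ed0e54026a0154022b0ca6063f044707b90e7401560c1901780c3801840a5e075b0b2e06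f30d8402e1098301090bd30f6e01b006bb094e0d02036f015f02350d3c0354049903940a1f0c16029f05400a2c0dc60de401db0aa7046b0fd6056f0aca08fb0bcb0b070b2d0e180b8c0ac005680c1b0a30051a04800be4095d06620c180cac0ef90494025b0e9d022202490c3b0cdf04ec0f990a860f070cc30daa0a180af90b6b0d4005e303c309c906120465039b0cfc0b95097d0a7b097f0b7003bf0d080c8308d2016602ce0f1803d20b240c1c0d9d08b600130efc08c20b4e095c0cc2088d08000e14045306130d130e7a0e3106670be906c3099b00da08790ce7062c0e9c09670a8b02bf01bf09620bef0593044901640f000b530c9c003f076d05220b7c06830a88068c05610c7f06eb09430bfb034d0db2073b04460a900267089608a70d2203e906ca0d820dae033303bb02aa0a3a0d3a01f00e8d0e950ac50c3d0d210bc7014906d20b7d0d360f7d085009030d640439032800570b6f04830bb80dd90a9d0c9b0ec00fa308c9037005b4024504ab0d770c96070b040004b60153060201b8046d0aa10bfa0f3200de00bb0d3e08cc080504700c1204e306f5018c005f07fc0cfb089200be08f0002307d1016109ae03990d57078308480d880d34008e04a706e300b50c4f0a2105ba0b1c0f40064b05760e5702c80d4309d60ed9052505c10d66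08540f210b5a008801fc0d4209d202fb0f150b510a920eed0a6d012607ff0c7602540f96038d0f390482075d06a4097b01ea005903ef0e87030c0f460e360c8a015807ac0e490b600ec3086005c903d5031e03ae07990d9c06160eca0143013003f309fd05190c1a0d97009e068a0a8208830b7f01320c8f06e1052406b70be30e2a00ed08f90b450d7a0833013f0f0104db09db04ea0813093a0dd30e100e7603fb0776039109ea02400ac20cc90c0c0b8308990e9603f707940ebf0a6e0b3b0c870f1c0e2f0e7107530e32064207f9014e003404dd0efa07bb09b60af806030bfc004f0b180299087a08ef0fa60a7109af010e0b220f8403750c0f035d0cd2017d0f670d680ac10bee0a94058d0daf0c1e05af08240e150edd0caf03410bea0c5609c20dab031a0f500f7a0df40c4b0e0e045206730cfd020c08b4077708f507290d8007ba0c5a057000c50cd308c6091b069c03d90eb2012a0ecd04a50bde028103da08ce01630e8c030802230c860c200c8e02cd0f0a07df0d190650092d0d7900d707f1030f047e0d3106cd05a3065701b2044c018b00d3083203fc02170a3d0fcf05030ad703a70003026208c40433052b03a204ba048a0771001507c50fb505b50965094606a604420ebc0d8602bb0cd50dcb0a0e0fd00dbf0c5b0e17057b0d5a0f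7907fe01ba03b707be0eb8080c0ee6009b00410ba50db40b0f0a6b0fd40e8801290a010be2045e038b014d0428036601ee05b10329081f0b41058901d4063108a20b5b0dcf093400cb04c606ae0e3401160d58032a072c006607c10765078c060006c8091a0b3c085d064d031409e400930b1901e9084b06860f4508090730070f0b6307560f2e0ba20052034c0bec0bed077f089e0a9907c704f500f101f10cb304410ca90958075500630fd1090c0a49035e0e70019409b80c45066c09a6031208ff05ef0f6c0a0901a406fe03df06d4075c0a4d053d0490004a0eb9016c04b10b1001210ec402710ad10e590c020af1036306a9054801e302ac00ca0e770906005c0fd20bb601f201c0090a07910e5d0cee02cb08c70b550aae019e0a6705db0acd051009cc03800ecb018803b5075907d209320eda088c063705b207320d050d3802da077b07d9006d029204cc039d0dc80740062200ba007b077202d407130f4a0339075e007a04a1047d06710ecf0b0e05660ca5038902c0029a0a1a0302026601a604c8010604c7098c0adc0f4b0d1f09680f820cc60f9c0a1e0cc80c0904510a74057f0ca105b8034f0f140bc100760f9a071b02740951043e01cc0070069109f509a30a560b5c099004f409220f19052304fc085e0251061d09a8008603c80ac6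0c8905210cf3071a0984036d087d0d6c0afa020606c5077e034601ca0ed8031b0f28051e0f4c0cd904da0e0b0f0606d80a52017202e403aa02980c9800110c2f05ac05170c4101b60e0a0a9f02440b5006d106dc0a780f780b860d7e0fb709470e0205950b2508780e120dba0a0f06c60afb0f640c7c03640422066a0e7b0cab03a10bb705c008940611018d0ce6041e08bf0ac9042f048108570dbd027e04a90da80060004508ab0c340acc0cf401970dbe00bd0c7305ce0e55081b014502db0b4b08a10180041a02430d670f72057809cf0faf07f20a8401470f31062300e906e8024d05cd042309540cc107af0e4304c40e4f04fa0a7f03970e83067701e40cbd01340885037107ad07f40b670b5706b307b30b0b036c0187014a006e0628086307fb05df00d20a800a28028901ec0b16006a061a013b036a01bc0c9202800c6e0f04089c005d0e090f200e6d0cca07f708d301df00e20b930dc9034b04190cc504ed043a09ec0c0d0be0015d0c260afc0dfe036e07ee0795098d05c209f106780dda06e401750aea086202e90c7e01230b11099a01770f8c0fc3058a083f098502f303b60dce0a8309a9040a01fb048d074506640afe0f9207970cad0eae008a0c6009c5046105fc0552058f0f3e0f020be8062003170a2700e70df7024c04b9020a06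f90b680d0c022601d805f90a6f0d4a04fe09080ea809230f6d003100ea038804aa07e3098802cf094f02b3025f0ef0019d0cb2092a005603f8085a0e7307aa003c0c1708e600e1007e0464024a076f0676062607b503090ddb0b90089504f701050a2d0c7d0a440d0106440a5f0fca02e6002806f206450509014407210c520f050d8e03580af4073301040e2c0a3f028c0d2c0b400336050f018201be0964063a03ca00f20b8a05f0011206bd03380826038709210b76003e0dfc051302470b770d27066e0bb108b805fa0840049b09e609f406100f4d0c370b2100370bda0a4b0969032e03e604400c44089f047300ec0de50a7202270eef0cf200690b29008c0e51002f05d5052d079e08c309dc00c60065060d0e5300c002420c030a6609d006660f2d057c05f70baf061f07c0034a0be5061700cc0fa8077a03c701b708fa01110b940635015908b20e2108ea0a7a04e801b30f330a2e0c4e06c40845053503cf0eec013e0b980c9d0f2f0de10ebd076902f80c9e0c1305f60d5006f001ef015703e4058209300e4404760b140443049f06ec03510fbc0c6c038c0a32000a0d7806fa04380db002680fc9087202c502a608b3026f05e80970063c0f0f0af302390e820f7300f60507042c05a00a6c0774055106d602dd0b0904bc0a3b059f0c1405d7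03d006810f4905710fa50bdf09da02bd0b470a9603e1046903f201ed017106d30fda00b10e030b430d620d260f030ece03c4001602820311083e0c480114099800a80c3a017a0e850b8b001a062d0821060c0c27088f0cb408d60f1e0cd80910016d033101af03c20bd5084e06fb04d906050f7b050d050a03200df20af70de20dad0b6406f607190d9b0a290e5c0e6b0b4c026402f90ebe01e604f307150585089802f60b9d0c6401f30843007905860b1d09750b6c0cd7090400ef04ac09fc0ae605380ed60bfd0aa90efe0c3905a50760074900f004120f0b018a095304e60c0b05bb032c01c5087702970303093607e00aad05eb084102850f700a9a0e1e09310cb700b602a7097105e604e500c10a450c10063b0fcb004e08280f080393018e02b60398035c0c490b200f5b0b740b910ada0f250ed208080f6a0fc6016809ce07f606ea0d900150064703ee0804069b08700ce30b3302f204a3054403d40de80c790ce207db04fb03c0049806750d4c0cfe0dff047c00ce01150de60d8a090e05640f8d01480e1605a708df09c1013a07380f9f053305a609cd0e1b03cb0edf09330dde09b7060a06840526030e0f9506a205310d69092f0dca09c609f606e201bb0ee30a3302fd063809eb0c660c5d093702720459093e067d05b7012d0e9b07a205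5f08300a4c00830aab0a8708180c770eb4071207bc0c2803ad03f60a0009590b0d0e9a09e905fe001909ed0a130a550606037e096309ad0e720290046f057706b408bb08e008c506b805f109960dcd091d065e09dd073e05940431007f09aa009909d80c230891054d013702d70cda05f402d60b0c0d3509d4002e03ce05490a0400bf020b0d280bd9002c02c9079a0dc10e450e37081508370f3403150f2301510a34099101cd06ac08ca08110c080c690f1a0bd40ba109a2043609010e660225033b0b960201067e01010e67072d0d6d0a7602360754033005ed0b1208c008230a3c02e70edb0bd605fb0750096d0d040f7e066501250e940a4a0e2005e50061094c083c0e7c082001aa040c05e90f8108bc079d0c910ab50db300a50654066d0b840bd2020908aa06dd08fc0518044e0ceb0a390669048f00980ab90b46028b07e402bc0d590f8a0ed50f6f0e1f08c801eb0e6808900f6002cc0036058008e305d006de0cd10f4f0ae5076e0d4104c00f2a00c20478001b059906150eea061c078f05870f850fb604e20e3b03e70f3d02a405ad07c209c00604019b074208db05450b26085c0db701dd042400f301c60fab049500a70395020f0c330adf0ce80a73039609480957089b0f430efd0cd604d60584046600e30b300d250bf9047706c90abc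09be0a970f8602d80882017f0ae00f3009cb00ae0196045008690d6502080c2206a5021e0d5e0bcd007c081d03cc001002910c6d0cf806f80eb30bb40735073c03550f2401c40558051c0ea9090206ce06d503e20bc00c5e01a007660d0d08ae0d2f030102730c9404130e5603040e4c08cb0d0908d50d2b069e0b0504b5038e04f8069a039f0ab30e2e09a508da026c0f5c07ea0103027001240cbf0c88009a0a540c36059c0bc405cb09730c00015c0c540be70d450f360cb6053c07b2021a004d08e8031d06580b7e07d40b0407220075021102160d92021406ab0d1b096a00a20eb704a008ec0f0d065c0a5b03a400cd022c03670ec8068f0b6209fa07cf041b041f063e03dd08dc028e06d00867010f09190fc008cd08b10d150a480b6601bd0cb508b5067b00530d2a04350bb50c310bfe0de7043b0aff097e07a5014604ca05c80c400dcc001f0a14004707f50fb00f1003c909e003bd03fe05ae074e0cd00afd03a3063d07fd07d602ec0b4a0a0200810e9f0a1102ca0c840d83010a061e08a408a609250687037f07810da500fe066b0b0a050c04fd091609600beb0d870efb0ef1031004030e290d5c01080df9014102d10924075a0f420e840775027f01d003db000b09ac00cf0d2007510d460ae70e130fb30788081a06d90c850bf2070d0b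e10db60f7400b702210ab7020508d10b540df0092b069208590345028f0782096f0c65041703a501760cff031903230abd02e805da0a4f032d0493057a0eeb0e4608e1015b04750b820a4307ec051d0b800b4d073608a805de0434099c0a57038306140d76095e0701037c0ee1008b0d4e0d0a0c3f06cc0e40005a0183076807a40f6306270df30d6b04250f940d9401d60b2c0bcc07200c430cb9000e0c6f01d303d70baa00d8093c0d610aaa0f870f26093505cf08310361012f073d00500b7b0bd80cb80138029307e6082d0295054c06b20e2303470f1f00a407ab00b301740d5300ee078b0cc009e70f2700180287048906b90dfd0035005503720a6508f403370bd708d00e0009c40e0f07a60bbf041500a902ed073705bc0ac8000207e5040e05f50237092e06ef02f104d404f0036205cc09c30173095f023b0e060b4f090d00d909790539065600710373095b06520f0e0836080e074405340ec7091806ad00df0c900df6082e080a0827072e0868007204180b6e0d3b03f5058105590cec08380cf508860c6a04140aa0086c04e10cae0f69003008530b030cce0989003a0e24053001020dc302fe0b080d3d05aa0b78087b09150ed7087e0c800961080b00e60b440fc803570f8f0ef405dd040d0c570c990e190fae066f059e020e03b0020d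0d160945071f07cc01790f930d7f039e05a80f130639034004eb0c05098f010c013d033d040f002a0f120356070305650d1c0b340ae304d8011f035b06db0b610f5e09780160045603920dc5064e0a8d019201ad0407047a07d701d901170bf4041c0e0502b10e470dec00f80c9a046e01a3097201da09140993021b0dea0f89070a0dd50bc2041d0e9300730b870f5a0514064800e0037a062b0c750b4803ab04880790090b07d507ce0ca20f370087053a0d3901ae0ad800e406bc0c0e0b9f0c6808f6026e04ee009503d10f97062407580c550dac0abf0b0000d0071d0a5102df0faa0eaa0a460659017c021807610c4a060102750c300ef605420e9e04d30ddf08e40bdb099f083d0100052c01c2019c0a5d05ab077c023e00140889083900b807630af009b90fc10e7904e9062108650e3f0e5005d80f54078e034e043c00420528078403de0583079804d7025c076b02d0043f03c60532060b0ccf0b58027c06720ab6076702b803fa06080af209ee0ab80c81056a032f0fbe04e40ca703a0046005b603bc01b10e8f0064079f082b0f7c0d8908ee09f709c80bae06d70b9c041607d802d305c504ce0fa402b506b5,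
  0xfff0ffe0ffd0ffc0ffb0ffa0ff90ff80ff70ff60ff50ff40ff30ff20ff10ff00fef0fee0fed0fec0feb0fea0fe90fe80fe70fe60fe50fe40fe30fe20fe10fe00fdf0fde0fdd0fdc03130d680ed409c005ca0a580bbe08bd04ad0219037f0239034a017304870f360c640cf904bd0b4e0693032d02ab0cb30a8900aa0c550020016e0a8609c2020c07510a2e04f70f2f06b0005c0343082a0c3b03480a4403e20b62045e0bdd06c90ea7041203a30c36065f06fa0eea0e5106c00ab7015a0205076003ed07830f770ea6026a05da01cb09e6093b0de507d801de0f3201a509d301dc0ad50f6a08b70b7b0cce08140c780d990d750f840c4104c60d910d2903bd02fd00190e8301780db301960e780824072b00f105cc03760abb0709067e051e06f1041706b2044a015c04aa000e04a9038c0e87010d012e09390eff06e404d0080e00b60d6707f408ac07e605ba0baf006a074f013c0bef0b5d090b053d0da7013209640e2807fd0b06082b07ea0c1c09d0062807c4067d04d801df019008f20375006d092801f807a20cad056c037b0b670a100a6c06c707d00c5706fe0d3a05ae0e4301cd07370d0c025d068b0f0c08f50c650e4d0f4a0ecb007b0a720598065d01c40f0001f9043d097c0a480b44035f0ef2021e0cf109b905460011077209bc08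1c0518085d053c0d7f056f06190dba0dd10973049b0d5b0f5400fa038704b207150ec40353044d05e90c7003920b1b0ea301ac02aa0ceb0ada0f6d0dce07b8020b064702fc0e5407240405072601700347054d0d810678067f0c8307f000760e90078200d60ad20a69089f036a0ed2075b0fad059f056e03c60c5e0854092e0a93002102d60862010400750fbe0d6a08fa0c66030909090022097e06ec04c70e310368044c0c8e03fe0b9301ed067a0437029704f600ee0de008cd040d0551090f060a0ec302d90cd000f20e61025507640fb9037103ef02c307420acb028a07cd0ee808e70354072d008904b3009c06b50d3d06250bd80a190d3b03970aa90f3f094d077802cf08c30200013e0e440d8309490983072106ff0b5408600d300f1a011d003b01cc0f450016005b0b550aa8051307a804d908bc0bf30b8f0f2200990a6e0b5100d2043a03290b9a0ea806200a81036c03f109ed0e67096900720b9c040907ad0f3a0bb903b80fb304430956022508da05c30a9d0c61083508410d280b2e03e70cc7009606b706290cb70dc200650f660ae205640f6109fc00b5002f0920038404550403000008680bee011102330d8c06e10f6701af087b060f028e06c80fa702af0a7c03ab06a0092700c801220661064a08c8019e064d05eb0d940c0a0394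0e9906060e0f0a06070d0f5e082f0c5a059c05bc021d013402990f7a009d0140018a03af0b210bb404cc0e2200e30b4f058007eb0e8c00ef03fd00530aef088d029e0d360cb809290c2a0179064901e400c9099e016f0dde0eed068802e00e080237048d0a0f0e2a0b9207ce091f0fd80400076b084302a208b402120a630f88040b0c4b05ea036d06140ebb05dd0b3b05b800e901550d8902a40aee02c00b4d008100d102ac01ff063603dd06210b42012005a306ea08940ba20a46022e0ec1087006a60ae304a201000c600ba00d9d0aa201560bc901e505b90b02010c0a9c09dd0692091d0f1203080f4602270f2605840b870d41061a069e0da3009b0600045d014208ba0ef80a4d07b5055802b00d9701b7095b0b7501b207c8024f069800f90d1a02dc068d03160f4206150e6209bb043f039605b4011202bd0ea1006b09b507200c0d033c09180d2b086e0c5802f80ddf02ae0eb806a3094203d105820f2d0a200454083309c10207019a0a2b0e69042705fa0e640185056a09ce0eca0074032e055a0c350fc0061103770d4f02720aae011b000407410d7b0c960464014c010f066e0195055b050f0ae9084e0ad605e00128080a02460b7a05bb05a80a9e060c0a5904890b6a01a90cdb0c3e03de0d1e004a0ad80ac6065b09db0c560cbc074c05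1b09710ce80c0b098b0eba0d03016a03240cdd0b890168046604820d1b019302a303a70ecf0bdc000900510618025005660e4b0bc60f8a02df05f902920829020606e209cc00dd0f380dc707f700b70a9109d106160d4708b9042303da096508fc01e20b170d52053109ad0a87003d057006040e170ab8017a010a016b01430b2409df03150d4901e90792002a0434030a0d51046a00c203e90c5f0c77024c04ca083005d70bfe0360042b04620f8c054c0ba1022b0d0e07ec00050e3e060306ef04330d10068f04be08ec079802340b9f01330803074b054e0d7601290ecc0e2d079906a80e090d8b0c3d00d800f80d37035207df096a0e5b00a50217036205490b530cb2083701660c8b005e0e530d5608a909c60be40a3a0a790a010b070fb700a40a71097f0e1f02cc069d05d1087203ba07050dd604cb0bf705be0bd20338073803fc010e096f0dc909510c340b7d0fa308d20c440eae0732085c016008ae0ddc0d3509960b0f00690302085901d202b40842095704a10db20bd10d5d06680db70b9b00060da40b30092a069b0fa40c330171013b0caf0a6a00400317077402840f920a6206d20af80856079c08150876036402b10b6c01ca030002f00dfc01c80f9a0fd70987030d033106e80f85035901910a320b560bd00e58084a08ea0bf10569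023e01360c110db603f90e55011f0c3702750c1e07be0268049d0e5203a50c0908bb063800300d8f049f020f0c3f000102e90fc8025f068101530fd50c520cbd06f30a1b0bdf0f8f00950c820f0d032c0c9d00a807b70a6806d009310f4102bf075e094c0f830d1c0ac20b2806070a5e007e0e570c6f047e0bd5009f083206a90b58054b0a3609ff033b0921059e0f020ba603320a4a01980aa00f76010605ff015908ca0acf081b07fe06400ea205b60db80ed509720c620ca60eda028b0fa200b0068c0f2a065e02e4071c07f20afd0ad4064201ea0ebc068401bb01150aaa09b204150f190edb0e800e0a00ff061e0c190d6906cb09fe006f05b5070e07b20fd4075d0dec06d90d6f0aac075c070b09ba06dd0dff0d870cbe0ba9033d0af60e3707d50d900787095d0eaa0a4004300e4206c40571054f079b0ce500270c8605850555001a08bf0b6606bf0da5033407de07cb02dd006409d7049e01b0005408ad0c3a0ee70fbc0f2c08c60ea404a007ff030302f207c905910a5b0a670507056b0ba40529026c0be809f70b78097d00500f53096303f40cb104b507aa07680de70b4609600df40b4905b005aa0c500cf50b6d0f570f70083f076508db060e0cb4053304bb003108c10769031008080c1d06700a380eb10eb50faf09080c9c03630bc800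98051705c80a040a3e045002cd00ac0ded083a04b40d8200b906c103830e130fa903e40c5c0d4a0fcb03f20f250c710e98025402020bd606270ee6028706d8073c0b1602cb0cb601bd0b14052707e905e604800175020807020141083803eb0a5f06870087004800b304d20c2e02450b1e0f400bec0e070cee01b604180c420c79013a05bd0edf0468053f03c3076d0dee058d098103d706010562005501ce00c60c30083d00dc075500850ef005340a8b013703a40a9704da0f20081009950e75043c0f2e084507ed0da0090d00e1005906600f160dc30e7f038603f501e004b109fa0bc30a9b008f0c9e018d04cd027002b7092f0ae10763015b04940138031e0d5f05e50717078605a508eb02010d4c0123021f0e8f0b080bd70ac505db06d10f710c9f04d505cd0e500cf607db03cf0e2f08040ab903d30e6a022105c900cd09b00f7b0700086a0a150e910c29025c087909d40f1303a60d450d50030b0c5b03040a5a09f3097005440a840d18045f008b038508770f3906900ec8001d080b07ee02d8095000ae0e66069503ce0de801210e600b470ec0054a003505120c76019407cf070f01c704fd05f8093d001f04c90b320bd90d260b700ccf0a390be103ee0d2c01e608e30b1f02d701b30c1f081809dc08dd00e0000a0b8c07a30fbf0e5f085e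06cd0cdf0573071a0d9303df0b370b0a08130bc405f40105020a03ea0e02042209a10db5026707a5064b01f406800c0e0775072a09ea07d602230e9204e80d3402eb01b1011c00cf0de90cec07f60b8a00de0dd2048502380d460809083101bf08660ec70cf00393007f0335053a0e9f0a340ee30b860c9802940d7a0c2c0a7008990fcc0a2d06350eb30bf5049002350e63051a03420653068201970c4e029f09fd0beb0e7106a70c9b0373096205c205fc04f901480afe040606240d0109370e2e0b8b0a220b250d8408a508f805e3005a05a1082e089d03b20f4901e701390fb60ac70d2704c101690a92038e0f52007302f10a2a09d20f7c0655028208d1084705630df80c6a0ba3064308d906be048e023c037e0ab205a00f9902fb085f0f5d0de402ee0c1206ca03820e8608a30a9902b5036b08860d4e0910076c0d0f0a1e06770dbb0259068601d9046d056d05de0d960b2a02bc01a107450a290ee0022008980b1a0900035c0b260cab00bb0ee201eb01650a74077e0df3050e0cfa022804700f68031805210083030509b605f20acc08a80deb081f0e7900a702ba06aa0cc50d4d0dbc01570e7e0d3c0b1c0d5306c60ca9094a08b607e105cb0d160e4e0215069108cf0579000b070c04a30a7a087f01160dd80992031b0c4d00be098d077a07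560d770dbf0dd50f8209a905d20abf0203039d07c503dc0f5b0a570ee10e6504d703270728026f041a07b1047f0b48084401d00a750946096804bc02a10b7c0612055d04ff0de20211091a01f603b508640568046c047409a50c7f0c27074604f10d17067b0b2f0a4f031909cf039900880f15074707af06d4037d0c3801720f950192052805ac0e4f00790cbb095e04480248039805c4037809cb04ec00b40c7d04b805b10d6509da06a10eac09480ed30e9c043e08e500f3034c02d50df207bb0729017b0fca0ab003570d9c056008f70f56039e013d08490b0b079f0f69040104c80a3b087e08a1037a07760590090609c505b205930770087c0f330018036e00430d3904d60bf60eeb09120bfb008e062e0e4907300f0b093209d60efb00ce01810b4b04de0271034501f30e06080607ae06740d7300a00b3607400dcd0eb90f0e0bb6028806bb0f87014d08e20cd205df03f80d7208e80e1003070ee50dcb0b040a17095303c70b6106300c4508e008c907620e6b0bae096b0abe019d086f08d40f9702f60fd00753076706ae04e905410b6b04570f040bf8092200820265017c0c490f1100390ccd0df50ead0d59098a09c702da0dc50dfb0f100af009430cc4027c08b801da0a3f0ad10d7e0fc30b5f033602850224044701a809af0ed90f860852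0d2202760bea03bf045b0e5c05740af209f20f170f230f6e0bc20fbd01070f28085b0c7b0e1104b607ac023103690d7c07ca0be70656057d00fc027f063304bf02e605d30b8504ce0a240d0009930ac9066d07130bfc091b03b605b701fd08650e2905f70dd40f600b230bda0fdb0aaf06b90fda089205fd021304ed063c04a500460f24073d03ac0262024b01a70b96079503e60f8900250f3b07dd0cc00b1d08be039a06cf044b0b790cde0bcd03bb0822069706b804d3023b01a601dd0fce06170a8e051608480e040e96007c00df0bc707040de305d50a8c01b402f5023609de04eb0bf00e480f1e0d230d64013f05250b760c3c0e0c09a20ac00187019b088a0a4309e4081d0ac80130040a0cc3062d090a091607b90b120c5d0389098503be0595088e055e0365028c0bf402100e03075403c90d2a08e10f2106b30067071902a50ed00f8b02be043905c5007a0e7a0e820c160f6f076107e70a1301c20b7f04410b500974026d012c0eb009a80d8d0bba008a097607b001d10b81086705090f9f0665047c001203fa0b430b400ebf002b0820080f0d4b00f50c590ad00c180e68035d0df907e50a3c0d9a0f780d12021601ee00cb0dd90cd504040a270f3105ad0bf905770e2509cd07ef0e050e4c0266048a0897061d0d6d0ae5002301b503d40b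64005f0e0103f705750a65079e0d33088108340a6002510a730bcf0127093c029d0e6c0f370a11006c035e0f9b07e809ec009107ab06a50311016205e203950d2109aa0c1b0e33032f08800241004e04b702a904ef08f6020d0fd307d10baa0d620ce30c0f02f4038a06db0a510d9f0d7d0d540b52055900eb0fb40ce90c2807930ec200b20b8200930a45027a031c04df0736089e0a0e033900e606eb0f9c0b4c00fd0e8d01640e9d0ad70fa509170fae0f7d0a140d6c072c057e0c6b0ac10013040e0109071b021c063401170de10daf0cda07180c9703010cef08a20f58068a01510e0d0ed806e9042e0cbf02b804020fcd017f07c3078c0a300b2b0ced05f50d660ce101c600c106f5009a07c2023207c10780018309350f980a78071e063f04260b050d19032b0df10e410dcf042507570fb009f90ce700c4019f09a406c202f309ee05230f01043b05ec08730fc100020e1d03db0ccc0744076f044005f004a70cb9037004e00070002c0faa05cf0a4b0c8004fe06bd09ca03140c2607a90771065708d50af108070e240de60ef10fd10c9905ef09a0058f038b03d50afa0c8c0e470bbb0f0703b40f750bb20ae807e30f4d030e074300d003120bdb0938022f0e340a490c2501a00e7c051101c00c850cf3035b0d06021b0bfa0080049c0e3f0afc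061c0cf4077b054801cf041e075808ed09990ab3055c0ecd067505a60fc50a180aa3046f092d04110934093609e90dcc04970ce609470bbf054306450eec03e1091c06bc0b68084007d20ef506b401030e2c044603f004c00501048c08d70d1d0812086d0a9a041d0e180cf803ec0c48012a0791029605260479015e088903660def0dc60520078e0d0708160af90a640dc10cc80a1c09e7099800e20b0d0696053b0d04072f0efe0d4402f90a8a0ca006f604fa02bb0229008c099707f90da60c010a1d021805960017078908830a7f0e4a066c06f00b1304450adf01f2039f05970158036f01840eee03b10ca107f50aab016d02ca0f30060508880cac0b190475014702e80a1f022a0ca30c5408f908530e1c0a2306df050303a80f2b0e6d04dc050b0fa60540094104f50b0009bd05bf0d80071409230c95079000d70c8704af097a0c0200bc0a370bb00b69025b0975095a095c0d0d04dd09c40cd7024905d90cd1015d03a2053503e803d80c9406da0f9108fb06a40f050c4603610dc40f9e049a058103fb0ca20ad30036016106af0ca40dae04630e95031f071205500b5a0c140e5a05ee0bf209040ade08aa04320fb800a20667012b03b009e5097b058c0eb7095801ef0e46050d01f108e60fd907fa0cd90b350d02090208de0ae7080c09f40a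ad0a7701c308570d3e08b3030605000061057f0a6f003308b1006e0c89003708250d9e0e59071f07c607d405a7029102de014a00c30d3100c500ad06220e3c08e90a21092b05ab0e5e0f1400ed090707590a8807f304280c2f0672011901a402430b9e0f470554050809eb0298034e024d0f440cfe0887041c048f0a7d0a4204db0af70b7406ac03330dd30c670c1708b005d60a0c059409770bca04fc0da80a35051c00da027d03ae0a4703410f1c052b08d303c00c1509820b030aed03aa084b05370e770b940b5e0d92084c06540e360fa00f510af505530da90b0c00f00f5c0f7f01e80aa40961066a0c320b5b08ab0a8f0f8104e1012f0c1007a60d4005150f550ae409450fc704b90a25084602900565047603900858001b010b072e0d480144013100a30d2e019c0a6d0b91058b0452028008d600580ab10ea50337098909ab09b700380aca0915015f088b0e1500a6034d06e60781048802ea03b304b00b3f0caa0c240a0809780c7c000c0ab5083b0b9506a201db00cc018800a104f80e0000840c75032208390a5d08f301240b09032a059d0380048107a40c040b6e091e08ef09c807fc026903200980025a0d6e0e8103d904440277000d0c7205e102c70b2c0f620bce00c0001e06d5074d04fb0b380f8d098f00080fac0e8b003c0d380cae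0bde002807bc02c80d1f0df7070a089301500cd30ddb0323082c0f930d2f04a802810d0b037c0d95047203d203210c1a0edd04a40a3307010536078d0a9802260c0308ee0ef70e8508d80e3b06ba0d9b03510a3d08900aa605f60c00067303c209c90703001501860b2204f406ee00e50a5009ae05f10d3f0658074e0abc0e1204990542041408000722047b031d0e3802c10b330fa10dc00850047d0bbd03e005470c4304e403a1073308d00bcb01c903cb09e207230c910bd3041005100bfd04e608ff0bbc0b3903cd00ec0db904ae0aa7017e009e03c506dc0b98033a063e026e0eab0cc100520c8f073402ff010201bc02ec0d5e074a07060d08025e02ce055604d10b110c4f0a05052e073f062301c5077c0f4b086109f501800367099d06c308c5061b076607cc07b60e2104980f5a018905a40be60416031a064400260b1804c3080209d80d240bac05e8091400af051f011300fe09540d4308950d15092c0a090f1f0ef60ddd05c7035802090fb10d200959078403a00d78045903e306e00c69003a01ec0773064603f6081a00d5001c0c92064102d2012d06850e760dea077f0d140bb105570905096c0f6c080506630a61051d0ed70eb60a0709f60381069906370199016300ca0fc60c510118001405830adc0664069a075f044205a9093f0b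600bc10896050a0d0a083c04860e9b0d610a8d0484073b02440b34039b01b908230d130f270e56057c05d40be30f3d04f00ede0ee40ed605fe09b10d98046b03ad042c0d2d047a0e32055209300b8e0f740f1d07250631057608c20f0f04730a6b06b1088508910a0b0d050c390c4c01fc00d303880e8e08840e4009910b800f340d8500bf09660d6004f307070c5301e10460014b0f94041f0b6504e30aa5078f08630b59034f04130cc601f5021406510ec605d800db03a902600097038d062b079a07d907fb059a024e011a00fb02e10b27045c0be5064f02d103c40aff027e0ea9087d00c703e505b30ce2050605870eb402ed063d0e700eaf02d304510ca5095f023003bc074804ea0c8d0d630b73004408f4034b075a066f0421065a084d0f5902c50346044e0f4e0ee90c6301fb0e140bab06de0666083601820c0607ba05c102630c7e003f01d306f80efd0f50058906ad0d250ece0c8102860bb80dda038f0f4f0524066900920edc003408c4057b00240be209250bb3094003ff00ea0b10006008750126016702b20c2d060b06c5052f0f640c8a01a309030fb20b3c05dc08510a560dd005e40374043101490bff0cba02c4073e0bed01d40fb50e7d04a60cfc023a05d0046e004f0a850c220b3a06f40ac409010be0088f000f08c000100d8e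087802a807e405390a2f04710ea0057800770ef90b3d04e70a030e1e00a901ae09e30c84067901d60fbb09a60438029c0b8d06e306e70eb205f305c0012508820066024a08710c740e1900030b4a0e200b880a9f0e880491071d05a20dbd09f10aeb02580e930a1a0af40e72099c0c73002e0d7409670f90011404ac005d01540461033e0349042d071609d9090e004c0b0e082708ce0979018f09880c0505af0eef032808fd0c47065c01f0087a0f9d02c2035a069f006205860efc0f4801a20bd40dac0d420fc9046907d70a2608210fab06fc0826050206cc079407b40325093e0711027402a6035607e20cea046706390aea050c002907d3083e0e970fa80e4504c20ae60b3e089b025709860f4c016c020e021a01d705920d5a03c1028f063a098c0a660cca007803720b9001100c3106d30545072704770a4101ab0926085a02790d880e3500f40e94099b073a0a900c400cd80df00f960ba500ba0cc204650b83061307350b15060806f900e7052c042a0c6e09a700bd004b009001fe02400913098e0242053e013504f20f630264079708a60f0809e80c2b04080ce40d700a4c063b00940b9906d702ad03c800630b630df606520ebd0f8e0d8604950f5f0c130e730e30007d004506f20ef402e303d60a950b2d092409440152052a0d6b01ad06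ed0379081906500a12003e094b07f808e401740f3e0daa09ef099a006802040db10519044f01b805300c9a04190b7e04cf0c2306fd02950ebe0d710e7b06620aba0e6e0dfa029b025307a105ce0d1101d5042409330a7e0436040c0049058e0ae0090c08690a000b410e0e0505076e0d8a04c40c200c0808cb0dca00e407790e3900f70e5d094f0a8306760ac30dd70cc9069c02730bc50aa107c70dfe07da026b06fb01e309d50bc00f7e099f07bd080d0e3d0cdc0b8406e50a540b570a0a0ef3086c0dab0d320a310330062a022207dc0bb502a0014f07500e230801004109e0045804070cff0b6f0c6c0f060340048b06830f7205c60c7a0a7b0cfd07a00648039c0a820b710e1a03b90567011e024707960cf707f106100293032605140ed1053804490ab6028d0d580f3c08b2081e02fe05fb07bf01ba02e506ab0c0c0572034409190da109b304290a020acd0f730788014e0ad90af3050402d002b90ce00fcf01450c9005ed02830b45049208b50f0a052d04830b310b97010100320b770a2c0710030c0a520b720dbe0d5c0adb0cd40f650c680177077708fe0456027b06d60cb50ca70e0b008608f10fd202e2033f0be9064c04d40a0d0f090f1b02d40c4a0a2800f60d090e9a03910ace0785022d00070fd603ca09a3068e06b600d9066b0355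0fc40efa02fa0cfb0fc20d5508a4018e0c930fba096e05220f43064e0f80099400470ba80289096d0bad02f70817062f04e508df09fb0abd02db01be0c2104ab0a76059b0e16068909b402ef0c88058a0b2907a7002d02b602b300ab00d40e2b0d790e84091106090a160252078b08dc0e8a078a02a70708023f0db402c601aa0f180cb0061f09be0bcc073109c307c00dc8079d06590ec903500aec0bb70e1b0e2707e000e80dfd0811022c047808af0f2906260cd609ac08c70e6f0955093a062c09b80b01008d0f0302780a53042f02e707b3005701c1040f08550b5c029a0b200e9e076a023d09f00db008280afb09bf018c0602084f09e10f79067103b709f80588077d0ba70da2017d007103d004c5060d089a0cf2086b0e89057a08a004200e2604960042094e059901d80f6b0a94010806f7004d082d0694045304ee01f70261030f00b8063200b10dad0ca804e20ccb08740a800b9d0a55074901fa0c6d04350e3a0256089c00560739067c0d570f3505e702c904ba05610532017608a7041b0984099001460a4e0e74088c0c07045a08f0075208cc03cc095203f304930add0ec506ce0a96055f0ab40a5c018b]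

private theorem TL_eq : NL.map tabN = TL := by decide +kernel

private noncomputable def evalT (w : List ℕ) (i : ℕ) : ℕ :=
  List.rec (motive := fun _ => ℕ) i
    (fun a _ ih => forceN ih fun c => Nat.mod (Nat.shiftRight (nthT TL a) (Nat.mul 16 c)) 4096) w

private theorem evalT_eq {i : ℕ} (hi : i < 4096) : ∀ w, evalT w i = evalK w i ∧ evalK w i < 4096
  | [] => ⟨rfl, hi⟩
  | a :: w => by
    obtain ⟨h1, h2⟩ := evalT_eq hi w
    have h3 : evalK (a :: w) i = app (nthL NL a) (evalK w i) := (forceN_eq _ _).trans (appK_eq _ _)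
    have h4 : evalT (a :: w) i = Nat.mod (Nat.shiftRight (nthT TL a) (Nat.mul 16 (evalT w i))) 4096 :=
      forceN_eq (evalT w i) fun c => Nat.mod (Nat.shiftRight (nthT TL a) (Nat.mul 16 c)) 4096
    refine ⟨?_, h3 ▸ (in_nthL NL in_NL a).app_lt h2⟩
    rw [h4, h3, h1, ← TL_eq, nthT_map, tabN_eq (in_nthL NL in_NL a) h2]

private noncomputable def evalX (w : List ℕ) (i : ℕ) : ℕ :=
  Bool.rec (motive := fun _ => ℕ) (evalT w i) (evalK w i) (Nat.ble 4096 i)

private theorem evalX_eq : evalK = evalX := funext fun w => funext fun i => by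
  show _ = Bool.rec (motive := fun _ => ℕ) (evalT w i) (evalK w i) (Nat.ble 4096 i)
  cases h : Nat.ble 4096 i
  · exact (evalT_eq (Nat.lt_of_not_le fun e => Bool.false_ne_true (h.symm.trans (Nat.ble_eq_true_of_le e))) w).1.symm
  · rfl

private noncomputable def eqF (u v : List ℕ) : Bool :=
  allL (fun b => Nat.beq (evalX u b) (evalX v b)) [0, 29, 580, 577]

private theorem eqF_eq : (fun u v : List ℕ => allL (fun b => Nat.beq (evalK u b) (evalK v b)) [0, 29, 580, 577]) = eqF :=
  congrArg (fun (e : List ℕ → ℕ → ℕ) (u v : List ℕ) => allL (fun b => Nat.beq (e u b) (e v b)) [0, 29, 580, 577]) evalX_eq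

private theorem eqv_eq : Cfsg.Agent.OddHalf.D9.Ru.XChk.eqv = eqF := eqF_eq

private noncomputable def eqwF (u v : List ℕ) : Bool :=
  eqF (u.flatMap Cfsg.Agent.OddHalf.D9.Ru.XChk.ex) (v.flatMap Cfsg.Agent.OddHalf.D9.Ru.XChk.ex)

private theorem eqw_eq : Cfsg.Agent.OddHalf.D9.Ru.XChk.eqw = eqwF :=
  congrArg (fun (e : List ℕ → List ℕ → Bool) (u v : List ℕ) =>
    e (u.flatMap Cfsg.Agent.OddHalf.D9.Ru.XChk.ex) (v.flatMap Cfsg.Agent.OddHalf.D9.Ru.XChk.ex)) eqF_eq

end fast

end Cfsg.Agent.RuFast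
end


-- part: KFacts/Ru/PackA
section
/-!
# The group `B = C_X(E)` in the centraliser of a 2-central involution of the Rudvalis group

`X = RuOrder.H`, `z = S * S`, `P1 = C_X(z)^∞`, `R = O₂(P1)`, `E = [R, R]` (`OddHalf/D9/Ru/XR`). Here: `B = C_X(E) ≤ R` of
order `2^7`, `R = ⟨G 0, G 2, G 3, G 4⟩ B`, the pairing `R / B × E / z → {1, z}`.
-/

set_option autoImplicit false
set_option maxRecDepth 100000
set_option exponentiation.threshold 5000

namespace Cfsg.Agent.KFacts.Ru.PackA

open Subgroup Cfsg.Agent.Lib Cfsg.Agent.SporadicB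
open Cfsg.Agent.RuD.Letters Cfsg.Agent.SporRec.TCUpperCert Cfsg.Agent.SporRec.R3.Kernel
open Cfsg.Agent.OddHalf.D9.Ru.XDef Cfsg.Agent.OddHalf.D9.Ru.XData Cfsg.Agent.OddHalf.D9.Ru.XChk
open Cfsg.Agent.OddHalf.D9.Ru.XR
open scoped commutatorElement

/-! ### generic lemmas -/

section generic

variable {X : Type*} [Group X]

/-- `M ∪ g M` -/
def adj (N M R : Subgroup X) (g : X) (hNM : N ≤ M) (hMR : M ≤ R) (hg : g ∈ R)
    (hsq : ∀ x ∈ R, x * x ∈ N) (hcm : ∀ x ∈ R, ∀ y ∈ R, ⁅x, y⁆ ∈ N) : Subgroup X where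
  carrier := {x | x ∈ M ∨ g⁻¹ * x ∈ M}
  one_mem' := Or.inl (one_mem _)
  mul_mem' := by
    have key : ∀ m ∈ M, g⁻¹ * m * g ∈ M := by
      intro m hm
      have h := mul_mem (hNM (hcm g⁻¹ (inv_mem hg) m (hMR hm))) hm
      rw [commutatorElement_def] at h
      have e : g⁻¹ * m * g = g⁻¹ * m * (g⁻¹)⁻¹ * m⁻¹ * m := by group
      rwa [e]
    rintro x y (hx | hx) (hy | hy)
    · exact Or.inl (mul_mem hx hy)
    · right
      have e : g⁻¹ * (x * y) = g⁻¹ * x * g * (g⁻¹ * y) := by group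
      change g⁻¹ * (x * y) ∈ M
      rw [e]
      exact mul_mem (key x hx) hy
    · right
      change g⁻¹ * (x * y) ∈ M
      rw [← mul_assoc]
      exact mul_mem hx hy
    · left
      have e : x * y = (g * g) * (g⁻¹ * (g⁻¹ * x) * g) * (g⁻¹ * y) := by group
      change x * y ∈ M
      rw [e]
      exact mul_mem (mul_mem (hNM (hsq g hg)) (key _ hx)) hy
  inv_mem' := by
    have key : ∀ m ∈ M, g⁻¹ * m * g ∈ M := by
      intro m hm
      have h := mul_mem (hNM (hcm g⁻¹ (inv_mem hg) m (hMR hm))) hm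
      rw [commutatorElement_def] at h
      have e : g⁻¹ * m * g = g⁻¹ * m * (g⁻¹)⁻¹ * m⁻¹ * m := by group
      rwa [e]
    rintro x (hx | hx)
    · exact Or.inl (inv_mem hx)
    · right
      have e : g⁻¹ * x⁻¹ = (g⁻¹ * (g⁻¹ * x) * g)⁻¹ * (g * g)⁻¹ := by group
      change g⁻¹ * x⁻¹ ∈ M
      rw [e]
      exact mul_mem (inv_mem (key _ hx)) (inv_mem (hNM (hsq g hg)))

theorem adj_le {N M R : Subgroup X} {g : X} (hNM : N ≤ M) (hMR : M ≤ R) (hg : g ∈ R)
    (hsq : ∀ x ∈ R, x * x ∈ N) (hcm : ∀ x ∈ R, ∀ y ∈ R, ⁅x, y⁆ ∈ N) :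
    adj N M R g hNM hMR hg hsq hcm ≤ R := by
  rintro x (hx | hx)
  · exact hMR hx
  · have := mul_mem hg (hMR hx)
    rwa [mul_inv_cancel_left] at this

theorem le_adj {N M R : Subgroup X} {g : X} (hNM : N ≤ M) (hMR : M ≤ R) (hg : g ∈ R)
    (hsq : ∀ x ∈ R, x * x ∈ N) (hcm : ∀ x ∈ R, ∀ y ∈ R, ⁅x, y⁆ ∈ N) :
    M ≤ adj N M R g hNM hMR hg hsq hcm := fun _ hx => Or.inl hx

/-- normal form for `R = ⟨r₁, r₂, r₃, r₄⟩ B` -/
theorem nf4 {N B R : Subgroup X} (hNB : N ≤ B) (hBR : B ≤ R) {r1 r2 r3 r4 : X} (h1 : r1 ∈ R) (h2 : r2 ∈ R)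
    (h3 : r3 ∈ R) (h4 : r4 ∈ R) (hsq : ∀ x ∈ R, x * x ∈ N) (hcm : ∀ x ∈ R, ∀ y ∈ R, ⁅x, y⁆ ∈ N)
    (hR : R ≤ _root_.Subgroup.closure ({r1, r2, r3, r4} ∪ (B : Set X))) : ∀ x ∈ R, ∃ c1 c2 c3 c4 : Bool, ∃ b ∈ B,
      x = (bif c1 then r1 else 1) * (bif c2 then r2 else 1) * (bif c3 then r3 else 1) * (bif c4 then r4 else 1) * b := by
  intro x hx
  let M1 := adj N B R r4 hNB hBR h4 hsq hcm
  have l1 : B ≤ M1 := le_adj _ _ _ _ _
  have k1 : M1 ≤ R := adj_le _ _ _ _ _
  let M2 := adj N M1 R r3 (hNB.trans l1) k1 h3 hsq hcm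
  have l2 : M1 ≤ M2 := le_adj _ _ _ _ _
  have k2 : M2 ≤ R := adj_le _ _ _ _ _
  let M3 := adj N M2 R r2 ((hNB.trans l1).trans l2) k2 h2 hsq hcm
  have l3 : M2 ≤ M3 := le_adj _ _ _ _ _
  have k3 : M3 ≤ R := adj_le _ _ _ _ _
  let M4 := adj N M3 R r1 (((hNB.trans l1).trans l2).trans l3) k3 h1 hsq hcm
  have l4 : M3 ≤ M4 := le_adj _ _ _ _ _
  have g4 : ∀ {M : Subgroup X} (g : X), g⁻¹ * g ∈ M := fun {M} g => by rw [inv_mul_cancel]; exact one_mem _
  have hx4 : x ∈ M4 := by
    refine (closure_le _).2 ?_ (hR hx)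
    rintro y (hy | hy)
    · simp only [Set.mem_insert_iff, Set.mem_singleton_iff] at hy
      rcases hy with rfl | rfl | rfl | rfl
      · exact Or.inr (g4 _)
      · exact l4 (Or.inr (g4 _))
      · exact l4 (l3 (Or.inr (g4 _)))
      · exact l4 (l3 (l2 (Or.inr (g4 _))))
    · exact l4 (l3 (l2 (l1 hy)))
  have s4 : ∃ c1 : Bool, ∃ y ∈ M3, x = (bif c1 then r1 else 1) * y := by
    rcases hx4 with h | h
    · exact ⟨false, x, h, (one_mul _).symm⟩
    · exact ⟨true, _, h, (mul_inv_cancel_left _ _).symm⟩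
  obtain ⟨c1, y1, hy1, e1⟩ := s4
  have s3 : ∃ c2 : Bool, ∃ y ∈ M2, y1 = (bif c2 then r2 else 1) * y := by
    rcases hy1 with h | h
    · exact ⟨false, y1, h, (one_mul _).symm⟩
    · exact ⟨true, _, h, (mul_inv_cancel_left _ _).symm⟩
  obtain ⟨c2, y2, hy2, e2⟩ := s3
  have s2 : ∃ c3 : Bool, ∃ y ∈ M1, y2 = (bif c3 then r3 else 1) * y := by
    rcases hy2 with h | h
    · exact ⟨false, y2, h, (one_mul _).symm⟩
    · exact ⟨true, _, h, (mul_inv_cancel_left _ _).symm⟩
  obtain ⟨c3, y3, hy3, e3⟩ := s2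
  have s1 : ∃ c4 : Bool, ∃ y ∈ B, y3 = (bif c4 then r4 else 1) * y := by
    rcases hy3 with h | h
    · exact ⟨false, y3, h, (one_mul _).symm⟩
    · exact ⟨true, _, h, (mul_inv_cancel_left _ _).symm⟩
  obtain ⟨c4, y4, hy4, e4⟩ := s1
  exact ⟨c1, c2, c3, c4, y4, hy4, by rw [e1, e2, e3, e4]; simp only [mul_assoc]⟩

end generic

/-! ### kernel tests for inequality -/

theorem eqv_complete {u v : List ℕ} (h : (wprod ml u : RuOrder.H) = wprod ml v) : eqv u v = true := by
  rw [eqv, allL_iff]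
  intro b hb
  have key : ∀ b : Fin 4060, evalK u b = evalK v b := by
    intro b
    rw [← evalK_eq, ← evalK_eq, h]
  simp only [List.mem_cons, List.not_mem_nil, or_false] at hb
  rcases hb with rfl | rfl | rfl | rfl
  · rw [Nat.beq_eq]; exact key ⟨0, by norm_num⟩
  · rw [Nat.beq_eq]; exact key ⟨29, by norm_num⟩
  · rw [Nat.beq_eq]; exact key ⟨580, by norm_num⟩
  · rw [Nat.beq_eq]; exact key ⟨577, by norm_num⟩

theorem ne_of_eqv {u v : List ℕ} (h : eqv u v = false) : (wprod ml u : RuOrder.H) ≠ wprod ml v := fun e => by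
  rw [eqv_complete e] at h
  exact absurd h (by simp)

theorem ne_of_eqw {u v : List ℕ} (h : eqw u v = false) : V u ≠ V v := ne_of_eqv h

/-! ### the group `B` -/

/-- generators of `B` modulo `E` -/
noncomputable def B : Subgroup RuOrder.H := _root_.Subgroup.closure (gE ∪ {G [0, 1, 3], G [1, 4, 5]})

theorem E_le_B : E ≤ B := by
  rw [E, closure_le]
  intro x hx
  exact _root_.Subgroup.subset_closure (Or.inl hx)

theorem j1_mem : G [0, 1, 3] ∈ B := _root_.Subgroup.subset_closure (by simp)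
theorem j2_mem : G [1, 4, 5] ∈ B := _root_.Subgroup.subset_closure (by simp)

theorem B_le_R : B ≤ R := by
  rw [B, closure_le]
  rintro x (hx | hx)
  · exact E_le_R (_root_.Subgroup.subset_closure hx)
  · simp only [Set.mem_insert_iff, Set.mem_singleton_iff] at hx
    rcases hx with rfl | rfl
    · exact G_mem_R (by decide)
    · exact G_mem_R (by decide)

/-- commuting with `E` -/
theorem chk_BE : ∀ j < 5, eqw (gg ([0, 1, 3] ++ [j + 6])) (gg ([j + 6] ++ [0, 1, 3])) = true ∧
    eqw (gg ([1, 4, 5] ++ [j + 6])) (gg ([j + 6] ++ [1, 4, 5])) = true := by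
  rw [RuFast.eqw_eq]
  decide +kernel

theorem B_comm : ∀ b ∈ B, ∀ e ∈ E, b * e = e * b := by
  have key : B ≤ centralizer (gE : Set RuOrder.H) := by
    rw [B, closure_le]
    rintro x (hx | hx)
    · rw [SetLike.mem_coe, mem_centralizer_iff]
      rintro _ ⟨j, hj, rfl⟩
      exact E_comm _ (subset_closure ⟨j, hj, rfl⟩) _ (_root_.Subgroup.subset_closure hx)
    · rw [SetLike.mem_coe, mem_centralizer_iff]
      rintro _ ⟨j, hj, rfl⟩
      have h := chk_BE j hj
      simp only [Set.mem_insert_iff, Set.mem_singleton_iff] at hx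
      rcases hx with rfl | rfl
      · have h1 := eqw_sound h.1
        change G ([0, 1, 3] ++ [j + 6]) = G ([j + 6] ++ [0, 1, 3]) at h1
        rw [G_append, G_append] at h1
        exact h1.symm
      · have h1 := eqw_sound h.2
        change G ([1, 4, 5] ++ [j + 6]) = G ([j + 6] ++ [1, 4, 5]) at h1
        rw [G_append, G_append] at h1
        exact h1.symm
  intro b hb e he
  have h2 : E ≤ centralizer {b} := by
    rw [E, closure_le]
    intro x hx
    rw [SetLike.mem_coe, mem_centralizer_singleton_iff]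
    exact (mem_centralizer_iff.1 (key hb) x hx)
  exact (mem_centralizer_singleton_iff.1 (h2 he)).symm

/-- `G 0, G 2, G 3, G 4` generate `R` modulo `B` -/
theorem R_le (Q : Subgroup RuOrder.H) (hB : B ≤ Q) (m0 : G [0] ∈ Q) (m2 : G [2] ∈ Q) (m3 : G [3] ∈ Q)
    (m4 : G [4] ∈ Q) : R ≤ Q := by
  have mE : ∀ j < 5, G [j + 6] ∈ Q := fun j hj => hB (E_le_B (subset_closure ⟨j, hj, rfl⟩))
  have m1 : G [1] ∈ Q := by
    have e : G [1] = (G [0])⁻¹ * G [0, 1, 3] * (G [3])⁻¹ := by
      rw [G_cons 0 [1, 3], G_cons 1 [3]]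
      group
    rw [e]
    exact mul_mem (mul_mem (inv_mem m0) (hB j1_mem)) (inv_mem m3)
  rw [R, closure_le]
  rintro x ⟨i, hi, rfl⟩
  rcases lt_or_ge i 6 with h | h
  · interval_cases i
    · exact m0
    · exact m1
    · exact m2
    · exact m3
    · exact m4
    · have e : G [5] = (G [4])⁻¹ * (G [1])⁻¹ * G [1, 4, 5] := by
        rw [G_cons 1 [4, 5], G_cons 4 [5]]
        group
      rw [e]
      exact mul_mem (mul_mem (inv_mem m4) (inv_mem m1)) (hB j2_mem)
  · obtain ⟨j, rfl⟩ : ∃ j, i = j + 6 := ⟨i - 6, by omega⟩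
    exact mE j (by omega)

theorem R_nf : ∀ x ∈ R, ∃ c1 c2 c3 c4 : Bool, ∃ b ∈ B,
    x = (bif c1 then G [0] else 1) * (bif c2 then G [2] else 1) * (bif c3 then G [3] else 1) *
      (bif c4 then G [4] else 1) * b :=
  nf4 E_le_B B_le_R (G_mem_R (l := [0]) (by decide)) (G_mem_R (l := [2]) (by decide))
    (G_mem_R (l := [3]) (by decide)) (G_mem_R (l := [4]) (by decide)) sq_R comm_R
    (R_le _ (fun b hb => _root_.Subgroup.subset_closure (Or.inr hb)) (_root_.Subgroup.subset_closure (Or.inl (by simp)))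
      (_root_.Subgroup.subset_closure (Or.inl (by simp))) (_root_.Subgroup.subset_closure (Or.inl (by simp))) (_root_.Subgroup.subset_closure (Or.inl (by simp))))

/-! ### the elements of `E` as masks -/

/-- the element of `E` with the mask `m` -/
noncomputable def em (m : ℕ) : RuOrder.H := G (msk m)

theorem em_eq_pr (m : ℕ) :
    em m = pr (m.testBit 0) (m.testBit 1) (m.testBit 2) (m.testBit 3) (m.testBit 4) := (pr_eq m).symm

theorem em_mem (m : ℕ) : em m ∈ E := by rw [em_eq_pr]; exact pr_mem _ _ _ _ _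

theorem em_xor (m n : ℕ) : em (m ^^^ n) = em m * em n := by
  rw [em_eq_pr, em_eq_pr m, em_eq_pr n, pr_mul]
  simp only [Nat.testBit_xor]

theorem em_zero : em 0 = 1 := rfl

theorem em_z : em 26 = S * S := z_eq

theorem exists_em : ∀ x ∈ E, ∃ m < 32, x = em m := exists_msk

theorem chk_inj : ∀ m < 32, m = 0 ∨ eqw (gg (msk m)) [] = false := by
  rw [RuFast.eqw_eq]
  decide +kernel

theorem em_ne {m : ℕ} (hm : m < 32) (h : m ≠ 0) : em m ≠ 1 := by
  rcases chk_inj m hm with h1 | h1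
  · exact absurd h1 h
  · intro e
    exact ne_of_eqw h1 e

theorem em_inj {m n : ℕ} (hm : m < 32) (hn : n < 32) (h : em m = em n) : m = n := by
  have h1 : em (m ^^^ n) = 1 := by rw [em_xor, h]; exact E_sq _ (em_mem n)
  by_contra hne
  have hx : m ^^^ n < 32 := Nat.xor_lt_two_pow (n := 5) hm hn
  refine em_ne hx ?_ h1
  intro h2
  exact hne (Nat.xor_eq_zero_iff.1 h2)

/-! ### the action of the letters -/

/-- conjugation of the generators of `E` by the letters `T, s₁, D, Y, s₁⁻¹, D⁻¹` -/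
def tb : List (List ℕ) := [[1, 2, 5, 16, 8], [1, 2, 5, 10, 18], [2, 3, 12, 4, 29], [4, 8, 1, 2, 16],
  [1, 2, 5, 10, 18], [3, 1, 8, 12, 23]]

/-- conjugation by `h` -/
def tbh : List ℕ := [24, 27, 29, 14, 15]

/-- the linear map given by the images of the basis -/
def lin (l : List ℕ) (m : ℕ) : ℕ :=
  (bif m.testBit 0 then l.getD 0 0 else 0) ^^^ ((bif m.testBit 1 then l.getD 1 0 else 0) ^^^
    ((bif m.testBit 2 then l.getD 2 0 else 0) ^^^ ((bif m.testBit 3 then l.getD 3 0 else 0) ^^^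
      (bif m.testBit 4 then l.getD 4 0 else 0))))

theorem em_lin (g : RuOrder.H) (l : List ℕ) (h : ∀ j < 5, g * G [j + 6] * g⁻¹ = em (l.getD j 0)) (m : ℕ) :
    g * em m * g⁻¹ = em (lin l m) := by
  have key : ∀ (b : Bool) {j : ℕ} (_ : j < 5), g * G (bif b then [j + 6] else []) * g⁻¹ =
      em (bif b then l.getD j 0 else 0) := by
    intro b j hj
    cases b
    · rw [cond_false, cond_false, G_nil, em_zero]
      group
    · exact h j hj
  rw [em_eq_pr, lin, em_xor, em_xor, em_xor, em_xor, ← key _ (j := 0) (by norm_num), ← key _ (j := 1) (by norm_num),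
    ← key _ (j := 2) (by norm_num), ← key _ (j := 3) (by norm_num), ← key _ (j := 4) (by norm_num), pr]
  group

theorem chk_tb : ∀ g < 6, ∀ j < 5, eqw (g :: gg [j + 6]) (gg (msk ((tb.getD g []).getD j 0)) ++ [g]) = true := by
  rw [RuFast.eqw_eq]
  decide +kernel

theorem chk_tbh : ∀ j < 5, eqv (Cfsg.Agent.OddHalf.D9.Ru.XCover.hw ++ (gg [j + 6]).flatMap ex)
    ((gg (msk (tbh.getD j 0))).flatMap ex ++ Cfsg.Agent.OddHalf.D9.Ru.XCover.hw) = true := by
  rw [RuFast.eqv_eq]
  decide +kernel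

theorem letter_em {g : ℕ} (hg : g < 6) (m : ℕ) : V [g] * em m * (V [g])⁻¹ = em (lin (tb.getD g []) m) := by
  refine em_lin _ _ (fun j hj => ?_) m
  have h := eqw_sound (chk_tb g hg j hj)
  rw [V_cons, V_append] at h
  rw [mul_inv_eq_iff_eq_mul]
  exact h

theorem h_em (m : ℕ) : Cfsg.Agent.OddHalf.D9.Ru.XCover.h * em m * (Cfsg.Agent.OddHalf.D9.Ru.XCover.h)⁻¹ =
    em (lin tbh m) := by
  refine em_lin _ _ (fun j hj => ?_) m
  have h := eqv_sound (chk_tbh j hj)
  rw [wprod_append, wprod_append] at h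
  rw [mul_inv_eq_iff_eq_mul]
  exact h

/-- the action of a word on masks -/
def acw (w : List ℕ) (m : ℕ) : ℕ := w.foldr (fun g x => lin (tb.getD g []) x) m

theorem word_em {w : List ℕ} (hw : (w.all fun a => Nat.blt a 6) = true) (m : ℕ) :
    V w * em m * (V w)⁻¹ = em (acw w m) := by
  induction w with
  | nil => change 1 * em m * 1⁻¹ = em m; group
  | cons a w ih =>
    rw [List.all_cons, Bool.and_eq_true, Nat.blt_eq] at hw
    have e : V (a :: w) * em m * (V (a :: w))⁻¹ = V [a] * (V w * em m * (V w)⁻¹) * (V [a])⁻¹ := by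
      rw [V_cons]; group
    rw [e, ih hw.2, letter_em hw.1]
    rfl

end Cfsg.Agent.KFacts.Ru.PackA
end

-- part: KFacts/Ru/PackD
section
-- merged: Cfsg.Agent.KFacts.Ru.PackB
section

/-!
# Packet P for the Rudvalis group: `Loc ⊤ (S * S) P1 R B E` on `RuOrder.H`
-/

set_option autoImplicit false
set_option maxRecDepth 100000
set_option exponentiation.threshold 5000

namespace Cfsg.Agent.KFacts.Ru.PackB

open Subgroup Cfsg.Agent.Lib Cfsg.Agent.SporadicB
open Cfsg.Agent.RuD.Letters Cfsg.Agent.SporRec.TCUpperCert Cfsg.Agent.SporRec.R3.Kernel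
open Cfsg.Agent.OddHalf.D9.Ru.XDef Cfsg.Agent.OddHalf.D9.Ru.XData Cfsg.Agent.OddHalf.D9.Ru.XChk
open Cfsg.Agent.OddHalf.D9.Ru.XR Cfsg.Agent.KFacts.Ru.PackA
open scoped commutatorElement

/-! ### commuting up to `z` -/

/-- `z` or `1` -/
noncomputable def zb (b : Bool) : RuOrder.H := bif b then S * S else 1

theorem zb_xor (a b : Bool) : zb (xor a b) = zb a * zb b := by
  cases a <;> cases b
  · exact (mul_one _).symm
  · exact (one_mul _).symm
  · exact (mul_one _).symm
  · exact zz.symm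

theorem zb_comm {x : RuOrder.H} (hx : x ∈ P1) (b : Bool) : x * zb b = zb b * x := by
  cases b
  · exact (mul_one x).trans (one_mul x).symm
  · exact z_comm x hx

/-- `x e = z^b e x` -/
def Tw (x e : RuOrder.H) (b : Bool) : Prop := x * e = zb b * e * x

theorem Tw.mul {x y e : RuOrder.H} {a b : Bool} (hx : x ∈ P1) (h1 : Tw x e a) (h2 : Tw y e b) :
    Tw (x * y) e (xor a b) := by
  unfold Tw at h1 h2 ⊢
  calc x * y * e = x * (zb b * e * y) := by rw [mul_assoc, h2]
    _ = x * zb b * e * y := by group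
    _ = zb b * (x * e) * y := by rw [zb_comm hx]; group
    _ = zb b * zb a * e * (x * y) := by rw [h1]; group
    _ = _ := by rw [zb_xor, zb_comm]; cases b <;> [exact one_mem _; exact mul_mem S_mem S_mem]

theorem Tw.bif {g e : RuOrder.H} {d : Bool} (h : Tw g e d) (c : Bool) : Tw (bif c then g else 1) e (c && d) := by
  cases c
  · unfold Tw
    change 1 * e = 1 * e * 1
    group
  · exact h

theorem Tw.of_comm {g e : RuOrder.H} (h : g * e = e * g) : Tw g e false := by
  unfold Tw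
  rw [h]
  change e * g = 1 * e * g
  rw [one_mul]

theorem z1 : S * S ≠ (1 : RuOrder.H) := by
  rw [← em_z]
  exact em_ne (by norm_num) (by norm_num)

theorem Tw.false_iff {x e : RuOrder.H} {b : Bool} (h : Tw x e b) : b = false ↔ x * e = e * x := by
  unfold Tw at h
  cases b
  · change x * e = 1 * e * x at h
    rw [one_mul] at h
    exact ⟨fun _ => h, fun _ => rfl⟩
  · refine ⟨fun h1 => absurd h1 (by simp), fun h1 => ?_⟩
    exfalso
    change x * e = S * S * e * x at h
    rw [h1, mul_assoc (S * S)] at h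
    exact z1 (mul_eq_right.1 h.symm)

/-- the generators of `R` modulo `B` -/
def rl : List ℕ := [0, 2, 3, 4]

/-- the masks of the dual elements -/
def dl : List ℕ := [8, 3, 4, 1]

theorem chk_dual : ∀ i < 4, ∀ j < 4, eqw (gg ([rl.getD i 0] ++ msk (dl.getD j 0)))
    (gg (zp (bif Nat.beq i j then 1 else 0) ++ (msk (dl.getD j 0) ++ [rl.getD i 0]))) = true := by
  rw [RuFast.eqw_eq]
  decide +kernel

theorem G_zp (b : Bool) : G (zp (bif b then 1 else 0)) = zb b := by
  cases b
  · rfl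
  · exact z_eq

theorem tw_dual {i j : ℕ} (hi : i < 4) (hj : j < 4) : Tw (G [rl.getD i 0]) (PackA.em (dl.getD j 0)) (Nat.beq i j) := by
  have h := eqw_sound (chk_dual i hi j hj)
  change G ([rl.getD i 0] ++ msk (dl.getD j 0)) = G (zp (bif Nat.beq i j then 1 else 0) ++
    (msk (dl.getD j 0) ++ [rl.getD i 0])) at h
  rw [G_append, G_append, G_append, G_zp] at h
  unfold Tw
  rw [mul_assoc]
  exact h

theorem Gr_mem {i : ℕ} (hi : i < 4) : G [rl.getD i 0] ∈ R := by
  interval_cases i <;> exact G_mem_R (by decide)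

/-- the pairing with the dual elements -/
theorem nf_tw {c1 c2 c3 c4 : Bool} {b : RuOrder.H} (hb : b ∈ B) {j : ℕ} (hj : j < 4) :
    Tw ((bif c1 then G [0] else 1) * (bif c2 then G [2] else 1) * (bif c3 then G [3] else 1) *
      (bif c4 then G [4] else 1) * b) (PackA.em (dl.getD j 0)) ([c1, c2, c3, c4].getD j false) := by
  have hP : ∀ (c : Bool) {i : ℕ}, i < 4 → (bif c then G [rl.getD i 0] else 1) ∈ P1 := by
    intro c i hi
    cases c
    · exact one_mem _
    · exact OddHalf.D9.Ru.XR.R_le (Gr_mem hi)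
  have t := fun (c : Bool) {i : ℕ} (hi : i < 4) => (tw_dual hi hj).bif c
  have h0 := hP c1 (i := 0) (by norm_num)
  have h1 := hP c2 (i := 1) (by norm_num)
  have h2 := hP c3 (i := 2) (by norm_num)
  have h3 := hP c4 (i := 3) (by norm_num)
  have hbt : Tw b (PackA.em (dl.getD j 0)) false := Tw.of_comm (B_comm b hb _ (em_mem _))
  have key := Tw.mul (mul_mem (mul_mem (mul_mem h0 h1) h2) h3) (Tw.mul (mul_mem (mul_mem h0 h1) h2)
    (Tw.mul (mul_mem h0 h1) (Tw.mul h0 (t c1 (i := 0) (by norm_num)) (t c2 (i := 1) (by norm_num)))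
      (t c3 (i := 2) (by norm_num))) (t c4 (i := 3) (by norm_num))) hbt
  have e : (xor (xor (xor (xor (c1 && Nat.beq 0 j) (c2 && Nat.beq 1 j)) (c3 && Nat.beq 2 j)) (c4 && Nat.beq 3 j))
      false) = [c1, c2, c3, c4].getD j false := by
    interval_cases j <;> cases c1 <;> cases c2 <;> cases c3 <;> cases c4 <;> rfl
  rw [e] at key
  exact key

/-! ### `B = C(E)` -/

/-- an element of `R` commuting with the dual elements lies in `B` -/
theorem mem_B_of_R {r : RuOrder.H} (hr : r ∈ R) (h : ∀ j < 4, r * PackA.em (dl.getD j 0) = PackA.em (dl.getD j 0) * r) : r ∈ B := by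
  obtain ⟨c1, c2, c3, c4, b, hb, rfl⟩ := R_nf r hr
  have k : ∀ j < 4, [c1, c2, c3, c4].getD j false = false := fun j hj => (nf_tw hb hj).false_iff.2 (h j hj)
  have k1 : c1 = false := k 0 (by norm_num)
  have k2 : c2 = false := k 1 (by norm_num)
  have k3 : c3 = false := k 2 (by norm_num)
  have k4 : c4 = false := k 3 (by norm_num)
  subst k1 k2 k3 k4
  change 1 * 1 * 1 * 1 * b ∈ B
  simpa using hb

theorem R_em {r : RuOrder.H} (hr : r ∈ R) (m : ℕ) : r * PackA.em m * r⁻¹ = PackA.em m ∨ r * PackA.em m * r⁻¹ = PackA.em (26 ^^^ m) := by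
  rcases comm_RE r hr (PackA.em m) (em_mem m) with h | h
  · left
    rw [commutatorElement_def] at h
    exact mul_inv_eq_one.1 h
  · right
    rw [em_xor, em_z, ← h, commutatorElement_def]
    group

theorem A_triv : ∀ j < 60, j = 0 ∨ ∃ i < 5, acw (aw.getD j []) (2 ^ i) ≠ 2 ^ i ∧
    26 ^^^ acw (aw.getD j []) (2 ^ i) ≠ 2 ^ i := by decide +kernel

theorem hA_triv : ∀ j < 60, ∃ i < 5, lin tbh (acw (aw.getD j []) (2 ^ i)) ≠ 2 ^ i ∧
    26 ^^^ lin tbh (acw (aw.getD j []) (2 ^ i)) ≠ 2 ^ i := by decide +kernel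

theorem acw_lt : ∀ j < 60, ∀ i < 5, acw (aw.getD j []) (2 ^ i) < 32 ∧
    lin tbh (acw (aw.getD j []) (2 ^ i)) < 32 := by decide +kernel

theorem aw_lt : ∀ j < 60, ((aw.getD j []).all fun a => Nat.blt a 6) = true := by decide +kernel

theorem em_cases {m n : ℕ} (hm : m < 32) (hn : n < 32) (h1 : m ≠ n) (h2 : 26 ^^^ m ≠ n) {x : RuOrder.H}
    (hx : x = PackA.em m ∨ x = PackA.em (26 ^^^ m)) (h : x = _root_.Cfsg.Agent.KFacts.Ru.PackA.em n) : False := by
  rcases hx with hx | hx
  · exact h1 (em_inj hm hn (hx.symm.trans h))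
  · exact h2 (em_inj (Nat.xor_lt_two_pow (n := 5) (by norm_num) hm) hn (hx.symm.trans h))

theorem cen_E {k : RuOrder.H} (h : ∀ e ∈ E, k * e = e * k) : k ∈ B := by
  have hz : k ∈ centralizer ({S * S} : Set RuOrder.H) := by
    rw [mem_centralizer_singleton_iff, ← em_z]
    exact h _ (em_mem _)
  have hk : ∀ m, k * PackA.em m * k⁻¹ = PackA.em m := fun m => by rw [h _ (em_mem m), mul_inv_cancel_right]
  rw [← Cfsg.Agent.OddHalf.D9.Ru.XCover.M_eq, Cfsg.Agent.OddHalf.D9.Ru.XCover.mem_M] at hz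
  rcases hz with hp | hp
  · obtain ⟨r, hr, a, ha, rfl⟩ := Cfsg.Agent.OddHalf.D9.Ru.XR.cover k hp
    obtain ⟨j, hj, rfl⟩ := mem_A a ha
    rcases A_triv j hj with rfl | ⟨i, hi, h1, h2⟩
    · have e : r * V (aw.getD 0 []) = r := mul_one r
      rw [e]
      rw [e] at h
      exact mem_B_of_R hr fun j _ => h _ (em_mem _)
    · exfalso
      have h3 := hk (2 ^ i)
      have e : r * V (aw.getD j []) * PackA.em (2 ^ i) * (r * V (aw.getD j []))⁻¹ =
          r * (V (aw.getD j []) * PackA.em (2 ^ i) * (V (aw.getD j []))⁻¹) * r⁻¹ := by group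
      rw [e, word_em (aw_lt j hj)] at h3
      have hi2 : 2 ^ i < 32 := by interval_cases i <;> norm_num
      exact em_cases (acw_lt j hj i hi).1 hi2 h1 h2 (R_em hr _) h3
  · exfalso
    obtain ⟨r, hr, a, ha, e0⟩ := Cfsg.Agent.OddHalf.D9.Ru.XR.cover _ hp
    obtain ⟨j, hj, rfl⟩ := mem_A a ha
    obtain ⟨i, hi, h1, h2⟩ := hA_triv j hj
    have h3 := hk (2 ^ i)
    have ek : k = Cfsg.Agent.OddHalf.D9.Ru.XCover.h * (r * V (aw.getD j [])) := by
      rw [← e0, ← mul_assoc, Cfsg.Agent.OddHalf.D9.Ru.XCover.hh, one_mul]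
    have e : k * PackA.em (2 ^ i) * k⁻¹ = Cfsg.Agent.OddHalf.D9.Ru.XCover.h *
        (r * (V (aw.getD j []) * PackA.em (2 ^ i) * (V (aw.getD j []))⁻¹) * r⁻¹) *
        (Cfsg.Agent.OddHalf.D9.Ru.XCover.h)⁻¹ := by rw [ek]; group
    rw [e, word_em (aw_lt j hj)] at h3
    have hi2 : 2 ^ i < 32 := by interval_cases i <;> norm_num
    have h4 : Cfsg.Agent.OddHalf.D9.Ru.XCover.h * (r * PackA.em (acw (aw.getD j []) (2 ^ i)) * r⁻¹) *
        (Cfsg.Agent.OddHalf.D9.Ru.XCover.h)⁻¹ = PackA.em (lin tbh (acw (aw.getD j []) (2 ^ i))) ∨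
        Cfsg.Agent.OddHalf.D9.Ru.XCover.h * (r * PackA.em (acw (aw.getD j []) (2 ^ i)) * r⁻¹) *
        (Cfsg.Agent.OddHalf.D9.Ru.XCover.h)⁻¹ = PackA.em (26 ^^^ lin tbh (acw (aw.getD j []) (2 ^ i))) := by
      rcases R_em hr (acw (aw.getD j []) (2 ^ i)) with h5 | h5
      · left; rw [h5, h_em]
      · right
        rw [h5, em_xor, em_xor, em_z, ← h_em]
        have hzc : Cfsg.Agent.OddHalf.D9.Ru.XCover.h * (S * S) = S * S * Cfsg.Agent.OddHalf.D9.Ru.XCover.h :=
          Cfsg.Agent.OddHalf.D9.Ru.XCover.hz_comm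
        rw [← mul_assoc, hzc]
        group
    exact em_cases (acw_lt j hj i hi).2 hi2 h1 h2 h4 h3

/-! ### the centre of `R` -/

theorem chk_ZR : ∀ m < 32, m = 0 ∨ m = 26 ∨ ∃ i < 6, eqw (gg (msk m ++ [i])) (gg ([i] ++ msk m)) = false := by
  rw [RuFast.eqw_eq]
  decide +kernel

theorem ZR : ∀ e ∈ E, (∀ r ∈ R, e * r = r * e) → e = 1 ∨ e = S * S := by
  intro e he h
  obtain ⟨m, hm, rfl⟩ := exists_em e he
  rcases chk_ZR m hm with rfl | rfl | ⟨i, hi, h1⟩
  · left; rfl
  · right; exact em_z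
  · exfalso
    have h2 := ne_of_eqw h1
    change G (msk m ++ [i]) ≠ G ([i] ++ msk m) at h2
    rw [G_append, G_append] at h2
    exact h2 (h (G [i]) (subset_closure ⟨i, by omega, rfl⟩))

/-! ### `P1` centralises `B / E` -/

/-- the commutators of the letters with `j₁`, `j₂` -/
def bp : List (List ℕ) := [[0, 27], [2, 24], [2, 14], [15, 31]]

theorem chk_bp : ∀ g < 4, eqw (g :: gg [0, 1, 3]) (gg (msk ((bp.getD g []).getD 0 0) ++ [0, 1, 3]) ++ [g]) = true ∧
    eqw (g :: gg [1, 4, 5]) (gg (msk ((bp.getD g []).getD 1 0) ++ [1, 4, 5]) ++ [g]) = true := by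
  rw [RuFast.eqw_eq]
  decide +kernel

theorem BP : ∀ b ∈ B, ∀ p ∈ P1, p * b * p⁻¹ * b⁻¹ ∈ E := by
  have one : ∀ g < 4, ∀ b ∈ B, V [g] * b * (V [g])⁻¹ * b⁻¹ ∈ E := by
    intro g hg b hb
    have hb' : b ∈ _root_.Subgroup.closure (gE ∪ {G [0, 1, 3], G [1, 4, 5]}) := hb
    clear hb
    induction hb' using closure_induction with
    | mem x hx =>
      rcases hx with hx | hx
      · have hxE : x ∈ E := _root_.Subgroup.subset_closure hx
        exact mul_mem (E_nor _ (V_mem _) _ hxE) (inv_mem hxE)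
      · simp only [Set.mem_insert_iff, Set.mem_singleton_iff] at hx
        have h := chk_bp g hg
        rcases hx with rfl | rfl
        · have h1 := eqw_sound h.1
          change V (g :: gg [0, 1, 3]) = V (gg (msk ((bp.getD g []).getD 0 0) ++ [0, 1, 3]) ++ [g]) at h1
          rw [V_cons, V_append] at h1
          change V [g] * G [0, 1, 3] = G (msk ((bp.getD g []).getD 0 0) ++ [0, 1, 3]) * V [g] at h1
          rw [G_append] at h1
          rw [h1]
          have e : G (msk ((bp.getD g []).getD 0 0)) * G [0, 1, 3] * V [g] * (V [g])⁻¹ * (G [0, 1, 3])⁻¹ =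
            PackA.em ((bp.getD g []).getD 0 0) := by rw [PackA.em]; group
          rw [e]
          exact em_mem _
        · have h1 := eqw_sound h.2
          change V (g :: gg [1, 4, 5]) = V (gg (msk ((bp.getD g []).getD 1 0) ++ [1, 4, 5]) ++ [g]) at h1
          rw [V_cons, V_append] at h1
          change V [g] * G [1, 4, 5] = G (msk ((bp.getD g []).getD 1 0) ++ [1, 4, 5]) * V [g] at h1
          rw [G_append] at h1
          rw [h1]
          have e : G (msk ((bp.getD g []).getD 1 0)) * G [1, 4, 5] * V [g] * (V [g])⁻¹ * (G [1, 4, 5])⁻¹ =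
            PackA.em ((bp.getD g []).getD 1 0) := by rw [PackA.em]; group
          rw [e]
          exact em_mem _
    | one => simpa using one_mem E
    | mul x y hx hy ihx ihy =>
      have e : V [g] * (x * y) * (V [g])⁻¹ * (x * y)⁻¹ =
        (V [g] * x * (V [g])⁻¹ * x⁻¹) * (x * (V [g] * y * (V [g])⁻¹ * y⁻¹) * x⁻¹) := by group
      rw [e]
      have hxB : x ∈ B := hx
      exact mul_mem ihx (E_nor _ (Cfsg.Agent.OddHalf.D9.Ru.XR.R_le (B_le_R hxB)) _ ihy)
    | inv x hx ihx =>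
      have e : V [g] * x⁻¹ * (V [g])⁻¹ * x⁻¹⁻¹ = x⁻¹ * (V [g] * x * (V [g])⁻¹ * x⁻¹)⁻¹ * x⁻¹⁻¹ := by group
      rw [e]
      have hxB : x ∈ B := hx
      exact E_nor _ (inv_mem (Cfsg.Agent.OddHalf.D9.Ru.XR.R_le (B_le_R hxB))) _ (inv_mem ihx)
  intro b hb p hp
  have hp' : p ∈ _root_.Subgroup.closure ({S1, T, D, Y} : Set RuOrder.H) := hp
  clear hp
  revert b
  induction hp' using closure_induction with
  | mem x hx =>
    intro b hb
    obtain ⟨g, hg, rfl⟩ := gen_eq hx
    exact one g hg b hb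
  | one => intro b hb; simpa using one_mem E
  | mul x y hx hy ihx ihy =>
    intro b hb
    have e : x * y * b * (x * y)⁻¹ * b⁻¹ = (x * (y * b * y⁻¹ * b⁻¹) * x⁻¹) * (x * b * x⁻¹ * b⁻¹) := by group
    rw [e]
    exact mul_mem (E_nor _ hx _ (ihy b hb)) (ihx b hb)
  | inv x hx ihx =>
    intro b hb
    have e : x⁻¹ * b * x⁻¹⁻¹ * b⁻¹ = x⁻¹ * (x * b * x⁻¹ * b⁻¹)⁻¹ * x⁻¹⁻¹ := by group
    rw [e]
    exact E_nor _ (inv_mem hx) _ (inv_mem (ihx b hb))

/-! ### commutators in `B` -/

/-- `⟨z⟩` -/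
noncomputable def Zg : Subgroup RuOrder.H where
  carrier := {x | x = 1 ∨ x = S * S}
  one_mem' := Or.inl rfl
  mul_mem' := by
    rintro x y (rfl | rfl) (rfl | rfl)
    · exact Or.inl (mul_one _)
    · exact Or.inr (one_mul _)
    · exact Or.inr (mul_one _)
    · exact Or.inl zz
  inv_mem' := by
    rintro x (rfl | rfl)
    · exact Or.inl inv_one
    · exact Or.inr (inv_eq_of_mul_eq_one_right zz)

theorem chk_jj : eqw (gg ([0, 1, 3] ++ [1, 4, 5])) (gg ([7, 9, 10] ++ ([1, 4, 5] ++ [0, 1, 3]))) = true := by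
  rw [RuFast.eqw_eq]
  decide +kernel

theorem BB : ∀ b ∈ B, ∀ c ∈ B, ⁅b, c⁆ ∈ Zg := by
  have hj : ⁅G [0, 1, 3], G [1, 4, 5]⁆ = S * S := by
    have h := eqw_sound chk_jj
    change G ([0, 1, 3] ++ [1, 4, 5]) = G ([7, 9, 10] ++ ([1, 4, 5] ++ [0, 1, 3])) at h
    rw [G_append, G_append, G_append, z_eq] at h
    rw [commutatorElement_def, h]
    group
  have hj' : ⁅G [1, 4, 5], G [0, 1, 3]⁆ = S * S := by
    rw [← commutatorElement_inv, hj]
    exact inv_eq_of_mul_eq_one_right zz
  refine Cfsg.Agent.OddHalf.D9.Ru.XAbs.comm_mem (t := gE ∪ {G [0, 1, 3], G [1, 4, 5]}) rfl ?_ ?_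
  · rintro g hg x (rfl | rfl)
    · left; group
    · right
      rw [z_comm g (Cfsg.Agent.OddHalf.D9.Ru.XR.R_le (B_le_R hg)), mul_inv_cancel_right]
  · have hE : ∀ x ∈ gE, ∀ y ∈ B, ⁅x, y⁆ = 1 := fun x hx y hy =>
      commutatorElement_eq_one_iff_mul_comm.2 (B_comm y hy x (_root_.Subgroup.subset_closure hx)).symm
    rintro x (hx | hx) y hy
    · left
      exact hE x hx y (_root_.Subgroup.subset_closure hy)
    · rcases hy with hy | hy
      · left
        exact commutatorElement_eq_one_iff_mul_comm.2 (B_comm x (_root_.Subgroup.subset_closure (Or.inr hx)) y (_root_.Subgroup.subset_closure hy))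
      · simp only [Set.mem_insert_iff, Set.mem_singleton_iff] at hx hy
        rcases hx with rfl | rfl <;> rcases hy with rfl | rfl
        · left; exact commutatorElement_self _
        · right; exact hj
        · right; exact hj'
        · left; exact commutatorElement_self _

end Cfsg.Agent.KFacts.Ru.PackB

end

-- merged: Cfsg.Agent.KFacts.Ru.PackC
section

/-!
# Packet P for the Rudvalis group, second part: `Loc ⊤ (S * S) P1 R B E` on `RuOrder.H`
-/

set_option autoImplicit false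
set_option maxRecDepth 100000
set_option exponentiation.threshold 5000

namespace Cfsg.Agent.KFacts.Ru.PackC

open Subgroup Cfsg.Agent.Lib Cfsg.Agent.SporadicB
open Cfsg.Agent.RuD.Letters Cfsg.Agent.SporRec.TCUpperCert Cfsg.Agent.SporRec.R3.Kernel
open Cfsg.Agent.OddHalf.D9.Ru.XDef Cfsg.Agent.OddHalf.D9.Ru.XData Cfsg.Agent.OddHalf.D9.Ru.XChk
open Cfsg.Agent.OddHalf.D9.Ru.XR Cfsg.Agent.KFacts.Ru.PackA Cfsg.Agent.KFacts.Ru.PackB
open Cfsg.Agent.OddHalf.D9.Ru
open scoped commutatorElement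

/-! ### the derived group -/

theorem G_R {i : ℕ} (hi : i < 11) : G [i] ∈ XR.R := subset_closure ⟨i, hi, rfl⟩

theorem comm_gen {i j : ℕ} (hi : i < 6) (hj : j < 6) : ⁅G [i], G [j]⁆ = G (cmE i j) := by
  have h := eqw_sound (chk_cm i hi j hj)
  change G [i, j] = G (cmE i j ++ [j, i]) at h
  rw [G_append, G_two, G_two] at h
  rw [commutatorElement_def, h]
  group

theorem RR_mem {i j : ℕ} (hi : i < 6) (hj : j < 6) : G (cmE i j) ∈ ⁅XR.R, XR.R⁆ := by
  rw [← comm_gen hi hj]
  exact commutator_mem_commutator (G_R (by omega)) (G_R (by omega))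

theorem RR : ⁅XR.R, XR.R⁆ = XR.E := by
  refine le_antisymm XR.RR ?_
  have m1 : G [6, 7, 9, 10] ∈ ⁅XR.R, XR.R⁆ := RR_mem (i := 0) (j := 1) (by norm_num) (by norm_num)
  have m3 : G [6, 9, 10] ∈ ⁅XR.R, XR.R⁆ := RR_mem (i := 0) (j := 3) (by norm_num) (by norm_num)
  have m4 : G [6, 7, 10] ∈ ⁅XR.R, XR.R⁆ := RR_mem (i := 0) (j := 4) (by norm_num) (by norm_num)
  have m5 : G [6, 7, 9] ∈ ⁅XR.R, XR.R⁆ := RR_mem (i := 0) (j := 5) (by norm_num) (by norm_num)
  have m8 : G [8, 9, 10] ∈ ⁅XR.R, XR.R⁆ := RR_mem (i := 1) (j := 2) (by norm_num) (by norm_num)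
  have k1 : PackA.em 27 ∈ ⁅XR.R, XR.R⁆ := m1
  have k3 : PackA.em 25 ∈ ⁅XR.R, XR.R⁆ := m3
  have k4 : PackA.em 19 ∈ ⁅XR.R, XR.R⁆ := m4
  have k5 : PackA.em 11 ∈ ⁅XR.R, XR.R⁆ := m5
  have k8 : PackA.em 28 ∈ ⁅XR.R, XR.R⁆ := m8
  have e7 : PackA.em 2 ∈ ⁅XR.R, XR.R⁆ := by
    rw [show 2 = 27 ^^^ 25 by rfl, em_xor]; exact mul_mem k1 k3
  have e9 : PackA.em 8 ∈ ⁅XR.R, XR.R⁆ := by
    rw [show 8 = 27 ^^^ 19 by rfl, em_xor]; exact mul_mem k1 k4
  have e10 : PackA.em 16 ∈ ⁅XR.R, XR.R⁆ := by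
    rw [show 16 = 27 ^^^ 11 by rfl, em_xor]; exact mul_mem k1 k5
  have e6 : PackA.em 1 ∈ ⁅XR.R, XR.R⁆ := by
    rw [show 1 = 25 ^^^ (8 ^^^ 16) by rfl, em_xor, em_xor 8]; exact mul_mem k3 (mul_mem e9 e10)
  have e8 : PackA.em 4 ∈ ⁅XR.R, XR.R⁆ := by
    rw [show 4 = 28 ^^^ (8 ^^^ 16) by rfl, em_xor, em_xor 8]; exact mul_mem k8 (mul_mem e9 e10)
  rw [XR.E, closure_le]
  rintro x ⟨i, hi, rfl⟩
  interval_cases i
  · exact e6
  · exact e7
  · exact e8
  · exact e9
  · exact e10

/-! ### `[R, P1] = R` -/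

theorem conj_G {g i : ℕ} (hg : g < 4) (hi : i < 11) : V [g] * G [i] * (V [g])⁻¹ = G (ctE g i) := conj_eq hg hi

theorem RRP : XR.R ≤ ⁅XR.R, P1⁆ := by
  have hE : XR.E ≤ ⁅XR.R, P1⁆ := by
    rw [← RR]
    exact commutator_mono le_rfl XR.R_le
  have cm : ∀ r ∈ XR.R, ∀ p ∈ P1, p * r * p⁻¹ * r⁻¹ ∈ ⁅XR.R, P1⁆ := by
    intro r hr p hp
    have h := commutator_mem_commutator hr hp
    have e : p * r * p⁻¹ * r⁻¹ = ⁅r, p⁆⁻¹ := by rw [commutatorElement_def]; group
    rw [e]
    exact inv_mem h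
  have step : ∀ r ∈ XR.R, r ∈ ⁅XR.R, P1⁆ → ∀ p ∈ P1, p * r * p⁻¹ ∈ ⁅XR.R, P1⁆ := by
    intro r hr h p hp
    have e : p * r * p⁻¹ = p * r * p⁻¹ * r⁻¹ * r := by group
    rw [e]
    exact mul_mem (cm r hr p hp) h
  have g0 : G [0] ∈ ⁅XR.R, P1⁆ := by
    have h1 := cm (G [2]) (G_R (by norm_num)) (V [0]) (V_mem _)
    rw [conj_G (by norm_num) (by norm_num)] at h1
    change G [0, 2, 6, 7, 8, 9, 10] * (G [2])⁻¹ ∈ _ at h1
    rw [G_cons 0 [2, 6, 7, 8, 9, 10], G_cons 2 [6, 7, 8, 9, 10]] at h1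
    have hx : G [2] * G [6, 7, 8, 9, 10] * (G [2])⁻¹ ∈ ⁅XR.R, P1⁆ :=
      hE (E_nor _ (XR.R_le (G_R (by norm_num))) _ (em_mem 31))
    have e : G [0] = G [0] * (G [2] * G [6, 7, 8, 9, 10]) * (G [2])⁻¹ * (G [2] * G [6, 7, 8, 9, 10] * (G [2])⁻¹)⁻¹ := by
      group
    rw [e]
    exact mul_mem h1 (inv_mem hx)
  have g1 : G [1] ∈ ⁅XR.R, P1⁆ := by
    have h := step _ (G_R (by norm_num)) g0 (V [2]) (V_mem _)
    rw [conj_G (by norm_num) (by norm_num)] at h
    exact h
  have g3 : G [3] ∈ ⁅XR.R, P1⁆ := by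
    have h := step _ (G_R (by norm_num)) g1 (V [2]) (V_mem _)
    rw [conj_G (by norm_num) (by norm_num)] at h
    exact h
  have g2 : G [2] ∈ ⁅XR.R, P1⁆ := by
    have h := step _ (G_R (by norm_num)) g0 (V [3]) (V_mem _)
    rw [conj_G (by norm_num) (by norm_num)] at h
    exact h
  have g4 : G [4] ∈ ⁅XR.R, P1⁆ := by
    have h := step _ (G_R (by norm_num)) g1 (V [3]) (V_mem _)
    rw [conj_G (by norm_num) (by norm_num)] at h
    exact h
  have g5 : G [5] ∈ ⁅XR.R, P1⁆ := by
    have h := step _ (G_R (by norm_num)) g4 (V [0]) (V_mem _)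
    rw [conj_G (by norm_num) (by norm_num)] at h
    exact h
  conv_lhs => unfold XR.R
  rw [closure_le]
  rintro x ⟨i, hi, rfl⟩
  rcases lt_or_ge i 6 with h | h
  · interval_cases i
    · exact g0
    · exact g1
    · exact g2
    · exact g3
    · exact g4
    · exact g5
  · obtain ⟨j, rfl⟩ : ∃ j, i = j + 6 := ⟨i - 6, by omega⟩
    exact hE (subset_closure ⟨j, by omega, rfl⟩)

/-! ### the homomorphisms `R / B → E / z` -/

theorem chk_p2 : eqw ([5, 0, 2] ++ gg [0]) (gg [0] ++ [5, 0, 2]) = true := by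
  rw [RuFast.eqw_eq]
  decide +kernel
theorem chk_p1 : eqw ([0] ++ gg [0]) (gg [0] ++ [0]) = true := by
  rw [RuFast.eqw_eq]
  decide +kernel

theorem chk_h4 : ∀ m < 32, (acw [0] m ≠ m ∧ acw [0] m ≠ 26 ^^^ m) ∨ (acw [5, 0, 2] m ≠ m ∧
    acw [5, 0, 2] m ≠ 26 ^^^ m) ∨ m = 0 ∨ m = 26 ∨ m = 2 ∨ m = 24 ∨ m = 3 ∨ m = 25 ∨ m = 1 ∨ m = 27 := by decide +kernel

theorem acw_lt' : ∀ m < 32, acw [0] m < 32 ∧ acw [5, 0, 2] m < 32 := by decide +kernel

theorem chk_b1 : eqw (gg ([0, 1, 3] ++ [0])) (gg (msk 2 ++ ([0] ++ [0, 1, 3]))) = true := by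
  rw [RuFast.eqw_eq]
  decide +kernel
theorem chk_b2 : eqw (gg ([1, 4, 5] ++ [0])) (gg (msk 3 ++ ([0] ++ [1, 4, 5]))) = true := by
  rw [RuFast.eqw_eq]
  decide +kernel
theorem chk_b3 : eqw (gg (([0, 1, 3] ++ [1, 4, 5]) ++ [0])) (gg (msk 1 ++ ([0] ++ ([0, 1, 3] ++ [1, 4, 5])))) = true := by
  rw [RuFast.eqw_eq]
  decide +kernel

theorem comm_b1 : G [0, 1, 3] * G [0] * (G [0, 1, 3])⁻¹ * (G [0])⁻¹ = PackA.em 2 := by
  have h := eqw_sound chk_b1
  change G ([0, 1, 3] ++ [0]) = G (msk 2 ++ ([0] ++ [0, 1, 3])) at h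
  rw [G_append, G_append, G_append] at h
  rw [h, PackA.em]
  group

theorem comm_b2 : G [1, 4, 5] * G [0] * (G [1, 4, 5])⁻¹ * (G [0])⁻¹ = PackA.em 3 := by
  have h := eqw_sound chk_b2
  change G ([1, 4, 5] ++ [0]) = G (msk 3 ++ ([0] ++ [1, 4, 5])) at h
  rw [G_append, G_append, G_append] at h
  rw [h, PackA.em]
  group

theorem comm_b3 : G [0, 1, 3] * G [1, 4, 5] * G [0] * (G [0, 1, 3] * G [1, 4, 5])⁻¹ * (G [0])⁻¹ = PackA.em 1 := by
  have h := eqw_sound chk_b3
  change G (([0, 1, 3] ++ [1, 4, 5]) ++ [0]) = G (msk 1 ++ ([0] ++ ([0, 1, 3] ++ [1, 4, 5]))) at h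
  rw [G_append, G_append, G_append, G_append, G_append] at h
  rw [h, PackA.em]
  group

theorem em_comm_cases {w : List ℕ} (hw : (w.all fun a => Nat.blt a 6) = true) {m : ℕ} (hm : m < 32)
    (hm' : acw w m < 32) (h : V w * PackA.em m * (V w)⁻¹ * (PackA.em m)⁻¹ = 1 ∨
      V w * PackA.em m * (V w)⁻¹ * (PackA.em m)⁻¹ = S * S) : acw w m = m ∨ acw w m = 26 ^^^ m := by
  rw [word_em hw] at h
  rcases h with h | h
  · left
    exact em_inj hm' hm (mul_inv_eq_one.1 h)
  · right
    refine em_inj hm' (Nat.xor_lt_two_pow (n := 5) (by norm_num) hm) ?_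
    rw [em_xor, em_z, ← h]
    group

theorem hom4 : ∃ r₁ ∈ XR.R, (∀ Q : Subgroup RuOrder.H, PackA.B ≤ Q → r₁ ∈ Q → (∀ p ∈ P1, ∀ q ∈ Q, p * q * p⁻¹ ∈ Q) →
      XR.R ≤ Q) ∧
    ∀ e ∈ XR.E, (∀ p ∈ P1, p * r₁ * p⁻¹ * r₁⁻¹ ∈ PackA.B → p * e * p⁻¹ * e⁻¹ = 1 ∨ p * e * p⁻¹ * e⁻¹ = S * S) →
      ∃ b ∈ PackA.B, b * r₁ * b⁻¹ * r₁⁻¹ = e ∨ b * r₁ * b⁻¹ * r₁⁻¹ = e * (S * S) := by
  refine ⟨G [0], G_R (by norm_num), ?_, ?_⟩
  · intro Q hB h0 hn
    have h2 := hn (V [3]) (V_mem _) _ h0
    rw [conj_G (by norm_num) (by norm_num)] at h2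
    have h1 := hn (V [2]) (V_mem _) _ h0
    rw [conj_G (by norm_num) (by norm_num)] at h1
    change G [1] ∈ Q at h1
    have h3 := hn (V [2]) (V_mem _) _ h1
    rw [conj_G (by norm_num) (by norm_num)] at h3
    have h4 := hn (V [3]) (V_mem _) _ h1
    rw [conj_G (by norm_num) (by norm_num)] at h4
    exact PackA.R_le Q hB h0 h2 h3 h4
  · intro e he h
    obtain ⟨m, hm, rfl⟩ := exists_em e he
    have c1 := h (V [0]) (V_mem _) (by
      have h1 := eqw_sound chk_p1
      rw [V_append, V_append] at h1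
      change V [0] * G [0] = G [0] * V [0] at h1
      rw [h1, mul_inv_cancel_right, mul_inv_cancel]
      exact one_mem _)
    have c2 := h (V [5, 0, 2]) (V_mem _) (by
      have h1 := eqw_sound chk_p2
      rw [V_append, V_append] at h1
      change V [5, 0, 2] * G [0] = G [0] * V [5, 0, 2] at h1
      rw [h1, mul_inv_cancel_right, mul_inv_cancel]
      exact one_mem _)
    have d1 := em_comm_cases (by decide) hm (acw_lt' m hm).1 c1
    have d2 := em_comm_cases (by decide) hm (acw_lt' m hm).2 c2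
    have b1 : G [0, 1, 3] ∈ PackA.B := j1_mem
    have b2 : G [1, 4, 5] ∈ PackA.B := j2_mem
    have x2 : PackA.em 2 = PackA.em 24 * (S * S) := by rw [← em_z, ← em_xor]; rfl
    have x3 : PackA.em 3 = PackA.em 25 * (S * S) := by rw [← em_z, ← em_xor]; rfl
    have x1 : PackA.em 1 = PackA.em 27 * (S * S) := by rw [← em_z, ← em_xor]; rfl
    have x0 : PackA.em 0 = PackA.em 26 * (S * S) := by rw [← em_z, ← em_xor]; rfl
    have o : (1 : RuOrder.H) * G [0] * 1⁻¹ * (G [0])⁻¹ = PackA.em 0 := by rw [em_zero]; group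
    rcases chk_h4 m hm with h1 | h1 | rfl | rfl | rfl | rfl | rfl | rfl | rfl | rfl
    · exact absurd d1 (by rintro (h2 | h2); exacts [h1.1 h2, h1.2 h2])
    · exact absurd d2 (by rintro (h2 | h2); exacts [h1.1 h2, h1.2 h2])
    · exact ⟨1, one_mem _, Or.inl o⟩
    · exact ⟨1, one_mem _, Or.inr (o.trans x0)⟩
    · exact ⟨_, b1, Or.inl comm_b1⟩
    · exact ⟨_, b1, Or.inr (comm_b1.trans x2)⟩
    · exact ⟨_, b2, Or.inl comm_b2⟩
    · exact ⟨_, b2, Or.inr (comm_b2.trans x3)⟩
    · exact ⟨_, mul_mem b1 b2, Or.inl comm_b3⟩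
    · exact ⟨_, mul_mem b1 b2, Or.inr (comm_b3.trans x1)⟩

/-! ### `{b ∈ B | [b, R] ≤ ⟨z⟩} = E` -/

theorem B_cases : ∀ b ∈ PackA.B, b ∈ XR.E ∨ (G [0, 1, 3])⁻¹ * b ∈ XR.E ∨ (G [1, 4, 5])⁻¹ * b ∈ XR.E ∨
    (G [0, 1, 3] * G [1, 4, 5])⁻¹ * b ∈ XR.E := by
  intro b hb
  have h1 : G [0, 1, 3] ∈ XR.R := B_le_R j1_mem
  have h2 : G [1, 4, 5] ∈ XR.R := B_le_R j2_mem
  let M1 := adj XR.E XR.E XR.R (G [1, 4, 5]) le_rfl E_le_R h2 sq_R comm_R
  have l1 : XR.E ≤ M1 := le_adj _ _ _ _ _
  have k1 : M1 ≤ XR.R := adj_le _ _ _ _ _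
  let M2 := adj XR.E M1 XR.R (G [0, 1, 3]) l1 k1 h1 sq_R comm_R
  have l2 : M1 ≤ M2 := le_adj _ _ _ _ _
  have hb2 : b ∈ M2 := by
    have : PackA.B ≤ M2 := by
      unfold PackA.B
      rw [closure_le]
      rintro x (hx | hx)
      · exact l2 (l1 (_root_.Subgroup.subset_closure hx))
      · simp only [Set.mem_insert_iff, Set.mem_singleton_iff] at hx
        rcases hx with rfl | rfl
        · exact Or.inr (by change (G [0, 1, 3])⁻¹ * G [0, 1, 3] ∈ M1; rw [inv_mul_cancel]; exact one_mem _)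
        · exact l2 (Or.inr (by change (G [1, 4, 5])⁻¹ * G [1, 4, 5] ∈ XR.E; rw [inv_mul_cancel]; exact one_mem _))
    exact this hb
  rcases hb2 with h | h
  · rcases h with h | h
    · exact Or.inl h
    · exact Or.inr (Or.inr (Or.inl h))
  · rcases h with h | h
    · exact Or.inr (Or.inl h)
    · right; right; right
      have e : (G [0, 1, 3] * G [1, 4, 5])⁻¹ * b = (G [1, 4, 5])⁻¹ * ((G [0, 1, 3])⁻¹ * b) := by group
      rw [e]
      exact h

theorem BE : ∀ b ∈ PackA.B, (∀ r ∈ XR.R, b * r * b⁻¹ * r⁻¹ = 1 ∨ b * r * b⁻¹ * r⁻¹ = S * S) → b ∈ XR.E := by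
  intro b hb h
  have key : ∀ (j : RuOrder.H) (m : ℕ), j ∈ PackA.B → m < 32 → m ≠ 0 → m ≠ 26 → j * G [0] * j⁻¹ * (G [0])⁻¹ = PackA.em m →
      j⁻¹ * b ∈ XR.E → False := by
    intro j m hj hm hm0 hm26 h1 h2
    have h3 := h _ (G_R (i := 0) (by norm_num))
    set e := j⁻¹ * b with he
    have hb' : b = j * e := by rw [he, mul_inv_cancel_left]
    have h4 := comm_RE _ (G_R (i := 0) (by norm_num)) e h2
    have hjz : j * (S * S) = S * S * j := z_comm j (XR.R_le (B_le_R hj))
    have hEc : e * PackA.em m = PackA.em m * e := E_comm _ h2 _ (em_mem m)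
    have e4 : b * G [0] * b⁻¹ * (G [0])⁻¹ = j * (e * G [0] * e⁻¹ * (G [0])⁻¹) * j⁻¹ * (j * G [0] * j⁻¹ * (G [0])⁻¹) := by
      rw [hb']; group
    have e5 : e * G [0] * e⁻¹ * (G [0])⁻¹ = ⁅G [0], e⁆⁻¹ := by rw [commutatorElement_def]; group
    have hzi : (S * S)⁻¹ = S * S := inv_eq_of_mul_eq_one_right zz
    have e6 : j * (e * G [0] * e⁻¹ * (G [0])⁻¹) * j⁻¹ = 1 ∨ j * (e * G [0] * e⁻¹ * (G [0])⁻¹) * j⁻¹ = S * S := by
      rcases h4 with h4 | h4
      · left; rw [e5, h4]; group
      · right; rw [e5, h4, hzi, hjz, mul_inv_cancel_right]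
    rw [e4, h1] at h3
    have z26 : ∀ x : RuOrder.H, (x = 1 ∨ x = S * S) → x = PackA.em 0 ∨ x = PackA.em 26 := fun x hx => by
      rw [em_z, em_zero]; exact hx
    have h7 : PackA.em m = PackA.em 0 ∨ PackA.em m = PackA.em 26 := by
      rcases e6 with e6 | e6 <;> rw [e6] at h3
      · rw [one_mul] at h3
        exact z26 _ h3
      · rcases h3 with h3 | h3
        · right
          rw [em_z]
          have := eq_inv_of_mul_eq_one_right h3
          rw [this, hzi]
        · left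
          rw [em_zero]
          exact mul_eq_left.1 h3
    rcases h7 with h7 | h7
    · exact hm0 (em_inj hm (by norm_num) h7)
    · exact hm26 (em_inj hm (by norm_num) h7)
  rcases B_cases b hb with h1 | h1 | h1 | h1
  · exact h1
  · exact (key _ 2 j1_mem (by norm_num) (by norm_num) (by norm_num) comm_b1 h1).elim
  · exact (key _ 3 j2_mem (by norm_num) (by norm_num) (by norm_num) comm_b2 h1).elim
  · exact (key _ 1 (mul_mem j1_mem j2_mem) (by norm_num) (by norm_num) (by norm_num) comm_b3 h1).elim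

end Cfsg.Agent.KFacts.Ru.PackC

end

-- merged: Cfsg.Agent.KFacts.Ru.PackD
section

/-!
# Packet P for the Rudvalis group, third part: `Loc ⊤ (S * S) P1 R B E` on `RuOrder.H`
-/

set_option autoImplicit false
set_option maxRecDepth 100000
set_option exponentiation.threshold 5000

namespace Cfsg.Agent.KFacts.Ru.PackD

open Subgroup Cfsg.Agent.Lib Cfsg.Agent.SporadicB
open Cfsg.Agent.RuD.Letters Cfsg.Agent.SporRec.TCUpperCert Cfsg.Agent.SporRec.R3.Kernel
open Cfsg.Agent.OddHalf.D9.Ru.XDef Cfsg.Agent.OddHalf.D9.Ru.XData Cfsg.Agent.OddHalf.D9.Ru.XChk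
open Cfsg.Agent.OddHalf.D9.Ru.XR Cfsg.Agent.KFacts.Ru.PackA Cfsg.Agent.KFacts.Ru.PackB Cfsg.Agent.KFacts.Ru.PackC
open Cfsg.Agent.OddHalf.D9.Ru
open scoped commutatorElement

/-! ### the homomorphisms `R / B → ⟨z⟩` -/

theorem tw_em_mul {x : RuOrder.H} {m n : ℕ} {a b : Bool} (hx : x ∈ P1) (h1 : Tw x (PackA.em m) a)
    (h2 : Tw x (PackA.em n) b) : Tw x (PackA.em (m ^^^ n)) (xor a b) := by
  unfold Tw at h1 h2 ⊢
  rw [em_xor]
  have hm : PackA.em m * zb b = zb b * PackA.em m := zb_comm (XR.E_le (em_mem m)) b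
  calc x * (PackA.em m * PackA.em n) = zb a * PackA.em m * (x * PackA.em n) := by rw [← mul_assoc, h1]; group
    _ = zb a * (PackA.em m * zb b) * PackA.em n * x := by rw [h2]; group
    _ = zb (xor a b) * (PackA.em m * PackA.em n) * x := by rw [hm, zb_xor]; group

theorem tw_bifE {x : RuOrder.H} {m : ℕ} {d : Bool} (h : Tw x (PackA.em m) d) (c : Bool) :
    Tw x (PackA.em (bif c then m else 0)) (c && d) := by
  cases c
  · unfold Tw
    rw [cond_false, em_zero, Bool.false_and]
    change x * 1 = 1 * 1 * x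
    group
  · exact h

/-- the element of `E` with prescribed commutators with the generators -/
theorem exists_dual (c : ℕ → Bool) : ∃ e ∈ XR.E, ∀ i < 4, Tw (G [rl.getD i 0]) e (c i) := by
  refine ⟨PackA.em ((bif c 0 then dl.getD 0 0 else 0) ^^^ ((bif c 1 then dl.getD 1 0 else 0) ^^^
    ((bif c 2 then dl.getD 2 0 else 0) ^^^ (bif c 3 then dl.getD 3 0 else 0)))), em_mem _, fun i hi => ?_⟩
  have hP : G [rl.getD i 0] ∈ P1 := XR.R_le (Gr_mem hi)
  have t := fun {j : ℕ} (hj : j < 4) => tw_bifE (tw_dual hi hj) (c j)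
  have key := tw_em_mul hP (t (j := 0) (by norm_num)) (tw_em_mul hP (t (j := 1) (by norm_num))
    (tw_em_mul hP (t (j := 2) (by norm_num)) (t (j := 3) (by norm_num))))
  have e : (xor (c 0 && Nat.beq i 0) (xor (c 1 && Nat.beq i 1) (xor (c 2 && Nat.beq i 2) (c 3 && Nat.beq i 3)))) =
      c i := by
    interval_cases i
    · rw [show Nat.beq 0 0 = true from rfl, show Nat.beq 0 1 = false from rfl, show Nat.beq 0 2 = false from rfl,
        show Nat.beq 0 3 = false from rfl]; simp
    · rw [show Nat.beq 1 0 = false from rfl, show Nat.beq 1 1 = true from rfl, show Nat.beq 1 2 = false from rfl,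
        show Nat.beq 1 3 = false from rfl]; simp
    · rw [show Nat.beq 2 0 = false from rfl, show Nat.beq 2 1 = false from rfl, show Nat.beq 2 2 = true from rfl,
        show Nat.beq 2 3 = false from rfl]; simp
    · rw [show Nat.beq 3 0 = false from rfl, show Nat.beq 3 1 = false from rfl, show Nat.beq 3 2 = false from rfl,
        show Nat.beq 3 3 = true from rfl]; simp
  rw [e] at key
  exact key

theorem dual : ∀ Q ≤ XR.R, PackA.B ≤ Q → (∀ r ∈ XR.R, ∀ s ∈ XR.R, r ∉ Q → s ∉ Q → r * s ∈ Q) →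
    ∃ e ∈ XR.E, ∀ r ∈ XR.R, (r ∈ Q ↔ e * r = r * e) := by
  classical
  intro Q hQ hB hi
  obtain ⟨e, he, hc⟩ := exists_dual fun i => decide (G [rl.getD i 0] ∉ Q)
  refine ⟨e, he, ?_⟩
  -- `C_R(e)` has index at most two, too
  have hE : ∀ r ∈ XR.R, e * r = r * e ∨ r * e = S * S * (e * r) := by
    intro r hr
    rcases comm_RE r hr e he with h | h
    · left
      exact (commutatorElement_eq_one_iff_mul_comm.1 h).symm
    · right
      rw [commutatorElement_def] at h
      rw [← h]; group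
  have par : ∀ r ∈ XR.R, ∀ s ∈ XR.R, e * r ≠ r * e → e * s ≠ s * e → e * (r * s) = r * s * e := by
    intro r hr s hs h1 h2
    have h3 := (hE r hr).resolve_left h1
    have h4 := (hE s hs).resolve_left h2
    have hz := z_comm r (XR.R_le hr)
    calc e * (r * s) = (S * S * (S * S)) * (e * r) * s := by rw [zz]; group
      _ = (S * S) * (r * e) * s := by rw [h3]; group
      _ = r * (S * S) * e * s := by rw [hz]; group
      _ = r * (s * e) := by rw [h4]; group
      _ = r * s * e := by group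
  have mul1 : ∀ r ∈ XR.R, ∀ s ∈ XR.R, (r * s ∈ Q ↔ (r ∈ Q ↔ s ∈ Q)) := by
    intro r hr s hs
    by_cases h1 : r ∈ Q <;> by_cases h2 : s ∈ Q
    · simp [h1, h2, mul_mem]
    · simp only [h1, h2, iff_false, not_true_eq_false, iff_false]
      exact fun h => h2 (by simpa only [_root_.inv_mul_cancel_left] using mul_mem (inv_mem h1) h)
    · simp only [h1, h2, iff_true]
      constructor
      · intro h
        exact absurd (by simpa using mul_mem h (inv_mem h2)) h1
      · intro h
        exact absurd h (by simp)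
    · simp only [h1, h2, iff_true]
      exact hi r hr s hs h1 h2
  have mul2 : ∀ r ∈ XR.R, ∀ s ∈ XR.R, (e * (r * s) = r * s * e ↔ (e * r = r * e ↔ e * s = s * e)) := by
    intro r hr s hs
    by_cases h1 : e * r = r * e <;> by_cases h2 : e * s = s * e
    · simp only [h1, h2, iff_true]
      calc e * (r * s) = e * r * s := by group
        _ = r * (e * s) := by rw [h1]; group
        _ = r * s * e := by rw [h2]; group
    · refine iff_of_false (fun h => h2 ?_) (fun h => h2 (h.1 h1))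
      have h3 : r * (e * s) = r * (s * e) := by
        calc r * (e * s) = e * r * s := by rw [h1]; group
          _ = e * (r * s) := by group
          _ = r * (s * e) := by rw [h]; group
      exact mul_left_cancel h3
    · refine iff_of_false (fun h => h1 ?_) (fun h => h1 (h.2 h2))
      have h3 : e * r * s = r * e * s := by
        calc e * r * s = e * (r * s) := by group
          _ = r * (s * e) := by rw [h]; group
          _ = r * e * s := by rw [← h2]; group
      exact mul_right_cancel h3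
    · simp only [h1, h2, iff_true]
      exact par r hr s hs h1 h2
  let Q' : Subgroup RuOrder.H := {
    carrier := {r | r ∈ XR.R ∧ (r ∈ Q ↔ e * r = r * e)}
    one_mem' := ⟨one_mem _, by simp [one_mem]⟩
    mul_mem' := by
      rintro r s ⟨hr, h1⟩ ⟨hs, h2⟩
      refine ⟨mul_mem hr hs, ?_⟩
      rw [mul1 r hr s hs, mul2 r hr s hs, h1, h2]
    inv_mem' := by
      rintro r ⟨hr, h1⟩
      refine ⟨inv_mem hr, ?_⟩
      rw [inv_mem_iff, h1]
      constructor
      · intro h
        calc e * r⁻¹ = r⁻¹ * (r * e) * r⁻¹ := by group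
          _ = r⁻¹ * (e * r) * r⁻¹ := by rw [h]
          _ = r⁻¹ * e := by group
      · intro h
        calc e * r = r * (r⁻¹ * e) * r := by group
          _ = r * (e * r⁻¹) * r := by rw [h]
          _ = r * e := by group }
  have hQ' : XR.R ≤ Q' := by
    have gen : ∀ i < 4, G [rl.getD i 0] ∈ Q' := by
      intro i hi4
      refine ⟨Gr_mem hi4, ?_⟩
      have h := (hc i hi4).false_iff
      rw [eq_comm (a := e * _), ← h]
      simp
    refine PackA.R_le Q' ?_ (gen 0 (by norm_num)) (gen 1 (by norm_num)) (gen 2 (by norm_num)) (gen 3 (by norm_num))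
    intro b hb
    exact ⟨B_le_R hb, ⟨fun _ => (B_comm b hb e he).symm, fun _ => hB hb⟩⟩
  intro r hr
  exact (hQ' hr).2

/-! ### the element of order 5 -/

/-- `m`, `a m a⁻¹`, .. -/
def ia (m : ℕ) (k : ℕ) : ℕ := (List.replicate k 0).foldr (fun _ x => acw [0, 2, 3] x) m

/-- combination of `z`, `m`, `a m a⁻¹`, `a² m a⁻²`, `a³ m a⁻³` -/
def cb (m c : ℕ) : ℕ := (bif c.testBit 0 then 26 else 0) ^^^ ((bif c.testBit 1 then m else 0) ^^^
  ((bif c.testBit 2 then ia m 1 else 0) ^^^ ((bif c.testBit 3 then ia m 2 else 0) ^^^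
    (bif c.testBit 4 then ia m 3 else 0))))

theorem chk_irr : ∀ m < 32, m = 0 ∨ m = 26 ∨ ∀ j < 5, ∃ c < 32, cb m c = 2 ^ j := by decide +kernel

theorem chk_a5 : eqw ([0, 2, 3] ++ ([0, 2, 3] ++ ([0, 2, 3] ++ ([0, 2, 3] ++ [0, 2, 3])))) [] = true := by
  rw [RuFast.eqw_eq]
  decide +kernel

theorem chk_a1 : eqw [0, 2, 3] [] = false := by
  rw [RuFast.eqw_eq]
  decide +kernel

theorem chk_n : eqv (XCover.hw ++ ((gg [2, 3, 4, 6] ++ [5]) ++ [0, 2, 3]).flatMap ex)
    (([0, 2, 3] ++ [0, 2, 3]).flatMap ex ++ (XCover.hw ++ (gg [2, 3, 4, 6] ++ [5]).flatMap ex)) = true := by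
  rw [RuFast.eqv_eq]
  decide +kernel

theorem five : ∃ a ∈ P1, a ^ 5 = 1 ∧ a ≠ 1 ∧ (∃ n ∈ (⊤ : Subgroup RuOrder.H), n * (S * S) = S * S * n ∧
      n * a * n⁻¹ = a ^ 2) ∧
    ∀ Q ≤ XR.E, S * S ∈ Q → (∀ q ∈ Q, a * q * a⁻¹ ∈ Q) → (∀ q ∈ Q, q = 1 ∨ q = S * S) ∨ Q = XR.E := by
  refine ⟨V [0, 2, 3], V_mem _, ?_, ?_, ⟨XCover.h * V (gg [2, 3, 4, 6] ++ [5]), mem_top _, ?_, ?_⟩, ?_⟩
  · have h := eqw_sound chk_a5
    rw [V_append, V_append, V_append, V_append, V_nil] at h
    rw [← h]
    simp only [pow_succ, pow_zero, one_mul, mul_assoc]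
  · intro h
    exact ne_of_eqw chk_a1 h
  · have h1 := z_comm _ (V_mem (gg [2, 3, 4, 6] ++ [5]))
    have h2 : XCover.h * (S * S) = S * S * XCover.h := XCover.hz_comm
    calc XCover.h * V (gg [2, 3, 4, 6] ++ [5]) * (S * S) = XCover.h * (V (gg [2, 3, 4, 6] ++ [5]) * (S * S)) := by
          group
      _ = XCover.h * (S * S) * V (gg [2, 3, 4, 6] ++ [5]) := by rw [h1]; group
      _ = _ := by rw [h2]; group
  · have h := eqv_sound chk_n
    rw [wprod_append, wprod_append, wprod_append] at h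
    change XCover.h * V ((gg [2, 3, 4, 6] ++ [5]) ++ [0, 2, 3]) = V ([0, 2, 3] ++ [0, 2, 3]) *
      (XCover.h * V (gg [2, 3, 4, 6] ++ [5])) at h
    rw [V_append (gg [2, 3, 4, 6] ++ [5]), V_append [0, 2, 3]] at h
    rw [mul_inv_eq_iff_eq_mul, mul_assoc, h, pow_two]
  · intro Q hQ hz ha
    by_cases h : ∀ q ∈ Q, q = 1 ∨ q = S * S
    · exact Or.inl h
    · right
      push Not at h
      obtain ⟨q, hq, q1, qz⟩ := h
      obtain ⟨m, hm, rfl⟩ := exists_em q (hQ hq)
      have c0 : ∀ (b : Bool) {x : ℕ}, PackA.em x ∈ Q → PackA.em (bif b then x else 0) ∈ Q := by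
        intro b x hx
        cases b
        · rw [cond_false, em_zero]
          exact one_mem Q
        · exact hx
      have st : ∀ x, PackA.em x ∈ Q → PackA.em (acw [0, 2, 3] x) ∈ Q := by
        intro x hx
        rw [← word_em (by decide)]
        exact ha _ hx
      have i1 : PackA.em (ia m 1) ∈ Q := st _ hq
      have i2 : PackA.em (ia m 2) ∈ Q := st _ i1
      have i3 : PackA.em (ia m 3) ∈ Q := st _ i2
      have hz' : PackA.em 26 ∈ Q := by rw [em_z]; exact hz
      have hcb : ∀ c, PackA.em (cb m c) ∈ Q := by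
        intro c
        unfold cb
        rw [em_xor, em_xor, em_xor, em_xor]
        exact mul_mem (c0 _ hz') (mul_mem (c0 _ hq) (mul_mem (c0 _ i1) (mul_mem (c0 _ i2) (c0 _ i3))))
      rcases chk_irr m hm with rfl | rfl | h1
      · exact absurd em_zero q1
      · exact absurd em_z qz
      · refine le_antisymm hQ ?_
        rw [XR.E, closure_le]
        rintro x ⟨i, hi, rfl⟩
        obtain ⟨c, -, hc⟩ := h1 i hi
        have h2 := hcb c
        rw [hc] at h2
        interval_cases i <;> exact h2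

/-! ### assembly -/

theorem card_P1 : ¬ 25 ∣ Nat.card P1 := by
  intro h
  have h1 : Nat.card P1 ∣ Nat.card (centralizer ({S * S} : Set RuOrder.H)) := card_dvd_of_le P1_le
  rw [XCover.card_cent] at h1
  have h2 := h.trans h1
  omega

theorem mem_cent {p : RuOrder.H} (h : p * (S * S) = S * S * p) : p ∈ centralizer ({S * S} : Set RuOrder.H) :=
  mem_centralizer_singleton_iff.2 h

theorem com : ∀ p ∈ (⊤ : Subgroup RuOrder.H), ∀ q ∈ (⊤ : Subgroup RuOrder.H), p * (S * S) = S * S * p →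
    q * (S * S) = S * S * q → p * q * p⁻¹ * q⁻¹ ∈ P1 := fun _ _ _ _ hp hq =>
  XF.XF.comm_le XfRes.xf (commutator_mem_commutator (mem_cent hp) (mem_cent hq))

theorem idx : ∀ p ∈ (⊤ : Subgroup RuOrder.H), ∀ q ∈ (⊤ : Subgroup RuOrder.H), p * (S * S) = S * S * p →
    q * (S * S) = S * S * q → p ∉ P1 → q ∉ P1 → p * q ∈ P1 := by
  intro p _ q _ hp hq h1 h2
  have h3 := mem_cent hp
  have h4 := mem_cent hq
  rw [← XCover.M_eq, XCover.mem_M] at h3 h4
  have h5 := h3.resolve_left h1
  have h6 := h4.resolve_left h2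
  have h7 := mul_mem (XCover.conj_h _ h5) h6
  have e : XCover.h * (XCover.h * p) * XCover.h * (XCover.h * q) = p * q := by
    calc XCover.h * (XCover.h * p) * XCover.h * (XCover.h * q) =
        (XCover.h * XCover.h) * p * (XCover.h * XCover.h) * q := by group
      _ = p * q := by rw [XCover.hh]; group
  rwa [e] at h7

/-- **packet P** -/
theorem loc : Cfsg.Agent.OddHalf.D8.RuFam.Loc (⊤ : Subgroup RuOrder.H) (S * S) P1 XR.R
    Cfsg.Agent.OddHalf.D8.RuFam.BDef.B XR.E where
  zK := mem_top _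
  zz := zz
  z1 := z1
  PK := le_top
  Pz := fun p hp => z_comm p hp
  perf := XCover.P1_perf
  com := com
  idx := idx
  card := card_P1
  RP := XR.R_le
  R2 := R_two
  Rn := R_nor
  Rmax := R_max
  RR := PackC.RR
  zE := by rw [← em_z]; exact em_mem _
  EE := E_sq
  RE := RE
  ZR := ZR
  BR := B_le_R
  cenE := fun k _ => ⟨fun hk e he => B_comm k hk e he, fun h => cen_E h⟩
  BP := BP
  BB := fun b hb c hc => BB b hb c hc
  BE := BE
  RRP := RRP
  hom4 := hom4
  dual := dual
  five := five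

end Cfsg.Agent.KFacts.Ru.PackD

end
end

private theorem dce_fdee298810c1 : _root_.True := by
  try have : _root_.True := by simp only [_root_.Cfsg.Agent.KFacts.Ru.PackA.lin.eq_1]
  try have : _root_.True := by simp only [_root_.Cfsg.Agent.KFacts.Ru.PackA.B.eq_1]
  try have : _root_.True := by simp only [_root_.Cfsg.Agent.OddHalf.D9.Ru.XChk.eqv.eq_1]
  try have : _root_.True := by simp only [_root_.Cfsg.Agent.KFacts.Ru.PackA.em.eq_1]
  try have : _root_.True := by simp only [_root_.Cfsg.Agent.OddHalf.D9.Ru.XR.pr.eq_1]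
  exact _root_.True.intro
end

-- part: OddHalf/EightTorus/Rows_mg
section
prune_inst 0x4202004080002000000050210003c06c2000100002b0001d9a002000686df200d002f20c4800b00080022040030004000080050000000000000000041190080802a50060300a104260009809001100000000000000000000000000000041000000000000
set_option linter.all false
open scoped Cfsg.Agent.FastGrp

-- part: OddHalf/EightTorus/Rows
section
-- merged: Cfsg.Agent.OddHalf.EightTorus.Kill
section

/-!
# A simple standard component with elementary abelian Sylow 2-subgroups of order 8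

No counterexample `G` to S1765 has a simple standard component `K` with elementary abelian Sylow 2-subgroups of
order 8 such that `C(K)` has cyclic Sylow 2-subgroups (rows `K = J₁` of D8, `K = ²G₂(q)` of D6; also `L₂(8)`).
-/

set_option autoImplicit false

namespace Cfsg.Agent.OddHalf.EightTorus.Kill

open Subgroup Cfsg Cfsg.Agent.StdL2 Cfsg.Agent.StdL2.G23Aut Cfsg.Agent.OddHalf.Iface
open Cfsg.Agent.OddHalf.Front.FE

universe u

/-- the position -/
structure Pos {G : Type u} [Group G] (K V : Subgroup G) (t q : G) : Prop extends Start K t q where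
  VK : V ≤ K
  odd : ¬ 2 ∣ V.relIndex K
  oct : Oct V

namespace Pos

variable {G : Type u} [Group G] [Finite G] {K V : Subgroup G} {t q : G}

omit [Finite G] in
theorem na (h : Pos K V t q) : ∃ x ∈ K, ∃ y ∈ K, x * y ≠ y * x := by
  by_contra hcon
  push Not at hcon
  have hK : K = ⊥ := by
    rw [eq_bot_iff]
    intro x hx
    exact mem_bot.2 (h.cen x hx fun y hy => hcon y hy x hx)
  have h8 := h.oct.card
  have h1 : V = ⊥ := le_bot_iff.1 (hK ▸ h.VK)
  rw [h1, card_bot] at h8
  omega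

omit [Finite G] in
theorem loc (h : Pos K V t q) : Auto.Loc K V t where
  simple := h.simple
  na := h.na
  VK := h.VK
  odd := h.odd
  oct := h.oct
  Kt := h.toStart.toStart0.Kt
  nK := h.nK

omit [Finite G] in
theorem V2 (h : Pos K V t q) : IsPGroup 2 V := IsPGroup.of_card (n := 3) (by rw [h.oct.card]; norm_num)

/-- `P ∩ K = V` for 2-groups `P` containing `V` -/
theorem inf_eq (h : Pos K V t q) {P : Subgroup G} (hP : IsPGroup 2 P) (hVP : V ≤ P) : P ⊓ K = V := by
  have hp2 : Fact (Nat.Prime 2) := ⟨Nat.prime_two⟩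
  apply le_antisymm _ (le_inf hVP h.VK)
  have h1 : IsPGroup 2 (P ⊓ K : Subgroup G) := hP.to_le inf_le_left
  obtain ⟨m, hm⟩ := h1.index (V.subgroupOf (P ⊓ K))
  have hm' : V.relIndex (P ⊓ K) = 2 ^ m := hm
  have h2 := relIndex_mul_relIndex V (P ⊓ K) K (le_inf hVP h.VK) inf_le_right
  have hm0 : m = 0 := by
    by_contra hne
    apply h.odd
    rw [← h2, hm']
    exact (dvd_pow_self 2 hne).mul_right _
  rw [hm0, pow_zero, relIndex_eq_one] at hm'
  exact hm'

/-- the elements of 2-subgroups of `C(t)` containing `V` -/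
theorem mem_of (h : Pos K V t q) {P : Subgroup G} (hP : IsPGroup 2 P) (hPt : ∀ x ∈ P, x * t = t * x)
    (hVP : V ≤ P) {x : G} (hx : x ∈ P) : ∃ v ∈ V, ∃ c ∈ zpowers q, x = v * c := by
  classical
  have hp2 : Fact (Nat.Prime 2) := ⟨Nat.prime_two⟩
  have hKs := h.simple
  have hcap := h.inf_eq hP hVP
  have hPN : P ≤ normalizer (V : Set G) := by
    intro y hy
    have h1 := h.nK y (hPt y hy)
    rw [mem_normalizer_iff]
    intro z
    have h2 : z ∈ P ↔ y * z * y⁻¹ ∈ P := by
      constructor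
      · intro hz; exact mul_mem (mul_mem hy hz) (inv_mem hy)
      · intro hz
        have h3 : z = y⁻¹ * (y * z * y⁻¹) * y := by group
        rw [h3]
        exact mul_mem (mul_mem (inv_mem hy) hz) hy
    rw [← hcap]
    exact ⟨fun hz => ⟨h2.1 hz.1, (mem_normalizer_iff.1 h1 z).1 hz.2⟩,
      fun hz => ⟨h2.2 hz.1, (mem_normalizer_iff.1 h1 z).2 hz.2⟩⟩
  obtain ⟨d, -, -, -, hd⟩ := h.loc.main
  have hxV := hd P hP hPt hPN x hx
  -- the Sylow subgroup of `K`
  have hV' : IsPGroup 2 (V.subgroupOf K) := h.V2.comap_subtype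
  let S : Sylow 2 K := hV'.toSylow h.odd
  have hSV : (S : Subgroup K) = V.subgroupOf K := rfl
  have hScomm : ∀ x ∈ (S : Subgroup K), ∀ y ∈ (S : Subgroup K), x * y = y * x := by
    intro x hx y hy
    exact Subtype.ext (h.oct.comm (mem_subgroupOf.1 hx) (mem_subgroupOf.1 hy))
  have hna : ∃ a b : K, a * b ≠ b * a := by
    obtain ⟨x, hx, y, hy, hxy⟩ := h.na
    exact ⟨⟨x, hx⟩, ⟨y, hy⟩, fun h1 => hxy (congrArg Subtype.val h1)⟩
  have hS1 : (S : Subgroup K) ≠ ⊥ := by
    intro h1
    have h2 : V = ⊥ := by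
      rw [eq_bot_iff]
      intro v hv
      have h3 : (⟨v, h.VK hv⟩ : K) ∈ (S : Subgroup K) := mem_subgroupOf.2 hv
      rw [h1, mem_bot] at h3
      exact mem_bot.2 (congrArg Subtype.val h3)
    have h8 := h.oct.card
    rw [h2, card_bot] at h8
    omega
  -- the automorphism
  have hxN := h.nK x (hPt x hx)
  let ρ : normalizer (K : Set G) →* MulAut K := K.normalizerMonoidHom
  have hρ : ∀ (n : normalizer (K : Set G)) (y : K), ((ρ n y : K) : G) = n * y * (n : G)⁻¹ := fun _ _ => rfl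
  have hα : IsPGroup 2 (zpowers (ρ ⟨x, hxN⟩)) := by
    obtain ⟨k, hk⟩ := hP ⟨x, hx⟩
    have hk' : x ^ (2 ^ k) = 1 := congrArg Subtype.val hk
    have h2 : (ρ ⟨x, hxN⟩) ^ (2 ^ k) = 1 := by
      rw [← map_pow]
      have h3 : (⟨x, hxN⟩ : normalizer (K : Set G)) ^ (2 ^ k) = 1 := Subtype.ext hk'
      rw [h3, map_one]
    rintro ⟨_, m, rfl⟩
    refine ⟨k, Subtype.ext ?_⟩
    show ((ρ ⟨x, hxN⟩) ^ m) ^ (2 ^ k) = 1
    rw [← zpow_natCast, ← zpow_mul, mul_comm, zpow_mul, zpow_natCast, h2, one_zpow]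
  obtain ⟨v, hvS, hv⟩ := AbelAut.eq_conj hna S hScomm hS1 (ρ ⟨x, hxN⟩) hα (by
    intro s hs
    apply Subtype.ext
    rw [hρ]
    show x * (s : G) * x⁻¹ = s
    rw [hxV s (mem_subgroupOf.1 hs), mul_inv_cancel_right])
  have hvV : (v : G) ∈ V := mem_subgroupOf.1 hvS
  have hvt := h.toStart.toStart0.Kt v v.2
  refine ⟨v, hvV, (v : G)⁻¹ * x, ?_, by group⟩
  apply h.cK
  · have h1 : (v : G)⁻¹ * t = t * (v : G)⁻¹ := ((show Commute (v : G) t from hvt).inv_left)
    rw [mul_assoc, hPt x hx, ← mul_assoc, h1, mul_assoc]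
  · intro y hy
    have h1 := hv ⟨y, hy⟩
    have h2 : x * y * x⁻¹ = (v : G) * y * (v : G)⁻¹ := by
      have h3 := congrArg Subtype.val h1
      rwa [hρ] at h3
    have h3 : x * y = (v : G) * y * (v : G)⁻¹ * x := by rw [← h2]; group
    have h4 : (v : G)⁻¹ * x * y = y * ((v : G)⁻¹ * x) := by
      rw [mul_assoc, h3]; group
    exact h4.symm

omit [Finite G] in
theorem t_not_mem (h : Pos K V t q) : t ∉ V := by
  intro h1
  exact h.t1 (h.cen t (h.VK h1) fun y hy => h.toStart.toStart0.Kt y hy)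

/-- `|Q| = 2` -/
theorem tcen (h : Pos K V t q) (hq : q * q = 1) : TCen t V where
  t2 := h.tt
  tV := h.t_not_mem
  vsq := h.oct.sq
  vt := fun v hv => (h.toStart.toStart0.Kt v (h.VK hv)).symm
  syl := by
    intro P hP hPt hVP _ x hx
    obtain ⟨v, hv, c, hc, rfl⟩ := h.mem_of hP (fun y hy => (hPt y hy).symm) hVP hx
    have hq2 : ∀ k : ℤ, q ^ k * q ^ k = 1 := by
      intro k
      rw [← (Commute.refl q).mul_zpow, hq, one_zpow]
    have h1 : c = 1 ∨ c = t := by
      by_cases hc1 : c = 1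
      · exact Or.inl hc1
      · refine Or.inr (h.toStart.toStart0.uniq hc ?_ hc1)
        obtain ⟨k, rfl⟩ := mem_zpowers_iff.1 hc
        exact hq2 k
    rcases h1 with rfl | rfl
    · left; rwa [mul_one]
    · right
      have h2 : c * (v * c) = v := by
        rw [← mul_assoc, ← h.toStart.toStart0.Kt v (h.VK hv), mul_assoc, h.tt, mul_one]
      rwa [h2]

/-- `t` is a square in `Q` if `|Q| > 2` -/
theorem exists_sq (h : Pos K V t q) (hq : q * q ≠ 1) : ∃ c ∈ zpowers q, c * c = t := by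
  classical
  obtain ⟨k, hk, hkt⟩ := (mem_zpowers_iff_mem_range_orderOf.1 h.tQ |> Finset.mem_image.1)
  have hkt' : q ^ k = t := hkt
  rcases Nat.even_or_odd k with ⟨m, hm⟩ | ho
  · refine ⟨q ^ m, pow_mem (mem_zpowers q) m, ?_⟩
    rw [← pow_add, ← hm, hkt']
  · exfalso
    apply hq
    obtain ⟨n, hn⟩ := IsPGroup.iff_card.1 h.pQ
    rw [Nat.card_zpowers] at hn
    have hcop : Nat.Coprime (orderOf q) k := by
      rw [hn]
      exact Nat.Coprime.pow_left n (Nat.coprime_two_left.2 ho)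
    have h1 : orderOf (q ^ k) = orderOf q := hcop.orderOf_pow
    have h2 : orderOf t = 2 := orderOf_eq_prime (by rw [pow_two]; exact h.tt) h.t1
    rw [hkt', h2] at h1
    rw [← pow_two, h1, pow_orderOf_eq_one]

omit [Finite G] in
/-- the abelian 2-group `VQ` -/
theorem exists_T (h : Pos K V t q) : ∃ T : Subgroup G, (∀ x, x ∈ T ↔ ∃ v ∈ V, ∃ c ∈ zpowers q, x = v * c) ∧
    IsPGroup 2 T := by
  have hcomm : ∀ v ∈ V, ∀ c ∈ zpowers q, v * c = c * v := fun v hv c hc =>
    h.toStart.toStart0.QK c hc v (h.VK hv)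
  let T : Subgroup G :=
    { carrier := {x | ∃ v ∈ V, ∃ c ∈ zpowers q, x = v * c}
      one_mem' := ⟨1, one_mem _, 1, one_mem _, (mul_one _).symm⟩
      mul_mem' := by
        rintro _ _ ⟨v, hv, c, hc, rfl⟩ ⟨w, hw, e, he, rfl⟩
        refine ⟨v * w, mul_mem hv hw, c * e, mul_mem hc he, ?_⟩
        calc v * c * (w * e) = v * (c * w) * e := by group
          _ = v * (w * c) * e := by rw [hcomm w hw c hc]
          _ = v * w * (c * e) := by group
      inv_mem' := by
        rintro _ ⟨v, hv, c, hc, rfl⟩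
        refine ⟨v⁻¹, inv_mem hv, c⁻¹, inv_mem hc, ?_⟩
        rw [mul_inv_rev, hcomm _ (inv_mem hv) _ (inv_mem hc)] }
  refine ⟨T, fun x => Iff.rfl, ?_⟩
  rintro ⟨x, v, hv, c, hc, rfl⟩
  obtain ⟨k, hk⟩ := h.pQ ⟨c, hc⟩
  have hk' : c ^ (2 ^ k) = 1 := congrArg Subtype.val hk
  refine ⟨k + 1, Subtype.ext ?_⟩
  show (v * c) ^ (2 ^ (k + 1)) = 1
  have h1 : Commute v c := hcomm v hv c hc
  rw [h1.mul_pow, pow_succ 2 k, pow_mul c, hk', one_pow, mul_one, mul_comm, pow_mul, pow_two, h.oct.sq v hv,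
    one_pow]

/-- `|Q| > 2` is impossible -/
theorem sq_eq_one (h : Pos K V t q) (C : Ctx G) : q * q = 1 := by
  classical
  have hp2 : Fact (Nat.Prime 2) := ⟨Nat.prime_two⟩
  by_contra hq
  obtain ⟨c0, hc0, hc0t⟩ := h.exists_sq hq
  obtain ⟨T, hT, hTp⟩ := h.exists_T
  have hcomm : ∀ v ∈ V, ∀ c ∈ zpowers q, v * c = c * v := fun v hv c hc =>
    h.toStart.toStart0.QK c hc v (h.VK hv)
  have hVT : V ≤ T := fun v hv => (hT v).2 ⟨v, hv, 1, one_mem _, (mul_one v).symm⟩
  have hQT : zpowers q ≤ T := fun c hc => (hT c).2 ⟨1, one_mem _, c, hc, (one_mul c).symm⟩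
  have hTt : ∀ x ∈ T, x * t = t * x := by
    intro x hx
    obtain ⟨v, hv, c, hc, rfl⟩ := (hT x).1 hx
    have h1 : Commute v t := h.toStart.toStart0.Kt v (h.VK hv)
    have h2 : Commute c t := h.toStart.toStart0.Qt c hc
    exact h1.mul_left h2
  have hTsq : ∀ x ∈ T, x * x ∈ zpowers q := by
    intro x hx
    obtain ⟨v, hv, c, hc, rfl⟩ := (hT x).1 hx
    have h1 : v * c * (v * c) = v * v * (c * c) := by
      calc v * c * (v * c) = v * (c * v) * c := by group
        _ = v * (v * c) * c := by rw [hcomm v hv c hc]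
        _ = v * v * (c * c) := by group
    rw [h1, h.oct.sq v hv, one_mul]
    exact mul_mem hc hc
  have hTab : ∀ x ∈ T, ∀ y ∈ T, x * y = y * x := by
    intro x hx y hy
    obtain ⟨v, hv, c, hc, rfl⟩ := (hT x).1 hx
    obtain ⟨w, hw, e, he, rfl⟩ := (hT y).1 hy
    have h1 : Commute v w := h.oct.comm hv hw
    have h2 : Commute v e := hcomm v hv e he
    have h3 : Commute c w := (hcomm w hw c hc).symm
    have h4 : Commute c e := by
      obtain ⟨a, rfl⟩ := mem_zpowers_iff.1 hc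
      obtain ⟨b, rfl⟩ := mem_zpowers_iff.1 he
      exact (Commute.refl q).zpow_zpow a b
    exact (h1.mul_right h2).mul_left (h3.mul_right h4)
  -- `N(T) ≤ C(t)`
  have hN : ∀ n ∈ normalizer (T : Set G), n * t * n⁻¹ = t := by
    intro n hn
    apply h.toStart.toStart0.uniq
    · have h1 : n * c0 * n⁻¹ ∈ T := (mem_normalizer_iff.1 hn c0).1 (hQT hc0)
      have h2 : n * t * n⁻¹ = n * c0 * n⁻¹ * (n * c0 * n⁻¹) := by rw [← hc0t]; group
      rw [h2]
      exact hTsq _ h1
    · have h2 : n * t * n⁻¹ * (n * t * n⁻¹) = n * (t * t) * n⁻¹ := by group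
      rw [h2, h.tt, mul_one, mul_inv_cancel]
    · intro h2
      apply h.t1
      have h3 : t = n⁻¹ * (n * t * n⁻¹) * n := by group
      rw [h3, h2]; group
  -- `T` is a Sylow subgroup
  obtain ⟨R, hR⟩ := hTp.exists_le_sylow
  have hRT : (R : Subgroup G) = T := by
    by_contra hne
    have hlt : T < (R : Subgroup G) := lt_of_le_of_ne hR (Ne.symm hne)
    have h1 := Cfsg.Agent.SmallSimple.SylowMaxInter.lt_inf_normalizer R.isPGroup' hlt
    obtain ⟨x, hx, hxT⟩ := SetLike.exists_of_lt h1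
    apply hxT
    rw [hT]
    refine h.mem_of (P := (R : Subgroup G) ⊓ normalizer (T : Set G)) (R.isPGroup'.to_le inf_le_left) ?_ ?_ hx
    · intro y hy
      have h2 := hN y hy.2
      rwa [mul_inv_eq_iff_eq_mul] at h2
    · exact le_inf (hVT.trans hR) (hVT.trans le_normalizer)
  have htR : t ∈ (R : Subgroup G) := by rw [hRT]; exact hQT h.tQ
  have hRc : IsMulCommutative (R : Subgroup G) := ⟨⟨fun x y => Subtype.ext
    (hTab x (hRT ▸ x.2) y (hRT ▸ y.2))⟩⟩
  have hot : orderOf t = 2 := orderOf_eq_prime (by rw [pow_two]; exact h.tt) h.t1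
  obtain ⟨O, hO, hOodd, hOc⟩ := Cfsg.Agent.S0215.result R t hot htR (by
    intro g hg
    obtain ⟨n, hn, h3⟩ := Sylow.conj_eq_normalizer_conj_of_mem R t g⁻¹ htR (by rwa [inv_inv])
    rw [inv_inv] at h3
    rw [h3]
    have hn' : n ∈ normalizer (T : Set G) := by rw [← hRT]; exact hn
    have h4 := hN n⁻¹ (inv_mem hn')
    rwa [inv_inv] at h4)
  have hs := C.simple
  have hO1 : O = ⊥ := by
    rcases hO.eq_bot_or_eq_top with h1 | h1
    · exact h1
    · exfalso
      rw [h1, card_top] at hOodd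
      have h3 : 2 ∣ Nat.card G := by rw [← hot]; exact _root_.orderOf_dvd_natCard t
      exact (Nat.not_even_iff_odd.2 hOodd) (even_iff_two_dvd.2 h3)
  have hcen : t ∈ center G := by
    rw [mem_center_iff]
    intro g
    have h3 := hOc g
    rw [hO1, mem_bot, mul_inv_eq_one, mul_inv_eq_iff_eq_mul] at h3
    exact h3.symm
  rcases (inferInstance : (center G).Normal).eq_bot_or_eq_top with h1 | h1
  · rw [h1, mem_bot] at hcen
    exact h.t1 hcen
  · apply C.na
    exact ⟨⟨fun a b => mem_center_iff.1 (by rw [h1]; trivial : b ∈ center G) a⟩⟩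

omit [Finite G] in
/-- Thompson transfer -/
theorem transfer (C : Ctx G) (S : Sylow 2 G) {U : Subgroup G} (hU : U ≤ (S : Subgroup G))
    (hidx : U.relIndex (S : Subgroup G) = 2) {t : G} (htt : t * t = 1) (hno : ∀ g : G, g * t * g⁻¹ ∉ U) : False := by
  have := C.fin
  rcases Cfsg.Agent.Transfer.ThompsonTransfer.thompson_transfer S U hU hidx t (by rw [pow_two]; exact htt) with
    ⟨M, -, hM, -⟩ | ⟨g, hg⟩
  · exact index_ne_two C M hM
  · exact hno g hg

/-- **The kill.** -/
theorem false (h : Pos K V t q) (C : Ctx G) : False := by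
  classical
  have hp2 : Fact (Nat.Prime 2) := ⟨Nat.prime_two⟩
  have H := h.tcen (h.sq_eq_one C)
  obtain ⟨d, -, -, hd, -⟩ := h.loc.main
  rcases tower H (by rw [h.oct.card]; norm_num) hd with ⟨S, hS⟩ | ⟨U, hU⟩ | ⟨k, W, d', X⟩
  · -- `|S| = 16`
    have hc : Nat.card (S : Subgroup G) ≤ 16 := by
      have h1 : ((S : Subgroup G) : Set G) = (V : Set G) ∪ ((fun x => t * x) '' (V : Set G)) := by
        ext x
        constructor
        · intro hx
          rcases (hS x).1 hx with h | h'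
          · exact Or.inl h
          · refine Or.inr ⟨t * x, h', ?_⟩
            show t * (t * x) = x
            rw [← mul_assoc, h.tt, one_mul]
        · rintro (hx | ⟨y, hy, rfl⟩)
          · exact (hS x).2 (Or.inl hx)
          · refine (hS _).2 (Or.inr ?_)
            show t * (t * y) ∈ V
            rw [← mul_assoc, h.tt, one_mul]
            exact hy
      have h2 : Nat.card (S : Subgroup G) = Set.ncard ((S : Subgroup G) : Set G) := rfl
      rw [h2, h1]
      refine (Set.ncard_union_le _ _).trans ?_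
      have h3 : Set.ncard ((fun x => t * x) '' (V : Set G)) ≤ Set.ncard (V : Set G) :=
        Set.ncard_image_le (Set.toFinite _)
      have h4 : Set.ncard (V : Set G) = 8 := h.oct.card
      omega
    apply C.sect5
    intro A N hN B hB hBel
    have hBp : IsPGroup 2 B := by
      intro b
      refine ⟨1, Subtype.ext ?_⟩
      show (b : A ⧸ N) ^ (2 ^ 1) = 1
      rw [pow_one]
      exact hBel b b.2
    obtain ⟨m, hm⟩ := IsPGroup.iff_card.1 hBp
    have h1 : Nat.card B ∣ Nat.card G := by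
      refine (card_subgroup_dvd_card B).trans (Dvd.dvd.trans ?_ (card_subgroup_dvd_card A))
      exact card_quotient_dvd_card N
    rw [hm] at h1
    have h2 : 2 ^ m ∣ Nat.card (S : Subgroup G) := by
      rw [S.card_eq_multiplicity]
      exact (Nat.Prime.pow_dvd_iff_dvd_ordProj Nat.prime_two (Nat.card_pos.ne')).1 h1
    rw [hm]
    have h3 := Nat.le_of_dvd Nat.card_pos h2
    omega
  · -- `Stop`
    obtain ⟨S, hS⟩ := hU.syl
    refine transfer C S (U := U) (fun x hx => (hS x).2 (Or.inl hx)) ?_ h.tt hU.noconj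
    have htS : t ∈ (S : Subgroup G) := (hS t).2 (Or.inr (by rw [h.tt]; exact one_mem _))
    rw [relIndex, index_eq_two_iff_exists_notMem_and]
    refine ⟨⟨t, htS⟩, fun h1 => hU.tU (mem_subgroupOf.1 h1), ?_⟩
    rintro ⟨x, hx⟩
    rcases (hS x).1 hx with h1 | h1
    · exact Or.inr (mem_subgroupOf.2 h1)
    · left
      refine mem_subgroupOf.2 ?_
      show x * t ∈ U
      have h2 := hU.norm _ h1
      have h3 : t * (t * x) * t⁻¹ = x * t := by
        rw [← mul_assoc, h.tt, one_mul, inv_eq_of_mul_eq_one_right h.tt]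
      rwa [h3] at h2
  · rcases Nat.eq_zero_or_pos k with rfl | hk
    · have hs := C.simple
      have e : (⊤ : Subgroup G) ≃* G := topEquiv
      have h1 : IsSimpleGroup (⊤ : Subgroup G) := e.isSimpleGroup
      refine (Exc.loc H X).t_not_mem ⊤ h1 ?_ (mem_top t)
      intro h2
      apply C.na
      exact ⟨⟨fun a b => congrArg Subtype.val (h2.is_comm.comm ⟨a, mem_top a⟩ ⟨b, mem_top b⟩)⟩⟩
    · obtain ⟨S0, hS0⟩ := X.exists_ES H
      obtain ⟨U, hU, hWU, htU, hidx⟩ := hS0.exists_U0 H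
      obtain ⟨R, hR⟩ := hS0.sylow H hk
      refine transfer C R (U := U) (by rw [hR]; exact hU) (by rw [hR]; exact hidx) h.tt ?_
      exact hS0.noconj H hk hU hWU htU

end Pos

end Cfsg.Agent.OddHalf.EightTorus.Kill

end

-- merged: Cfsg.Agent.OddHalf.EightTorus.Rows
section

/-!
# Rows `K = J₁` (D8) and `K = ²G₂(q)` (D6) of the ODD half
-/

set_option autoImplicit false

namespace Cfsg.Agent.OddHalf.EightTorus.Rows

open Subgroup Cfsg Cfsg.Agent.OddHalf.Iface Cfsg.Agent.StdL2.G23Aut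

universe u

/-- a simple standard component with elementary abelian Sylow 2-subgroups of order 8 -/
theorem row (G : Type u) [Group G] (C : Ctx G) (K : Subgroup G) (S : Std G K) (hcyc : Cyc K)
    (P : Sylow 2 ↥K) (h8 : Nat.card ↥(P : Subgroup ↥K) = 8) (hsq : ∀ x ∈ P, x * x = 1)
    (hcen : center ↥K = ⊥) : False := by
  have := C.fin
  have hp2 : Fact (Nat.Prime 2) := ⟨Nat.prime_two⟩
  obtain ⟨t, q, hst⟩ := Front.FE.exists_start C S hcyc hcen
  refine Kill.Pos.false (K := K) (V := (P : Subgroup ↥K).map K.subtype) (t := t) (q := q)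
    ⟨hst, ?_, ?_, ?_, ?_⟩ C
  · rintro _ ⟨x, -, rfl⟩
    exact x.2
  · rw [relIndex, subgroupOf, comap_map_eq_self_of_injective K.subtype_injective]
    exact P.not_dvd_index
  · rw [card_map_of_injective K.subtype_injective]
    exact h8
  · rintro _ ⟨x, hx, rfl⟩
    exact congrArg Subtype.val (hsq x hx)

/-- a group isomorphic to `K` -/
theorem row_of_equiv (G : Type u) [Group G] (C : Ctx G) (K : Subgroup G) (S : Std G K) (hcyc : Cyc K)
    {Z : Type*} [Group Z] (e : ↥K ≃* Z) (Q : Sylow 2 Z)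
    (h8 : Nat.card Q = 8) (hQ : ∀ x ∈ Q, x * x = 1) (hZ : center Z = ⊥) : False := by
  have := C.fin
  have hle : (Q : Subgroup Z) ≤ e.toMonoidHom.range := by
    rw [MonoidHom.range_eq_top.mpr e.surjective]; exact le_top
  let P : Sylow 2 ↥K := Q.comapOfInjective e.toMonoidHom e.injective hle
  have hS : ∀ s, s ∈ (P : Subgroup ↥K) ↔ e s ∈ (Q : Subgroup Z) := fun s => Iff.rfl
  refine row G C K S hcyc P ?_ ?_ ?_
  · rw [← h8]
    exact Nat.card_congr ⟨fun s => ⟨e s, (hS s).1 s.2⟩, fun t => ⟨e.symm t, (hS _).2 (by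
      rw [e.apply_symm_apply]; exact t.2)⟩, fun s => Subtype.ext (e.symm_apply_apply _),
      fun t => Subtype.ext (e.apply_symm_apply _)⟩
  · intro s hs
    apply e.injective
    rw [map_mul, map_one]
    exact hQ _ ((hS s).1 hs)
  · rw [eq_bot_iff]
    intro x hx
    have h1 : e x ∈ center Z := by
      rw [mem_center_iff] at hx ⊢
      intro z
      have h2 := congrArg e (hx (e.symm z))
      rwa [map_mul, map_mul, e.apply_symm_apply] at h2
    rw [hZ, mem_bot] at h1
    rw [mem_bot]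
    apply e.injective
    rw [h1, map_one]

/-- the centre of a nonabelian simple group -/
theorem center_eq_bot {Z : Type*} [Group Z] (hZ : IsSimpleGroup Z) (hna : ¬ IsMulCommutative Z) :
    center Z = ⊥ := by
  rcases (inferInstance : (center Z).Normal).eq_bot_or_eq_top with h1 | h1
  · exact h1
  · exfalso
    apply hna
    exact ⟨⟨fun a b => mem_center_iff.1 (by rw [h1]; trivial : b ∈ center Z) a⟩⟩

/-- **Row `K = ²G₂(q)`** (D6) -/
theorem ree : OddHalf.D8.Rows.Row.{u} (fun K _ => Lie.IsoRee K) := by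
  intro G _ C K S hcyc hX
  obtain ⟨F, _, _, m, hm, hF, ⟨e⟩⟩ := hX
  obtain ⟨a, haH, ha1, ha2⟩ := Cfsg.Agent.S1157.exists_involution hF
  obtain ⟨-, hS⟩ := Cfsg.Agent.S1152.result hF a haH ha1 ha2
  obtain ⟨Q⟩ : Nonempty (Sylow 2 ↥(Cfsg.Lie.twistedG2 F (3 ^ m))) := inferInstance
  refine row_of_equiv G C K S hcyc e Q (hS Q).1 (hS Q).2 ?_
  have h1 := Cfsg.Agent.S1073.result hm hF
  exact center_eq_bot h1.1 h1.2

open Cfsg.Agent.SporadicB.J1.Main in
/-- **Row `K = J₁`** (D8) -/
theorem j1 : OddHalf.D8.Rows.Row.{u} (fun K _ => Spor.IsoJ1 K) := by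
  intro G _ C K S hcyc hX
  obtain ⟨e0⟩ := hX
  have hE : Nat.card data.E = 8 := data.card_E
  have hcard : Nat.card Cfsg.Spor.J1 = 175560 := isJ1.2
  have hfin : Finite Cfsg.Spor.J1 := Nat.finite_of_card_ne_zero (by rw [hcard]; norm_num)
  have : Fact (Nat.Prime 2) := ⟨Nat.prime_two⟩
  have hmul : Nat.card data.E = 2 ^ (Nat.card Cfsg.Spor.J1).factorization 2 := by
    rw [hE, hcard, show (175560 : ℕ) = 2 ^ 3 * 21945 by norm_num,
      Nat.factorization_mul (by norm_num) (by norm_num), Nat.Prime.factorization_pow Nat.prime_two]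
    rw [Finsupp.add_apply, Finsupp.single_eq_same,
      Nat.factorization_eq_zero_of_not_dvd (by norm_num : ¬ 2 ∣ 21945)]
    norm_num
  let P : Sylow 2 Cfsg.Spor.J1 := Sylow.ofCard data.E hmul
  refine row_of_equiv G C K S hcyc e0 P hE ?_ ?_
  · intro x hx
    obtain ⟨i, rfl⟩ : x ∈ Set.range data.e := hx
    exact ((rep_e i).mul (rep_e i)).eq Rep.one (ce_sq i)
  · refine center_eq_bot (isJ1.1) ?_
    intro hcomm
    have h1 := isJ1.1
    have hn : data.E.Normal := ⟨fun x hx g => by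
      have h2 : g * x = x * g := hcomm.is_comm.comm g x
      rwa [h2, mul_inv_cancel_right]⟩
    rcases hn.eq_bot_or_eq_top with h2 | h2
    · rw [h2, card_bot] at hE
      omega
    · rw [h2, card_top, hcard] at hE
      omega

end Cfsg.Agent.OddHalf.EightTorus.Rows

end
end

-- part: OddHalf/D8/SignKill
section
/-!
The sign kill. `G` finite, `t` an involution of `N ≤ G`, `M ⊴ N`, `t` and all involutions of `t M`
conjugate under `M`, `C_G(t) = ⟨t⟩ × K`, `(K ∩ N) M / M ≅ L` where `L` has Sylow 2-subgroups of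
order 8, one class of involutions and `1 mod 4` involutions. If `t w` is conjugate to `t` in `N`,
`w` is not conjugate to `t` in `G` and `|K : K ∩ N|` is odd, the sign of the conjugation action of
`N` on the class of `t M` transfers to a homomorphism `G → {± 1}` with `t ↦ -1`.
-/

set_option autoImplicit false

namespace Cfsg.Agent.OddHalf.D8.SignKill

open MulAction

section Transfer

variable {G : Type*} [Group G] [Finite G]

/-- transfer of a sign: only the cosets in the orbit of the base point under `K` count. -/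
theorem transfer_eq_neg_one (N K : Subgroup G) (φ : N →* ℤˣ) (t : G) (ht2 : t * t = 1)
    (htN : t ∈ N) (hφt : φ ⟨t, htN⟩ = -1)
    (hφ : ∀ x : G, ∀ hx : x ∈ N, IsConj t x → (¬ ∃ n ∈ N, n * t * n⁻¹ = x) → φ ⟨x, hx⟩ = 1)
    (hKt : ∀ k ∈ K, k * t = t * k)
    (hK : ∀ c : G, c * t = t * c → ∃ k ∈ K, ∃ n ∈ N, c = k * n)
    (hodd : Odd (N.relIndex K)) : MonoidHom.transfer φ t = -1 := by
  classical
  have hfin : Finite (G ⧸ N) := inferInstance
  have := Fintype.ofFinite (G ⧸ N)
  have := Fintype.ofFinite (Quotient (orbitRel (Subgroup.zpowers t) (G ⧸ N)))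
  rw [MonoidHom.transfer_eq_prod_quotient_orbitRel_zpowers_quot]
  set S : Set (G ⧸ N) := orbit K ((1 : G) : G ⧸ N) with hS
  have hmemS : ∀ x : G ⧸ N, x ∈ S ↔ ∃ k ∈ K, ((k : G) : G ⧸ N) = x := by
    intro x
    rw [hS, mem_orbit_iff]
    constructor
    · rintro ⟨k, hk⟩
      refine ⟨k, k.2, ?_⟩
      rw [← hk]
      show _ = ((k : G) • ((1 : G) : G ⧸ N))
      rw [MulAction.Quotient.smul_coe, smul_eq_mul, mul_one]
    · rintro ⟨k, hk, hkx⟩
      refine ⟨⟨k, hk⟩, ?_⟩
      rw [← hkx]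
      show ((k : G) • ((1 : G) : G ⧸ N)) = _
      rw [MulAction.Quotient.smul_coe, smul_eq_mul, mul_one]
  have hfixS : ∀ x ∈ S, t • x = x := by
    intro x hx
    obtain ⟨k, hk, hkx⟩ := (hmemS x).mp hx
    rw [← hkx, MulAction.Quotient.smul_coe, smul_eq_mul, ← hKt k hk]
    rw [QuotientGroup.eq]
    have : (k * t)⁻¹ * k = t⁻¹ := by group
    rw [this]
    exact N.inv_mem htN
  have hmin : ∀ x : G ⧸ N, Function.minimalPeriod (t • ·) x = 1 ∨
      Function.minimalPeriod (t • ·) x = 2 := by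
    intro x
    have h1 : Function.IsPeriodicPt (t • ·) 2 x := by
      show (t • ·)^[2] x = x
      simp only [Function.iterate_succ, Function.iterate_zero, Function.comp, id]
      rw [← mul_smul, ht2, one_smul]
    exact (Nat.dvd_prime Nat.prime_two).mp h1.minimalPeriod_dvd
  have hminS : ∀ x ∈ S, Function.minimalPeriod (t • ·) x = 1 := by
    intro x hx
    rw [Function.minimalPeriod_eq_one_iff_isFixedPt]
    exact hfixS x hx
  have hfac : ∀ q : Quotient (orbitRel (Subgroup.zpowers t) (G ⧸ N)),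
      φ ⟨q.out.out⁻¹ * t ^ Function.minimalPeriod (t • ·) q.out * q.out.out,
        QuotientGroup.out_conj_pow_minimalPeriod_mem N t q.out⟩ =
      if q.out ∈ S then -1 else 1 := by
    intro q
    have hmem := QuotientGroup.out_conj_pow_minimalPeriod_mem N t q.out
    split_ifs with hq
    · obtain ⟨k, hk, hkx⟩ := (hmemS _).mp hq
      have h1 := hminS _ hq
      have h2 : k⁻¹ * q.out.out ∈ N := by
        rw [← QuotientGroup.eq, hkx, QuotientGroup.out_eq']
      set n : N := ⟨k⁻¹ * q.out.out, h2⟩ with hn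
      have h3 : (⟨q.out.out⁻¹ * t ^ Function.minimalPeriod (t • ·) q.out * q.out.out, hmem⟩ : N) =
          n⁻¹ * ⟨t, htN⟩ * n := by
        apply Subtype.ext
        simp only [h1, pow_one, Subgroup.coe_mul, Subgroup.coe_inv, hn]
        have h4 : k * t * k⁻¹ = t := by rw [hKt k hk]; group
        calc q.out.out⁻¹ * t * q.out.out = q.out.out⁻¹ * (k * t * k⁻¹) * q.out.out := by rw [h4]
          _ = _ := by group
      rw [h3, map_mul, map_mul, map_inv, hφt, mul_comm, ← mul_assoc, mul_inv_cancel, one_mul]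
    · rcases hmin q.out with h | h
      · have hmem' : q.out.out⁻¹ * t * q.out.out ∈ N := by
          have := hmem
          rwa [h, pow_one] at this
        have h3 : (⟨q.out.out⁻¹ * t ^ Function.minimalPeriod (t • ·) q.out * q.out.out, hmem⟩ : N) =
            ⟨q.out.out⁻¹ * t * q.out.out, hmem'⟩ := by
          apply Subtype.ext
          simp only [h, pow_one]
        rw [h3]
        apply hφ
        · rw [isConj_iff]
          exact ⟨q.out.out⁻¹, by simp only [inv_inv]⟩
        · rintro ⟨n, hn, hnx⟩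
          apply hq
          have h5 : (q.out.out * n) * t = t * (q.out.out * n) := by
            have h6 : q.out.out * (n * t * n⁻¹) * q.out.out⁻¹ = t := by rw [hnx]; group
            calc (q.out.out * n) * t = (q.out.out * (n * t * n⁻¹) * q.out.out⁻¹) *
                  (q.out.out * n) := by group
              _ = _ := by rw [h6]
          obtain ⟨k, hk, n', hn', hkn⟩ := hK _ h5
          rw [hmemS]
          refine ⟨k, hk, ?_⟩
          have h7 : ((k : G) : G ⧸ N) = ((q.out.out : G) : G ⧸ N) := by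
            rw [QuotientGroup.eq]
            have h8 : q.out.out = k * n' * n⁻¹ := by rw [← hkn]; group
            have h9 : k⁻¹ * q.out.out = n' * n⁻¹ := by rw [h8]; group
            rw [h9]
            exact N.mul_mem hn' (N.inv_mem hn)
          rw [h7, QuotientGroup.out_eq']
      · have key : (⟨q.out.out⁻¹ * t ^ Function.minimalPeriod (t • ·) q.out * q.out.out,
          QuotientGroup.out_conj_pow_minimalPeriod_mem N t q.out⟩ : N) = 1 := by
          apply Subtype.ext
          simp only [Subgroup.coe_one]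
          rw [h, pow_two, ht2]
          group
        rw [key, map_one]
  rw [Finset.prod_congr rfl (fun q _ => hfac q), Finset.prod_ite, Finset.prod_const_one, mul_one,
    Finset.prod_const]
  have hcard : (Finset.univ.filter (fun q : Quotient (orbitRel (Subgroup.zpowers t) (G ⧸ N)) =>
      q.out ∈ S)).card = N.relIndex K := by
    have h1 : (Finset.univ.filter (fun q : Quotient (orbitRel (Subgroup.zpowers t) (G ⧸ N)) =>
      q.out ∈ S)).card = (Finset.univ.filter (fun x : G ⧸ N => x ∈ S)).card := by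
      refine Finset.card_bij (fun q _ => q.out) ?_ ?_ ?_
      · intro q hq
        simpa using hq
      · intro q _ q' _ h
        rw [← Quotient.out_eq q, ← Quotient.out_eq q', h]
      · intro x hx
        have hxS : x ∈ S := by simpa using hx
        have h2 : (Quotient.mk (orbitRel (Subgroup.zpowers t) (G ⧸ N)) x).out = x := by
          have h3 : (orbitRel (Subgroup.zpowers t) (G ⧸ N))
              (Quotient.mk (orbitRel (Subgroup.zpowers t) (G ⧸ N)) x).out x :=
            Quotient.mk_out x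
          rw [orbitRel_apply, mem_orbit_iff] at h3
          obtain ⟨⟨y, hy⟩, h4⟩ := h3
          obtain ⟨m, rfl⟩ := Subgroup.mem_zpowers_iff.mp hy
          rw [← h4]
          show t ^ m • x = x
          have h5 : t ∈ stabilizer G x := hfixS x hxS
          exact (stabilizer G x).zpow_mem h5 m
        refine ⟨Quotient.mk _ x, ?_, h2⟩
        simp only [Finset.mem_filter, Finset.mem_univ, true_and, h2]
        exact hxS
    rw [h1]
    have h2 : (Finset.univ.filter (fun x : G ⧸ N => x ∈ S)).card = S.ncard := by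
      rw [← Set.ncard_coe_finset]
      congr 1
      ext x
      simp
    rw [h2, hS, ← MulAction.index_stabilizer]
    show _ = (N.subgroupOf K).index
    congr 1
    ext k
    rw [mem_stabilizer_iff, Subgroup.mem_subgroupOf]
    show ((k : G) • ((1 : G) : G ⧸ N)) = _ ↔ _
    rw [MulAction.Quotient.smul_coe, smul_eq_mul, mul_one, eq_comm, QuotientGroup.eq, inv_one,
      one_mul]
  rw [hcard]
  exact hodd.neg_one_pow

end Transfer

section Sign

variable {Y : Type*} [Group Y] [Finite Y]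

/-- the conjugation action on the class of `τ` -/
def conjPerm (τ : Y) : Y →* Equiv.Perm {y : Y // IsConj τ y} where
  toFun g :=
    { toFun := fun d => ⟨g * d * g⁻¹, d.2.trans (isConj_iff.mpr ⟨g, rfl⟩)⟩
      invFun := fun d => ⟨g⁻¹ * d * g, d.2.trans (isConj_iff.mpr ⟨g⁻¹, by simp⟩)⟩
      left_inv := fun d => Subtype.ext (by simp [mul_assoc])
      right_inv := fun d => Subtype.ext (by simp [mul_assoc]) }
  map_one' := by
    ext d
    simp only [_root_.one_mul, _root_.inv_one, _root_.mul_one, _root_.Subtype.coe_eta, _root_.Equiv.coe_fn_mk, _root_.Equiv.Perm.coe_one, _root_.id_eq]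
  map_mul' g h := by
    ext d
    simp only [mul_assoc, _root_.mul_inv_rev, _root_.Equiv.coe_fn_mk, _root_.Equiv.Perm.coe_mul, _root_.Function.comp_apply]

open Classical in
/-- the sign of the conjugation action on the class of `τ` -/
noncomputable def mu (τ : Y) : Y →* ℤˣ :=
  letI := Fintype.ofFinite {y : Y // IsConj τ y}
  Equiv.Perm.sign.comp (conjPerm τ)

theorem mu_eq (τ y : Y) (hy : y * y = 1) :
    mu τ y = (-1) ^ ((Nat.card {d : Y // IsConj τ d} -
      Nat.card {d : Y // IsConj τ d ∧ y * d = d * y}) / 2) := by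
  classical
  let := Fintype.ofFinite {y : Y // IsConj τ y}
  have h1 : mu τ y = Equiv.Perm.sign (conjPerm τ y) := by
    unfold mu
    simp only [MonoidHom.comp_apply]
  have h2 : (conjPerm τ y) ^ 2 = 1 := by
    rw [← map_pow, pow_two, hy, map_one]
  rw [h1, Equiv.Perm.sign_of_pow_two_eq_one h2, ← Nat.card_eq_fintype_card]
  congr 3
  rw [← Nat.card_eq_fintype_card]
  refine Nat.card_congr
    { toFun := fun x => ⟨x.1.1, x.1.2, ?_⟩
      invFun := fun d => ⟨⟨d.1, d.2.1⟩, ?_⟩
      left_inv := fun x => rfl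
      right_inv := fun x => rfl }
  · have h3 : y * x.1.1 * y⁻¹ = x.1.1 := congrArg Subtype.val x.2
    exact mul_inv_eq_iff_eq_mul.mp h3
  · apply Subtype.ext
    show y * d.1 * y⁻¹ = d.1
    exact mul_inv_eq_iff_eq_mul.mpr d.2.2

/-- `C_Y(τ) = ⟨τ⟩ × L`, `τ w ~ τ` for all involutions `w ∈ L`, `L` misses the class of `τ`. -/
theorem card_fixed (τ : Y) (hτ : τ * τ = 1) (L : Subgroup Y) (hLτ : ∀ l ∈ L, l * τ = τ * l)
    (hC : ∀ y : Y, y * τ = τ * y → y ∈ L ∨ τ * y ∈ L)
    (hw : ∀ w ∈ L, w * w = 1 → w ≠ 1 → IsConj τ (τ * w))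
    (hw' : ∀ w ∈ L, ¬ IsConj τ w) :
    Nat.card {d : Y // IsConj τ d ∧ τ * d = d * τ} =
      Nat.card {l : L // l * l = 1 ∧ l ≠ 1} + 1 := by
  classical
  have hsq : ∀ d : Y, IsConj τ d → d * d = 1 := by
    intro d hd
    obtain ⟨c, rfl⟩ := isConj_iff.mp hd
    calc c * τ * c⁻¹ * (c * τ * c⁻¹) = c * (τ * τ) * c⁻¹ := by group
      _ = 1 := by rw [hτ]; group
  rw [← Finite.card_option]
  refine Nat.card_congr
    { toFun := fun d => if h : d.1 = τ then none else
        some ⟨⟨τ * d.1, ?_⟩, ?_, ?_⟩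
      invFun := fun l => match l with
        | none => ⟨τ, IsConj.refl τ, rfl⟩
        | some l => ⟨τ * l.1.1, hw _ l.1.2 ?_ ?_, ?_⟩
      left_inv := ?_
      right_inv := ?_ }
  · rcases hC d.1 d.2.2.symm with h1 | h1
    · exact absurd d.2.1 (hw' _ h1)
    · exact h1
  · apply Subtype.ext
    show τ * d.1 * (τ * d.1) = 1
    calc τ * d.1 * (τ * d.1) = τ * (d.1 * τ) * d.1 := by simp only [mul_assoc]
      _ = τ * (τ * d.1) * d.1 := by rw [d.2.2]
      _ = (τ * τ) * (d.1 * d.1) := by simp only [mul_assoc]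
      _ = 1 := by rw [hτ, hsq _ d.2.1, mul_one]
  · intro h1
    have h2 : τ * d.1 = 1 := congrArg Subtype.val h1
    apply h
    calc d.1 = τ * (τ * d.1) := by rw [← mul_assoc, hτ, one_mul]
      _ = τ := by rw [h2, mul_one]
  · exact congrArg Subtype.val l.2.1
  · intro h1
    exact l.2.2 (Subtype.ext h1)
  · show τ * (τ * l.1.1) = τ * l.1.1 * τ
    rw [mul_assoc τ l.1.1 τ, hLτ _ l.1.2]
  · rintro ⟨d, hd⟩
    by_cases h : d = τ
    · simp only [h, dite_true]
    · simp only [h, dite_false]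
      apply Subtype.ext
      show τ * (τ * d) = d
      rw [← mul_assoc, hτ, one_mul]
  · intro l
    match l with
    | none => simp
    | some l =>
      have h1 : ¬ τ * l.1.1 = τ := by
        intro h2
        apply l.2.2
        apply Subtype.ext
        show l.1.1 = 1
        exact mul_eq_left.mp h2
      simp only [h1, dite_false]
      congr 1
      apply Subtype.ext
      apply Subtype.ext
      show τ * (τ * l.1.1) = l.1.1
      rw [← mul_assoc, hτ, one_mul]

theorem mu_self (τ : Y) (hτ : τ * τ = 1) (L : Subgroup Y) (hLτ : ∀ l ∈ L, l * τ = τ * l)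
    (hC : ∀ y : Y, y * τ = τ * y → y ∈ L ∨ τ * y ∈ L)
    (hw : ∀ w ∈ L, w * w = 1 → w ≠ 1 → IsConj τ (τ * w))
    (hw' : ∀ w ∈ L, ¬ IsConj τ w)
    (hI : Nat.card {l : L // l * l = 1 ∧ l ≠ 1} % 4 = 1)
    (h4 : 4 ∣ Nat.card {d : Y // IsConj τ d}) : mu τ τ = -1 := by
  rw [mu_eq τ τ hτ, card_fixed τ hτ L hLτ hC hw hw']
  have hle : Nat.card {d : Y // IsConj τ d ∧ τ * d = d * τ} ≤ Nat.card {d : Y // IsConj τ d} :=
    Nat.card_le_card_of_injective (fun d => ⟨d.1, d.2.1⟩) (by
      intro a b h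
      exact Subtype.ext (Subtype.mk.inj h))
  rw [card_fixed τ hτ L hLτ hC hw hw'] at hle
  apply Odd.neg_one_pow
  rw [Nat.odd_iff]
  omega

theorem mu_other (τ : Y) (hτ : τ * τ = 1) (L : Subgroup Y)
    (hC : ∀ y : Y, y * τ = τ * y → y ∈ L ∨ τ * y ∈ L)
    (hLperf : ∀ f : L →* ℤˣ, ∀ l, f l = 1)
    (hw : ∀ w ∈ L, w * w = 1 → w ≠ 1 → IsConj τ (τ * w))
    (h4 : 4 ∣ Nat.card {d : Y // IsConj τ d}) (y : Y) (hy : y * y = 1) (hny : ¬ IsConj τ y) :
    mu τ y = 1 := by
  by_cases h : ∃ d, IsConj τ d ∧ y * d = d * y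
  · obtain ⟨d, hd, hyd⟩ := h
    obtain ⟨c, rfl⟩ := isConj_iff.mp hd
    set y' := c⁻¹ * y * c with hy'
    have h1 : y' * τ = τ * y' := by
      calc y' * τ = c⁻¹ * (y * (c * τ * c⁻¹)) * c := by rw [hy']; group
        _ = c⁻¹ * (c * τ * c⁻¹ * y) * c := by rw [hyd]
        _ = τ * y' := by rw [hy']; group
    have h2 : y' * y' = 1 := by
      calc y' * y' = c⁻¹ * (y * y) * c := by rw [hy']; group
        _ = 1 := by rw [hy]; group
    have h3 : y = c * y' * c⁻¹ := by rw [hy']; group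
    rcases hC y' h1 with h4 | h4
    · have h5 := hLperf ((mu τ).comp L.subtype) ⟨y', h4⟩
      have h6 : mu τ y' = 1 := h5
      rw [h3, map_mul, map_mul, h6, mul_one, map_inv, mul_inv_cancel]
    · exfalso
      have h5 : (τ * y') * (τ * y') = 1 := by
        calc (τ * y') * (τ * y') = τ * (y' * τ) * y' := by simp only [mul_assoc]
          _ = (τ * τ) * (y' * y') := by rw [h1]; simp only [mul_assoc]
          _ = 1 := by rw [hτ, h2, mul_one]
      have h6 : τ * (τ * y') = y' := by rw [← mul_assoc, hτ, one_mul]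
      apply hny
      rw [h3]
      refine IsConj.trans ?_ (isConj_iff.mpr ⟨c, rfl⟩)
      by_cases h7 : τ * y' = 1
      · have h8 : y' = τ := by rw [← h6, h7, mul_one]
        rw [h8]
      · have h8 := hw _ h4 h5 h7
        rwa [h6] at h8
  · rw [mu_eq τ y hy]
    have h1 : Nat.card {d : Y // IsConj τ d ∧ y * d = d * y} = 0 := by
      rw [Nat.card_eq_zero]
      left
      exact ⟨fun d => h ⟨d.1, d.2⟩⟩
    rw [h1]
    apply Even.neg_one_pow
    rw [Nat.even_iff]
    omega

omit [Finite Y] in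
/-- orbit-stabiliser for conjugates of `τ` -/
theorem card_eq (τ : Y) (S : Subgroup Y) (X : Set Y) (h1 : ∀ s ∈ S, s * τ * s⁻¹ ∈ X)
    (h2 : ∀ x ∈ X, ∃ s ∈ S, s * τ * s⁻¹ = x) :
    Nat.card S = Nat.card X * Nat.card ↥(S ⊓ Subgroup.centralizer {τ}) := by
  classical
  choose! s hs hs' using h2
  rw [← Nat.card_prod]
  refine Nat.card_congr
    { toFun := fun g => (⟨g.1 * τ * (g.1)⁻¹, h1 _ g.2⟩,
        ⟨(s (g.1 * τ * (g.1)⁻¹))⁻¹ * g.1, ?_, ?_⟩)
      invFun := fun p => ⟨s p.1.1 * p.2.1, S.mul_mem (hs _ p.1.2) p.2.2.1⟩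
      left_inv := ?_
      right_inv := ?_ }
  · exact S.mul_mem (S.inv_mem (hs _ (h1 _ g.2))) g.2
  · show _ ∈ Subgroup.centralizer {τ}
    rw [Subgroup.mem_centralizer_singleton_iff]
    have h3 := hs' _ (h1 _ g.2)
    set u := s (g.1 * τ * (g.1)⁻¹) with hu
    have h4 : u⁻¹ * (g.1 * τ * (g.1)⁻¹) * u = τ := by rw [← h3]; group
    calc u⁻¹ * g.1 * τ = u⁻¹ * (g.1 * τ * (g.1)⁻¹) * u * (u⁻¹ * g.1) := by group
      _ = τ * (u⁻¹ * g.1) := by rw [h4]
  · intro g
    apply Subtype.ext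
    show s (g.1 * τ * (g.1)⁻¹) * ((s (g.1 * τ * (g.1)⁻¹))⁻¹ * g.1) = g.1
    group
  · rintro ⟨⟨x, hx⟩, ⟨c, hc1, hc2⟩⟩
    have hc3 : c ∈ Subgroup.centralizer {τ} := hc2
    rw [Subgroup.mem_centralizer_singleton_iff] at hc3
    have h3 : s x * c * τ * (s x * c)⁻¹ = x := by
      calc s x * c * τ * (s x * c)⁻¹ = s x * (c * τ) * c⁻¹ * (s x)⁻¹ := by group
        _ = s x * (τ * c) * c⁻¹ * (s x)⁻¹ := by rw [hc3]
        _ = s x * τ * (s x)⁻¹ := by group
        _ = x := hs' x hx
    apply Prod.ext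
    · exact Subtype.ext h3
    · apply Subtype.ext
      show (s (s x * c * τ * (s x * c)⁻¹))⁻¹ * (s x * c) = c
      rw [h3]
      group

omit [Finite Y] in
/-- `|T| = 2 |T ∩ L|` for `τ ∈ T ≤ C(τ)` -/
theorem card_two (τ : Y) (L T : Subgroup Y) (hτL : τ ∉ L) (hτ : τ * τ = 1)
    (hLτ : ∀ l ∈ L, l * τ = τ * l)
    (hT : ∀ y ∈ T, y ∈ L ∨ τ * y ∈ L) (hτT : τ ∈ T) :
    Nat.card T = 2 * Nat.card ↥(T ⊓ L) := by
  have h1 : (L.subgroupOf T).index = 2 := by
    rw [Subgroup.index_eq_two_iff]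
    refine ⟨⟨τ, hτT⟩, fun b => ?_⟩
    simp only [Subgroup.mem_subgroupOf, Subgroup.coe_mul]
    have hτi : τ⁻¹ = τ := by
      rw [inv_eq_iff_mul_eq_one, hτ]
    rcases hT b.1 b.2 with h | h
    · right
      refine ⟨h, fun h2 => hτL ?_⟩
      have h3 := L.mul_mem (L.inv_mem h) h2
      rwa [inv_mul_cancel_left] at h3
    · left
      have h5 : (b : Y) * τ ∈ L := by
        have h6 := hLτ _ h
        -- τ b τ = τ τ b = b
        have h7 : τ * b.1 * τ = b.1 := by rw [h6, ← mul_assoc, hτ, one_mul]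
        have h8 : (b : Y) * τ = τ * b.1 := by
          calc (b : Y) * τ = (τ * b.1 * τ) * τ := by rw [h7]
            _ = τ * b.1 := by rw [mul_assoc, hτ, mul_one]
        rw [h8]
        exact h
      refine ⟨h5, fun h2 => hτL ?_⟩
      have h3 := L.mul_mem (L.inv_mem h2) h5
      rwa [inv_mul_cancel_left] at h3
  have h2 := Subgroup.card_mul_index (L.subgroupOf T)
  rw [h1] at h2
  have h3 : Nat.card ↥(L.subgroupOf T) = Nat.card ↥(T ⊓ L) := by
    rw [← Subgroup.inf_subgroupOf_left]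
    exact Nat.card_congr (Subgroup.subgroupOfEquivOfLe inf_le_left).toEquiv
  rw [h3] at h2
  omega

/-- `4` divides the length of the class of `τ` -/
theorem four_dvd (τ : Y) (hτ : τ * τ = 1) (L : Subgroup Y) (hτL : τ ∉ L)
    (hLτ : ∀ l ∈ L, l * τ = τ * l)
    (hC : ∀ y : Y, y * τ = τ * y → y ∈ L ∨ τ * y ∈ L)
    (v w : Y) (hv : v ∈ L) (hw : w ∈ L) (hvv : v * v = 1) (hww : w * w = 1) (hv1 : v ≠ 1)
    (hw1 : w ≠ 1) (hne : v ≠ w) (hvw : v * w = w * v)
    (y z : Y) (hyτ : y * τ * y⁻¹ = τ * v) (hyv : y * v = v * y) (hyw : y * w = w * y)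
    (hzτ : z * τ * z⁻¹ = τ * w) (hzv : z * v = v * z) (hzw : z * w = w * z)
    (R : Subgroup Y) (hRL : R ≤ L) (hR8 : 8 ∣ Nat.card R)
    (hRv : ∀ r ∈ R, r * v * r⁻¹ = v ∨ r * v * r⁻¹ = w ∨ r * v * r⁻¹ = v * w)
    (hRw : ∀ r ∈ R, r * w * r⁻¹ = v ∨ r * w * r⁻¹ = w ∨ r * w * r⁻¹ = v * w)
    (h16 : ¬ 16 ∣ Nat.card L) :
    4 ∣ Nat.card {d : Y // IsConj τ d} := by
  classical
  have hvτ := hLτ v hv
  have hwτ := hLτ w hw
  set X : Set Y := {τ, τ * v, τ * w, τ * (v * w)} with hX
  have hmX : ∀ x, x ∈ X ↔ x = τ ∨ x = τ * v ∨ x = τ * w ∨ x = τ * (v * w) := by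
    intro x
    simp only [hX, _root_.Set.mem_insert_iff, _root_.Set.mem_singleton_iff]
  have hcardX : Nat.card X = 4 := by
    have h1 : X = ((({τ, τ * v, τ * w, τ * (v * w)} : Finset Y)) : Set Y) := by
      rw [hX]; simp only [_root_.Finset.coe_insert, _root_.Finset.coe_singleton]
    have hvw1 : v * w ≠ 1 := by
      intro h
      apply hne
      calc v = v * (w * w) := by rw [hww, mul_one]
        _ = (v * w) * w := by rw [mul_assoc]
        _ = w := by rw [h, one_mul]
    rw [h1, Nat.card_coe_set_eq, Set.ncard_coe_finset]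
    rw [Finset.card_insert_of_notMem, Finset.card_insert_of_notMem, Finset.card_insert_of_notMem,
      Finset.card_singleton]
    · simp only [Finset.mem_singleton, mul_right_inj]
      intro h
      exact hv1 (mul_eq_right.mp h.symm)
    · simp only [Finset.mem_insert, Finset.mem_singleton, mul_right_inj]
      rintro (h | h)
      · exact hne h
      · exact hw1 (mul_eq_left.mp h.symm)
    · simp only [Finset.mem_insert, Finset.mem_singleton]
      rintro (h | h | h)
      · exact hv1 (mul_eq_left.mp h.symm)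
      · exact hw1 (mul_eq_left.mp h.symm)
      · exact hvw1 (mul_eq_left.mp h.symm)
  let S : Subgroup Y :=
    { carrier := {g | ∀ h ∈ X, g * h * g⁻¹ ∈ X ∧ g⁻¹ * h * g ∈ X}
      one_mem' := fun h hh => by simpa using hh
      mul_mem' := by
        intro a b ha hb h hh
        refine ⟨?_, ?_⟩
        · have := (ha _ (hb _ hh).1).1
          have e : a * b * h * (a * b)⁻¹ = a * (b * h * b⁻¹) * a⁻¹ := by group
          rw [e]; exact this
        · have := (hb _ (ha _ hh).2).2
          have e : (a * b)⁻¹ * h * (a * b) = b⁻¹ * (a⁻¹ * h * a) * b := by group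
          rw [e]; exact this
      inv_mem' := by
        intro a ha h hh
        refine ⟨?_, ?_⟩
        · rw [inv_inv]; exact (ha _ hh).2
        · rw [inv_inv]; exact (ha _ hh).1 }
  have hmS : ∀ g, g ∈ S ↔ ∀ h ∈ X, g * h * g⁻¹ ∈ X ∧ g⁻¹ * h * g ∈ X := fun g => Iff.rfl
  -- `v`, `w` as conjugates
  have hsq : ∀ a b : Y, a * b * a⁻¹ = (a * b) * a⁻¹ := fun a b => rfl
  -- an element conjugating `X` into `X` twice
  have hswap : ∀ g : Y, (∀ h ∈ X, g * h * g⁻¹ ∈ X) → (∀ h ∈ X, g * (g * h * g⁻¹) * g⁻¹ = h) →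
      g ∈ S := by
    intro g h1 h2 h hh
    refine ⟨h1 h hh, ?_⟩
    have h3 : g⁻¹ * h * g = g * h * g⁻¹ := by
      have h4 := h2 h hh
      calc g⁻¹ * h * g = g⁻¹ * (g * (g * h * g⁻¹) * g⁻¹) * g := by rw [h4]
        _ = g * h * g⁻¹ := by group
    rw [h3]
    exact h1 h hh
  have hconj : ∀ g a b : Y, g * (a * b) * g⁻¹ = (g * a * g⁻¹) * (g * b * g⁻¹) := by
    intro g a b; group
  have hyv' : y * v * y⁻¹ = v := by rw [hyv]; group
  have hyw' : y * w * y⁻¹ = w := by rw [hyw]; group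
  have hzv' : z * v * z⁻¹ = v := by rw [hzv]; group
  have hzw' : z * w * z⁻¹ = w := by rw [hzw]; group
  have hyS : y ∈ S := by
    have e1 : y * (τ * v) * y⁻¹ = τ := by
      rw [hconj, hyτ, hyv', mul_assoc, hvv, mul_one]
    have e2 : y * (τ * w) * y⁻¹ = τ * (v * w) := by
      rw [hconj, hyτ, hyw', mul_assoc]
    have e3 : y * (τ * (v * w)) * y⁻¹ = τ * w := by
      rw [hconj, hconj, hyτ, hyv', hyw', mul_assoc, ← mul_assoc v v w, hvv, one_mul]
    apply hswap
    · intro h hh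
      rw [hmX] at hh ⊢
      rcases hh with rfl | rfl | rfl | rfl
      · rw [hyτ]; (clear * -; tauto)
      · rw [e1]; (clear * -; tauto)
      · rw [e2]; (clear * -; tauto)
      · rw [e3]; (clear * -; tauto)
    · intro h hh
      rw [hmX] at hh
      rcases hh with rfl | rfl | rfl | rfl
      · rw [hyτ, e1]
      · rw [e1, hyτ]
      · rw [e2, e3]
      · rw [e3, e2]
  have hzS : z ∈ S := by
    have e1 : z * (τ * w) * z⁻¹ = τ := by
      rw [hconj, hzτ, hzw', mul_assoc, hww, mul_one]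
    have e2 : z * (τ * v) * z⁻¹ = τ * (v * w) := by
      rw [hconj, hzτ, hzv', mul_assoc, hvw]
    have e3 : z * (τ * (v * w)) * z⁻¹ = τ * v := by
      rw [hconj, hconj, hzτ, hzv', hzw', mul_assoc, hvw, ← mul_assoc w w v, hww, one_mul]
    apply hswap
    · intro h hh
      rw [hmX] at hh ⊢
      rcases hh with rfl | rfl | rfl | rfl
      · rw [hzτ]; (clear * -; tauto)
      · rw [e2]; (clear * -; tauto)
      · rw [e1]; (clear * -; tauto)
      · rw [e3]; (clear * -; tauto)
    · intro h hh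
      rw [hmX] at hh
      rcases hh with rfl | rfl | rfl | rfl
      · rw [hzτ, e1]
      · rw [e2, e3]
      · rw [e1, hzτ]
      · rw [e3, e2]
  have hτS : τ ∈ S := by
    have e0 : τ * τ * τ⁻¹ = τ := by group
    have e1 : τ * v * τ⁻¹ = v := by rw [← hvτ]; group
    have e2 : τ * w * τ⁻¹ = w := by rw [← hwτ]; group
    have e : ∀ h ∈ X, τ * h * τ⁻¹ = h := by
      intro h hh
      rw [hmX] at hh
      rcases hh with rfl | rfl | rfl | rfl
      · exact e0
      · rw [hconj, e0, e1]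
      · rw [hconj, e0, e2]
      · rw [hconj, hconj, e0, e1, e2]
    apply hswap
    · intro h hh
      rw [e h hh]; exact hh
    · intro h hh
      rw [e h hh, e h hh]
  have hRX : ∀ r ∈ R, ∀ h ∈ X, r * h * r⁻¹ ∈ X := by
    intro r hr h hh
    have hrτ : r * τ * r⁻¹ = τ := by rw [hLτ r (hRL hr)]; group
    have e1 : r * (v * w) * r⁻¹ = (r * v * r⁻¹) * (r * w * r⁻¹) := hconj _ _ _
    have n1 : r * v * r⁻¹ ≠ r * w * r⁻¹ := by
      intro h
      apply hne
      have h2 := congrArg (fun x => r⁻¹ * x * r) h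
      simpa only [mul_assoc, _root_.inv_mul_cancel_left, _root_.inv_mul_cancel, _root_.mul_one] using h2
    have a1 : v * (v * w) = w := by rw [← mul_assoc, hvv, one_mul]
    have a2 : w * (v * w) = v := by rw [hvw, ← mul_assoc, hww, one_mul]
    have a3 : v * w * v = w := by rw [hvw, mul_assoc, hvv, mul_one]
    have a4 : v * w * w = v := by rw [mul_assoc, hww, mul_one]
    rw [hmX] at hh ⊢
    rcases hh with rfl | rfl | rfl | rfl
    · rw [hrτ]; (clear * -; tauto)
    · rw [hconj, hrτ]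
      rcases hRv r hr with h | h | h <;> rw [h] <;> (clear * -; tauto)
    · rw [hconj, hrτ]
      rcases hRw r hr with h | h | h <;> rw [h] <;> (clear * -; tauto)
    · rw [hconj, hrτ, e1]
      have a5 : w * v = v * w := hvw.symm
      rcases hRv r hr with h | h | h <;> rcases hRw r hr with h' | h' | h' <;>
        rw [h, h'] at n1 ⊢
      · exact absurd rfl n1
      · simp only [or_true]
      · rw [a1]; simp only [or_true, true_or]
      · rw [a5]; simp only [or_true]
      · exact absurd rfl n1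
      · rw [a2]; simp only [or_true, true_or]
      · rw [a3]; simp only [or_true, true_or]
      · rw [a4]; simp only [or_true, true_or]
      · exact absurd rfl n1
  have hRS : R ≤ S := by
    intro r hr h hh
    refine ⟨hRX r hr h hh, ?_⟩
    have := hRX r⁻¹ (R.inv_mem hr) h hh
    rwa [inv_inv] at this
  have hcardS : Nat.card S = 4 * Nat.card ↥(S ⊓ Subgroup.centralizer {τ}) := by
    rw [← hcardX]
    apply card_eq
    · intro s hs
      exact (hs τ ((hmX _).mpr (Or.inl rfl))).1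
    · intro x hx
      rw [hmX] at hx
      rcases hx with rfl | rfl | rfl | rfl
      · exact ⟨1, S.one_mem, by group⟩
      · exact ⟨y, hyS, hyτ⟩
      · exact ⟨z, hzS, hzτ⟩
      · refine ⟨y * z, S.mul_mem hyS hzS, ?_⟩
        calc y * z * τ * (y * z)⁻¹ = y * (z * τ * z⁻¹) * y⁻¹ := by group
          _ = y * (τ * w) * y⁻¹ := by rw [hzτ]
          _ = τ * (v * w) := by rw [hconj, hyτ, hyw', mul_assoc]
  have hcardT : Nat.card ↥(S ⊓ Subgroup.centralizer {τ}) =
      2 * Nat.card ↥((S ⊓ Subgroup.centralizer {τ}) ⊓ L) := by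
    apply card_two τ L _ hτL hτ hLτ
    · intro u hu
      apply hC
      exact Subgroup.mem_centralizer_singleton_iff.mp hu.2
    · exact ⟨hτS, Subgroup.mem_centralizer_singleton_iff.mpr rfl⟩
  have h8 : 8 ∣ Nat.card ↥((S ⊓ Subgroup.centralizer {τ}) ⊓ L) := by
    refine hR8.trans (Subgroup.card_dvd_of_le ?_)
    exact le_inf (le_inf hRS fun r hr =>
      Subgroup.mem_centralizer_singleton_iff.mpr (hLτ r (hRL hr))) hRL
  have h64 : 64 ∣ Nat.card Y := by
    refine Nat.dvd_trans ?_ (Subgroup.card_subgroup_dvd_card S)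
    rw [hcardS, hcardT]
    obtain ⟨c, hc⟩ := h8
    exact ⟨c, by rw [hc]; ring⟩
  have hY : Nat.card Y = Nat.card {d : Y // IsConj τ d} * (2 * Nat.card L) := by
    have h1 := card_eq τ (⊤ : Subgroup Y) {d | IsConj τ d} (fun s _ => isConj_iff.mpr ⟨s, rfl⟩)
      (fun x hx => by
        obtain ⟨c, hc⟩ := isConj_iff.mp hx
        exact ⟨c, Subgroup.mem_top _, hc⟩)
    have h2 : Nat.card ↥((⊤ : Subgroup Y) ⊓ Subgroup.centralizer {τ}) =
        2 * Nat.card ↥(((⊤ : Subgroup Y) ⊓ Subgroup.centralizer {τ}) ⊓ L) := by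
      apply card_two τ L _ hτL hτ hLτ
      · intro u hu
        apply hC
        exact Subgroup.mem_centralizer_singleton_iff.mp hu.2
      · exact ⟨Subgroup.mem_top _, Subgroup.mem_centralizer_singleton_iff.mpr rfl⟩
    have h3 : ((⊤ : Subgroup Y) ⊓ Subgroup.centralizer {τ}) ⊓ L = L := by
      apply inf_eq_right.mpr
      exact le_inf le_top fun r hr => Subgroup.mem_centralizer_singleton_iff.mpr (hLτ r hr)
    rw [h3] at h2
    rw [h2, Subgroup.card_top] at h1
    exact h1
  rw [hY] at h64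
  have hL0 : Nat.card L ≠ 0 := Nat.card_pos.ne'
  have hD0 : Nat.card {d : Y // IsConj τ d} ≠ 0 := by
    have : Nonempty {d : Y // IsConj τ d} := ⟨⟨τ, IsConj.refl τ⟩⟩
    exact Nat.card_pos.ne'
  obtain ⟨k, m, hm, hk⟩ := Nat.exists_eq_two_pow_mul_odd hL0
  obtain ⟨j, m', hm', hj⟩ := Nat.exists_eq_two_pow_mul_odd hD0
  have hk3 : k ≤ 3 := by
    by_contra hcon
    apply h16
    rw [hk]
    exact Nat.dvd_trans (by norm_num : 16 ∣ 2 ^ 4)
      (Nat.dvd_trans (Nat.pow_dvd_pow 2 (by omega)) (Nat.dvd_mul_right _ _))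
  have h5 : 2 ^ 6 ∣ 2 ^ (j + k + 1) * (m * m') := by
    have e : Nat.card {d : Y // IsConj τ d} * (2 * Nat.card L) = 2 ^ (j + k + 1) * (m * m') := by
      rw [hk, hj]; ring
    rw [← e]
    exact (by norm_num : (2 ^ 6 : ℕ) = 64) ▸ h64
  have h6 : (2 ^ 6 : ℕ).Coprime (m * m') := by
    apply Nat.Coprime.pow_left
    exact Nat.coprime_two_left.mpr (hm.mul hm')
  have h7 := h6.dvd_of_dvd_mul_right h5
  have h8 := (Nat.pow_dvd_pow_iff_le_right (by norm_num : 1 < 2)).mp h7
  rw [hj]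
  exact Nat.dvd_trans (by norm_num : 4 ∣ 2 ^ 2)
    (Nat.dvd_trans (Nat.pow_dvd_pow 2 (by omega)) (Nat.dvd_mul_right _ _))

end Sign

/-- a group like `L_3(2)`: Sylow 2-subgroups of order 8, one class of involutions, their number
is `1 mod 4`, no homomorphism onto `{± 1}`, fours groups normalised by a subgroup of order
divisible by 8. -/
structure GoodL (L : Type*) [Group L] : Prop where
  perf : ∀ f : L →* ℤˣ, ∀ l, f l = 1
  inv : Nat.card {l : L // l * l = 1 ∧ l ≠ 1} % 4 = 1
  conj : ∀ a b : L, a * a = 1 → a ≠ 1 → b * b = 1 → b ≠ 1 → IsConj a b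
  four : ∀ a b : L, a * a = 1 → a ≠ 1 → b * b = 1 → b ≠ 1 → a ≠ b → a * b = b * a →
    ∃ R : Subgroup L, 8 ∣ Nat.card R ∧
      (∀ r ∈ R, r * a * r⁻¹ = a ∨ r * a * r⁻¹ = b ∨ r * a * r⁻¹ = a * b) ∧
      (∀ r ∈ R, r * b * r⁻¹ = a ∨ r * b * r⁻¹ = b ∨ r * b * r⁻¹ = a * b)
  n16 : ¬ 16 ∣ Nat.card L

theorem GoodL.congr {L L' : Type*} [Group L] [Group L'] (e : L ≃* L') (h : GoodL L) :
    GoodL L' where
  perf f l := by
    have := h.perf (f.comp e.toMonoidHom) (e.symm l)
    simpa using this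
  inv := by
    rw [← h.inv]
    congr 1
    refine Nat.card_congr
      { toFun := fun l => ⟨e.symm l.1, ?_, ?_⟩
        invFun := fun l => ⟨e l.1, ?_, ?_⟩
        left_inv := fun l => Subtype.ext (by simp)
        right_inv := fun l => Subtype.ext (by simp) }
    · rw [← map_mul, l.2.1, map_one]
    · intro h1
      exact l.2.2 ((map_eq_one_iff e.symm e.symm.injective).mp h1)
    · rw [← map_mul, l.2.1, map_one]
    · intro h1
      exact l.2.2 ((map_eq_one_iff e e.injective).mp h1)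
  conj a b ha ha1 hb hb1 := by
    have h1 := h.conj (e.symm a) (e.symm b) (by rw [← map_mul, ha, map_one])
      (fun h1 => ha1 ((map_eq_one_iff e.symm e.symm.injective).mp h1))
      (by rw [← map_mul, hb, map_one])
      (fun h1 => hb1 ((map_eq_one_iff e.symm e.symm.injective).mp h1))
    have h2 := e.toMonoidHom.map_isConj h1
    simpa only [_root_.isConj_iff, _root_.MulEquiv.toMonoidHom_eq_coe, _root_.MonoidHom.coe_coe, _root_.MulEquiv.apply_symm_apply] using h2
  four a b ha ha1 hb hb1 hne hab := by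
    obtain ⟨R, hR8, hRa, hRb⟩ := h.four (e.symm a) (e.symm b) (by rw [← map_mul, ha, map_one])
      (fun h1 => ha1 ((map_eq_one_iff e.symm e.symm.injective).mp h1))
      (by rw [← map_mul, hb, map_one])
      (fun h1 => hb1 ((map_eq_one_iff e.symm e.symm.injective).mp h1))
      (fun h1 => hne (e.symm.injective h1)) (by rw [← map_mul, hab, map_mul])
    refine ⟨R.map e.toMonoidHom, ?_, ?_, ?_⟩
    · have h1 := Nat.card_congr (R.equivMapOfInjective e.toMonoidHom e.injective).toEquiv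
      rwa [← h1]
    · rintro _ ⟨r, hr, rfl⟩
      have e1 : e r * a * (e r)⁻¹ = e (r * e.symm a * r⁻¹) := by simp only [_root_.map_mul, _root_.MulEquiv.apply_symm_apply, _root_.map_inv]
      show e r * a * (e r)⁻¹ = a ∨ e r * a * (e r)⁻¹ = b ∨ e r * a * (e r)⁻¹ = a * b
      rw [e1]
      rcases hRa r hr with h1 | h1 | h1 <;> rw [h1] <;> simp
    · rintro _ ⟨r, hr, rfl⟩
      have e1 : e r * b * (e r)⁻¹ = e (r * e.symm b * r⁻¹) := by simp only [_root_.map_mul, _root_.MulEquiv.apply_symm_apply, _root_.map_inv]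
      show e r * b * (e r)⁻¹ = a ∨ e r * b * (e r)⁻¹ = b ∨ e r * b * (e r)⁻¹ = a * b
      rw [e1]
      rcases hRb r hr with h1 | h1 | h1 <;> rw [h1] <;> simp
  n16 := by
    rw [← Nat.card_congr e.toEquiv]
    exact h.n16

/-- the abstract kill: `π : N → Y` onto, `C_Y(τ) = ⟨τ⟩ × L`. -/
theorem exists_hom {G Y : Type*} [Group G] [Finite G] [Group Y] [Finite Y] (N K : Subgroup G)
    (π : N →* Y) (hπ : Function.Surjective π) (t : G) (ht2 : t * t = 1) (htN : t ∈ N)
    (hKt : ∀ k ∈ K, k * t = t * k)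
    (hK : ∀ c : G, c * t = t * c → ∃ k ∈ K, ∃ n ∈ N, c = k * n)
    (hodd : Odd (N.relIndex K))
    (hconj : ∀ x : G, ∀ hx : x ∈ N, x * x = 1 → π ⟨x, hx⟩ = π ⟨t, htN⟩ →
      ∃ n ∈ N, n * t * n⁻¹ = x)
    (L : Subgroup Y) (hL : GoodL L) (hτL : π ⟨t, htN⟩ ∉ L)
    (hLτ : ∀ l ∈ L, l * π ⟨t, htN⟩ = π ⟨t, htN⟩ * l)
    (hC : ∀ y : Y, y * π ⟨t, htN⟩ = π ⟨t, htN⟩ * y → y ∈ L ∨ π ⟨t, htN⟩ * y ∈ L)
    (v w : Y) (hv : v ∈ L) (hw : w ∈ L) (hvv : v * v = 1) (hww : w * w = 1) (hv1 : v ≠ 1)
    (hw1 : w ≠ 1) (hne : v ≠ w) (hvw : v * w = w * v) (hvτ : ¬ IsConj (π ⟨t, htN⟩) v)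
    (y z : Y) (hyτ : y * π ⟨t, htN⟩ * y⁻¹ = π ⟨t, htN⟩ * v) (hyv : y * v = v * y)
    (hyw : y * w = w * y)
    (hzτ : z * π ⟨t, htN⟩ * z⁻¹ = π ⟨t, htN⟩ * w) (hzv : z * v = v * z) (hzw : z * w = w * z) :
    ∃ f : G →* ℤˣ, f t = -1 := by
  set τ : Y := π ⟨t, htN⟩ with hτdef
  have hτ : τ * τ = 1 := by
    rw [hτdef, ← map_mul]
    have h1 : (⟨t, htN⟩ * ⟨t, htN⟩ : N) = 1 := Subtype.ext ht2
    rw [h1, map_one]
  -- involutions of `L`
  have hconjL : ∀ u ∈ L, u * u = 1 → u ≠ 1 → ∃ l ∈ L, l * v * l⁻¹ = u := by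
    intro u hu hu2 hu1
    have h1 := hL.conj ⟨v, hv⟩ ⟨u, hu⟩ (Subtype.ext hvv) (fun h => hv1 (congrArg Subtype.val h))
      (Subtype.ext hu2) (fun h => hu1 (congrArg Subtype.val h))
    obtain ⟨c, hc⟩ := isConj_iff.mp h1
    exact ⟨c, c.2, congrArg Subtype.val hc⟩
  have hLw : ∀ u ∈ L, u * u = 1 → u ≠ 1 → IsConj τ (τ * u) := by
    intro u hu hu2 hu1
    obtain ⟨l, hl, rfl⟩ := hconjL u hu hu2 hu1
    have h1 : IsConj τ (τ * v) := isConj_iff.mpr ⟨y, hyτ⟩
    refine h1.trans (isConj_iff.mpr ⟨l, ?_⟩)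
    have h2 : l * τ * l⁻¹ = τ := by rw [hLτ l hl]; group
    calc l * (τ * v) * l⁻¹ = (l * τ * l⁻¹) * (l * v * l⁻¹) := by group
      _ = τ * (l * v * l⁻¹) := by rw [h2]
  have hLw' : ∀ u ∈ L, ¬ IsConj τ u := by
    intro u hu hcon
    obtain ⟨c, hc⟩ := isConj_iff.mp hcon
    have hu2 : u * u = 1 := by
      rw [← hc]
      calc c * τ * c⁻¹ * (c * τ * c⁻¹) = c * (τ * τ) * c⁻¹ := by group
        _ = 1 := by rw [hτ]; group
    have hτ1 : τ ≠ 1 := fun h => hτL (h ▸ L.one_mem)
    have hu1 : u ≠ 1 := by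
      intro h
      apply hτ1
      rw [h] at hc
      calc τ = c⁻¹ * (c * τ * c⁻¹) * c := by group
        _ = 1 := by rw [hc]; group
    obtain ⟨l, hl, rfl⟩ := hconjL u hu hu2 hu1
    apply hvτ
    exact hcon.trans (isConj_iff.mpr ⟨l⁻¹, by group⟩)
  obtain ⟨R, hR8, hRv, hRw⟩ := hL.four ⟨v, hv⟩ ⟨w, hw⟩ (Subtype.ext hvv)
    (fun h => hv1 (congrArg Subtype.val h)) (Subtype.ext hww)
    (fun h => hw1 (congrArg Subtype.val h)) (fun h => hne (congrArg Subtype.val h))
    (Subtype.ext hvw)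
  have h4 : 4 ∣ Nat.card {d : Y // IsConj τ d} := by
    refine four_dvd τ hτ L hτL hLτ hC v w hv hw hvv hww hv1 hw1 hne hvw y z hyτ hyv hyw hzτ hzv
      hzw (R.map L.subtype) ?_ ?_ ?_ ?_ hL.n16
    · rintro _ ⟨r, _, rfl⟩
      exact r.2
    · have h1 := Nat.card_congr
        (R.equivMapOfInjective L.subtype L.subtype_injective).toEquiv
      rwa [← h1]
    · rintro _ ⟨r, hr, rfl⟩
      rcases hRv r hr with h | h | h
      · exact Or.inl (congrArg Subtype.val h)
      · exact Or.inr (Or.inl (congrArg Subtype.val h))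
      · exact Or.inr (Or.inr (congrArg Subtype.val h))
    · rintro _ ⟨r, hr, rfl⟩
      rcases hRw r hr with h | h | h
      · exact Or.inl (congrArg Subtype.val h)
      · exact Or.inr (Or.inl (congrArg Subtype.val h))
      · exact Or.inr (Or.inr (congrArg Subtype.val h))
  refine ⟨MonoidHom.transfer ((mu τ).comp π), ?_⟩
  refine transfer_eq_neg_one N K ((mu τ).comp π) t ht2 htN ?_ ?_ hKt hK hodd
  · exact mu_self τ hτ L hLτ hC hLw hLw' hL.inv h4
  · intro x hx htx hnx
    have hx2 : x * x = 1 := by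
      obtain ⟨c, rfl⟩ := isConj_iff.mp htx
      calc c * t * c⁻¹ * (c * t * c⁻¹) = c * (t * t) * c⁻¹ := by group
        _ = 1 := by rw [ht2]; group
    refine mu_other τ hτ L hC hL.perf hLw h4 (π ⟨x, hx⟩) ?_ ?_
    · rw [← map_mul]
      have h1 : (⟨x, hx⟩ * ⟨x, hx⟩ : N) = 1 := Subtype.ext hx2
      rw [h1, map_one]
    · intro hcon
      obtain ⟨c, hc⟩ := isConj_iff.mp hcon
      obtain ⟨n, rfl⟩ := hπ c
      apply hnx
      have h1 : (n⁻¹ : N) * ⟨x, hx⟩ * n = ⟨(n : G)⁻¹ * x * n, by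
          exact N.mul_mem (N.mul_mem (N.inv_mem n.2) hx) n.2⟩ := Subtype.ext rfl
      have h2 : π (n⁻¹ * ⟨x, hx⟩ * n) = τ := by
        rw [map_mul, map_mul, map_inv, ← hc]
        group
      rw [h1] at h2
      obtain ⟨m, hm, hmx⟩ := hconj _ _ (by
        calc (n : G)⁻¹ * x * n * ((n : G)⁻¹ * x * n) = (n : G)⁻¹ * (x * x) * n := by group
          _ = 1 := by rw [hx2]; group) h2
      refine ⟨n * m, N.mul_mem n.2 hm, ?_⟩
      calc (n : G) * m * t * (n * m)⁻¹ = n * (m * t * m⁻¹) * (n : G)⁻¹ := by group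
        _ = n * ((n : G)⁻¹ * x * n) * (n : G)⁻¹ := by rw [hmx]
        _ = x := by group

/-- The sign kill in terms of an embedding `ι : X → G` with `C_G(t) = ⟨t⟩ × ι(X)`. -/
theorem main {G X L0 : Type*} [Group G] [Finite G] [Group X] [Group L0]
    (ι : X →* G) (hι : Function.Injective ι) (t : G) (ht2 : t * t = 1)
    (hιt : ∀ k, ι k * t = t * ι k) (htι : ∀ k, ι k ≠ t)
    (hC : ∀ c : G, c * t = t * c → ∃ k, c = ι k ∨ c = t * ι k)
    (M : Subgroup G) (Q R : Subgroup X)
    (htM : t ∈ Subgroup.normalizer (M : Set G))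
    (hQM : ∀ m ∈ M, m * t = t * m → ∃ q ∈ Q, ι q = m) (hMQ : ∀ q ∈ Q, ι q ∈ M)
    (hinv : ∀ m ∈ M, (t * m) * (t * m) = 1 → ∃ n ∈ M, n * t * n⁻¹ = t * m)
    (hR : ∀ k : X, ι k ∈ Subgroup.normalizer (M : Set G) ↔ k ∈ R)
    (ρ : R →* L0) (hρ : Function.Surjective ρ) (hker : ∀ r : R, ρ r = 1 ↔ (r : X) ∈ Q)
    (hL : GoodL L0) (hodd : Odd R.index)
    (v w : X) (hv : v ∈ R) (hw : w ∈ R) (hvv : v * v = 1) (hww : w * w = 1) (hvQ : v ∉ Q)
    (hwQ : w ∉ Q) (hvwQ : v * w ∉ Q) (hvw : v * w = w * v) (hvt : ¬ IsConj t (ι v))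
    (y z : G) (hy : y ∈ Subgroup.normalizer (M : Set G))
    (hz : z ∈ Subgroup.normalizer (M : Set G))
    (hyt : y * t * y⁻¹ = t * ι v) (hyv : y * ι v = ι v * y) (hyw : y * ι w = ι w * y)
    (hzt : z * t * z⁻¹ = t * ι w) (hzv : z * ι v = ι v * z) (hzw : z * ι w = ι w * z) :
    ∃ f : G →* ℤˣ, f t = -1 := by
  classical
  set N : Subgroup G := Subgroup.normalizer (M : Set G) with hN
  have hMN : M ≤ N := Subgroup.le_normalizer
  have : (M.subgroupOf N).Normal := Subgroup.normal_in_normalizer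
  let π : N →* N ⧸ M.subgroupOf N := QuotientGroup.mk' _
  have hπ1 : ∀ n : N, π n = 1 ↔ (n : G) ∈ M := by
    intro n
    have := QuotientGroup.eq_one_iff (N := M.subgroupOf N) n
    rw [Subgroup.mem_subgroupOf] at this
    exact this
  let j : R →* N := (ι.comp R.subtype).codRestrict N (fun r => (hR r).mpr r.2)
  have hj : ∀ r : R, ((j r : N) : G) = ι r := fun r => rfl
  have hkj : ∀ r : R, π (j r) = 1 ↔ (r : X) ∈ Q := by
    intro r
    rw [hπ1, hj]
    constructor
    · intro h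
      obtain ⟨q, hq, hqr⟩ := hQM _ h (hιt _)
      rwa [← hι hqr]
    · exact hMQ _
  have hkerEq : (π.comp j).ker = ρ.ker := by
    ext r
    rw [MonoidHom.mem_ker, MonoidHom.mem_ker, MonoidHom.comp_apply, hkj, hker]
  have e : L0 ≃* (π.comp j).range :=
    (QuotientGroup.quotientKerEquivOfSurjective ρ hρ).symm.trans
      ((QuotientGroup.quotientMulEquivOfEq hkerEq.symm).trans
        (QuotientGroup.quotientKerEquivRange (π.comp j)))
  have hGL : GoodL (π.comp j).range := hL.congr e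
  have hmemL : ∀ r : R, π (j r) ∈ (π.comp j).range := fun r => ⟨r, rfl⟩
  have hιN : ∀ k : X, k ∈ R → ι k ∈ N := fun k hk => (hR k).mpr hk
  have hpe : ∀ a b : N, ((a : G) = b) → π a = π b := fun a b h => by rw [Subtype.ext h]
  have hπeq : ∀ a b : N, π a = π b → ∃ m ∈ M, (a : G) = b * m := by
    intro a b h
    have h1 : π (b⁻¹ * a) = 1 := by rw [map_mul, map_inv, h, inv_mul_cancel]
    rw [hπ1] at h1
    refine ⟨((b⁻¹ * a : N) : G), h1, ?_⟩
    simp only [_root_.Subgroup.coe_mul, _root_.InvMemClass.coe_inv, _root_.mul_inv_cancel_left]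
  have htcomm : ∀ r : R, j r * ⟨t, htM⟩ = ⟨t, htM⟩ * j r := fun r => Subtype.ext (hιt r)
  -- conjugacy of the involutions in the coset
  have hconj : ∀ x : G, ∀ hx : x ∈ N, x * x = 1 → π ⟨x, hx⟩ = π ⟨t, htM⟩ →
      ∃ m ∈ M, m * t * m⁻¹ = x := by
    intro x hx hx2 hxt
    obtain ⟨m, hm, hxm⟩ := hπeq _ _ hxt
    have hxm' : x = t * m := hxm
    rw [hxm'] at hx2 ⊢
    exact hinv m hm hx2
  have hvN := hιN v hv
  have hwN := hιN w hw
  refine exists_hom N ι.range π (QuotientGroup.mk'_surjective _) t ht2 htM ?_ ?_ ?_ ?_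
    (π.comp j).range hGL ?_ ?_ ?_ (π (j ⟨v, hv⟩)) (π (j ⟨w, hw⟩)) (hmemL _) (hmemL _) ?_ ?_ ?_ ?_
    ?_ ?_ ?_ (π ⟨y, hy⟩) (π ⟨z, hz⟩) ?_ ?_ ?_ ?_ ?_ ?_
  · rintro _ ⟨k, rfl⟩
    exact hιt k
  · intro c hc
    obtain ⟨k, h | h⟩ := hC c hc
    · exact ⟨ι k, ⟨k, rfl⟩, 1, N.one_mem, by rw [h, mul_one]⟩
    · exact ⟨ι k, ⟨k, rfl⟩, t, htM, by rw [h, hιt]⟩
  · have h1 : N.relIndex ι.range = (N.comap ι).index := by
      rw [Subgroup.index_comap]
    have h2 : N.comap ι = R := by
      ext k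
      rw [Subgroup.mem_comap]
      exact hR k
    rw [h1, h2]
    exact hodd
  · intro x hx hx2 hxt
    obtain ⟨m, hm, h⟩ := hconj x hx hx2 hxt
    exact ⟨m, hMN hm, h⟩
  · rintro ⟨r, hr⟩
    obtain ⟨m, hm, h⟩ := hπeq _ _ hr
    have h' : ι r = t * m := h
    have hmt : m = t * ι r := by rw [h', ← mul_assoc, ht2, one_mul]
    have hmc : m * t = t * m := by
      rw [hmt, mul_assoc, hιt]
    obtain ⟨q, hq, hqm⟩ := hQM m hm hmc
    apply htι ((r : X) * q⁻¹)
    rw [map_mul, map_inv, hqm, h', mul_assoc, mul_inv_cancel, mul_one]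
  · rintro _ ⟨r, rfl⟩
    show π (j r) * π _ = π _ * π (j r)
    rw [← map_mul, ← map_mul, htcomm]
  · intro u hu
    obtain ⟨n, rfl⟩ := QuotientGroup.mk'_surjective _ u
    have hn : π n * π ⟨t, htM⟩ = π ⟨t, htM⟩ * π n := hu
    have h1 : π (n * ⟨t, htM⟩ * n⁻¹) = π ⟨t, htM⟩ := by
      rw [map_mul, map_mul, map_inv, hn]
      group
    have h2 : (n * ⟨t, htM⟩ * n⁻¹ : N) = ⟨(n : G) * t * (n : G)⁻¹,
        N.mul_mem (N.mul_mem n.2 htM) (N.inv_mem n.2)⟩ := rfl
    rw [h2] at h1
    obtain ⟨m, hm, hmn⟩ := hconj _ _ (by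
      calc (n : G) * t * (n : G)⁻¹ * ((n : G) * t * (n : G)⁻¹) = n * (t * t) * (n : G)⁻¹ := by group
        _ = 1 := by rw [ht2]; group) h1
    have h3 : (m⁻¹ * n) * t = t * (m⁻¹ * n) := by
      calc (m⁻¹ * n) * t = m⁻¹ * ((n : G) * t * (n : G)⁻¹) * n := by group
        _ = m⁻¹ * (m * t * m⁻¹) * n := by rw [hmn]
        _ = t * (m⁻¹ * n) := by group
    have hmN : (⟨m⁻¹ * n, N.mul_mem (N.inv_mem (hMN hm)) n.2⟩ : N) =
        (⟨m, hMN hm⟩ : N)⁻¹ * n := rfl
    have h4 : π ⟨m⁻¹ * n, N.mul_mem (N.inv_mem (hMN hm)) n.2⟩ = π n := by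
      rw [hmN, map_mul, map_inv, (hπ1 ⟨m, hMN hm⟩).mpr hm, inv_one, one_mul]
    obtain ⟨k, h | h⟩ := hC _ h3
    · left
      have hk : k ∈ R := by
        rw [← hR, ← h]
        exact N.mul_mem (N.inv_mem (hMN hm)) n.2
      refine ⟨⟨k, hk⟩, ?_⟩
      show π (j _) = π n
      rw [← h4]
      exact hpe _ _ h.symm
    · right
      have h5 : ι k = t * (m⁻¹ * n) := by rw [h, ← mul_assoc, ht2, one_mul]
      have hk : k ∈ R := by
        rw [← hR, h5]
        exact N.mul_mem htM (N.mul_mem (N.inv_mem (hMN hm)) n.2)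
      refine ⟨⟨k, hk⟩, ?_⟩
      show π (j _) = π _ * π n
      rw [← h4, ← map_mul]
      exact hpe _ _ h5
  · rw [← map_mul, ← map_mul]
    have h1 : (⟨v, hv⟩ * ⟨v, hv⟩ : R) = 1 := Subtype.ext hvv
    rw [h1, map_one, map_one]
  · rw [← map_mul, ← map_mul]
    have h1 : (⟨w, hw⟩ * ⟨w, hw⟩ : R) = 1 := Subtype.ext hww
    rw [h1, map_one, map_one]
  · intro h
    exact hvQ ((hkj _).mp h)
  · intro h
    exact hwQ ((hkj _).mp h)
  · intro h
    apply hvwQ
    have h1 : π (j (⟨v, hv⟩ * ⟨w, hw⟩)) = 1 := by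
      rw [map_mul, map_mul, ← h, ← map_mul, ← map_mul]
      have h1 : (⟨v, hv⟩ * ⟨v, hv⟩ : R) = 1 := Subtype.ext hvv
      rw [h1, map_one, map_one]
    exact (hkj _).mp h1
  · rw [← map_mul, ← map_mul, ← map_mul, ← map_mul]
    congr 2
    exact Subtype.ext hvw
  · intro hcon
    obtain ⟨c, hc⟩ := isConj_iff.mp hcon
    obtain ⟨n, rfl⟩ := QuotientGroup.mk'_surjective _ c
    have hc' : π n * π ⟨t, htM⟩ * (π n)⁻¹ = π (j ⟨v, hv⟩) := hc
    have h1 : π (n⁻¹ * j ⟨v, hv⟩ * n) = π ⟨t, htM⟩ := by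
      rw [map_mul, map_mul, map_inv, ← hc']
      group
    have h2 : (n⁻¹ * j ⟨v, hv⟩ * n : N) = ⟨(n : G)⁻¹ * ι v * n,
        N.mul_mem (N.mul_mem (N.inv_mem n.2) hvN) n.2⟩ := rfl
    rw [h2] at h1
    obtain ⟨m, hm, hmn⟩ := hconj _ _ (by
      calc (n : G)⁻¹ * ι v * (n : G) * ((n : G)⁻¹ * ι v * (n : G)) =
          (n : G)⁻¹ * (ι (v * v)) * (n : G) := by rw [map_mul]; group
        _ = 1 := by rw [hvv, map_one]; group) h1
    apply hvt
    rw [isConj_iff]
    refine ⟨n * m, ?_⟩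
    calc (n : G) * m * t * (n * m)⁻¹ = n * (m * t * m⁻¹) * (n : G)⁻¹ := by group
      _ = n * ((n : G)⁻¹ * ι v * n) * (n : G)⁻¹ := by rw [hmn]
      _ = ι v := by group
  · rw [← map_inv, ← map_mul, ← map_mul, ← map_mul]
    exact hpe _ _ hyt
  · rw [← map_mul, ← map_mul]
    exact hpe _ _ hyv
  · rw [← map_mul, ← map_mul]
    exact hpe _ _ hyw
  · rw [← map_inv, ← map_mul, ← map_mul, ← map_mul]
    exact hpe _ _ hzt
  · rw [← map_mul, ← map_mul]
    exact hpe _ _ hzv
  · rw [← map_mul, ← map_mul]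
    exact hpe _ _ hzw

end Cfsg.Agent.OddHalf.D8.SignKill
end

-- part: KFacts/M24Pair/Fix
section
-- merged: Cfsg.Agent.KFacts.M24Pair.TrioQ
section

/-!
# The group `Q = E V` of order `2^7` in `K = M24`

`E = ⟨X12, X13, X14, X15⟩` (octad group), `E' = ⟨X21, X23, X24, X25⟩` (second octad group of the trio),
`V = ⟨X23, X24, X25⟩ = E' ∩ N(E)`, `A = ⟨X13, X14, X15⟩`, `Q = E V`; `z = X15`.

`normQ_normE`: `N_K(Q)` normalises `E`; `fuse_Q`: elements of `Q - E` conjugate to `z` are `E`-conjugate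
into `V`; `norm_E'`: `E' ∩ N_K(E) ≤ V`.
-/

set_option autoImplicit false
set_option Elab.async false

namespace Cfsg.Agent.KFacts.M24Pair.TrioQ

open Cfsg Cfsg.Agent.SporadicA.GolayBase Cfsg.Agent.SporadicA.GolayPerm
open Cfsg.Agent.SporadicStructure.M24El Cfsg.Agent.KFacts.M24Pair.Cent
open Cfsg.Agent.KFacts.M24Pair.Letters Cfsg.Agent.KFacts.M24Pair.Sub

/-! ### Conjugation -/

/-- The check that `ev u` conjugates `gen ls` into `gen ls'`. -/
def nb (u ls ls' : List ℕ) : Bool :=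
  ls.all fun l => (subs ls').any fun w => weqb (u ++ [l]) (w ++ u)

theorem conj_mem {u ls ls' : List ℕ} (h : nb u ls ls' = true) {g : M24} (hg : g ∈ gen ls) :
    ev u * g * (ev u)⁻¹ ∈ gen ls' := by
  have h1 : (gen ls).map (MulAut.conj (ev u)).toMonoidHom ≤ gen ls' := by
    conv_lhs => unfold gen
    rw [MonoidHom.map_closure, Subgroup.closure_le]
    rintro _ ⟨_, ⟨k, hk, rfl⟩, rfl⟩
    obtain ⟨w, hw, hwe⟩ := List.any_eq_true.1 (List.all_eq_true.1 h k hk)
    have h2 := weq hwe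
    rw [ev_append, ev_append, ev_cons, ev_nil, mul_one] at h2
    show ev u * xx k * (ev u)⁻¹ ∈ gen ls'
    rw [h2, mul_inv_cancel_right]
    exact ev_mem fun k hk => xx_mem (mem_of_mem_subs hw k hk)
  exact h1 (Subgroup.mem_map_of_mem _ hg)

/-- Conjugates of `z = xx 3`: a table of words and conjugating words. -/
def cj (tab : List (List ℕ × List ℕ)) : Bool := tab.all fun p => weqb (p.2 ++ [3]) (p.1 ++ p.2)

theorem isConj_of_cj {tab : List (List ℕ × List ℕ)} (h : cj tab = true) {p : List ℕ × List ℕ}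
    (hp : p ∈ tab) : IsConj (xx 3) (ev p.1) := by
  have h1 := weq (List.all_eq_true.1 h p hp)
  rw [ev_append, ev_append, ev_cons, ev_nil, mul_one] at h1
  rw [isConj_iff]
  exact ⟨ev p.2, by rw [h1, mul_inv_cancel_right]⟩

/-! ### Membership and orders -/

theorem clo_E : clo [0,1,2,3] = true := by decide +kernel
theorem clo_V : clo [4,5,6] = true := by decide +kernel
theorem clo_E' : clo [16,4,5,6] = true := by decide +kernel
theorem clo_A : clo [1,2,3] = true := by decide +kernel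
private noncomputable def _root_.Cfsg.Agent.LsF.fb6f244_0 : {f // @Cfsg.Agent.SporadicA.GolayPerm.pack = f} := ⟨_, by first | (delta Cfsg.Agent.SporadicA.GolayPerm.pack List.brecOn List.brecOn.go Cfsg.Agent.SporadicA.GolayPerm.pack._f; rewrite [Cfsg.Agent.LsF.nadd_pat, Cfsg.Agent.LsF.nmul_pat]; (try delta Cfsg.Agent.SporadicA.GolayPerm.pack.match_1); (try delta List.casesOn); first | dsimp -zeta only | exact rfl) | exact rfl⟩
private noncomputable def _root_.Cfsg.Agent.LsF.fb6f244_1 : {f // @Cfsg.Agent.SporadicA.GolayPerm.papp = f} := ⟨_, by first | (delta Cfsg.Agent.SporadicA.GolayPerm.papp; rewrite [Cfsg.Agent.LsF.nmul_pat, Cfsg.Agent.LsF.nmod_pat, Cfsg.Agent.LsF.nshr_pat]; exact rfl) | exact rfl⟩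
private noncomputable def _root_.Cfsg.Agent.LsF.fb6f244_2 : {f // @Cfsg.Agent.SporadicA.GolayPerm.pcomp = f} := ⟨_, by first | (delta Cfsg.Agent.SporadicA.GolayPerm.pcomp; rewrite [Cfsg.Agent.LsF.fb6f244_0.2, Cfsg.Agent.LsF.fb6f244_1.2]; exact rfl) | exact rfl⟩
private noncomputable def _root_.Cfsg.Agent.LsF.fb6f244_3 : {f // @Cfsg.Agent.SporadicStructure.M24El.prodW = f} := ⟨_, by first | (delta Cfsg.Agent.SporadicStructure.M24El.prodW List.brecOn List.brecOn.go Cfsg.Agent.SporadicStructure.M24El.prodW._f; rewrite [Cfsg.Agent.LsF.fb6f244_2.2, Cfsg.Agent.LsF.getD_eq]; (try delta Cfsg.Agent.SporadicStructure.M24El.prodW.match_1); (try delta List.casesOn); first | dsimp -zeta only | exact rfl) | exact rfl⟩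
private noncomputable def _root_.Cfsg.Agent.LsF.fb6f244_4 : {f // @Cfsg.Agent.KFacts.M24Pair.Sub.subs = f} := ⟨_, by first | (delta Cfsg.Agent.KFacts.M24Pair.Sub.subs List.brecOn List.brecOn.go Cfsg.Agent.KFacts.M24Pair.Sub.subs._f; rewrite [Cfsg.Agent.LsF.lappend_pat, Cfsg.Agent.LsF.map_eq]; (try delta Cfsg.Agent.KFacts.M24Pair.Sub.subs.match_1); (try delta List.casesOn); first | dsimp -zeta only | exact rfl) | exact rfl⟩
private noncomputable def _root_.Cfsg.Agent.LsF.fb6f244_5 : {f // @Cfsg.Agent.KFacts.M24Pair.Letters.weqb = f} := ⟨_, by first | (delta Cfsg.Agent.KFacts.M24Pair.Letters.weqb; rewrite [Cfsg.Agent.LsF.fb6f244_3.2]; exact rfl) | exact rfl⟩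
private noncomputable def _root_.Cfsg.Agent.LsF.fb6f244_6 : {f // @Cfsg.Agent.KFacts.M24Pair.Sub.clo = f} := ⟨_, by first | (delta Cfsg.Agent.KFacts.M24Pair.Sub.clo; rewrite [Cfsg.Agent.LsF.fb6f244_3.2, Cfsg.Agent.LsF.fb6f244_4.2, Cfsg.Agent.LsF.fb6f244_5.2, Cfsg.Agent.LsF.fb6f244_2.2, Cfsg.Agent.LsF.and_eq, Cfsg.Agent.LsF.all_eq, Cfsg.Agent.LsF.any_eq, Cfsg.Agent.LsF.map_eq, Cfsg.Agent.LsF.getD_eq]; exact rfl) | exact rfl⟩
theorem clo_Q : clo [0,1,2,3,4,5,6] = true := by ((try (rewrite [Cfsg.Agent.LsF.fb6f244_6.2])); decide +kernel)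

theorem card_E : Nat.card (gen [0,1,2,3]) = 16 := card_gen clo_E (by decide +kernel)
theorem card_V : Nat.card (gen [4,5,6]) = 8 := card_gen clo_V (by decide +kernel)
theorem card_A : Nat.card (gen [1,2,3]) = 8 := card_gen clo_A (by decide +kernel)
private noncomputable def _root_.Cfsg.Agent.LsF.fb6f244_7 : {f // @Cfsg.Agent.KFacts.M24Pair.Sub.nodupb = f} := ⟨_, by first | (delta Cfsg.Agent.KFacts.M24Pair.Sub.nodupb List.brecOn List.brecOn.go Cfsg.Agent.KFacts.M24Pair.Sub.nodupb._f; rewrite [Cfsg.Agent.LsF.and_eq, Cfsg.Agent.LsF.not_eq, Cfsg.Agent.LsF.all_eq]; (try delta Cfsg.Agent.KFacts.M24Pair.Sub.subs.match_1); (try delta List.casesOn); first | dsimp -zeta only | exact rfl) | exact rfl⟩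
private noncomputable def _root_.Cfsg.Agent.LsF.fb6f244_8 : {f // @Cfsg.Agent.KFacts.M24Pair.Sub.can = f} := ⟨_, by first | (delta Cfsg.Agent.KFacts.M24Pair.Sub.can; rewrite [Cfsg.Agent.LsF.fb6f244_2.2]; exact rfl) | exact rfl⟩
private noncomputable def _root_.Cfsg.Agent.LsF.fb6f244_9 : {f // @Cfsg.Agent.KFacts.M24Pair.Sub.dst = f} := ⟨_, by first | (delta Cfsg.Agent.KFacts.M24Pair.Sub.dst; rewrite [Cfsg.Agent.LsF.fb6f244_7.2, Cfsg.Agent.LsF.fb6f244_8.2, Cfsg.Agent.LsF.fb6f244_3.2, Cfsg.Agent.LsF.map_eq]; exact rfl) | exact rfl⟩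
theorem card_Q : Nat.card (gen [0,1,2,3,4,5,6]) = 128 := card_gen clo_Q (by ((try (rewrite [Cfsg.Agent.LsF.fb6f244_9.2, Cfsg.Agent.LsF.fb6f244_4.2])); decide +kernel))

theorem gen_mono {ls ls' : List ℕ} (h : ∀ k ∈ ls, k ∈ ls') : gen ls ≤ gen ls' :=
  gen_le fun k hk => xx_mem (h k hk)

theorem E_le_Q : gen [0,1,2,3] ≤ gen [0,1,2,3,4,5,6] := gen_mono (by decide)
theorem V_le_Q : gen [4,5,6] ≤ gen [0,1,2,3,4,5,6] := gen_mono (by decide)
theorem A_le_E : gen [1,2,3] ≤ gen [0,1,2,3] := gen_mono (by decide)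
theorem V_le_E' : gen [4,5,6] ≤ gen [16,4,5,6] := gen_mono (by decide)

/-- Sublists of an appended list. -/
theorem exists_append {l l' : List ℕ} : ∀ {w : List ℕ}, w ∈ subs (l ++ l') →
    ∃ u ∈ subs l, ∃ v ∈ subs l', w = u ++ v := by
  induction l with
  | nil =>
    intro w h
    exact ⟨[], nil_mem_subs [], w, h, rfl⟩
  | cons a l ih =>
    intro w h
    rw [List.cons_append, subs, List.mem_append] at h
    rcases h with h | h
    · obtain ⟨v, hv, rfl⟩ := List.mem_map.1 h
      obtain ⟨u, hu, v', hv', rfl⟩ := ih hv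
      refine ⟨a :: u, ?_, v', hv', rfl⟩
      rw [subs, List.mem_append]
      exact Or.inl (List.mem_map_of_mem hu)
    · obtain ⟨u, hu, v', hv', rfl⟩ := ih h
      refine ⟨u, ?_, v', hv', rfl⟩
      rw [subs, List.mem_append]
      exact Or.inr hu

/-- `Q = E V`, with words. -/
theorem exists_words {g : M24} (hg : g ∈ gen [0,1,2,3,4,5,6]) :
    ∃ u ∈ subs [0,1,2,3], ∃ v ∈ subs [4,5,6], g = ev u * ev v := by
  obtain ⟨w, hw, rfl⟩ := (mem_gen_iff clo_Q g).1 hg
  obtain ⟨u, hu, v, hv, rfl⟩ := exists_append (l := [0,1,2,3]) (l' := [4,5,6]) hw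
  exact ⟨u, hu, v, hv, ev_append u v⟩

theorem ev_mem_E {u : List ℕ} (hu : u ∈ subs [0,1,2,3]) : ev u ∈ gen [0,1,2,3] :=
  (mem_gen_iff clo_E _).2 ⟨u, hu, rfl⟩

theorem ev_mem_V {u : List ℕ} (hu : u ∈ subs [4,5,6]) : ev u ∈ gen [4,5,6] :=
  (mem_gen_iff clo_V _).2 ⟨u, hu, rfl⟩

/-- `Q = E V`. -/
theorem mem_Q_iff {g : M24} : g ∈ gen [0,1,2,3,4,5,6] ↔
    ∃ e ∈ gen [0,1,2,3], ∃ v ∈ gen [4,5,6], g = e * v := by
  constructor
  · intro hg
    obtain ⟨u, hu, v, hv, rfl⟩ := exists_words hg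
    exact ⟨_, ev_mem_E hu, _, ev_mem_V hv, rfl⟩
  · rintro ⟨e, he, v, hv, rfl⟩
    exact mul_mem (E_le_Q he) (V_le_Q hv)

/-! ### The points -/

/-- the octad fixed by `E` -/
def oct : List ℕ := [6, 7, 11, 12, 13, 15, 16, 20]

/-- the other points -/
def out : List ℕ := [0, 1, 2, 3, 4, 5, 8, 9, 10, 14, 17, 18, 19, 21, 22, 23]

theorem mem_oct_or {i : ℕ} (hi : i < 24) : i ∈ oct ∨ i ∈ out := by
  interval_cases i <;> decide

/-- the action of words on the indices -/
theorem idx_ev (w : List ℕ) {i : ℕ} (hi : i < 24) : idx (ev w • pt i) = papp (prodW gx w) i := by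
  rw [← el_prodW_eq, idx_el_smul (ok_prodW gx_ok w), idx_pt hi]

theorem E_oct : ∀ u ∈ subs [0,1,2,3], ∀ i ∈ oct, Nat.beq (papp (prodW gx u) i) i = true := by
  decide +kernel

theorem E_out : ∀ u ∈ subs [0,1,2,3], u = [] ∨ ∀ i ∈ out, Nat.beq (papp (prodW gx u) i) i = false := by
  decide +kernel

theorem V_oct : ∀ u ∈ subs [4,5,6], u = [] ∨ ∀ i ∈ oct, Nat.beq (papp (prodW gx u) i) i = false := by
  decide +kernel

theorem fix_oct {g : M24} (hg : g ∈ gen [0,1,2,3]) {i : ℕ} (hi : i ∈ oct) : g • pt i = pt i := by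
  obtain ⟨u, hu, rfl⟩ := (mem_gen_iff clo_E g).1 hg
  have h24 : i < 24 := by
    have : ∀ i ∈ oct, i < 24 := by decide
    exact this i hi
  apply idx_injective
  rw [idx_ev u h24, idx_pt h24]
  exact Nat.eq_of_beq_eq_true (E_oct u hu i hi)

theorem eq_one_of_fix_out {g : M24} (hg : g ∈ gen [0,1,2,3]) {i : ℕ} (hi : i ∈ out)
    (h : g • pt i = pt i) : g = 1 := by
  obtain ⟨u, hu, rfl⟩ := (mem_gen_iff clo_E g).1 hg
  have h24 : i < 24 := by
    have : ∀ i ∈ out, i < 24 := by decide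
    exact this i hi
  rcases E_out u hu with rfl | h1
  · rfl
  · have h2 := congrArg idx h
    rw [idx_ev u h24, idx_pt h24] at h2
    have h3 := h1 i hi
    rw [h2, Nat.beq_refl] at h3
    exact Bool.noConfusion h3

theorem mem_E_of_fix_oct {g : M24} (hg : g ∈ gen [0,1,2,3,4,5,6]) {i : ℕ} (hi : i ∈ oct)
    (h : g • pt i = pt i) : g ∈ gen [0,1,2,3] := by
  obtain ⟨u, hu, v, hv, rfl⟩ := exists_words hg
  have h24 : i < 24 := by
    have : ∀ i ∈ oct, i < 24 := by decide
    exact this i hi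
  rcases V_oct v hv with rfl | h1
  · rw [ev_nil, mul_one]
    exact ev_mem_E hu
  · exfalso
    have h4 : ev v • pt i = pt i := by
      have h5 := fix_oct (ev_mem_E hu) hi
      rw [mul_smul] at h
      exact MulAction.injective (ev u) (h.trans h5.symm)
    have h2 := congrArg idx h4
    rw [idx_ev v h24, idx_pt h24] at h2
    have h3 := h1 i hi
    rw [h2, Nat.beq_refl] at h3
    exact Bool.noConfusion h3

/-- **`N_K(Q)` normalises `E`.** -/
theorem normQ_normE {g : M24} (hg : ∀ q ∈ gen [0,1,2,3,4,5,6], g * q * g⁻¹ ∈ gen [0,1,2,3,4,5,6])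
    {e : M24} (he : e ∈ gen [0,1,2,3]) : g * e * g⁻¹ ∈ gen [0,1,2,3] := by
  have h24 : ∀ i ∈ oct, i < 24 := by decide
  -- `g` maps the octad to itself
  have hfix : ∀ e ∈ gen [0,1,2,3], ∀ i ∈ oct, (g * e * g⁻¹) • (g • pt i) = g • pt i := by
    intro e he i hi
    rw [mul_smul, mul_smul, inv_smul_smul, fix_oct he hi]
  have hoct : ∀ i ∈ oct, ∃ j ∈ oct, g • pt i = pt j := by
    intro i hi
    by_contra hne
    push Not at hne
    set j := idx (g • pt i) with hj
    have hj24 : j < 24 := idx_lt _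
    have hpj : pt j = g • pt i := pt_idx _
    have hjout : j ∈ out := by
      rcases mem_oct_or hj24 with h | h
      · exact absurd hpj.symm (hne j h)
      · exact h
    -- the map `E → V`
    have hdec : ∀ e : gen [0,1,2,3], ∃ v : gen [4,5,6], ∃ e' ∈ gen [0,1,2,3],
        g * (e : M24) * g⁻¹ = e' * (v : M24) := by
      intro e
      obtain ⟨e', he', v, hv, h⟩ := mem_Q_iff.1 (hg e (E_le_Q e.2))
      exact ⟨⟨v, hv⟩, e', he', h⟩
    choose f e' he' hfe using hdec
    have hinj : Function.Injective f := by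
      intro a b hab
      have h1 : g * ((a : M24) * (b : M24)⁻¹) * g⁻¹ = e' a * (e' b)⁻¹ := by
        have h2 : g * ((a : M24) * (b : M24)⁻¹) * g⁻¹ =
            (g * (a : M24) * g⁻¹) * (g * (b : M24) * g⁻¹)⁻¹ := by group
        rw [h2, hfe a, hfe b, hab]
        group
      have h3 : e' a * (e' b)⁻¹ ∈ gen [0,1,2,3] := mul_mem (he' a) (inv_mem (he' b))
      have h4 : (e' a * (e' b)⁻¹) • pt j = pt j := by
        rw [← h1, hpj]
        exact hfix _ (mul_mem a.2 (inv_mem b.2)) i hi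
      have h5 := eq_one_of_fix_out h3 hjout h4
      rw [h5] at h1
      have h6 : (a : M24) * (b : M24)⁻¹ = 1 := by
        have h7 : (a : M24) * (b : M24)⁻¹ = g⁻¹ * (g * ((a : M24) * (b : M24)⁻¹) * g⁻¹) * g := by
          group
        rw [h7, h1]
        group
      exact Subtype.ext (mul_inv_eq_one.1 h6)
    have h8 := Nat.card_le_card_of_injective f hinj
    rw [card_E, card_V] at h8
    omega
  obtain ⟨j, hj, hje⟩ := hoct 6 (by decide)
  refine mem_E_of_fix_oct (hg e (E_le_Q he)) hj ?_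
  rw [← hje]
  exact hfix e he 6 (by decide)

/-! ### Fusion -/

theorem fuse_tab : ∀ u ∈ subs [0,1,2,3], ∀ v ∈ subs [4,5,6], v = [] ∨
    ((List.range 24).all fun i => !(Nat.beq (papp (prodW gx (u ++ v)) i) i)) = true ∨
    ((subs [4,5,6]).any fun w => weqb (u ++ v) w || weqb ([0] ++ (u ++ v) ++ [0]) w) = true := by
  (refine of_decide_eq_true ?_; (try (rewrite [Cfsg.Agent.LsF.fb6f244_4.2, Cfsg.Agent.LsF.fb6f244_1.2, Cfsg.Agent.LsF.fb6f244_3.2, Cfsg.Agent.LsF.fb6f244_5.2, Cfsg.Agent.LsF.lappend_pat, Cfsg.Agent.LsF.or_eq, Cfsg.Agent.LsF.not_eq, Cfsg.Agent.LsF.all_eq, Cfsg.Agent.LsF.any_eq, Cfsg.Agent.LsF.range_eq, Cfsg.Agent.LsF.dOr_eq, Cfsg.Agent.LsF.dBoolEq_eq, Cfsg.Agent.LsF.dBAll_eq, Cfsg.Agent.LsF.decide_eq])); decide +kernel)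

theorem z_fix : xx 3 • pt 6 = pt 6 := fix_oct (xx_mem (by decide)) (by decide)

/-- **Elements of `Q - E` conjugate to `z` are `E`-conjugate into `V`.** -/
theorem fuse_Q {g : M24} (hg : g ∈ gen [0,1,2,3,4,5,6]) (hE : g ∉ gen [0,1,2,3])
    (hc : IsConj (xx 3) g) : ∃ e ∈ gen [0,1,2,3], e * g * e⁻¹ ∈ gen [4,5,6] := by
  obtain ⟨u, hu, v, hv, rfl⟩ := exists_words hg
  rcases fuse_tab u hu v hv with rfl | h | h
  · exact absurd (by rw [ev_nil, mul_one]; exact ev_mem_E hu) hE
  · exfalso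
    obtain ⟨c, hc⟩ := isConj_iff.1 hc
    set i := idx (c • pt 6) with hi
    have h1 : (ev u * ev v) • pt i = pt i := by
      rw [← hc, hi, pt_idx, mul_smul, mul_smul, inv_smul_smul, z_fix]
    have h2 := congrArg idx h1
    rw [← ev_append, idx_ev _ (idx_lt _), idx_pt (idx_lt _)] at h2
    have h3 := List.all_eq_true.1 h i (List.mem_range.2 (idx_lt _))
    rw [h2, Nat.beq_refl] at h3
    exact Bool.noConfusion h3
  · obtain ⟨w, hw, h1⟩ := List.any_eq_true.1 h
    rw [Bool.or_eq_true] at h1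
    rcases h1 with h1 | h1
    · refine ⟨1, one_mem _, ?_⟩
      have h2 := weq h1
      rw [ev_append] at h2
      rw [h2, one_mul, inv_one, mul_one]
      exact ev_mem_V hw
    · refine ⟨xx 0, xx_mem (by decide), ?_⟩
      have h2 := weq h1
      rw [ev_append, ev_append, ev_append, ev_cons, ev_nil, mul_one] at h2
      rw [inv_eq_of_mul_eq_one_left (xx_sq (k := 0) (by norm_num)), h2]
      exact ev_mem_V hw

/-! ### `V`, `A` and `E'` -/

theorem cV_tab : ∀ u ∈ subs [0,1,2,3], ∀ v ∈ subs [4,5,6], v = [] ∨ 0 ∉ u ∨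
    Nat.beq (can (prodW gx (u ++ v))) (can (prodW gx (v ++ u))) = false := by
  (refine of_decide_eq_true ?_; (try (rewrite [Cfsg.Agent.LsF.dMemE_pat, Cfsg.Agent.LsF.fb6f244_4.2, Cfsg.Agent.LsF.fb6f244_8.2, Cfsg.Agent.LsF.fb6f244_3.2, Cfsg.Agent.LsF.lappend_pat, Cfsg.Agent.LsF.instDecEq_eq, Cfsg.Agent.LsF.dOr_eq, Cfsg.Agent.LsF.dNot_eq, Cfsg.Agent.LsF.dBoolEq_eq, Cfsg.Agent.LsF.dBAll_eq, Cfsg.Agent.LsF.decide_eq])); decide +kernel)

/-- `C_E(v) = A` for `1 ≠ v ∈ V`. -/
theorem mem_A_of_comm {e v : M24} (he : e ∈ gen [0,1,2,3]) (hv : v ∈ gen [4,5,6]) (h1 : v ≠ 1)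
    (h : e * v = v * e) : e ∈ gen [1,2,3] := by
  obtain ⟨u, hu, rfl⟩ := (mem_gen_iff clo_E e).1 he
  obtain ⟨v, hv', rfl⟩ := (mem_gen_iff clo_V v).1 hv
  rcases cV_tab u hu v hv' with rfl | h2 | h2
  · exact absurd ev_nil h1
  · have h3 := mem_of_mem_subs hu
    refine ev_mem fun k hk => xx_mem ?_
    have h4 := h3 k hk
    have h5 : k ≠ 0 := fun h => h2 (h ▸ hk)
    simp only [List.mem_cons, List.not_mem_nil, or_false] at h4 ⊢
    (clear * - h5 h4; tauto)
  · rw [← ev_append, ← ev_append, ← el_prodW_eq, ← el_prodW_eq] at h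
    rw [can_eq_of_el (ok_prodW gx_ok _) (ok_prodW gx_ok _) h, Nat.beq_refl] at h2
    exact Bool.noConfusion h2

theorem A_comm_tab : ∀ k ∈ [1,2,3], ∀ l ∈ [0,1,2,3,4,5,6], weqb [k, l] [l, k] = true := by
  decide +kernel

/-- `A` is central in `Q`. -/
theorem A_comm {a q : M24} (ha : a ∈ gen [1,2,3]) (hq : q ∈ gen [0,1,2,3,4,5,6]) :
    a * q = q * a := by
  have h1 : gen [0,1,2,3,4,5,6] ≤ Subgroup.centralizer (gen [1,2,3] : Set M24) := by
    rw [Subgroup.le_centralizer_iff]
    refine gen_le fun k hk => ?_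
    rw [Subgroup.mem_centralizer_iff]
    intro q hq
    have h2 : gen [0,1,2,3,4,5,6] ≤ Subgroup.centralizer {xx k} := by
      refine gen_le fun l hl => ?_
      rw [Subgroup.mem_centralizer_singleton_iff]
      have h3 := weq (A_comm_tab k hk l hl)
      simp only [ev_cons, ev_nil, mul_one] at h3
      exact h3.symm
    exact (Subgroup.mem_centralizer_singleton_iff.1 (h2 hq))
  exact Subgroup.mem_centralizer_iff.1 (h1 hq) a ha

theorem VE_tab : ∀ u ∈ subs [0,1,2,3], ∀ v ∈ subs [4,5,6], v = [] ∨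
    Nat.beq (can (prodW gx u)) (can (prodW gx v)) = false := by
  decide +kernel

/-- `V ∩ E = 1`. -/
theorem eq_one_of_mem {g : M24} (hE : g ∈ gen [0,1,2,3]) (hV : g ∈ gen [4,5,6]) : g = 1 := by
  obtain ⟨u, hu, rfl⟩ := (mem_gen_iff clo_E g).1 hE
  obtain ⟨v, hv, h⟩ := (mem_gen_iff clo_V _).1 hV
  rcases VE_tab u hu v hv with rfl | h2
  · exact h
  · exfalso
    rw [← el_prodW_eq, ← el_prodW_eq] at h
    rw [can_eq_of_el (ok_prodW gx_ok _) (ok_prodW gx_ok _) h, Nat.beq_refl] at h2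
    exact Bool.noConfusion h2

theorem E'_tab : ∀ v ∈ subs [4,5,6], ∀ u ∈ subs [0,1,2,3],
    Nat.beq (can (prodW gx (16 :: v ++ [1]))) (can (prodW gx (u ++ 16 :: v))) = false := by
  (refine of_decide_eq_true ?_; (try (rewrite [Cfsg.Agent.LsF.fb6f244_4.2, Cfsg.Agent.LsF.fb6f244_8.2, Cfsg.Agent.LsF.fb6f244_3.2, Cfsg.Agent.LsF.lappend_pat, Cfsg.Agent.LsF.dBoolEq_eq, Cfsg.Agent.LsF.dBAll_eq, Cfsg.Agent.LsF.decide_eq])); decide +kernel)

/-- **`E' ∩ N_K(E) ≤ V`.** -/
theorem norm_E' {g : M24} (hg : g ∈ gen [16,4,5,6])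
    (hn : ∀ e ∈ gen [0,1,2,3], g * e * g⁻¹ ∈ gen [0,1,2,3]) : g ∈ gen [4,5,6] := by
  obtain ⟨w, hw, rfl⟩ := (mem_gen_iff clo_E' g).1 hg
  rw [subs, List.mem_append] at hw
  rcases hw with hw | hw
  · exfalso
    obtain ⟨v, hv, rfl⟩ := List.mem_map.1 hw
    obtain ⟨u, hu, h⟩ := (mem_gen_iff clo_E _).1 (hn (xx 1) (xx_mem (by decide)))
    have h1 : ev (16 :: v ++ [1]) = ev (u ++ 16 :: v) := by
      rw [ev_append, ev_append, ← h, ev_cons 1, ev_nil, mul_one]
      group
    have h2 := E'_tab v hv u hu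
    rw [← el_prodW_eq, ← el_prodW_eq] at h1
    rw [can_eq_of_el (ok_prodW gx_ok _) (ok_prodW gx_ok _) h1, Nat.beq_refl] at h2
    exact Bool.noConfusion h2
  · exact ev_mem_V hw

/-- `V` normalises `E`. -/
theorem V_norm {v : M24} (hv : v ∈ gen [4,5,6]) {e : M24} (he : e ∈ gen [0,1,2,3]) :
    v * e * v⁻¹ ∈ gen [0,1,2,3] := by
  obtain ⟨v', hv', rfl⟩ := (mem_gen_iff clo_V _).1 hv
  have h : ∀ v ∈ subs [4,5,6], nb v [0,1,2,3] [0,1,2,3] = true := by decide +kernel
  exact conj_mem (h v' hv') he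

theorem E'_conj {e : M24} (he : e ∈ gen [16,4,5,6]) : xx 17 * e * (xx 17)⁻¹ ∈ gen [0,1,2,3] := by
  have h := conj_mem (u := [17]) (ls := [16,4,5,6]) (ls' := [0,1,2,3]) (by decide +kernel) he
  rwa [ev_cons, ev_nil, mul_one] at h

/-- The table of conjugates. -/
def tabE : List (List ℕ × List ℕ) := [([0], [4, 10, 7, 11, 14]), ([1], [7, 11, 14]), ([2], [14]),
  ([3], []), ([0, 1], [10, 7, 11, 14]), ([0, 2], [4, 10, 11, 14]), ([0, 3], [15, 4, 10, 11, 14]),
  ([1, 2], [11, 14]), ([1, 3], [15, 11, 14]), ([2, 3], [15]), ([0, 1, 2], [10, 11, 14]),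
  ([0, 1, 3], [15, 10, 11, 14]), ([0, 2, 3], [4, 10, 11, 15]), ([1, 2, 3], [11, 15]),
  ([0, 1, 2, 3], [10, 11, 15])]

theorem tabE_ok : cj tabE = true := by decide +kernel

/-- **The nontrivial elements of `E` are conjugate to `z`.** -/
theorem E_conj_z {e : M24} (he : e ∈ gen [0,1,2,3]) (h1 : e ≠ 1) : IsConj (xx 3) e := by
  obtain ⟨u, hu, rfl⟩ := (mem_gen_iff clo_E e).1 he
  have h : ∀ u ∈ subs [0,1,2,3], u = [] ∨ u ∈ tabE.map Prod.fst := by decide
  rcases h u hu with rfl | h2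
  · exact absurd ev_nil h1
  · obtain ⟨p, hp, rfl⟩ := List.mem_map.1 h2
    exact isConj_of_cj tabE_ok hp

theorem E'_conj_z {e : M24} (he : e ∈ gen [16,4,5,6]) (h1 : e ≠ 1) : IsConj (xx 3) e := by
  have h2 := E_conj_z (E'_conj he) (by
    intro h
    apply h1
    rw [mul_inv_eq_one] at h
    exact mul_eq_left.1 h)
  refine h2.trans ?_
  rw [isConj_iff]
  refine ⟨(xx 17)⁻¹, by group⟩

theorem V_conj_z {e : M24} (he : e ∈ gen [4,5,6]) (h1 : e ≠ 1) : IsConj (xx 3) e :=
  E'_conj_z (V_le_E' he) h1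

end Cfsg.Agent.KFacts.M24Pair.TrioQ

end

-- merged: Cfsg.Agent.KFacts.M24Pair.Fix
section

/-!
# Elements of `Cfsg.M24` fixing many points; `C_K(A) = Q`

`eq_one_of_sep`: an element fixing the points of the mask `F` is trivial if the octads of a list `sep`, meeting `F` in at
least five points, separate the other points. `mem_Q_of_comm`: the centralizer of `A = ⟨X13, X14, X15⟩` is
`Q = ⟨X12, …, X25⟩` (order `2^7`).
-/

set_option autoImplicit false
set_option Elab.async false

namespace Cfsg.Agent.KFacts.M24Pair.Fix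

open Cfsg Cfsg.Agent.SporadicA.GolayBase Cfsg.Agent.SporadicA.GolayPerm
open Cfsg.Agent.SporadicStructure.M24El Cfsg.Agent.KFacts.M24Pair.Cent
open Cfsg.Agent.KFacts.M24Pair.Letters Cfsg.Agent.KFacts.M24Pair.Sub
open Cfsg.Agent.KFacts.M24Pair.TrioQ
open scoped Pointwise

/-- **Elements fixing many points.** -/
theorem eq_one_of_sep {F : ℕ} {sep : List ℕ}
    (h1 : ∀ m ∈ sep, isCode m = true ∧ popcount m = 8 ∧ 5 ≤ popcount (m &&& F))
    (h2 : ∀ i < 24, ∀ j < 24, F.testBit i = false → F.testBit j = false →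
      (∀ m ∈ sep, m.testBit i = m.testBit j) → i = j) {g : M24}
    (hg : ∀ i < 24, F.testBit i = true → g • pt i = pt i) : g = 1 := by
  set τ : Equiv.Perm GolayPt := (g : Equiv.Perm GolayPt) with hτ
  have hfix : ∀ p ∈ fin F, τ p = p := by
    intro p hp
    rw [mem_fin] at hp
    have h := hg _ (idx_lt p) hp
    rw [pt_idx] at h
    exact h
  have h3 : ∀ m ∈ sep, τ • fin m = fin m := by
    intro m hm
    have h4 := h1 m hm
    have h5 : fin m ∈ octads := (fin_mem_octads_iff (isCode_lt h4.1)).2 ⟨h4.1, h4.2.1⟩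
    apply octad_unique ((smul_mem_octads g.2).2 h5) h5
    have h6 : fin (m &&& F) ⊆ τ • fin m ∩ fin m := by
      rw [fin_and]
      intro p hp
      rw [Finset.mem_inter] at hp ⊢
      refine ⟨?_, hp.1⟩
      rw [← hfix p hp.2]
      exact Finset.smul_mem_smul_finset hp.1
    have h7 := Finset.card_le_card h6
    rw [card_fin] at h7
    exact h4.2.2.trans h7
  have h8 : ∀ p ∈ fin F, (τ p = p) := hfix
  apply Subtype.ext
  ext1 p
  show τ p = p
  by_cases hp : p ∈ fin F
  · exact hfix p hp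
  · have hgp : τ p ∉ fin F := by
      intro h
      have := hfix _ h
      exact hp ((τ.injective this) ▸ h)
    apply idx_injective
    rw [mem_fin] at hp hgp
    apply h2 _ (idx_lt _) _ (idx_lt _) (Bool.eq_false_iff.2 hgp) (Bool.eq_false_iff.2 hp)
    intro m hm
    have h9 := h3 m hm
    rw [Bool.eq_iff_iff, ← mem_fin, ← mem_fin]
    constructor
    · intro h10
      rw [← h9] at h10
      exact (mem_smul_iff τ _ p).1 h10
    · intro h10
      rw [← h9]
      exact (mem_smul_iff τ _ p).2 h10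

/-! ### The centralizer of `A` -/

/-- octads meeting `oct` in two points -/
def sepA : List ℕ := [11010247, 919694, 11163650, 7221256, 9347075, 2605066]

theorem sepA_ok : ∀ m ∈ sepA, isCode m = true ∧ popcount m = 8 ∧ 5 ≤ popcount (m &&& 15615807) := by
  decide +kernel

theorem sepA_sep : ∀ i < 24, ∀ j < 24, Nat.testBit 15615807 i = false →
    Nat.testBit 15615807 j = false → (∀ m ∈ sepA, m.testBit i = m.testBit j) → i = j := by
  decide +kernel

/-- the two orbits of `A` outside the octad -/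
def oa : List ℕ := [0, 3, 2, 1, 23, 17, 5, 14]
/-- the second orbit -/
def ob : List ℕ := [4, 8, 9, 18, 21, 22, 19, 10]

theorem out_or : ∀ i < 24, Nat.testBit 15615807 i = true → i ∈ oa ∨ i ∈ ob := by decide +kernel

theorem oa_tab : ∀ i ∈ oa, ∃ w ∈ subs [1,2,3], Nat.beq (papp (prodW gx w) 0) i = true := by
  decide +kernel

theorem ob_tab : ∀ i ∈ ob, ∃ w ∈ subs [1,2,3], Nat.beq (papp (prodW gx w) 4) i = true := by
  decide +kernel

/-- whether two points lie in the same orbit of `A` -/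
def same (c d : ℕ) : Bool := (oa.any (Nat.beq c) && oa.any (Nat.beq d)) ||
  (ob.any (Nat.beq c) && ob.any (Nat.beq d))

private noncomputable def _root_.Cfsg.Agent.LsF.fb6f244_10 : {f // @Cfsg.Agent.KFacts.M24Pair.Fix.same = f} := ⟨_, by first | (delta Cfsg.Agent.KFacts.M24Pair.Fix.same; rewrite [Cfsg.Agent.LsF.and_eq, Cfsg.Agent.LsF.or_eq, Cfsg.Agent.LsF.any_eq]; exact rfl) | exact rfl⟩
theorem pairs_tab : (out.all fun c => out.all fun d => same c d ||
    ((subs [0,1,2,3,4,5,6]).map fun w => papp (prodW gx w) 0 + 32 * papp (prodW gx w) 4).any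
      (Nat.beq (c + 32 * d))) = true := by
  ((try (rewrite [Cfsg.Agent.LsF.fb6f244_10.2, Cfsg.Agent.LsF.fb6f244_1.2, Cfsg.Agent.LsF.fb6f244_3.2, Cfsg.Agent.LsF.fb6f244_4.2, Cfsg.Agent.LsF.nadd_pat, Cfsg.Agent.LsF.nmul_pat, Cfsg.Agent.LsF.or_eq, Cfsg.Agent.LsF.all_eq, Cfsg.Agent.LsF.any_eq, Cfsg.Agent.LsF.map_eq])); decide +kernel)

theorem same_tab : ∀ c < 24, ∀ d < 24, same c d = true → ∃ w ∈ subs [1,2,3],
    Nat.beq (papp (prodW gx w) c) d = true := by
  decide +kernel

/-- **`C_K(A) = Q`.** -/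
theorem mem_Q_of_comm {g : M24} (h : ∀ a ∈ gen [1,2,3], g * a = a * g) :
    g ∈ gen [0,1,2,3,4,5,6] := by
  have hsm : ∀ a ∈ gen [1,2,3], ∀ p : GolayPt, g • a • p = a • g • p := by
    intro a ha p
    rw [← mul_smul, ← mul_smul, h a ha]
  -- `g` preserves `out`
  have hout : ∀ i ∈ out, idx (g • pt i) ∈ out := by
    intro i hi
    have h24 : i < 24 := by
      have : ∀ i ∈ out, i < 24 := by decide
      exact this i hi
    rcases mem_oct_or (idx_lt (g • pt i)) with h1 | h1
    · exfalso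
      have h2 := fix_oct (xx_mem (ls := [0,1,2,3]) (k := 3) (by decide)) h1
      rw [pt_idx, ← hsm _ (xx_mem (by decide))] at h2
      have h3 := MulAction.injective g h2
      have h4 := eq_one_of_fix_out (xx_mem (ls := [0,1,2,3]) (k := 3) (by decide)) hi h3
      have h5 : ev [3] ≠ ev [] := wne (by decide +kernel)
      apply h5
      rw [ev_cons, ev_nil, mul_one, h4]
    · exact h1
  set c := idx (g • pt 0) with hc
  set d := idx (g • pt 4) with hd
  have hc' : g • pt 0 = pt c := (pt_idx _).symm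
  have hd' : g • pt 4 = pt d := (pt_idx _).symm
  have hns : same c d = false := by
    by_contra hs
    rw [Bool.not_eq_false] at hs
    obtain ⟨w, hw, hwe⟩ := same_tab c (idx_lt _) d (idx_lt _) hs
    have hwA : ev w ∈ gen [1,2,3] := (mem_gen_iff clo_A _).2 ⟨w, hw, rfl⟩
    have h1 : ev w • pt c = pt d := by
      apply idx_injective
      rw [idx_ev w (idx_lt _), idx_pt (idx_lt _)]
      exact Nat.eq_of_beq_eq_true hwe
    rw [← hc', ← hd', ← hsm _ hwA] at h1
    have h2 := MulAction.injective g h1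
    have h3 : ∀ w ∈ subs [1,2,3], Nat.beq (papp (prodW gx w) 0) 4 = false := by decide +kernel
    have h4 := congrArg idx h2
    rw [idx_ev w (by norm_num), idx_pt (by norm_num)] at h4
    have h5 := h3 w hw
    rw [h4] at h5
    exact Bool.noConfusion h5
  have hq := List.all_eq_true.1 (List.all_eq_true.1 pairs_tab c (hout 0 (by decide))) d
    (hout 4 (by decide))
  rw [hns, Bool.false_or] at hq
  obtain ⟨y, hy, hye⟩ := List.any_eq_true.1 hq
  obtain ⟨w, hw, rfl⟩ := List.mem_map.1 hy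
  have hye := Nat.eq_of_beq_eq_true hye
  have hb1 : papp (prodW gx w) 0 < 24 := papp_lt (ok_iff.1 (ok_prodW gx_ok w)).1 (by norm_num)
  have hc24 : c < 24 := idx_lt _
  have e1 : papp (prodW gx w) 0 = c := by omega
  have e2 : papp (prodW gx w) 4 = d := by omega
  have hwQ : ev w ∈ gen [0,1,2,3,4,5,6] := (mem_gen_iff clo_Q _).2 ⟨w, hw, rfl⟩
  have hw0 : ev w • pt 0 = g • pt 0 := by
    apply idx_injective
    rw [idx_ev w (by norm_num), e1]
  have hw4 : ev w • pt 4 = g • pt 4 := by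
    apply idx_injective
    rw [idx_ev w (by norm_num), e2]
  -- `(ev w)⁻¹ g` fixes all the points of `out`
  have hone : (ev w)⁻¹ * g = 1 := by
    have hcomm : ∀ a ∈ gen [1,2,3], ((ev w)⁻¹ * g) * a = a * ((ev w)⁻¹ * g) := by
      intro a ha
      have h1 := A_comm ha hwQ
      rw [mul_assoc, h a ha, ← mul_assoc, ← mul_assoc]
      congr 1
      rw [inv_mul_eq_iff_eq_mul, ← mul_assoc, ← h1, mul_inv_cancel_right]
    have hf : ∀ (i₀ i : ℕ), i₀ < 24 → i < 24 → ((ev w)⁻¹ * g) • pt i₀ = pt i₀ →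
        (∃ v ∈ subs [1,2,3], Nat.beq (papp (prodW gx v) i₀) i = true) →
        ((ev w)⁻¹ * g) • pt i = pt i := by
      rintro i₀ i hi₀ hi h0 ⟨v, hv, hve⟩
      have h1 : ev v • pt i₀ = pt i := by
        apply idx_injective
        rw [idx_ev v hi₀, idx_pt hi]
        exact Nat.eq_of_beq_eq_true hve
      rw [← h1, ← mul_smul, hcomm _ ((mem_gen_iff clo_A _).2 ⟨v, hv, rfl⟩), mul_smul, h0]
    refine eq_one_of_sep sepA_ok sepA_sep ?_
    intro i hi hF
    rcases out_or i hi hF with h1 | h1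
    · exact hf 0 i (by norm_num) hi (by rw [mul_smul, ← hw0, inv_smul_smul]) (oa_tab i h1)
    · exact hf 4 i (by norm_num) hi (by rw [mul_smul, ← hw4, inv_smul_smul]) (ob_tab i h1)
  rw [inv_mul_eq_one] at hone
  rw [← hone]
  exact hwQ

end Cfsg.Agent.KFacts.M24Pair.Fix

end
end

-- part: KFacts/M24Pair/LQuot
section
/-!
# `N(Q) / Q` for `Q = 2^4.2^3 ≤ M24` (ODD half, D8, `K = M24`, fact (F))

`E = ⟨x12, x13, x14, x15⟩`, `V = ⟨x23, x24, x25⟩`, `Q = E V`, `A = ⟨x13, x14, x15⟩ = Z(Q)`.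

* `mem_E_of_comm`: `C(E) = E`;
* `norE`: `N(Q) ≤ N(E)`;
* `φ : N(Q) →* MulAut A`, `ker_φ`: the kernel is `Q`, `range_φ`: surjective.
-/

set_option autoImplicit false
set_option Elab.async false

namespace Cfsg.Agent.KFacts.M24Pair.LQuot

open Cfsg Subgroup Cfsg.Agent.SporadicA.GolayBase Cfsg.Agent.SporadicA.GolayPerm
open Cfsg.Agent.SporadicA.OctadFix
open Cfsg.Agent.SporadicStructure.M24El Cfsg.Agent.KFacts.M24Pair.Cent
open Cfsg.Agent.KFacts.M24Pair.Letters Cfsg.Agent.KFacts.M24Pair.Sub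
open scoped Pointwise

/-- the octad group -/
abbrev E : Subgroup M24 := gen [0, 1, 2, 3]

/-- `Z(Q)` -/
abbrev A : Subgroup M24 := gen [1, 2, 3]

abbrev V : Subgroup M24 := gen [4, 5, 6]

abbrev B : Subgroup M24 := gen [1, 2, 3, 4, 5, 6]

abbrev Q : Subgroup M24 := gen [0, 1, 2, 3, 4, 5, 6]

abbrev N : Subgroup M24 := normalizer (Q : Set M24)

theorem cloE : clo [0, 1, 2, 3] = true := by decide +kernel

theorem cloA : clo [1, 2, 3] = true := by decide +kernel

theorem cloV : clo [4, 5, 6] = true := by decide +kernel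

theorem cloB : clo [1, 2, 3, 4, 5, 6] = true := by ((try (rewrite [Cfsg.Agent.LsF.fb6f244_6.2])); decide +kernel)

theorem cloQ : clo [0, 1, 2, 3, 4, 5, 6] = true := by decide +kernel

theorem cloU : clo [7, 8, 9] = true := by decide +kernel

theorem card_E : Nat.card E = 16 := card_gen cloE (by decide +kernel)

theorem card_A : Nat.card A = 8 := card_gen cloA (by decide +kernel)

theorem card_B : Nat.card B = 64 := card_gen cloB (by decide +kernel)

theorem card_Q : Nat.card Q = 128 := card_gen cloQ (by decide +kernel)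

theorem card_U : Nat.card (gen [7, 8, 9]) = 8 := card_gen cloU (by decide +kernel)

/-! ### `C(E) = E` -/

theorem oct_mem : fin 1161408 ∈ octads := (fin_mem_octads_iff (by norm_num)).2 (by decide +kernel)

theorem fix_oct : ∀ k < 4, ∀ i < 24, Nat.testBit 1161408 i = true → papp (gx.getD k idP) i = i := by
  decide +kernel

theorem xx_mem_fixOct {k : ℕ} (hk : k < 4) : (xx k : Equiv.Perm GolayPt) ∈ fixOct (fin 1161408) := by
  rw [mem_fixOct]
  refine ⟨(xx k).2, fun x hx => ?_⟩
  rw [mem_fin] at hx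
  have h1 := el_smul_pt (ok_getD gx_ok k) x
  rw [fix_oct k hk _ (idx_lt x) hx, pt_idx] at h1
  exact h1

theorem map_E : E.map M24.subtype = fixOct (fin 1161408) := by
  have h1 : E.map M24.subtype ≤ fixOct (fin 1161408) := by
    rw [map_le_iff_le_comap]
    refine gen_le fun k hk => ?_
    have h2 : ∀ k ∈ [0, 1, 2, 3], k < 4 := by decide
    exact xx_mem_fixOct (h2 k hk)
  have h2 : Finite (fixOct (fin 1161408)) :=
    Nat.finite_of_card_ne_zero (by rw [card_fixOct oct_mem]; norm_num)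
  refine Subgroup.eq_of_le_of_card_ge h1 ?_
  rw [card_fixOct oct_mem, card_map_of_injective M24.subtype_injective, card_E]

theorem mem_E_of_comm {g : M24} (h : ∀ e ∈ E, g * e = e * g) : g ∈ E := by
  have h0 : ∀ b ∈ fixOct (fin 1161408), (g : Equiv.Perm GolayPt) * b = b * g := by
    intro b hb
    rw [← map_E] at hb
    obtain ⟨e, he, rfl⟩ := hb
    exact congrArg Subtype.val (h e he)
  have h1 : (xx 0 : Equiv.Perm GolayPt) ≠ 1 := by
    intro h1
    exact X_ne_one (i := 1) (j := 2) (by norm_num) (Subtype.ext h1)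
  have h2 := UGT.End.Octad.stab_of_comm oct_mem (xx_mem_fixOct (k := 0) (by norm_num)) h1
    (h0 _ (xx_mem_fixOct (by norm_num)))
  have h3 := UGT.End.Octad.mem_fixOct_of_comm oct_mem g.2 h2 h0
  rw [← map_E] at h3
  obtain ⟨e, he, h4⟩ := h3
  rwa [← Subtype.ext h4]

/-! ### `Q` -/

theorem comm_letters {k l : ℕ} (h : weqb [k, l] [l, k] = true) : xx k * xx l = xx l * xx k := by
  have h1 := weq h
  simpa only [ev_cons, ev_nil, mul_one] using h1

/-- Commuting generated subgroups. -/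
theorem comm_gen {ls ms : List ℕ} (h : (ls.all fun k => ms.all fun l => weqb [k, l] [l, k]) = true)
    {a b : M24} (ha : a ∈ gen ls) (hb : b ∈ gen ms) : a * b = b * a := by
  have h1 : gen ls ≤ centralizer (gen ms : Set M24) := by
    refine gen_le fun k hk => ?_
    have h2 : gen ms ≤ centralizer ({xx k} : Set M24) := by
      refine gen_le fun l hl => ?_
      rw [mem_centralizer_singleton_iff]
      exact (comm_letters (List.all_eq_true.1 (List.all_eq_true.1 h k hk) l hl)).symm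
    rw [mem_centralizer_iff]
    intro c hc
    exact mem_centralizer_singleton_iff.1 (h2 hc)
  exact (mem_centralizer_iff.1 (h1 ha) b hb).symm

theorem A_comm {a q : M24} (ha : a ∈ A) (hq : q ∈ Q) : a * q = q * a :=
  comm_gen (by decide +kernel) ha hq

theorem B_comm {a b : M24} (ha : a ∈ B) (hb : b ∈ B) : a * b = b * a :=
  comm_gen (by decide +kernel) ha hb

theorem gen_mono {ls ms : List ℕ} (h : ∀ k ∈ ls, k ∈ ms) : gen ls ≤ gen ms :=
  gen_le fun k hk => xx_mem (h k hk)

theorem EQ : E ≤ Q := gen_mono (by decide)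

theorem AQ : A ≤ Q := gen_mono (by decide)

theorem VQ : V ≤ Q := gen_mono (by decide)

theorem BQ : B ≤ Q := gen_mono (by decide)

theorem AB : A ≤ B := gen_mono (by decide)

theorem E_sup_V : E ⊔ V = Q := by
  apply le_antisymm (sup_le EQ VQ)
  refine gen_le fun k hk => ?_
  have h1 : ∀ k ∈ [0, 1, 2, 3, 4, 5, 6], k ∈ [0, 1, 2, 3] ∨ k ∈ [4, 5, 6] := by decide
  rcases h1 k hk with h | h
  · exact mem_sup_left (xx_mem h)
  · exact mem_sup_right (xx_mem h)

/-- the words differ -/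
def wneb (u v : List ℕ) : Bool := (List.range 24).any fun i =>
  !(Nat.beq (papp (prodW gx u) i) (papp (prodW gx v) i))

theorem wneb_false {u v : List ℕ} (h : ev u = ev v) : wneb u v = false := by
  by_contra h1
  exact wne (Bool.eq_true_of_not_eq_false h1) h

private noncomputable def _root_.Cfsg.Agent.LsF.fb6f244_11 : {f // @Cfsg.Agent.KFacts.M24Pair.LQuot.wneb = f} := ⟨_, by first | (delta Cfsg.Agent.KFacts.M24Pair.LQuot.wneb; rewrite [Cfsg.Agent.LsF.fb6f244_1.2, Cfsg.Agent.LsF.fb6f244_3.2, Cfsg.Agent.LsF.not_eq, Cfsg.Agent.LsF.any_eq, Cfsg.Agent.LsF.range_eq]; exact rfl) | exact rfl⟩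
theorem chk_center : ((subs [0, 1, 2, 3, 4, 5, 6]).all fun w =>
    ([0, 1, 2, 3, 4, 5, 6].any fun k => wneb (k :: w) (w ++ [k])) || (subs [1, 2, 3]).contains w) = true := by
  ((try (rewrite [Cfsg.Agent.LsF.fb6f244_4.2, Cfsg.Agent.LsF.fb6f244_11.2, Cfsg.Agent.LsF.instNBEq_pat, Cfsg.Agent.LsF.lappend_pat, Cfsg.Agent.LsF.or_eq, Cfsg.Agent.LsF.all_eq, Cfsg.Agent.LsF.any_eq, Cfsg.Agent.LsF.contains_eq, Cfsg.Agent.LsF.instBEq_eq])); decide +kernel)

theorem chk_x12 : ((subs [0, 1, 2, 3, 4, 5, 6]).all fun w =>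
    wneb (0 :: w) (w ++ [0]) || (subs [0, 1, 2, 3]).contains w) = true := by
  ((try (rewrite [Cfsg.Agent.LsF.fb6f244_4.2, Cfsg.Agent.LsF.fb6f244_11.2, Cfsg.Agent.LsF.instNBEq_pat, Cfsg.Agent.LsF.lappend_pat, Cfsg.Agent.LsF.or_eq, Cfsg.Agent.LsF.all_eq, Cfsg.Agent.LsF.contains_eq, Cfsg.Agent.LsF.instBEq_eq])); decide +kernel)

theorem chk_inv : ((subs [0, 1, 2, 3, 4, 5, 6]).all fun w =>
    wneb (w ++ w) [] || ((subs [0, 1, 2, 3]).contains w || (subs [1, 2, 3, 4, 5, 6]).contains w)) = true := by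
  ((try (rewrite [Cfsg.Agent.LsF.fb6f244_4.2, Cfsg.Agent.LsF.fb6f244_11.2, Cfsg.Agent.LsF.instNBEq_pat, Cfsg.Agent.LsF.lappend_pat, Cfsg.Agent.LsF.or_eq, Cfsg.Agent.LsF.all_eq, Cfsg.Agent.LsF.contains_eq, Cfsg.Agent.LsF.instBEq_eq])); decide +kernel)

theorem chk_tv : ((subs [1, 2, 3]).all fun w =>
    (subs [4, 5, 6]).any fun v => weqb (v ++ [0]) (0 :: w ++ v)) = true := by
  decide +kernel

theorem chk_E : ((subs [0, 1, 2, 3]).all fun w =>
    (subs [1, 2, 3]).contains w || ((subs [1, 2, 3]).any fun v => w == 0 :: v)) = true := by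
  decide +kernel

theorem ev_single (k : ℕ) : ev [k] = xx k := by rw [ev_cons, ev_nil, mul_one]

theorem contains_mem {l : List (List ℕ)} {w : List ℕ} (h : l.contains w = true) : w ∈ l :=
  List.contains_iff_mem.1 h

/-- `Z(Q) = A` -/
theorem mem_A_of_comm {g : M24} (hg : g ∈ Q) (h : ∀ q ∈ Q, g * q = q * g) : g ∈ A := by
  obtain ⟨w, hw, rfl⟩ := (mem_gen_iff cloQ g).1 hg
  have h1 := List.all_eq_true.1 chk_center w hw
  rw [Bool.or_eq_true] at h1
  rcases h1 with h1 | h1
  · exfalso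
    obtain ⟨k, hk, hk1⟩ := List.any_eq_true.1 h1
    have h2 := h (xx k) (xx_mem hk)
    have h3 : ev (k :: w) = ev (w ++ [k]) := by
      rw [ev_append, ev_single, ev_cons, h2]
    rw [wneb_false h3] at hk1
    exact Bool.noConfusion hk1
  · exact (mem_gen_iff cloA _).2 ⟨w, contains_mem h1, rfl⟩

/-- `C_Q(x12) = E` -/
theorem mem_E_of_comm_x12 {g : M24} (hg : g ∈ Q) (h : g * xx 0 = xx 0 * g) : g ∈ E := by
  obtain ⟨w, hw, rfl⟩ := (mem_gen_iff cloQ g).1 hg
  have h1 := List.all_eq_true.1 chk_x12 w hw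
  rw [Bool.or_eq_true] at h1
  rcases h1 with h1 | h1
  · exfalso
    have h3 : ev (0 :: w) = ev (w ++ [0]) := by
      rw [ev_append, ev_single, ev_cons, h]
    rw [wneb_false h3] at h1
    exact Bool.noConfusion h1
  · exact (mem_gen_iff cloE _).2 ⟨w, contains_mem h1, rfl⟩

/-- involutions of `Q` -/
theorem mem_or_of_sq {g : M24} (hg : g ∈ Q) (h : g * g = 1) : g ∈ E ∨ g ∈ B := by
  obtain ⟨w, hw, rfl⟩ := (mem_gen_iff cloQ g).1 hg
  have h1 := List.all_eq_true.1 chk_inv w hw
  rw [Bool.or_eq_true] at h1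
  rcases h1 with h1 | h1
  · exfalso
    have h3 : ev (w ++ w) = ev [] := by
      rw [ev_append, ev_nil, h]
    rw [wneb_false h3] at h1
    exact Bool.noConfusion h1
  · rw [Bool.or_eq_true] at h1
    rcases h1 with h1 | h1
    · exact Or.inl ((mem_gen_iff cloE _).2 ⟨w, contains_mem h1, rfl⟩)
    · exact Or.inr ((mem_gen_iff cloB _).2 ⟨w, contains_mem h1, rfl⟩)

/-- `[V, x12] = A` -/
theorem exists_v {a : M24} (ha : a ∈ A) : ∃ v ∈ V, v * xx 0 * v⁻¹ = xx 0 * a := by
  obtain ⟨w, hw, rfl⟩ := (mem_gen_iff cloA a).1 ha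
  obtain ⟨v, hv, h1⟩ := List.any_eq_true.1 (List.all_eq_true.1 chk_tv w hw)
  refine ⟨ev v, (mem_gen_iff cloV _).2 ⟨v, hv, rfl⟩, ?_⟩
  have h2 := weq h1
  rw [ev_append, ev_append, ev_single, ev_cons] at h2
  rw [mul_inv_eq_iff_eq_mul, h2]

/-- `E = A ∪ x12 A` -/
theorem mem_E_cases {g : M24} (hg : g ∈ E) : g ∈ A ∨ ∃ a ∈ A, g = xx 0 * a := by
  obtain ⟨w, hw, rfl⟩ := (mem_gen_iff cloE g).1 hg
  have h1 := List.all_eq_true.1 chk_E w hw
  rw [Bool.or_eq_true] at h1
  rcases h1 with h1 | h1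
  · exact Or.inl ((mem_gen_iff cloA _).2 ⟨w, contains_mem h1, rfl⟩)
  · obtain ⟨v, hv, h2⟩ := List.any_eq_true.1 h1
    rw [eq_of_beq h2, ev_cons]
    exact Or.inr ⟨ev v, (mem_gen_iff cloA _).2 ⟨v, hv, rfl⟩, rfl⟩

theorem x12_mem : xx 0 ∈ E := xx_mem (by decide)

theorem x12_not_mem : xx 0 ∉ A := by
  intro h
  have h1 : E ≤ A := by
    refine gen_le fun k hk => ?_
    have h2 : ∀ k ∈ [0, 1, 2, 3], k = 0 ∨ k ∈ [1, 2, 3] := by decide
    rcases h2 k hk with rfl | h2
    · exact h
    · exact xx_mem h2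
  have h2 := Subgroup.card_le_of_le h1
  rw [card_E, card_A] at h2
  omega

/-! ### `N(Q)` -/

theorem conj_Q {g q : M24} (hg : g ∈ N) (hq : q ∈ Q) : g * q * g⁻¹ ∈ Q :=
  (mem_normalizer_iff.1 hg q).1 hq

theorem conj_A {g a : M24} (hg : g ∈ N) (ha : a ∈ A) : g * a * g⁻¹ ∈ A := by
  refine mem_A_of_comm (conj_Q hg (AQ ha)) fun q hq => ?_
  have h1 : g⁻¹ * q * g ∈ Q := by
    have h2 := conj_Q (inv_mem hg) hq
    rwa [inv_inv] at h2
  have h2 := A_comm ha h1
  calc g * a * g⁻¹ * q = g * (a * (g⁻¹ * q * g)) * g⁻¹ := by group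
    _ = g * ((g⁻¹ * q * g) * a) * g⁻¹ := by rw [h2]
    _ = q * (g * a * g⁻¹) := by group

theorem conj_x12 {g : M24} (hg : g ∈ N) : g * xx 0 * g⁻¹ ∈ E := by
  have hx0 : xx 0 * xx 0 = 1 := xx_sq (by norm_num)
  have h1 : g * xx 0 * g⁻¹ ∈ Q := conj_Q hg (EQ x12_mem)
  have h2 : (g * xx 0 * g⁻¹) * (g * xx 0 * g⁻¹) = 1 := by
    calc (g * xx 0 * g⁻¹) * (g * xx 0 * g⁻¹) = g * (xx 0 * xx 0) * g⁻¹ := by group
      _ = 1 := by rw [hx0, mul_one, mul_inv_cancel]
  rcases mem_or_of_sq h1 h2 with h | h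
  · exact h
  · exfalso
    have h3 : B.map (MulAut.conj g⁻¹).toMonoidHom ≤ E := by
      rintro _ ⟨b, hb, rfl⟩
      change g⁻¹ * b * g⁻¹⁻¹ ∈ E
      apply mem_E_of_comm_x12 (conj_Q (inv_mem hg) (BQ hb))
      have h4 := B_comm hb h
      calc g⁻¹ * b * g⁻¹⁻¹ * xx 0 = g⁻¹ * (b * (g * xx 0 * g⁻¹)) * g := by group
        _ = g⁻¹ * ((g * xx 0 * g⁻¹) * b) * g := by rw [h4]
        _ = xx 0 * (g⁻¹ * b * g⁻¹⁻¹) := by group
    have h4 := Subgroup.card_le_of_le h3
    rw [card_map_of_injective (MulAut.conj g⁻¹).injective, card_B, card_E] at h4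
    omega

/-- the elements of `N(Q)` centralising `A` -/
theorem mem_Q_of_comm {g : M24} (hg : g ∈ N) (h : ∀ a ∈ A, g * a = a * g) : g ∈ Q := by
  rcases mem_E_cases (conj_x12 hg) with h1 | ⟨a, ha, h1⟩
  · exfalso
    apply x12_not_mem
    have h2 := conj_A (inv_mem hg) h1
    have h3 : g⁻¹ * (g * xx 0 * g⁻¹) * g⁻¹⁻¹ = xx 0 := by group
    rwa [h3] at h2
  · obtain ⟨v, hv, h2⟩ := exists_v ha
    have h3 : v⁻¹ * g ∈ E := by
      apply mem_E_of_comm
      have hcA : ∀ c ∈ A, v⁻¹ * g * c = c * (v⁻¹ * g) := by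
        intro c hc
        have e1 := A_comm hc (VQ (inv_mem hv))
        rw [mul_assoc, h c hc, ← mul_assoc, ← e1, mul_assoc]
      have h4 : v⁻¹ * g * xx 0 = xx 0 * (v⁻¹ * g) := by
        have e1 : g * xx 0 = v * xx 0 * v⁻¹ * g := by
          rw [h2, ← h1]; group
        rw [mul_assoc, e1]; group
      intro e he
      rcases mem_E_cases he with he | ⟨c, hc, rfl⟩
      · exact hcA e he
      · rw [← mul_assoc, h4, mul_assoc, hcA c hc, ← mul_assoc]
    have h4 : g = v * (v⁻¹ * g) := by group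
    rw [h4]
    exact mul_mem (VQ hv) (EQ h3)

theorem N_le : N ≤ normalizer (A : Set M24) := by
  intro g hg
  rw [mem_normalizer_iff]
  intro a
  constructor
  · exact conj_A hg
  · intro ha
    have h1 := conj_A (inv_mem hg) ha
    have h3 : g⁻¹ * (g * a * g⁻¹) * g⁻¹⁻¹ = a := by group
    rwa [h3] at h1

/-- The action of `N(Q)` on `A`. -/
def φ : N →* MulAut A := (normalizerMonoidHom A).comp (inclusion N_le)

theorem φ_apply (g : N) (a : A) : ((φ g a : A) : M24) = g * a * (g : M24)⁻¹ := rfl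

theorem mem_ker {g : N} : g ∈ φ.ker ↔ (g : M24) ∈ Q := by
  rw [MonoidHom.mem_ker]
  constructor
  · intro h
    apply mem_Q_of_comm g.2
    intro a ha
    have h1 := φ_apply g ⟨a, ha⟩
    rw [h] at h1
    exact (mul_inv_eq_iff_eq_mul.1 h1.symm)
  · intro h
    apply MulEquiv.ext
    intro a
    apply Subtype.ext
    rw [φ_apply, MulAut.one_apply, mul_inv_eq_iff_eq_mul]
    exact (A_comm a.2 h).symm

theorem ker_φ : φ.ker = Q.subgroupOf N := by
  ext g
  rw [mem_ker, mem_subgroupOf]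

theorem oct_A : StdL2.G23Aut.Oct A := by
  refine ⟨card_A, fun v hv => ?_⟩
  obtain ⟨w, hw, rfl⟩ := (mem_gen_iff cloA v).1 hv
  have h1 : ∀ w ∈ subs [1, 2, 3], weqb (w ++ w) [] = true := by decide +kernel
  have h2 := weq (h1 w hw)
  rwa [ev_append, ev_nil] at h2

/-- letters normalising `Q` -/
theorem mem_N_of {w : List ℕ} (h : ([0, 1, 2, 3, 4, 5, 6].all fun k =>
    (subs [0, 1, 2, 3, 4, 5, 6]).any fun v => weqb (w ++ [k]) (v ++ w)) = true) : ev w ∈ N := by
  have h1 : ∀ q ∈ Q, ev w * q * (ev w)⁻¹ ∈ Q := by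
    have h2 : Q ≤ Q.comap (MulAut.conj (ev w)).toMonoidHom := by
      refine gen_le fun k hk => ?_
      obtain ⟨v, hv, h3⟩ := List.any_eq_true.1 (List.all_eq_true.1 h k hk)
      have h4 := weq h3
      rw [ev_append, ev_append, ev_single] at h4
      change ev w * xx k * (ev w)⁻¹ ∈ Q
      rw [h4, mul_inv_cancel_right]
      exact (mem_gen_iff cloQ _).2 ⟨v, hv, rfl⟩
    exact fun q hq => h2 hq
  have h2 : Q.map (MulAut.conj (ev w)).toMonoidHom = Q := by
    apply Subgroup.eq_of_le_of_card_ge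
    · rintro _ ⟨q, hq, rfl⟩
      exact h1 q hq
    · rw [card_map_of_injective (MulAut.conj (ev w)).injective]
  rw [mem_normalizer_iff]
  intro q
  refine ⟨h1 q, fun hq => ?_⟩
  rw [← h2] at hq
  obtain ⟨q', hq', h3⟩ := hq
  have h4 : q' = q := (MulAut.conj (ev w)).injective h3
  rwa [← h4]

theorem U_le : gen [7, 8, 9] ≤ N := by
  refine gen_le fun k hk => ?_
  have h1 : ∀ k ∈ [7, 8, 9], ([0, 1, 2, 3, 4, 5, 6].all fun j =>
    (subs [0, 1, 2, 3, 4, 5, 6]).any fun v => weqb ([k] ++ [j]) (v ++ [k])) = true := by (refine of_decide_eq_true ?_; (try (rewrite [Cfsg.Agent.LsF.fb6f244_4.2, Cfsg.Agent.LsF.fb6f244_5.2, Cfsg.Agent.LsF.lappend_pat, Cfsg.Agent.LsF.all_eq, Cfsg.Agent.LsF.any_eq, Cfsg.Agent.LsF.dBoolEq_eq, Cfsg.Agent.LsF.dBAll_eq, Cfsg.Agent.LsF.decide_eq])); decide +kernel)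
  have h2 := mem_N_of (w := [k]) (h1 k hk)
  rwa [ev_single] at h2

theorem U_inf {g : M24} (h : g ∈ gen [7, 8, 9]) (h2 : g ∈ Q) : g = 1 := by
  obtain ⟨w, hw, rfl⟩ := (mem_gen_iff cloU g).1 h
  by_contra hne
  have h3 : ((subs [7, 8, 9]).all fun w => (w == []) ||
      (subs [0, 1, 2, 3, 4, 5, 6]).all fun v => wneb w v) = true := by decide +kernel
  have h4 := List.all_eq_true.1 h3 w hw
  rw [Bool.or_eq_true] at h4
  rcases h4 with h4 | h4
  · rw [eq_of_beq h4, ev_nil] at hne
    exact hne rfl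
  · obtain ⟨v, hv, h5⟩ := (mem_gen_iff cloQ _).1 h2
    have h6 := List.all_eq_true.1 h4 v hv
    rw [wneb_false h5] at h6
    exact Bool.noConfusion h6

theorem y7_mem : ev [7, 14, 11] ∈ N := mem_N_of (by decide +kernel)

theorem y7_pow : ev [7, 14, 11] ^ 7 = 1 := by
  have h1 := weq (u := [7, 14, 11, 7, 14, 11, 7, 14, 11, 7, 14, 11, 7, 14, 11, 7, 14, 11, 7, 14, 11])
    (v := []) (by decide +kernel)
  rw [ev_nil] at h1
  rw [← h1]
  simp only [ev_cons, ev_nil, mul_one, pow_succ, pow_zero, one_mul, mul_assoc]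

theorem y7_not_mem : ev [7, 14, 11] ∉ Q := by
  intro h
  obtain ⟨v, hv, h5⟩ := (mem_gen_iff cloQ _).1 h
  have h3 : ((subs [0, 1, 2, 3, 4, 5, 6]).all fun v => wneb [7, 14, 11] v) = true := by decide +kernel
  have h6 := List.all_eq_true.1 h3 v hv
  rw [wneb_false h5] at h6
  exact Bool.noConfusion h6

theorem range_φ : φ.range = ⊤ := by
  apply oct_A.eq_top
  · let f : gen [7, 8, 9] →* φ.range := φ.rangeRestrict.comp (inclusion U_le)
    have hf : Function.Injective f := by
      rw [injective_iff_map_eq_one]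
      intro g hg
      have h1 : φ (inclusion U_le g) = 1 := congrArg Subtype.val hg
      have h2 := mem_ker.1 (MonoidHom.mem_ker.2 h1)
      exact Subtype.ext (U_inf g.2 h2)
    rw [← card_U]
    exact Subgroup.card_dvd_of_injective f hf
  · have h1 : orderOf (φ ⟨_, y7_mem⟩) = 7 := by
      apply orderOf_eq_prime
      · rw [← map_pow]
        have h2 : (⟨_, y7_mem⟩ : N) ^ 7 = 1 := Subtype.ext y7_pow
        rw [h2, map_one]
      · intro h2
        exact y7_not_mem ((mem_ker.1 (MonoidHom.mem_ker.2 h2) :))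
    rw [← h1]
    exact Subgroup.orderOf_dvd_natCard φ.range ⟨_, rfl⟩

theorem φ_surjective : Function.Surjective φ := MonoidHom.range_eq_top.1 range_φ

end Cfsg.Agent.KFacts.M24Pair.LQuot
end

-- part: OddHalf/M24/RowM24
section
-- merged: Cfsg.Agent.OddHalf.M24.Pairs
section

/-!
# ODD half, D8, `K = M24`: Step 2 (helper785)

The involutions `y u`, `u ∈ E - 1`, commute (`Fam.comm`).
-/

set_option autoImplicit false

namespace Cfsg.Agent.OddHalf.M24

open Subgroup

section

variable {X : Type*} [Group X] {z : X}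

theorem Cl_conj {u : X} (hu : u ∈ Cl z) (k : X) : k * u * k⁻¹ ∈ Cl z := by
  obtain ⟨m, rfl⟩ := hu
  exact ⟨k * m, by group⟩

theorem Cl_sq (hz : z * z = 1) {u : X} (hu : u ∈ Cl z) : u * u = 1 := by
  obtain ⟨m, rfl⟩ := hu
  calc m * z * m⁻¹ * (m * z * m⁻¹) = m * (z * z) * m⁻¹ := by group
    _ = 1 := by rw [hz]; group

theorem Cl_ne (hz : z ≠ 1) {u : X} (hu : u ∈ Cl z) : u ≠ 1 := by
  obtain ⟨m, rfl⟩ := hu
  intro h
  apply hz
  rw [mul_inv_eq_one] at h
  exact mul_eq_left.1 h

end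

variable {X G : Type*} [Group X] [Group G] {ι : X →* G} {t : G} {z : X} {y : X → G}

/-- `m` maps `t` to `t v` -/
def Ac (ι : X →* G) (t : G) (m : G) (v : X) : Prop := m * t * m⁻¹ = t * ι v

theorem Ac.mul {m n : G} {v w : X} (h1 : Ac ι t m v) (h2 : Ac ι t n w) (h : m * ι w = ι w * m) :
    Ac ι t (m * n) (v * w) := by
  unfold Ac at *
  calc m * n * t * (m * n)⁻¹ = m * (n * t * n⁻¹) * m⁻¹ := by group
    _ = m * t * (m⁻¹ * (m * ι w)) * m⁻¹ := by rw [h2]; group
    _ = m * t * m⁻¹ * ι w := by rw [h]; group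
    _ = t * ι (v * w) := by rw [h1, map_mul, mul_assoc]

theorem Ac.one_iff {m : G} : Ac ι t m 1 ↔ m * t = t * m := by
  unfold Ac
  rw [map_one, mul_one, mul_inv_eq_iff_eq_mul]

theorem Ac.inj (F : Amb ι t) {m : G} {v w : X} (h1 : Ac ι t m v) (h2 : Ac ι t m w) : v = w := by
  unfold Ac at *
  exact F.inj (mul_left_cancel (h1.symm.trans h2))

namespace Amb

theorem tinv (F : Amb ι t) : t⁻¹ = t := inv_eq_of_mul_eq_one_left F.tt

theorem ac (F : Amb ι t) (x : X) : Ac ι t (ι x) 1 := Ac.one_iff.2 (F.ct x)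

/-- `spl` with commuting information -/
theorem spl' (F : Amb ι t) {g : G} (hg : g * t = t * g) :
    ∃ x, (g = ι x ∨ g = t * ι x) ∧ (∀ k, g * ι k = ι k * g → x * k = k * x) ∧
      (∀ k, ι k * g * (ι k)⁻¹ = g → k * x * k⁻¹ = x) := by
  obtain ⟨x, hx⟩ := F.spl g hg
  refine ⟨x, hx, ?_, ?_⟩
  · intro k hk
    apply F.inj
    rw [map_mul, map_mul]
    rcases hx with rfl | rfl
    · exact hk
    · have h1 : t * (ι x * ι k) = t * (ι k * ι x) := by
        calc t * (ι x * ι k) = t * ι x * ι k := by group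
          _ = ι k * t * ι x := by rw [hk]; group
          _ = t * (ι k * ι x) := by rw [F.ct]; group
      exact mul_left_cancel h1
  · intro k hk
    apply F.inj
    rw [map_mul, map_mul, map_inv]
    rcases hx with rfl | rfl
    · exact hk
    · have h1 : t * (ι k * ι x * (ι k)⁻¹) = t * ι x := by
        calc t * (ι k * ι x * (ι k)⁻¹) = (t * ι k) * ι x * (ι k)⁻¹ := by group
          _ = ι k * (t * ι x) * (ι k)⁻¹ := by rw [← F.ct]; group
          _ = t * ι x := hk
      exact mul_left_cancel h1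

end Amb

namespace Fam

theorem sq (F : Fam ι t z y) {u : X} (hu : u ∈ Cl z) : u * u = 1 := Cl_sq F.zz hu

theorem ne1 (F : Fam ι t z y) {u : X} (hu : u ∈ Cl z) : u ≠ 1 := Cl_ne F.z1 hu

theorem ιsq (F : Fam ι t z y) {u : X} (hu : u ∈ Cl z) : ι u * ι u = 1 := by
  rw [← map_mul, F.sq hu, map_one]

theorem ιne (F : Fam ι t z y) {u : X} (hu : u ≠ 1) : ι u ≠ 1 := fun h =>
  hu (F.inj (h.trans (map_one ι).symm))

theorem ycomm (F : Fam ι t z y) {u : X} (hu : u ∈ Cl z) {k : X} (h : k * u = u * k) :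
    ι k * y u = y u * ι k := by
  have h1 := F.yeq u hu k
  rw [show k * u * k⁻¹ = u by rw [h]; group] at h1
  rw [eq_mul_inv_iff_mul_eq] at h1
  exact h1.symm

theorem yinv (F : Fam ι t z y) {u : X} (hu : u ∈ Cl z) : (y u)⁻¹ = y u :=
  inv_eq_of_mul_eq_one_left (F.ysq u hu)

theorem yac (F : Fam ι t z y) {u : X} (hu : u ∈ Cl z) : Ac ι t (y u) u := F.yt u hu

/-- `t y_u t = y_u u` -/
theorem tyt (F : Fam ι t z y) {u : X} (hu : u ∈ Cl z) : t * y u * t = y u * ι u := by
  have h1 := F.yt u hu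
  have h2 : y u * t = t * ι u * y u := mul_inv_eq_iff_eq_mul.1 h1
  have h3 : ι u * y u = y u * ι u := F.ycomm hu rfl
  calc t * y u * t = t * (y u * t) := by group
    _ = (t * t) * (ι u * y u) := by rw [h2]; group
    _ = y u * ι u := by rw [F.tt, one_mul, h3]

/-- `y_u` is not in the centralizer of `t` -/
theorem y_not_comm (F : Fam ι t z y) {u : X} (hu : u ∈ Cl z) : y u * t ≠ t * y u := by
  intro h
  have h1 := Ac.inj F.toAmb (F.yac hu) (Ac.one_iff.2 h)
  exact F.ne1 hu h1

/-- **Step 2, first half** -/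
theorem comm_or (F : Fam ι t z y) {u v : X} (hu : u ∈ Cl z) (hv : v ∈ Cl z) (huv : u * v = v * u)
    (hne : u ≠ v)
    (dc : ∀ x, (∀ c, c * u = u * c → c * v = v * c → x * c = c * x) →
      x = 1 ∨ x = u ∨ x = v ∨ x = u * v)
    (swap : ∃ k, k * u * k⁻¹ = v ∧ k * v * k⁻¹ = u) :
    y u * y v = y v * y u ∨ y u * y v * (y u * y v) = ι (u * v) := by
  have hu2 := F.sq hu
  have hv2 := F.sq hv
  have h1 : Ac ι t (y u * y v) (u * v) :=
    (F.yac hu).mul (F.yac hv) (F.ycomm hu huv.symm).symm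
  have h2 : y u * y v * ι (u * v) = ι (u * v) * (y u * y v) := by
    have a1 : ι (u * v) * y u = y u * ι (u * v) := F.ycomm hu (by rw [mul_assoc, ← huv])
    have a2 : ι (u * v) * y v = y v * ι (u * v) := F.ycomm hv (by
      rw [mul_assoc, ← mul_assoc v, ← huv, mul_assoc])
    calc y u * y v * ι (u * v) = y u * (y v * ι (u * v)) := by group
      _ = y u * ι (u * v) * y v := by rw [← a2]; group
      _ = ι (u * v) * (y u * y v) := by rw [← a1]; group
  have h3 : Ac ι t (y u * y v * (y u * y v)) (u * v * (u * v)) := h1.mul h1 h2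
  have huv2 : u * v * (u * v) = 1 := by
    calc u * v * (u * v) = u * (v * u) * v := by group
      _ = (u * u) * (v * v) := by rw [← huv]; group
      _ = 1 := by rw [hu2, hv2, one_mul]
  rw [huv2] at h3
  obtain ⟨x, hx, hxc, hxf⟩ := F.spl' (Ac.one_iff.1 h3)
  have hxx := dc x (fun c hcu hcv => hxc c (by
    have a1 := F.ycomm hu hcu
    have a2 := F.ycomm hv hcv
    have a3 : y u * y v * ι c = ι c * (y u * y v) := by
      calc y u * y v * ι c = y u * (y v * ι c) := by group
        _ = (y u * ι c) * y v := by rw [← a2]; group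
        _ = ι c * (y u * y v) := by rw [← a1]; group
    calc y u * y v * (y u * y v) * ι c = y u * y v * (y u * y v * ι c) := mul_assoc _ _ _
      _ = y u * y v * (ι c * (y u * y v)) := by rw [a3]
      _ = (y u * y v * ι c) * (y u * y v) := (mul_assoc _ _ _).symm
      _ = (ι c * (y u * y v)) * (y u * y v) := by rw [a3]
      _ = ι c * (y u * y v * (y u * y v)) := mul_assoc _ _ _))
  -- `x` has order `≤ 2` and commutes with `u`, `v`
  have hxsq : x * x = 1 := by
    rcases hxx with rfl | rfl | rfl | rfl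
    · exact one_mul 1
    · exact hu2
    · exact hv2
    · exact huv2
  have hxv : x * v = v * x := by
    rcases hxx with rfl | rfl | rfl | rfl
    · rw [one_mul, mul_one]
    · exact huv
    · rfl
    · rw [mul_assoc, ← mul_assoc v, ← huv, mul_assoc]
  -- `y v` inverts `c`
  have hinv : y v * (y u * y v * (y u * y v)) * y v = y v * y u * (y v * y u) := by
    calc y v * (y u * y v * (y u * y v)) * y v = y v * y u * (y v * y u) * (y v * y v) := by group
      _ = y v * y u * (y v * y u) := by rw [F.ysq v hv, mul_one]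
  have hprod : y u * y v * (y u * y v) * (y v * y u * (y v * y u)) = 1 := by
    calc y u * y v * (y u * y v) * (y v * y u * (y v * y u))
        = y u * y v * y u * (y v * y v) * y u * (y v * y u) := by group
      _ = y u * y v * (y u * y u) * (y v * y u) := by rw [F.ysq v hv]; group
      _ = y u * (y v * y v) * y u := by rw [F.ysq u hu]; group
      _ = 1 := by rw [F.ysq v hv, mul_one, F.ysq u hu]
  rcases hx with hx | hx
  · -- `c = ι x`
    have hcc : y v * y u * (y v * y u) = y u * y v * (y u * y v) := by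
      rw [hx] at hprod ⊢
      have h5 : ι x * ι x = 1 := by rw [← map_mul, hxsq, map_one]
      exact mul_left_cancel (hprod.trans h5.symm)
    obtain ⟨k, hk1, hk2⟩ := swap
    have hkc : ι k * (y u * y v * (y u * y v)) * (ι k)⁻¹ = y u * y v * (y u * y v) := by
      have e1 : ι k * y u * (ι k)⁻¹ = y v := by rw [← F.yeq u hu, hk1]
      have e2 : ι k * y v * (ι k)⁻¹ = y u := by rw [← F.yeq v hv, hk2]
      calc ι k * (y u * y v * (y u * y v)) * (ι k)⁻¹
          = (ι k * y u * (ι k)⁻¹) * (ι k * y v * (ι k)⁻¹) *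
            ((ι k * y u * (ι k)⁻¹) * (ι k * y v * (ι k)⁻¹)) := by group
        _ = y v * y u * (y v * y u) := by rw [e1, e2]
        _ = _ := hcc
    have hkx := hxf k hkc
    rcases hxx with rfl | rfl | rfl | rfl
    · left
      rw [map_one] at hx
      have h6 : (y u * y v)⁻¹ = y v * y u := by rw [mul_inv_rev, F.yinv hu, F.yinv hv]
      rw [← h6]
      exact eq_inv_of_mul_eq_one_left hx
    · exact absurd (hkx.symm.trans hk1) hne
    · exact absurd (hk2.symm.trans hkx) hne
    · exact Or.inr hx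
  · -- `c = t ι x` is impossible
    exfalso
    have h5 : t * ι x * (t * ι x) = 1 := by
      calc t * ι x * (t * ι x) = t * (ι x * t) * ι x := by group
        _ = t * t * (ι x * ι x) := by rw [F.ct]; group
        _ = 1 := by rw [F.tt, ← map_mul, hxsq, map_one, one_mul]
    have h6 : y v * (t * ι x) * y v = t * ι x := by
      rw [← hx, hinv]
      rw [hx] at hprod ⊢
      exact mul_left_cancel (hprod.trans h5.symm)
    have h7 : ι x * y v = y v * ι x := F.ycomm hv hxv
    have h8 : y v * t * y v = t * ι v := by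
      have := F.yt v hv
      rwa [F.yinv hv] at this
    have h9 : t * ι v * ι x = t * ι x := by
      calc t * ι v * ι x = y v * t * (y v * ι x) := by rw [← h8]; group
        _ = y v * (t * ι x) * y v := by rw [← h7]; group
        _ = t * ι x := h6
    have h10 : ι v = 1 := by
      have h11 : t * ι v * ι x = t * 1 * ι x := by rw [h9, mul_one]
      exact mul_left_cancel (mul_right_cancel h11)
    exact F.ιne (F.ne1 hv) h10

/-- the elements `t y_u` -/
theorem zsq (F : Fam ι t z y) {u : X} (hu : u ∈ Cl z) : t * y u * (t * y u) = ι u := by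
  calc t * y u * (t * y u) = (t * y u * t) * y u := by group
    _ = y u * (ι u * y u) := by rw [F.tyt hu]; group
    _ = (y u * y u) * ι u := by rw [F.ycomm hu rfl]; group
    _ = ι u := by rw [F.ysq u hu, one_mul]

theorem zinv (F : Fam ι t z y) {u : X} (hu : u ∈ Cl z) : (t * y u)⁻¹ = y u * t := by
  rw [mul_inv_rev, F.yinv hu, F.tinv]

/-- phantom: the `t y_u` commute -/
theorem zcomm (F : Fam ι t z y) {u v : X} (hu : u ∈ Cl z) (hv : v ∈ Cl z)
    (h : y u * y v * (y u * y v) = ι (u * v)) : t * y u * (t * y v) = t * y v * (t * y u) := by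
  have h1 : y u * y v = ι (u * v) * (y v * y u) := by
    have h6 : (y u * y v)⁻¹ = y v * y u := by rw [mul_inv_rev, F.yinv hu, F.yinv hv]
    rw [← h6]
    exact eq_mul_inv_of_mul_eq h
  calc t * y u * (t * y v) = (t * y u * t) * y v := by group
    _ = (y u * ι u) * y v := by rw [F.tyt hu]
    _ = ι u * (y u * y v) := by rw [← F.ycomm hu (k := u) rfl]; group
    _ = ι u * (ι (u * v) * (y v * y u)) := by rw [h1]
    _ = ι (u * (u * v)) * (y v * y u) := by rw [map_mul ι u (u * v)]; group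
    _ = ι v * (y v * y u) := by rw [← mul_assoc u u v, F.sq hu, one_mul]
    _ = (y v * ι v) * y u := by rw [← F.ycomm hv (k := v) rfl]; group
    _ = (t * y v * t) * y u := by rw [F.tyt hv]
    _ = t * y v * (t * y u) := by group

/-- phantom: `(t y_u)(t y_v)(t y_{uv}) = 1` -/
theorem zprod (F : Fam ι t z y) {u v : X} (hu : u ∈ Cl z) (hv : v ∈ Cl z) (hw : u * v ∈ Cl z)
    (huv : u * v = v * u)
    (dc : ∀ x, (∀ c, c * u = u * c → c * v = v * c → x * c = c * x) →
      x = 1 ∨ x = u ∨ x = v ∨ x = u * v)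
    (rot : ∃ k, k * u * k⁻¹ = v ∧ k * v * k⁻¹ = u * v)
    (c1 : t * y u * (t * y v) = t * y v * (t * y u))
    (c2 : t * y u * (t * y (u * v)) = t * y (u * v) * (t * y u))
    (c3 : t * y v * (t * y (u * v)) = t * y (u * v) * (t * y v)) :
    t * y u * (t * y v) * (t * y (u * v)) = 1 := by
  have hu2 := F.sq hu
  have hv2 := F.sq hv
  set a := t * y u with ha
  set b := t * y v with hb
  set c := t * y (u * v) with hc
  have sa : a * a = ι u := F.zsq hu
  have sb : b * b = ι v := F.zsq hv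
  have sc : c * c = ι (u * v) := F.zsq hw
  have gsq : a * b * c * (a * b * c) = 1 := by
    calc a * b * c * (a * b * c) = a * b * (c * a) * b * c := by group
      _ = a * (b * a) * c * b * c := by rw [← c2]; group
      _ = a * a * b * (c * b) * c := by rw [← c1]; group
      _ = a * a * (b * b) * (c * c) := by rw [← c3]; group
      _ = 1 := by
        rw [sa, sb, sc, ← map_mul, ← map_mul, show u * v * (u * v) = u * (v * u) * v by group, ← huv,
          show u * (u * v) * v = (u * u) * (v * v) by group, hu2, hv2, one_mul, map_one]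
  have tct : ∀ {u : X}, u ∈ Cl z → t * (t * y u) * t = (t * y u)⁻¹ := by
    intro u hu
    rw [F.zinv hu, ← mul_assoc, F.tt, one_mul]
  have ginv : t * (a * b * c) * t = (a * b * c)⁻¹ := by
    have e : t * (a * b * c) * t = (t * a * t) * (t * b * t) * (t * c * t) := by
      calc t * (a * b * c) * t = t * a * 1 * b * 1 * c * t := by group
        _ = t * a * (t * t) * b * (t * t) * c * t := by rw [F.tt]
        _ = _ := by group
    have ta : t * a * t = a⁻¹ := tct hu
    have tb : t * b * t = b⁻¹ := tct hv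
    have tc : t * c * t = c⁻¹ := tct hw
    rw [e, ta, tb, tc]
    -- `a⁻¹ b⁻¹ c⁻¹ = c⁻¹ b⁻¹ a⁻¹`
    have i1 : a⁻¹ * b⁻¹ = b⁻¹ * a⁻¹ := by rw [← mul_inv_rev, ← mul_inv_rev, c1]
    have i2 : a⁻¹ * c⁻¹ = c⁻¹ * a⁻¹ := by rw [← mul_inv_rev, ← mul_inv_rev, c2]
    have i3 : b⁻¹ * c⁻¹ = c⁻¹ * b⁻¹ := by rw [← mul_inv_rev, ← mul_inv_rev, c3]
    calc a⁻¹ * b⁻¹ * c⁻¹ = b⁻¹ * (a⁻¹ * c⁻¹) := by rw [i1]; group
      _ = (b⁻¹ * c⁻¹) * a⁻¹ := by rw [i2]; group
      _ = (c⁻¹ * b⁻¹) * a⁻¹ := by rw [i3]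
      _ = (a * b * c)⁻¹ := by group
  have ginv' : (a * b * c)⁻¹ = a * b * c := inv_eq_of_mul_eq_one_left gsq
  have gt : a * b * c * t = t * (a * b * c) := by
    rw [ginv'] at ginv
    calc a * b * c * t = t * t * (a * b * c * t) := by rw [F.tt, one_mul]
      _ = t * (t * (a * b * c) * t) := by group
      _ = t * (a * b * c) := by rw [ginv]
  obtain ⟨x, hx, hxc, hxf⟩ := F.spl' gt
  have zc : ∀ {u k : X}, u ∈ Cl z → k * u = u * k → (t * y u) * ι k = ι k * (t * y u) := by
    intro u k hu hk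
    calc t * y u * ι k = t * (y u * ι k) := by group
      _ = t * ι k * y u := by rw [← F.ycomm hu hk]; group
      _ = ι k * (t * y u) := by rw [← F.ct]; group
  have hxx := dc x (fun k hku hkv => hxc k (by
    have a1 : a * ι k = ι k * a := zc hu hku
    have a2 : b * ι k = ι k * b := zc hv hkv
    have a3 : c * ι k = ι k * c := zc hw (by
      calc k * (u * v) = (k * u) * v := by group
        _ = u * (k * v) := by rw [hku]; group
        _ = u * v * k := by rw [hkv]; group)
    calc a * b * c * ι k = a * b * (c * ι k) := by group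
      _ = a * (b * ι k) * c := by rw [a3]; group
      _ = (a * ι k) * b * c := by rw [a2]; group
      _ = ι k * (a * b * c) := by rw [a1]; group))
  obtain ⟨k, hk1, hk2⟩ := rot
  have hk3 : k * (u * v) * k⁻¹ = u := by
    calc k * (u * v) * k⁻¹ = (k * u * k⁻¹) * (k * v * k⁻¹) := by group
      _ = v * (u * v) := by rw [hk1, hk2]
      _ = u := by rw [huv, ← mul_assoc, hv2, one_mul]
  have zk : ∀ {u : X}, u ∈ Cl z → ι k * (t * y u) * (ι k)⁻¹ = t * y (k * u * k⁻¹) := by
    intro u hu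
    rw [F.yeq u hu]
    calc ι k * (t * y u) * (ι k)⁻¹ = (ι k * t) * y u * (ι k)⁻¹ := by group
      _ = t * (ι k * y u * (ι k)⁻¹) := by rw [F.ct]; group
  have hkg : ι k * (a * b * c) * (ι k)⁻¹ = a * b * c := by
    have e1 : ι k * a * (ι k)⁻¹ = b := by rw [ha, zk hu, hk1]
    have e2 : ι k * b * (ι k)⁻¹ = c := by rw [hb, zk hv, hk2]
    have e3 : ι k * c * (ι k)⁻¹ = a := by rw [hc, zk hw, hk3]
    calc ι k * (a * b * c) * (ι k)⁻¹ = (ι k * a * (ι k)⁻¹) * (ι k * b * (ι k)⁻¹) *
          (ι k * c * (ι k)⁻¹) := by group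
      _ = b * (c * a) := by rw [e1, e2, e3, mul_assoc]
      _ = (b * a) * c := by rw [← c2]; group
      _ = a * b * c := by rw [← c1]
  have hkx := hxf k hkg
  have hx1 : x = 1 := by
    have hne : u ≠ 1 := F.ne1 hu
    have hne' : v ≠ 1 := F.ne1 hv
    rcases hxx with h | h | h | h
    · exact h
    · rw [h, hk1] at hkx
      exfalso
      have : u * v ≠ 1 := F.ne1 hw
      apply this
      rw [hkx, hu2]
    · rw [h, hk2] at hkx
      exact absurd (mul_eq_right.1 hkx) hne
    · rw [h, hk3] at hkx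
      exact absurd (mul_eq_left.1 hkx.symm) hne'
  rw [hx1, map_one, mul_one] at hx
  rcases hx with hx | hx
  · exact hx
  · exfalso
    -- `t` would commute with `t y_u`
    have h1 : a * b * c * a = a * (a * b * c) := by
      calc a * b * c * a = a * b * (c * a) := by group
        _ = a * (b * a) * c := by rw [← c2]; group
        _ = a * (a * b * c) := by rw [← c1]; group
    rw [hx, ha] at h1
    have h2 : y u * t = t * y u := by
      calc y u * t = t * t * (y u * t) := by rw [F.tt, one_mul]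
        _ = t * (t * y u * t) := by group
        _ = t * (t * (t * y u)) := by rw [← h1]
        _ = (t * t) * (t * y u) := by group
        _ = t * y u := by rw [F.tt, one_mul]
    exact F.y_not_comm hu h2

/-- **Step 2**: the involutions `y_u`, `u ∈ E - 1`, commute -/
theorem comm (F : Fam ι t z y) {E : Subgroup X} (hE : FactsE z E) {u v : X} (hu : u ∈ E) (hv : v ∈ E)
    (hu1 : u ≠ 1) (hv1 : v ≠ 1) : y u * y v = y v * y u := by
  by_cases huv1 : u = v
  · rw [huv1]
  have hsq : ∀ e ∈ E, e * e = 1 := by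
    intro e he
    by_cases h1 : e = 1
    · rw [h1, one_mul]
    · exact F.sq (hE.EC e he h1)
  have hcomm : ∀ e ∈ E, ∀ f ∈ E, e * f = f * e := by
    intro e he f hf
    have h1 := hsq _ (E.mul_mem he hf)
    calc e * f = e * (e * f * (e * f)) * f := by rw [h1, mul_one]
      _ = (e * e) * (f * e) * (f * f) := by group
      _ = f * e := by rw [hsq e he, hsq f hf, one_mul, mul_one]
  by_contra hno
  -- all pairs are phantoms
  have hph : ∀ a ∈ E, ∀ b ∈ E, a ≠ 1 → b ≠ 1 → a ≠ b → y a * y b * (y a * y b) = ι (a * b) := by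
    intro a ha b hb ha1 hb1 hab
    rcases F.comm_or (hE.EC a ha ha1) (hE.EC b hb hb1) (hcomm a ha b hb) hab
      (hE.dc a ha b hb ha1 hb1 hab) (hE.swap a ha b hb ha1 hb1 hab) with h | h
    · exfalso
      apply hno
      obtain ⟨k, hk1, hk2⟩ := hE.two a ha b hb u hu v hv ha1 hb1 hab hu1 hv1 huv1
      rw [← hk1, ← hk2, F.yeq a (hE.EC a ha ha1), F.yeq b (hE.EC b hb hb1)]
      calc ι k * y a * (ι k)⁻¹ * (ι k * y b * (ι k)⁻¹) = ι k * (y a * y b) * (ι k)⁻¹ := by group
        _ = ι k * (y b * y a) * (ι k)⁻¹ := by rw [h]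
        _ = ι k * y b * (ι k)⁻¹ * (ι k * y a * (ι k)⁻¹) := by group
    · exact h
  have hne : ∀ a ∈ E, ∀ b ∈ E, a ≠ b → a * b ≠ 1 := by
    intro a _ b hb hab h
    apply hab
    calc a = a * (b * b) := by rw [hsq b hb, mul_one]
      _ = (a * b) * b := by group
      _ = b := by rw [h, one_mul]
  -- products
  have hzc : ∀ a ∈ E, ∀ b ∈ E, a ≠ 1 → b ≠ 1 → t * y a * (t * y b) = t * y b * (t * y a) := by
    intro a ha b hb ha1 hb1
    by_cases hab : a = b
    · rw [hab]
    · exact F.zcomm (hE.EC a ha ha1) (hE.EC b hb hb1) (hph a ha b hb ha1 hb1 hab)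
  have hzp : ∀ a ∈ E, ∀ b ∈ E, a ≠ 1 → b ≠ 1 → a ≠ b →
      t * y a * (t * y b) * (t * y (a * b)) = 1 := by
    intro a ha b hb ha1 hb1 hab
    have hab1 := hne a ha b hb hab
    have habE := E.mul_mem ha hb
    exact F.zprod (hE.EC a ha ha1) (hE.EC b hb hb1) (hE.EC _ habE hab1) (hcomm a ha b hb)
      (hE.dc a ha b hb ha1 hb1 hab) (hE.rot a ha b hb ha1 hb1 hab) (hzc a ha b hb ha1 hb1)
      (hzc a ha _ habE ha1 hab1) (hzc b hb _ habE hb1 hab1)
  -- a third element
  obtain ⟨w, hw, hw1, hwu, hwv, hwuv⟩ : ∃ w ∈ E, w ≠ 1 ∧ w ≠ u ∧ w ≠ v ∧ w ≠ u * v := by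
    classical
    by_contra hcon
    push Not at hcon
    have h1 : (E : Set X) ⊆ (({1, u, v, u * v} : Finset X) : Set X) := by
      intro w hw
      by_cases a1 : w = 1
      · simp only [a1, _root_.Finset.coe_insert, _root_.Finset.coe_singleton, _root_.Set.mem_insert_iff, _root_.Set.mem_singleton_iff, _root_.true_or]
      by_cases a2 : w = u
      · simp only [a2, _root_.Finset.coe_insert, _root_.Finset.coe_singleton, _root_.Set.mem_insert_iff, _root_.Set.mem_singleton_iff, _root_.left_eq_mul, _root_.true_or, _root_.or_true]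
      by_cases a3 : w = v
      · simp only [a3, _root_.Finset.coe_insert, _root_.Finset.coe_singleton, _root_.Set.mem_insert_iff, _root_.Set.mem_singleton_iff, _root_.right_eq_mul, _root_.true_or, _root_.or_true]
      simp only [hcon w hw a1 a2 a3, _root_.Finset.coe_insert, _root_.Finset.coe_singleton, _root_.Set.mem_insert_iff, _root_.mul_eq_left, _root_.mul_eq_right, _root_.Set.mem_singleton_iff, _root_.or_true]
    have h2 := Set.ncard_le_ncard h1 (Finset.finite_toSet _)
    rw [Set.ncard_coe_finset] at h2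
    have h3 : ({1, u, v, u * v} : Finset X).card ≤ 4 := Finset.card_le_four
    have h4 : (E : Set X).ncard = 16 := by
      rw [← hE.card]; rfl
    omega
  have huv' := hne u hu v hv huv1
  have p1 := hzp u hu v hv hu1 hv1 huv1
  have p2 := hzp v hv w hw hv1 hw1 (Ne.symm hwv)
  have p3 := hzp (u * v) (E.mul_mem hu hv) w hw huv' hw1 (Ne.symm hwuv)
  have p4 := hzp u hu (v * w) (E.mul_mem hv hw) hu1 (hne v hv w hw (Ne.symm hwv)) (by
    intro h
    apply hwuv
    rw [h]
    calc w = (v * v) * w := by rw [hsq v hv, one_mul]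
      _ = v * (v * w) := by group
      _ = v * w * v := hcomm v hv _ (E.mul_mem hv hw))
  rw [mul_assoc u v w] at p3
  set A := t * y u
  set B := t * y v
  set C := t * y w
  set AB := t * y (u * v)
  set BC := t * y (v * w)
  set ABC := t * y (u * (v * w))
  have q1 : AB = (A * B)⁻¹ := (inv_eq_of_mul_eq_one_right p1).symm
  have q2 : BC = (B * C)⁻¹ := (inv_eq_of_mul_eq_one_right p2).symm
  have q3 : AB * C = A * BC := mul_right_cancel (p3.trans p4.symm)
  have hAB : A * B = B * A := hzc u hu v hv hu1 hv1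
  have hAC : A * C = C * A := hzc u hu w hw hu1 hw1
  have hBC : B * C = C * B := hzc v hv w hw hv1 hw1
  rw [q1, q2] at q3
  have q4 : C * (B * C) = A * B * A := by
    have h1 : C = A * B * (A * (B * C)⁻¹) := by rw [← q3]; group
    calc C * (B * C) = A * B * (A * (B * C)⁻¹) * (B * C) := by rw [← h1]
      _ = A * B * A := by group
  have q5 : B * (C * C) = B * (A * A) := by
    calc B * (C * C) = (B * C) * C := by group
      _ = (C * B) * C := by rw [hBC]
      _ = C * (B * C) := mul_assoc _ _ _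
      _ = A * B * A := q4
      _ = B * (A * A) := by rw [hAB]; group
  have q6 := mul_left_cancel q5
  rw [F.zsq (hE.EC w hw hw1), F.zsq (hE.EC u hu hu1)] at q6
  exact hwu (F.inj q6)

end Fam

end Cfsg.Agent.OddHalf.M24

end

-- merged: Cfsg.Agent.OddHalf.M24.Star
section

/-!
# ODD half, D8, `K = M24`: the doubled group `E* = ⟨E, y_u : u ∈ E - 1⟩` (helper785)

`Star ι y E`; elementary abelian (`Good.starComm`, `Good.starSq`), its elements are `e` and `y_v e`
(`Good.form`), and it is the only elementary abelian group `M` normalised by `t` with `C_M(t) = E` whose elements …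
(`Good.uniq`).
-/

set_option autoImplicit false

namespace Cfsg.Agent.OddHalf.M24

open Subgroup

variable {X G : Type*} [Group X] [Group G] {ι : X →* G} {t : G} {z : X} {y : X → G}

/-- `E* = ⟨E, y_u⟩` -/
def Star (ι : X →* G) (y : X → G) (E : Subgroup X) : Subgroup G :=
  _root_.Subgroup.closure ({g | ∃ e ∈ E, g = ι e} ∪ {g | ∃ e ∈ E, e ≠ 1 ∧ g = y e})

/-- `E - 1 ⊆ C`, the `y_u` commute, `C(E) ≤ E` -/
structure Good (z : X) (y : X → G) (E : Subgroup X) : Prop where
  EC : ∀ e ∈ E, e ≠ 1 → e ∈ Cl z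
  com : ∀ u ∈ E, ∀ v ∈ E, u ≠ 1 → v ≠ 1 → y u * y v = y v * y u
  cen : ∀ x, (∀ e ∈ E, x * e = e * x) → x ∈ E
  ne : ∃ u ∈ E, u ≠ 1

theorem closure_comm {A : Set G} (h : ∀ a ∈ A, ∀ b ∈ A, a * b = b * a) :
    ∀ m ∈ _root_.Subgroup.closure A, ∀ n ∈ closure A, m * n = n * m := by
  have h1 : closure A ≤ centralizer A := by
    rw [closure_le]
    intro a ha
    exact mem_centralizer_iff.2 fun b hb => h b hb a ha
  have h2 : closure A ≤ centralizer (closure A : Set G) := by
    rw [closure_le]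
    intro a ha
    exact mem_centralizer_iff.2 fun n hn => ((mem_centralizer_iff.1 (h1 hn)) a ha).symm
  intro m hm n hn
  exact ((mem_centralizer_iff.1 (h2 hm)) n hn).symm

theorem ι_mem_star {E : Subgroup X} {e : X} (he : e ∈ E) : ι e ∈ Star ι y E :=
  _root_.Subgroup.subset_closure (Or.inl ⟨e, he, rfl⟩)

theorem y_mem_star {E : Subgroup X} {e : X} (he : e ∈ E) (h1 : e ≠ 1) : y e ∈ Star ι y E :=
  _root_.Subgroup.subset_closure (Or.inr ⟨e, he, h1, rfl⟩)

namespace Good

variable {E : Subgroup X}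

theorem sq (hE : Good z y E) (F : Fam ι t z y) {e : X} (he : e ∈ E) : e * e = 1 := by
  by_cases h1 : e = 1
  · rw [h1, one_mul]
  · exact F.sq (hE.EC e he h1)

theorem comm (hE : Good z y E) (F : Fam ι t z y) {e f : X} (he : e ∈ E) (hf : f ∈ E) : e * f = f * e := by
  have h1 := hE.sq F (E.mul_mem he hf)
  calc e * f = e * (e * f * (e * f)) * f := by rw [h1, mul_one]
    _ = (e * e) * (f * e) * (f * f) := by group
    _ = f * e := by rw [hE.sq F he, hE.sq F hf, one_mul, mul_one]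

theorem starComm (hE : Good z y E) (F : Fam ι t z y) :
    ∀ m ∈ Star ι y E, ∀ n ∈ Star ι y E, m * n = n * m := by
  apply closure_comm
  rintro _ (⟨e, he, rfl⟩ | ⟨e, he, he1, rfl⟩) _ (⟨f, hf, rfl⟩ | ⟨f, hf, hf1, rfl⟩)
  · rw [← map_mul, ← map_mul, hE.comm F he hf]
  · exact F.ycomm (hE.EC f hf hf1) (hE.comm F he hf)
  · exact (F.ycomm (hE.EC e he he1) (hE.comm F hf he)).symm
  · exact hE.com e he f hf he1 hf1

theorem starSq (hE : Good z y E) (F : Fam ι t z y) : ∀ m ∈ Star ι y E, m * m = 1 := by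
  intro m hm
  induction hm using closure_induction with
  | mem x hx =>
    rcases hx with ⟨e, he, rfl⟩ | ⟨e, he, he1, rfl⟩
    · rw [← map_mul, hE.sq F he, map_one]
    · exact F.ysq e (hE.EC e he he1)
  | one => exact one_mul 1
  | mul a b ha hb iha ihb =>
    have h1 := hE.starComm F a ha b hb
    calc a * b * (a * b) = a * (b * a) * b := by group
      _ = a * a * (b * b) := by rw [← h1]; group
      _ = 1 := by rw [iha, ihb, one_mul]
  | inv a _ iha =>
    rw [← mul_inv_rev, iha, inv_one]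

/-- the action on `t` -/
theorem starAc (hE : Good z y E) (F : Fam ι t z y) : ∀ m ∈ Star ι y E, ∃ v ∈ E, Ac ι t m v := by
  intro m hm
  induction hm using closure_induction with
  | mem x hx =>
    rcases hx with ⟨e, he, rfl⟩ | ⟨e, he, he1, rfl⟩
    · exact ⟨1, E.one_mem, F.ac e⟩
    · exact ⟨e, he, F.yac (hE.EC e he he1)⟩
  | one => exact ⟨1, E.one_mem, by rw [Ac.one_iff, one_mul, mul_one]⟩
  | mul a b ha hb iha ihb =>
    obtain ⟨v, hv, h1⟩ := iha
    obtain ⟨w, hw, h2⟩ := ihb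
    exact ⟨v * w, E.mul_mem hv hw, h1.mul h2 (hE.starComm F a ha _ (ι_mem_star hw))⟩
  | inv a ha iha =>
    obtain ⟨v, hv, h1⟩ := iha
    refine ⟨v, hv, ?_⟩
    have h2 : a⁻¹ = a := inv_eq_of_mul_eq_one_left (hE.starSq F a ha)
    rwa [h2]

/-- an element of `E*` commuting with `t` lies in `E` -/
theorem star_cen (hE : Good z y E) (F : Fam ι t z y) {m : G} (hm : m ∈ Star ι y E)
    (hmt : m * t = t * m) : ∃ e ∈ E, m = ι e := by
  obtain ⟨x, hx, hxc, -⟩ := F.spl' hmt
  have hxE : x ∈ E := hE.cen x fun e he => hxc e (hE.starComm F m hm _ (ι_mem_star he))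
  rcases hx with hx | hx
  · exact ⟨x, hxE, hx⟩
  · exfalso
    have h1 : t ∈ Star ι y E := by
      have h2 := (Star ι y E).mul_mem hm (ι_mem_star (ι := ι) (y := y) (E.inv_mem hxE))
      rwa [hx, map_inv, mul_inv_cancel_right] at h2
    obtain ⟨u, hu, hu1⟩ := hE.ne
    exact F.y_not_comm (hE.EC u hu hu1) (hE.starComm F _ (y_mem_star hu hu1) _ h1)

/-- the elements of `E*` -/
theorem form (hE : Good z y E) (F : Fam ι t z y) {m : G} (hm : m ∈ Star ι y E) {v : X} (hv : v ∈ E)
    (h : Ac ι t m v) : (v = 1 ∧ ∃ e ∈ E, m = ι e) ∨ (v ≠ 1 ∧ ∃ e ∈ E, m = y v * ι e) := by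
  by_cases hv1 : v = 1
  · left
    refine ⟨hv1, ?_⟩
    subst hv1
    exact hE.star_cen F hm (Ac.one_iff.1 h)
  · right
    refine ⟨hv1, ?_⟩
    have hvC := hE.EC v hv hv1
    have hyS : y v ∈ Star ι y E := y_mem_star hv hv1
    have h1 : Ac ι t (y v * m) (v * v) :=
      (F.yac hvC).mul h (hE.starComm F _ hyS _ (ι_mem_star hv))
    rw [hE.sq F hv] at h1
    obtain ⟨e, he, h2⟩ := hE.star_cen F ((Star ι y E).mul_mem hyS hm) (Ac.one_iff.1 h1)
    refine ⟨e, he, ?_⟩
    rw [← h2, ← mul_assoc, F.ysq v hvC, one_mul]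

/-- `E*` is normalised by `t` -/
theorem star_t (hE : Good z y E) (F : Fam ι t z y) {m : G} (hm : m ∈ Star ι y E) :
    t * m * t ∈ Star ι y E := by
  obtain ⟨v, hv, h⟩ := hE.starAc F m hm
  unfold Ac at h
  have h1 : m * t = t * ι v * m := mul_inv_eq_iff_eq_mul.1 h
  have h2 : t * m * t = ι v * m := by
    calc t * m * t = t * (m * t) := by group
      _ = (t * t) * (ι v * m) := by rw [h1]; group
      _ = ι v * m := by rw [F.tt, one_mul]
  rw [h2]
  exact (Star ι y E).mul_mem (ι_mem_star hv) hm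

/-- the normaliser of `E` normalises `E*` -/
theorem star_conj (hE : Good z y E) (F : Fam ι t z y) {k : X} (hk : ∀ e ∈ E, k * e * k⁻¹ ∈ E) {m : G}
    (hm : m ∈ Star ι y E) : ι k * m * (ι k)⁻¹ ∈ Star ι y E := by
  induction hm using closure_induction with
  | mem x hx =>
    rcases hx with ⟨e, he, rfl⟩ | ⟨e, he, he1, rfl⟩
    · rw [← map_inv, ← map_mul, ← map_mul]
      exact ι_mem_star (hk e he)
    · rw [← F.yeq e (hE.EC e he he1)]
      exact y_mem_star (hk e he) fun h1 => he1 (by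
        rw [mul_inv_eq_one] at h1
        exact mul_eq_left.1 h1)
  | one => rw [mul_one, mul_inv_cancel]; exact one_mem _
  | mul a b _ _ iha ihb =>
    have := (Star ι y E).mul_mem iha ihb
    have e : ι k * a * (ι k)⁻¹ * (ι k * b * (ι k)⁻¹) = ι k * (a * b) * (ι k)⁻¹ := by group
    rwa [e] at this
  | inv a _ iha =>
    have := (Star ι y E).inv_mem iha
    have e : (ι k * a * (ι k)⁻¹)⁻¹ = ι k * a⁻¹ * (ι k)⁻¹ := by group
    rwa [e] at this

/-- **uniqueness** of `E*` -/
theorem uniq (hE : Good z y E) (F : Fam ι t z y) {M : Subgroup G} (hsq : ∀ m ∈ M, m * m = 1)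
    (ht : ∀ m ∈ M, t * m * t ∈ M) (hc : ∀ m ∈ M, m * t = t * m → ∃ e ∈ E, m = ι e)
    (hEM : ∀ e ∈ E, ι e ∈ M) : M ≤ Star ι y E := by
  have hinv : ∀ m ∈ M, m⁻¹ = m := fun m hm => inv_eq_of_mul_eq_one_left (hsq m hm)
  have hcomm : ∀ m ∈ M, ∀ n ∈ M, m * n = n * m := by
    intro m hm n hn
    have h1 := hinv _ (M.mul_mem hm hn)
    rw [mul_inv_rev, hinv m hm, hinv n hn] at h1
    exact h1.symm
  intro m hm
  -- `[m, t] ∈ C_M(t)`
  have h1 : m * (t * m * t) ∈ M := M.mul_mem hm (ht m hm)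
  have h2 : m * (t * m * t) * t = t * (m * (t * m * t)) := by
    have h3 := hinv _ h1
    have h4 : (m * (t * m * t))⁻¹ = t * m * t * m := by
      rw [mul_inv_rev, mul_inv_rev, mul_inv_rev, F.tinv, hinv m hm]
      group
    rw [h4] at h3
    calc m * (t * m * t) * t = m * t * m * (t * t) := by group
      _ = (t * t) * (m * t * m) := by rw [F.tt, mul_one, one_mul]
      _ = t * (t * m * t * m) := by group
      _ = t * (m * (t * m * t)) := by rw [h3]
  obtain ⟨v, hv, h3⟩ := hc _ h1 h2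
  have hac : Ac ι t m v := by
    unfold Ac
    rw [hinv m hm]
    calc m * t * m = (m * (t * m * t)) * t := by
          calc m * t * m = m * t * m * (t * t) := by rw [F.tt, mul_one]
            _ = _ := by group
      _ = t * (m * (t * m * t)) := h2
      _ = t * ι v := by rw [h3]
  by_cases hv1 : v = 1
  · subst hv1
    obtain ⟨e, he, h4⟩ := hc m hm (Ac.one_iff.1 hac)
    rw [h4]
    exact ι_mem_star he
  · have hvC := hE.EC v hv hv1
    have h5 : Ac ι t (m * y v) (v * v) := hac.mul (F.yac hvC) (hcomm m hm _ (hEM v hv))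
    rw [hE.sq F hv] at h5
    obtain ⟨x, hx, hxc, -⟩ := F.spl' (Ac.one_iff.1 h5)
    have hxE : x ∈ E := hE.cen x fun e he => hxc e (by
      calc m * y v * ι e = m * (y v * ι e) := by group
        _ = m * ι e * y v := by rw [← F.ycomm hvC (hE.comm F he hv)]; group
        _ = ι e * (m * y v) := by rw [hcomm m hm _ (hEM e he)]; group)
    have hmul : m * y v * y v = m := by rw [mul_assoc, F.ysq v hvC, mul_one]
    rcases hx with hx | hx
    · have h6 : m = ι x * y v := by rw [← hx, hmul]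
      rw [h6]
      exact (Star ι y E).mul_mem (ι_mem_star hxE) (y_mem_star hv hv1)
    · exfalso
      have h6 : m = t * ι x * y v := by rw [← hx, hmul]
      have h7 : ι x * y v = y v * ι x := F.ycomm hvC (hE.comm F hxE hv)
      have h8 : m * m = ι v := by
        have hxx : ι x * ι x = 1 := by rw [← map_mul, hE.sq F hxE, map_one]
        calc m * m = t * (ι x * y v) * t * (ι x * y v) := by rw [h6]; group
          _ = t * y v * (ι x * t) * (ι x * y v) := by rw [h7]; group
          _ = t * y v * t * (ι x * ι x) * y v := by rw [F.ct]; group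
          _ = y v * ι v * y v := by rw [hxx, mul_one, F.tyt hvC]
          _ = y v * y v * ι v := by rw [mul_assoc, F.ycomm hvC rfl]; group
          _ = ι v := by rw [F.ysq v hvC, one_mul]
      rw [hsq m hm] at h8
      exact F.ιne hv1 h8.symm

end Good

/-- `E` satisfying `FactsE` is good -/
theorem FactsE.good {E : Subgroup X} (hE : FactsE z E) (F : Fam ι t z y) : Good z y E where
  EC := hE.EC
  com := fun _ hu _ hv hu1 hv1 => F.comm hE hu hv hu1 hv1
  cen := hE.cen
  ne := by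
    by_contra hcon
    push Not at hcon
    have h1 : E = ⊥ := by
      rw [eq_bot_iff]
      exact fun e he => mem_bot.2 (hcon e he)
    have h2 := hE.card
    rw [h1, card_bot] at h2
    omega

/-- conjugates of good groups are good -/
theorem Good.conj {E E' : Subgroup X} (hE : Good z y E) (F : Fam ι t z y) {k : X}
    (hk : ∀ x, x ∈ E' ↔ k * x * k⁻¹ ∈ E) : Good z y E' where
  EC := by
    intro e he he1
    have h1 := hE.EC _ ((hk e).1 he) (fun h => he1 (by
      rw [mul_inv_eq_one] at h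
      exact mul_eq_left.1 h))
    have h2 := Cl_conj h1 k⁻¹
    have e : k⁻¹ * (k * e * k⁻¹) * k⁻¹⁻¹ = e := by group
    rwa [e] at h2
  com := by
    intro u hu v hv hu1 hv1
    have hu2 : k * u * k⁻¹ ≠ 1 := fun h => hu1 (by
      rw [mul_inv_eq_one] at h
      exact mul_eq_left.1 h)
    have hv2 : k * v * k⁻¹ ≠ 1 := fun h => hv1 (by
      rw [mul_inv_eq_one] at h
      exact mul_eq_left.1 h)
    have h1 := hE.com _ ((hk u).1 hu) _ ((hk v).1 hv) hu2 hv2
    have e1 : ∀ {u : X}, k * u * k⁻¹ ∈ Cl z → y (k * u * k⁻¹) = ι k * y u * (ι k)⁻¹ := by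
      intro u hu
      have h2 := Cl_conj hu k⁻¹
      have e : k⁻¹ * (k * u * k⁻¹) * k⁻¹⁻¹ = u := by group
      rw [e] at h2
      exact F.yeq u h2 k
    rw [e1 (hE.EC _ ((hk u).1 hu) hu2), e1 (hE.EC _ ((hk v).1 hv) hv2)] at h1
    have h3 : ι k * (y u * y v) * (ι k)⁻¹ = ι k * (y v * y u) * (ι k)⁻¹ := by
      calc ι k * (y u * y v) * (ι k)⁻¹ = ι k * y u * (ι k)⁻¹ * (ι k * y v * (ι k)⁻¹) := by group
        _ = ι k * y v * (ι k)⁻¹ * (ι k * y u * (ι k)⁻¹) := h1
        _ = _ := by group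
    exact mul_left_cancel (mul_right_cancel h3)
  cen := by
    intro x hx
    rw [hk]
    apply hE.cen
    intro e he
    have h1 := hx (k⁻¹ * e * k) ((hk _).2 (by
      have e1 : k * (k⁻¹ * e * k) * k⁻¹ = e := by group
      rwa [e1]))
    calc k * x * k⁻¹ * e = k * (x * (k⁻¹ * e * k)) * k⁻¹ := by group
      _ = k * (k⁻¹ * e * k * x) * k⁻¹ := by rw [h1]
      _ = e * (k * x * k⁻¹) := by group
  ne := by
    obtain ⟨u, hu, hu1⟩ := hE.ne
    refine ⟨k⁻¹ * u * k, (hk _).2 (by
      have e1 : k * (k⁻¹ * u * k) * k⁻¹ = u := by group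
      rwa [e1]), fun h => hu1 ?_⟩
    calc u = k * (k⁻¹ * u * k) * k⁻¹ := by group
      _ = 1 := by rw [h]; group

end Cfsg.Agent.OddHalf.M24

end

-- merged: Cfsg.Agent.OddHalf.M24.Trans
section

/-!
# ODD half, D8, `K = M24`: Step 3 (helper785) and Step 3' (helper508)

`Good.tv_conj`: for a transvection `w` on `E` the involution `y_w` normalises `E*`.
`Good.rs_conj`: for commuting transvections `r, s` with `r s ∈ C` and `C(C(r, s)) ≤ N(E)`, `y_{rs}` normalises `E*`.
-/

set_option autoImplicit false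

namespace Cfsg.Agent.OddHalf.M24

open Subgroup

variable {X G : Type*} [Group X] [Group G] {ι : X →* G} {t : G} {z : X} {y : X → G}

namespace Good

variable {E : Subgroup X}

section

variable (F : Fam ι t z y) {w : X}

/-- `t w` is an involution -/
theorem _root_.Cfsg.Agent.OddHalf.M24.Fam.dd (F : Fam ι t z y) {w : X} (hw : w ∈ Cl z) :
    t * ι w * (t * ι w) = 1 := by
  calc t * ι w * (t * ι w) = t * (ι w * t) * ι w := by group
    _ = t * t * (ι w * ι w) := by rw [F.ct]; group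
    _ = 1 := by rw [F.tt, F.ιsq hw, one_mul]

theorem _root_.Cfsg.Agent.OddHalf.M24.Fam.WtW (F : Fam ι t z y) {w : X} (hw : w ∈ Cl z) :
    y w * t * y w = t * ι w := by
  have := F.yt w hw
  rwa [F.yinv hw] at this

theorem _root_.Cfsg.Agent.OddHalf.M24.Fam.WdW (F : Fam ι t z y) {w : X} (hw : w ∈ Cl z) :
    y w * (t * ι w) * y w = t := by
  rw [← F.WtW hw]
  calc y w * (y w * t * y w) * y w = (y w * y w) * t * (y w * y w) := by group
    _ = t := by rw [F.ysq w hw, one_mul, mul_one]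

end

/-- `t w` normalises `E*` -/
theorem d_conj (hE : Good z y E) (F : Fam ι t z y) {w : X} (hw : w ∈ Cl z)
    (hn : ∀ e ∈ E, w * e * w⁻¹ ∈ E) {m : G} (hm : m ∈ Star ι y E) :
    t * ι w * m * (t * ι w) ∈ Star ι y E := by
  have h1 := hE.star_t F (hE.star_conj F hn hm)
  have h2 : (ι w)⁻¹ = ι w := inv_eq_of_mul_eq_one_left (F.ιsq hw)
  rw [h2] at h1
  have e : t * (ι w * m * ι w) * t = t * ι w * m * (t * ι w) := by
    calc t * (ι w * m * ι w) * t = t * ι w * m * (ι w * t) := by group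
      _ = t * ι w * m * (t * ι w) := by rw [F.ct]
  rwa [e] at h1

/-- the elements of `E*` commuting with `t w` -/
theorem d_form (hE : Good z y E) (F : Fam ι t z y) {w a : X}
    (hn : ∀ e ∈ E, w * e * w⁻¹ ∈ E) (ha : ∀ e ∈ E, w * e = e * w ∨ w * e * w⁻¹ = e * a) {m : G}
    (hm : m ∈ Star ι y E) (hd : m * (t * ι w) = t * ι w * m) :
    (∃ e ∈ E, w * e = e * w ∧ m = ι e) ∨
      (∃ e ∈ E, w * e * w⁻¹ = e * a ∧ m = y a * ι e ∧ a ∈ E ∧ a ≠ 1) := by
  obtain ⟨v, hv, hac⟩ := hE.starAc F m hm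
  rcases hE.form F hm hv hac with ⟨-, e, he, rfl⟩ | ⟨hv1, e, he, rfl⟩
  · left
    refine ⟨e, he, ?_, rfl⟩
    apply F.inj
    rw [map_mul, map_mul]
    have h1 : t * (ι w * ι e) = t * (ι e * ι w) := by
      calc t * (ι w * ι e) = t * ι w * ι e := by group
        _ = (ι e * t) * ι w := by rw [← hd]; group
        _ = t * (ι e * ι w) := by rw [F.ct]; group
    exact mul_left_cancel h1
  · right
    have hvC := hE.EC v hv hv1
    have hwv : w * v * w⁻¹ ∈ E := hn v hv
    have h1 : t * (y v * ι e) * t = ι w * (y v * ι e) * (ι w)⁻¹ := by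
      have h2 : y v * ι e * t = t * ι w * (y v * ι e) * (ι w)⁻¹ := by
        rw [← hd]; group
      calc t * (y v * ι e) * t = t * (y v * ι e * t) := by group
        _ = (t * t) * (ι w * (y v * ι e) * (ι w)⁻¹) := by rw [h2]; group
        _ = _ := by rw [F.tt, one_mul]
    have h2 : t * (y v * ι e) * t = y v * ι (v * e) := by
      calc t * (y v * ι e) * t = t * y v * (ι e * t) := by group
        _ = (t * y v * t) * ι e := by rw [F.ct]; group
        _ = y v * ι (v * e) := by rw [F.tyt hvC, map_mul]; group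
    have h3 : ι w * (y v * ι e) * (ι w)⁻¹ = y (w * v * w⁻¹) * ι (w * e * w⁻¹) := by
      rw [F.yeq v hvC, map_mul, map_mul, map_inv]
      group
    have h4 : y v * ι (v * e) = y (w * v * w⁻¹) * ι (w * e * w⁻¹) := by rw [← h2, h1, h3]
    have hwv1 : w * v * w⁻¹ ≠ 1 := fun h => hv1 (by
      rw [mul_inv_eq_one] at h
      exact mul_eq_left.1 h)
    have hac1 : Ac ι t (y v * ι (v * e)) (v * 1) :=
      (F.yac hvC).mul (F.ac _) (by rw [map_one, mul_one, one_mul])
    have hac2 : Ac ι t (y v * ι (v * e)) (w * v * w⁻¹ * 1) := by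
      rw [h4]
      exact (F.yac (hE.EC _ hwv hwv1)).mul (F.ac _) (by rw [map_one, mul_one, one_mul])
    have h5 := Ac.inj F.toAmb hac1 hac2
    rw [mul_one, mul_one] at h5
    rw [← h5] at h4
    have h6 : v * e = w * e * w⁻¹ := F.inj (mul_left_cancel h4)
    rcases ha e he with h7 | h7
    · exfalso
      rw [h7, mul_inv_cancel_right] at h6
      exact hv1 (mul_eq_right.1 h6)
    · have h8 : v = a := by
        rw [h7, hE.comm F hv he] at h6
        exact mul_left_cancel h6
      subst h8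
      exact ⟨e, he, h7, rfl, hv, hv1⟩

/-- elements `y_a e` commute with `t w` -/
theorem d_comm (hE : Good z y E) (F : Fam ι t z y) {w a e : X} (haE : a ∈ E) (ha1 : a ≠ 1)
    (hwa : w * a = a * w) (he : e ∈ E) (hwe : w * e * w⁻¹ = e * a) :
    y a * ι e * (t * ι w) = t * ι w * (y a * ι e) := by
  have haC := hE.EC a haE ha1
  have h1 : ι w * y a = y a * ι w := F.ycomm haC hwa
  have h2 : ι w * ι e = ι (e * a) * ι w := by
    rw [← map_mul, ← map_mul, ← hwe, inv_mul_cancel_right]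
  have h3 : t * y a = y a * ι a * t := by
    have h4 : y a * ι a * t = t * y a * (t * t) := by rw [← F.tyt haC]; group
    rw [h4, F.tt, mul_one]
  have h5 : a * (e * a) = e := by
    rw [← mul_assoc, hE.comm F haE he, mul_assoc, hE.sq F haE, mul_one]
  symm
  calc t * ι w * (y a * ι e) = t * (ι w * y a) * ι e := by group
    _ = t * y a * (ι w * ι e) := by rw [h1]; group
    _ = (t * y a) * ι (e * a) * ι w := by rw [h2]; group
    _ = y a * ι a * (t * ι (e * a)) * ι w := by rw [h3]; group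
    _ = y a * (ι a * ι (e * a)) * (t * ι w) := by rw [← F.ct]; group
    _ = y a * ι e * (t * ι w) := by rw [← map_mul, h5]

/-- `m'' = y_a e₁ ∈ [E*, t w]` -/
theorem exists_comm (hE : Good z y E) (F : Fam ι t z y) {w a : X} (hw : w ∈ Cl z)
    (hn : ∀ e ∈ E, w * e * w⁻¹ ∈ E) (ha : ∀ e ∈ E, w * e = e * w ∨ w * e * w⁻¹ = e * a)
    (haE : a ∈ E) (ha1 : a ≠ 1) {e₁ : X} (he₁ : e₁ ∈ E) (hwe : w * e₁ * w⁻¹ = e₁ * a) :
    ∃ m ∈ Star ι y E, m * (t * ι w * m * (t * ι w)) = y a * ι e₁ := by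
  have hS := hE.starComm F
  have hdd := F.dd hw
  have hwinv : (ι w)⁻¹ = ι w := inv_eq_of_mul_eq_one_left (F.ιsq hw)
  have he1 : e₁ ≠ 1 := by
    rintro rfl
    rw [mul_one, mul_inv_cancel, one_mul] at hwe
    exact ha1 hwe.symm
  have heC := hE.EC e₁ he₁ he1
  have hea : e₁ * a ∈ E := E.mul_mem he₁ haE
  have hea1 : e₁ * a ≠ 1 := by
    rw [← hwe]
    intro h
    rw [mul_inv_eq_one] at h
    exact he1 (mul_eq_left.1 h)
  have heaC := hE.EC _ hea hea1
  have haC := hE.EC a haE ha1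
  -- conjugation of `y v` by `t w`
  have hdy : ∀ {v : X}, v ∈ Cl z → w * v * w⁻¹ ∈ Cl z →
      t * ι w * y v * (t * ι w) = y (w * v * w⁻¹) * ι (w * v * w⁻¹) := by
    intro v hv hv'
    calc t * ι w * y v * (t * ι w) = t * ι w * y v * (ι w * t) := by rw [F.ct]
      _ = t * (ι w * y v * (ι w)⁻¹) * t := by rw [hwinv]; group
      _ = y (w * v * w⁻¹) * ι (w * v * w⁻¹) := by rw [← F.yeq v hv, F.tyt hv']
  set m1 := y e₁ with hm1
  have hm1S : m1 ∈ Star ι y E := y_mem_star he₁ he1
  set n1 := m1 * (t * ι w * m1 * (t * ι w)) with hn1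
  have hdm1 : t * ι w * m1 * (t * ι w) ∈ Star ι y E := hE.d_conj F hw hn hm1S
  have hn1S : n1 ∈ Star ι y E := (Star ι y E).mul_mem hm1S hdm1
  have hdn1 : n1 * (t * ι w) = t * ι w * n1 := by
    calc n1 * (t * ι w) = m1 * (t * ι w * m1) * (t * ι w * (t * ι w)) := by rw [hn1]; group
      _ = m1 * (t * ι w * m1) := by rw [hdd, mul_one]
      _ = (t * ι w * (t * ι w)) * (m1 * (t * ι w * m1)) := by rw [hdd, one_mul]
      _ = t * ι w * ((t * ι w * m1 * (t * ι w)) * m1) := by group
      _ = t * ι w * n1 := by rw [hn1, hS _ hdm1 _ hm1S]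
  have hacd : Ac ι t (t * ι w * m1 * (t * ι w)) (e₁ * a * 1) := by
    rw [hm1, hdy heC (by rw [hwe]; exact heaC), hwe]
    exact (F.yac heaC).mul (F.ac _) (by rw [map_one, mul_one, one_mul])
  have hac : Ac ι t n1 (e₁ * (e₁ * a * 1)) := (F.yac heC).mul hacd
    (hS _ hm1S _ (ι_mem_star (by rw [mul_one]; exact hea)))
  rw [mul_one, ← mul_assoc, hE.sq F he₁, one_mul] at hac
  rcases hE.d_form F hn ha hn1S hdn1 with ⟨e, -, -, h1⟩ | ⟨e₂, he₂, hwe₂, h1, -, -⟩
  · exfalso
    rw [h1] at hac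
    exact ha1 (Ac.inj F.toAmb hac (F.ac e))
  · by_cases hv1 : e₁ * e₂ = 1
    · have h2 : e₂ = e₁ := by
        calc e₂ = (e₁ * e₁) * e₂ := by rw [hE.sq F he₁, one_mul]
          _ = e₁ * (e₁ * e₂) := by group
          _ = e₁ := by rw [hv1, mul_one]
      refine ⟨m1, hm1S, ?_⟩
      rw [← hn1, h1, h2]
    · set v := e₁ * e₂ with hv
      have hvE : v ∈ E := E.mul_mem he₁ he₂
      have hvC := hE.EC v hvE hv1
      have hwv : w * v * w⁻¹ = v := by
        calc w * v * w⁻¹ = (w * e₁ * w⁻¹) * (w * e₂ * w⁻¹) := by rw [hv]; group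
          _ = e₁ * (a * e₂) * a := by rw [hwe, hwe₂]; group
          _ = v * (a * a) := by rw [hE.comm F haE he₂, hv]; group
          _ = v := by rw [hE.sq F haE, mul_one]
      have hyv : y v ∈ Star ι y E := y_mem_star hvE hv1
      refine ⟨m1 * y v, (Star ι y E).mul_mem hm1S hyv, ?_⟩
      have h3 : t * ι w * (m1 * y v) * (t * ι w) =
          (t * ι w * m1 * (t * ι w)) * (t * ι w * y v * (t * ι w)) := by
        calc t * ι w * (m1 * y v) * (t * ι w) = t * ι w * m1 * 1 * y v * (t * ι w) := by group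
          _ = t * ι w * m1 * (t * ι w * (t * ι w)) * y v * (t * ι w) := by rw [hdd]
          _ = _ := by group
      have h4 : t * ι w * y v * (t * ι w) = y v * ι v := by
        rw [hdy hvC (by rw [hwv]; exact hvC), hwv]
      calc m1 * y v * (t * ι w * (m1 * y v) * (t * ι w))
          = m1 * (y v * (t * ι w * m1 * (t * ι w))) * (y v * ι v) := by rw [h3, h4]; group
        _ = m1 * ((t * ι w * m1 * (t * ι w)) * y v) * (y v * ι v) := by rw [hS _ hyv _ hdm1]
        _ = n1 * (y v * y v) * ι v := by rw [hn1]; group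
        _ = y a * ι (e₂ * v) := by rw [F.ysq v hvC, mul_one, h1, map_mul ι e₂ v]; group
        _ = y a * ι e₁ := by
          rw [hv, hE.comm F he₁ he₂, ← mul_assoc, hE.sq F he₂, one_mul]

/-- the core of Step 3 -/
theorem tv_core (hE : Good z y E) (F : Fam ι t z y) {w a : X} (hw : w ∈ Cl z)
    (hn : ∀ e ∈ E, w * e * w⁻¹ ∈ E) (ha : ∀ e ∈ E, w * e = e * w ∨ w * e * w⁻¹ = e * a)
    (haE : a ∈ E) (ha1 : a ≠ 1) (hwa : w * a = a * w)
    (k3 : ∀ q, q * q = 1 → (∀ e ∈ E, w * e = e * w → q * e = e * q) →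
      (∀ c, c * w = w * c → (∀ e ∈ E, c * e * c⁻¹ ∈ E) →
        q * c * q⁻¹ * c⁻¹ ∈ E ∧ w * (q * c * q⁻¹ * c⁻¹) = q * c * q⁻¹ * c⁻¹ * w) →
      q * w = w * q ∨ q ∈ E)
    {e₁ : X} (he₁ : e₁ ∈ E) (hwe : w * e₁ * w⁻¹ = e₁ * a) :
    ∃ q ∈ E, w * q * w⁻¹ = q * a ∧ y w * (y a * ι e₁) * y w = ι q := by
  have hS := hE.starComm F
  have haC := hE.EC a haE ha1
  have hW := F.ysq w hw
  have hWd := F.WdW hw
  have hWt := F.WtW hw
  have hdd := F.dd hw
  have hyaS : y a ∈ Star ι y E := y_mem_star haE ha1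
  set m := y a * ι e₁ with hm
  have hmS : m ∈ Star ι y E := (Star ι y E).mul_mem hyaS (ι_mem_star he₁)
  have hmd : m * (t * ι w) = t * ι w * m := hE.d_comm F haE ha1 hwa he₁ hwe
  have hmac : Ac ι t m a := by
    have := (F.yac haC).mul (F.ac e₁) (by rw [map_one, mul_one, one_mul])
    rwa [mul_one] at this
  have hmt : m * t ≠ t * m := fun h => ha1 (Ac.inj F.toAmb hmac (Ac.one_iff.2 h))
  -- `m₀ = W m W`
  set m0 := y w * m * y w with hm0
  have hWm0 : y w * m0 * y w = m := by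
    calc y w * m0 * y w = (y w * y w) * m * (y w * y w) := by rw [hm0]; group
      _ = m := by rw [hW, one_mul, mul_one]
  have hm0t : m0 * t = t * m0 := by
    calc m0 * t = y w * m * (y w * (y w * (t * ι w) * y w)) := by rw [hWd, hm0]; group
      _ = y w * m * ((y w * y w) * (t * ι w) * y w) := by group
      _ = y w * (m * (t * ι w)) * y w := by rw [hW, one_mul]; group
      _ = y w * (t * ι w) * (y w * y w) * m * y w := by rw [hmd, hW]; group
      _ = (y w * (t * ι w) * y w) * (y w * m * y w) := by group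
      _ = t * m0 := by rw [hWd]
  obtain ⟨q, hq, hqc, -⟩ := F.spl' hm0t
  have hm02 : m0 * m0 = 1 := by
    calc m0 * m0 = y w * m * (y w * y w) * m * y w := by rw [hm0]; group
      _ = y w * (m * m) * y w := by rw [hW]; group
      _ = 1 := by rw [hE.starSq F m hmS, mul_one, hW]
  have hqq : q * q = 1 := by
    apply F.inj
    rw [map_mul, map_one]
    rcases hq with h | h
    · rw [← h]; exact hm02
    · calc ι q * ι q = (t * t) * (ι q * ι q) := by rw [F.tt, one_mul]
        _ = t * (t * ι q) * ι q := by group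
        _ = t * (ι q * t) * ι q := by rw [F.ct]
        _ = (t * ι q) * (t * ι q) := by group
        _ = 1 := by rw [← h]; exact hm02
  have hWe : ∀ e, w * e = e * w → y w * ι e = ι e * y w := fun e he => (F.ycomm hw he.symm).symm
  have hqA : ∀ e ∈ E, w * e = e * w → q * e = e * q := by
    intro e he hwe'
    apply hqc
    calc m0 * ι e = y w * m * (y w * ι e) := by rw [hm0]; group
      _ = y w * (m * ι e) * y w := by rw [hWe e hwe']; group
      _ = (y w * ι e) * m * y w := by rw [hS m hmS _ (ι_mem_star he)]; group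
      _ = ι e * m0 := by rw [hWe e hwe', hm0]; group
  have hqC : ∀ c, c * w = w * c → (∀ e ∈ E, c * e * c⁻¹ ∈ E) →
      q * c * q⁻¹ * c⁻¹ ∈ E ∧ w * (q * c * q⁻¹ * c⁻¹) = q * c * q⁻¹ * c⁻¹ * w := by
    intro c hcw hcE
    have hct := F.ct c
    set m2 := ι c * m * (ι c)⁻¹ with hm2
    have hm2S : m2 ∈ Star ι y E := hE.star_conj F hcE hmS
    have hcd : ι c * (t * ι w) = t * ι w * ι c := by
      calc ι c * (t * ι w) = (ι c * t) * ι w := by group
        _ = t * (ι c * ι w) := by rw [hct]; group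
        _ = t * ι w * ι c := by rw [← map_mul, hcw, map_mul]; group
    have hm2d : m2 * (t * ι w) = t * ι w * m2 := by
      have h1 : (ι c)⁻¹ * (t * ι w) = t * ι w * (ι c)⁻¹ := by
        rw [inv_mul_eq_iff_eq_mul, ← mul_assoc, hcd, mul_inv_cancel_right]
      calc m2 * (t * ι w) = ι c * m * ((ι c)⁻¹ * (t * ι w)) := by rw [hm2]; group
        _ = ι c * (m * (t * ι w)) * (ι c)⁻¹ := by rw [h1]; group
        _ = (ι c * (t * ι w)) * m * (ι c)⁻¹ := by rw [hmd]; group
        _ = t * ι w * m2 := by rw [hcd, hm2]; group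
    rcases hE.d_form F hn ha hm2S hm2d with ⟨e, -, -, h1⟩ | ⟨e₂, he₂, hwe₂, h1, -, -⟩
    · exfalso
      apply hmt
      have h2 : m = ι (c⁻¹ * e * c) := by
        rw [map_mul, map_mul, map_inv, ← h1, hm2]; group
      rw [h2, F.ct]
    · set f := e₁ * e₂⁻¹ with hf
      have hfE : f ∈ E := E.mul_mem he₁ (E.inv_mem he₂)
      have hwf : w * f = f * w := by
        have h2 : w * f * w⁻¹ = f := by
          calc w * f * w⁻¹ = (w * e₁ * w⁻¹) * (w * e₂ * w⁻¹)⁻¹ := by rw [hf]; group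
            _ = f := by rw [hwe, hwe₂, hf]; group
        rwa [mul_inv_eq_iff_eq_mul] at h2
      have h3 : m = ι f * m2 := by
        have h4 : ι e₂ * y a = y a * ι e₂ := F.ycomm haC (hE.comm F he₂ haE)
        have h5 : ι f * y a = y a * ι f := F.ycomm haC (hE.comm F hfE haE)
        calc m = y a * ι (f * e₂) := by rw [hm, hf, inv_mul_cancel_right]
          _ = (y a * ι f) * ι e₂ := by rw [map_mul]; group
          _ = ι f * m2 := by rw [← h5, h1]; group
      have h4 : m0 = ι f * (ι c * m0 * (ι c)⁻¹) := by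
        have h5 : y w * ι c = ι c * y w := hWe c hcw.symm
        have h6 : y w * (ι c)⁻¹ = (ι c)⁻¹ * y w := by
          rw [← map_inv]
          exact hWe _ (Commute.inv_right (show Commute w c from hcw.symm))
        calc m0 = (y w * ι f) * m2 * y w := by rw [hm0]; nth_rw 1 [h3]; group
          _ = ι f * (y w * ι c) * m * ((ι c)⁻¹ * y w) := by rw [hWe f hwf, hm2]; group
          _ = ι f * (ι c * y w) * m * (y w * (ι c)⁻¹) := by rw [h5, h6]
          _ = ι f * (ι c * m0 * (ι c)⁻¹) := by rw [hm0]; group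
      have h5 : q * c * q⁻¹ * c⁻¹ = f := by
        apply F.inj
        rw [map_mul, map_mul, map_mul, map_inv, map_inv]
        rcases hq with h | h
        · rw [h] at h4
          calc ι q * ι c * (ι q)⁻¹ * (ι c)⁻¹ = (ι f * (ι c * ι q * (ι c)⁻¹)) * ι c * (ι q)⁻¹ * (ι c)⁻¹ := by
                rw [← h4]
            _ = ι f := by group
        · rw [h] at h4
          have h6 : t * ι q = t * (ι f * (ι c * ι q * (ι c)⁻¹)) := by
            calc t * ι q = ι f * (ι c * (t * ι q) * (ι c)⁻¹) := h4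
              _ = ι f * (ι c * t) * ι q * (ι c)⁻¹ := by group
              _ = (ι f * t) * ι c * ι q * (ι c)⁻¹ := by rw [hct]; group
              _ = t * (ι f * (ι c * ι q * (ι c)⁻¹)) := by rw [F.ct]; group
          have h7 := mul_left_cancel h6
          calc ι q * ι c * (ι q)⁻¹ * (ι c)⁻¹ = (ι f * (ι c * ι q * (ι c)⁻¹)) * ι c * (ι q)⁻¹ * (ι c)⁻¹ := by
                rw [← h7]
            _ = ι f := by group
      rw [h5]
      exact ⟨hfE, hwf⟩
  -- `q` does not commute with `w`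
  have hqw : ¬ q * w = w * q := by
    intro h
    have h1 : y w * ι q = ι q * y w := hWe q h.symm
    apply hmt
    rcases hq with h2 | h2
    · have h3 : m = ι q := by
        rw [← hWm0, h2, h1, mul_assoc, hW, mul_one]
      rw [h3, F.ct]
    · have h3 : m = t * ι (w * q) := by
        calc m = y w * (t * ι q) * y w := by rw [← hWm0, h2]
          _ = y w * t * (y w * y w) * ι q * y w := by rw [hW]; group
          _ = (y w * t * y w) * (y w * ι q) * y w := by group
          _ = t * ι w * ι q * (y w * y w) := by rw [hWt, h1]; group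
          _ = t * ι (w * q) := by rw [hW, mul_one, map_mul]; group
      rw [h3]
      calc t * ι (w * q) * t = t * (ι (w * q) * t) := by group
        _ = t * (t * ι (w * q)) := by rw [F.ct]
  have hqE : q ∈ E := (k3 q hqq hqA hqC).resolve_left hqw
  have hq1 : q ≠ 1 := by
    rintro rfl
    exact hqw (by rw [one_mul, mul_one])
  have hwq : w * q * w⁻¹ = q * a := (ha q hqE).resolve_left fun h => hqw h.symm
  refine ⟨q, hqE, hwq, ?_⟩
  rcases hq with h | h
  · exact h
  · exfalso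
    obtain ⟨n, hnS, hnm⟩ := hE.exists_comm F hw hn ha haE ha1 he₁ hwe
    have hnn := hE.starSq F n hnS
    have hninv : n⁻¹ = n := inv_eq_of_mul_eq_one_left hnn
    -- `n d n⁻¹ = m d = W ι q W`
    have h1 : n * (t * ι w) * n⁻¹ = m * (t * ι w) := by
      rw [hninv, hm, ← hnm]
      calc n * (t * ι w) * n = n * (t * ι w * n) * (t * ι w * (t * ι w)) := by rw [hdd]; group
        _ = n * (t * ι w * n * (t * ι w)) * (t * ι w) := by group
    have h2 : m * (t * ι w) = y w * ι q * y w := by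
      rw [hmd, ← hWm0, h]
      calc t * ι w * (y w * (t * ι q) * y w) = t * ι w * (y w * t * (y w * y w) * ι q * y w) := by
            rw [hW]; group
        _ = t * ι w * ((y w * t * y w) * (y w * ι q * y w)) := by group
        _ = (t * ι w * (t * ι w)) * (y w * ι q * y w) := by rw [hWt]; group
        _ = y w * ι q * y w := by rw [hdd, one_mul]
    obtain ⟨k, hk⟩ := hE.EC q hqE hq1
    apply F.tz ((ι k)⁻¹ * (y w * n * y w))
    have h3 : y w * n * y w * t * (y w * n * y w)⁻¹ = ι q := by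
      calc y w * n * y w * t * (y w * n * y w)⁻¹
          = y w * (n * (y w * t * (y w)⁻¹) * n⁻¹) * (y w)⁻¹ := by group
        _ = y w * (n * (t * ι w) * n⁻¹) * (y w)⁻¹ := by rw [F.yt w hw]
        _ = y w * (y w * ι q * y w) * (y w)⁻¹ := by rw [h1, h2]
        _ = (y w * y w) * ι q := by group
        _ = ι q := by rw [hW, one_mul]
    calc (ι k)⁻¹ * (y w * n * y w) * t * ((ι k)⁻¹ * (y w * n * y w))⁻¹
        = (ι k)⁻¹ * (y w * n * y w * t * (y w * n * y w)⁻¹) * ι k := by group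
      _ = (ι k)⁻¹ * ι q * ι k := by rw [h3]
      _ = ι z := by rw [← hk, map_mul, map_mul, map_inv]; group

/-- **Step 3**: `y_w` normalises `E*` for a transvection `w` on `E` -/
theorem tv_conj (hE : Good z y E) (F : Fam ι t z y) {w : X} (hT : Tv z E w) :
    ∀ m ∈ Star ι y E, y w * m * (y w)⁻¹ ∈ Star ι y E := by
  obtain ⟨a, haE, ha1, hwa, ha, e₁, he₁, hwe⟩ := hT.tv
  have hw := hT.wC
  have hn := hT.nor
  have hW := F.ysq w hw
  have hWd := F.WdW hw
  have hWt := F.WtW hw
  have hWi := F.yinv hw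
  have haC := hE.EC a haE ha1
  have hWe : ∀ e, w * e = e * w → y w * ι e = ι e * y w := fun e he => (F.ycomm hw he.symm).symm
  obtain ⟨q, hqE, hwq, hq⟩ := hE.tv_core F hw hn ha haE ha1 hwa hT.k3 he₁ hwe
  have hmS : y a * ι e₁ ∈ Star ι y E := (Star ι y E).mul_mem (y_mem_star haE ha1) (ι_mem_star he₁)
  set M : Subgroup G := (Star ι y E).map (MulAut.conj (y w)).toMonoidHom with hM
  have hmem : ∀ m, m ∈ M ↔ ∃ s ∈ Star ι y E, y w * s * y w = m := by
    intro m
    constructor
    · rintro ⟨s, hs, rfl⟩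
      refine ⟨s, hs, ?_⟩
      show y w * s * y w = y w * s * (y w)⁻¹
      rw [hWi]
    · rintro ⟨s, hs, rfl⟩
      refine ⟨s, hs, ?_⟩
      show y w * s * (y w)⁻¹ = y w * s * y w
      rw [hWi]
  have hle : M ≤ Star ι y E := by
    apply hE.uniq F
    · intro m hm
      obtain ⟨s, hs, rfl⟩ := (hmem m).1 hm
      calc y w * s * y w * (y w * s * y w) = y w * s * (y w * y w) * s * y w := by group
        _ = y w * (s * s) * y w := by rw [hW]; group
        _ = 1 := by rw [hE.starSq F s hs, mul_one, hW]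
    · intro m hm
      obtain ⟨s, hs, rfl⟩ := (hmem m).1 hm
      refine (hmem _).2 ⟨_, hE.d_conj F hw hn hs, ?_⟩
      calc y w * (t * ι w * s * (t * ι w)) * y w
          = y w * (t * ι w) * (y w * y w) * s * (y w * y w) * (t * ι w) * y w := by rw [hW]; group
        _ = (y w * (t * ι w) * y w) * (y w * s * y w) * (y w * (t * ι w) * y w) := by group
        _ = t * (y w * s * y w) * t := by rw [hWd]
    · intro m hm hmt
      obtain ⟨s, hs, rfl⟩ := (hmem m).1 hm
      have hsd : s * (t * ι w) = t * ι w * s := by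
        calc s * (t * ι w) = (y w * y w) * s * (y w * t * y w) := by rw [hW, one_mul, hWt]
          _ = y w * ((y w * s * y w) * t) * y w := by group
          _ = y w * (t * (y w * s * y w)) * y w := by rw [hmt]
          _ = (y w * t * y w) * s * (y w * y w) := by group
          _ = t * ι w * s := by rw [hWt, hW, mul_one]
      rcases hE.d_form F hn ha hs hsd with ⟨e, he, hwe', rfl⟩ | ⟨e₂, he₂, hwe₂, rfl, -, -⟩
      · refine ⟨e, he, ?_⟩
        rw [hWe e hwe', mul_assoc, hW, mul_one]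
      · obtain ⟨q₂, hq₂, -, h⟩ := hE.tv_core F hw hn ha haE ha1 hwa hT.k3 he₂ hwe₂
        exact ⟨q₂, hq₂, h⟩
    · intro e he
      rcases ha e he with h | h
      · refine (hmem _).2 ⟨ι e, ι_mem_star he, ?_⟩
        rw [hWe e h, mul_assoc, hW, mul_one]
      · have heq : w * (e * q) = e * q * w := by
          rw [← mul_inv_eq_iff_eq_mul]
          calc w * (e * q) * w⁻¹ = (w * e * w⁻¹) * (w * q * w⁻¹) := by group
            _ = e * (a * q) * a := by rw [h, hwq]; group
            _ = e * q * (a * a) := by rw [hE.comm F haE hqE]; group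
            _ = e * q := by rw [hE.sq F haE, mul_one]
        refine (hmem _).2 ⟨ι (e * q) * (y a * ι e₁),
          (Star ι y E).mul_mem (ι_mem_star (E.mul_mem he hqE)) hmS, ?_⟩
        calc y w * (ι (e * q) * (y a * ι e₁)) * y w = (y w * ι (e * q)) * (y a * ι e₁) * y w := by
              group
          _ = ι (e * q) * (y w * (y a * ι e₁) * y w) := by rw [hWe _ heq]; group
          _ = ι e := by rw [hq, ← map_mul, mul_assoc, hE.sq F hqE, mul_one]
  intro m hm
  apply hle
  exact ⟨m, hm, rfl⟩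

/-- **Step 3'** (helper508): `y_{rs}` normalises `E*` -/
theorem rs_conj (hE : Good z y E) (F : Fam ι t z y) {r s : X} (hr : Tv z E r) (hs : Tv z E s)
    (hrs : r * s = s * r) (hC : r * s ∈ Cl z)
    (dc : ∀ x, (∀ c, c * r = r * c → c * s = s * c → x * c = c * x) → ∀ e ∈ E, x * e * x⁻¹ ∈ E) :
    ∀ m ∈ Star ι y E, y (r * s) * m * (y (r * s))⁻¹ ∈ Star ι y E := by
  have hr2 := F.sq hr.wC
  have hs2 := F.sq hs.wC
  have h1 : Ac ι t (y s * y (r * s)) (s * (r * s)) :=
    (F.yac hs.wC).mul (F.yac hC) (F.ycomm hs.wC (by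
      calc r * s * s = r * (s * s) := by group
        _ = s * (s * r) := by rw [hs2, mul_one, ← mul_assoc, hs2, one_mul]
        _ = s * (r * s) := by rw [hrs])).symm
  have hsrs : s * (r * s) = r := by rw [hrs, ← mul_assoc, hs2, one_mul]
  rw [hsrs] at h1
  have h2 : Ac ι t (y r * (y s * y (r * s))) (r * r) :=
    (F.yac hr.wC).mul h1 (F.ycomm hr.wC rfl).symm
  rw [hr2] at h2
  set g := y r * (y s * y (r * s)) with hg
  obtain ⟨x, hx, hxc, -⟩ := F.spl' (Ac.one_iff.1 h2)
  have hxE := dc x (fun c hcr hcs => hxc c (by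
    have a1 := F.ycomm hr.wC hcr
    have a2 := F.ycomm hs.wC hcs
    have a3 := F.ycomm hC (k := c) (by
      calc c * (r * s) = (c * r) * s := by group
        _ = r * (c * s) := by rw [hcr]; group
        _ = r * s * c := by rw [hcs]; group)
    calc g * ι c = y r * y s * (y (r * s) * ι c) := by rw [hg]; group
      _ = y r * (y s * ι c) * y (r * s) := by rw [← a3]; group
      _ = (y r * ι c) * y s * y (r * s) := by rw [← a2]; group
      _ = ι c * g := by rw [← a1, hg]; group))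
  have hgS : ∀ m ∈ Star ι y E, g * m * g⁻¹ ∈ Star ι y E := by
    intro m hm
    have h3 := hE.star_conj F hxE hm
    rcases hx with h | h
    · rwa [h]
    · have h4 := hE.star_t F h3
      rw [h]
      have e : t * ι x * m * (t * ι x)⁻¹ = t * (ι x * m * (ι x)⁻¹) * t := by
        rw [mul_inv_rev, F.tinv]; group
      rwa [e]
  intro m hm
  have h3 := hE.tv_conj F hs _ (hE.tv_conj F hr _ (hgS m hm))
  have e : y (r * s) = y s * (y r * g) := by
    rw [hg, ← mul_assoc (y r), F.ysq r hr.wC, one_mul, ← mul_assoc, F.ysq s hs.wC, one_mul]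
  rw [e]
  have e2 : y s * (y r * g) * m * (y s * (y r * g))⁻¹ =
      y s * (y r * (g * m * g⁻¹) * (y r)⁻¹) * (y s)⁻¹ := by group
  rwa [e2]

end Good

end Cfsg.Agent.OddHalf.M24

end

-- merged: Cfsg.Agent.OddHalf.M24.Big
section

/-!
# ODD half, D8, `K = M24`: the doubled group `Q* = E* V*` (helper785)

`V* = E'* ∩ N(E*)`, `M = E* V*` (`big`). Output: `Big`.
-/

set_option autoImplicit false

namespace Cfsg.Agent.OddHalf.M24

open Subgroup

variable {X G : Type*} [Group X] [Group G] {ι : X →* G} {t : G} {z : X} {y : X → G}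

/-- the output of Steps 2 - 5 -/
structure Big (ι : X →* G) (t : G) (y : X → G) (Q : Subgroup X) (M : Subgroup G) (w w' : X) :
    Prop where
  tM : t ∈ normalizer (M : Set G)
  cen : ∀ m ∈ M, m * t = t * m → ∃ q ∈ Q, m = ι q
  le : ∀ q ∈ Q, ι q ∈ M
  /-- all involutions of `t M` are `M`-conjugate to `t` -/
  inv : ∀ m ∈ M, t * m * (t * m) = 1 → ∃ n ∈ M, n * t * n⁻¹ = t * m
  nor : ∀ k, ι k ∈ normalizer (M : Set G) ↔ ∀ q ∈ Q, k * q * k⁻¹ ∈ Q
  yw : y w ∈ normalizer (M : Set G)
  yw' : y w' ∈ normalizer (M : Set G)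

/-- `ι k` maps `E'*` to `E*` if `k` maps `E'` to `E` -/
theorem Good.star_map {E E' : Subgroup X} (hE' : Good z y E') (F : Fam ι t z y) {k : X}
    (hk : ∀ e ∈ E', k * e * k⁻¹ ∈ E) {m : G} (hm : m ∈ Star ι y E') :
    ι k * m * (ι k)⁻¹ ∈ Star ι y E := by
  induction hm using closure_induction with
  | mem x hx =>
    rcases hx with ⟨e, he, rfl⟩ | ⟨e, he, he1, rfl⟩
    · rw [← map_inv, ← map_mul, ← map_mul]
      exact ι_mem_star (hk e he)
    · rw [← F.yeq e (hE'.EC e he he1)]
      exact y_mem_star (hk e he) fun h1 => he1 (by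
        rw [mul_inv_eq_one] at h1
        exact mul_eq_left.1 h1)
  | one => rw [mul_one, mul_inv_cancel]; exact one_mem _
  | mul a b _ _ iha ihb =>
    have := (Star ι y E).mul_mem iha ihb
    have e : ι k * a * (ι k)⁻¹ * (ι k * b * (ι k)⁻¹) = ι k * (a * b) * (ι k)⁻¹ := by group
    rwa [e] at this
  | inv a _ iha =>
    have := (Star ι y E).inv_mem iha
    have e : (ι k * a * (ι k)⁻¹)⁻¹ = ι k * a⁻¹ * (ι k)⁻¹ := by group
    rwa [e] at this

section

variable {E E' V : Subgroup X}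

/-- `ι x ∈ N(E*)` implies `x ∈ N(E)` -/
theorem Good.ι_nor (hE : Good z y E) (F : Fam ι t z y) {x : X}
    (hx : ι x ∈ normalizer (Star ι y E : Set G)) {e : X} (he : e ∈ E) : x * e * x⁻¹ ∈ E := by
  have h1 : ι x * ι e * (ι x)⁻¹ ∈ Star ι y E := (mem_normalizer_iff.1 hx _).1 (ι_mem_star he)
  rw [← map_mul, ← map_inv, ← map_mul] at h1
  obtain ⟨f, hf, h2⟩ := hE.star_cen F h1 (F.ct _)
  rw [F.inj h2]
  exact hf

variable {r s w w' : X} [Finite G]

theorem Good.ι_mem_nor (hE : Good z y E) (F : Fam ι t z y) {x : X}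
    (hx : ∀ e ∈ E, x * e * x⁻¹ ∈ E) : ι x ∈ normalizer (Star ι y E : Set G) :=
  mem_normalizer_fintype fun _ hm => hE.star_conj F hx hm

theorem Good.t_mem_nor (hE : Good z y E) (F : Fam ι t z y) :
    t ∈ normalizer (Star ι y E : Set G) :=
  mem_normalizer_fintype fun _ hm => by
    rw [F.tinv]
    exact hE.star_t F hm

/-- `V* = E'* ∩ N(E*)` -/
def VS (ι : X →* G) (y : X → G) (E E' : Subgroup X) : Subgroup G :=
  Star ι y E' ⊓ normalizer (Star ι y E : Set G)

/-- `M = E* V*` -/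
def MM (ι : X →* G) (y : X → G) (E E' : Subgroup X) : Subgroup G where
  carrier := {x | ∃ m ∈ Star ι y E, ∃ v ∈ VS ι y E E', x = m * v}
  mul_mem' := by
    rintro _ _ ⟨m, hm, v, hv, rfl⟩ ⟨n, hn, u, hu, rfl⟩
    refine ⟨m * (v * n * v⁻¹), (Star ι y E).mul_mem hm ((mem_normalizer_iff.1 hv.2 n).1 hn), v * u,
      (VS ι y E E').mul_mem hv hu, ?_⟩
    group
  one_mem' := ⟨1, one_mem _, 1, one_mem _, (one_mul 1).symm⟩
  inv_mem' := by
    rintro _ ⟨m, hm, v, hv, rfl⟩
    refine ⟨v⁻¹ * m⁻¹ * v⁻¹⁻¹, (mem_normalizer_iff.1 (inv_mem hv.2) m⁻¹).1 (inv_mem hm), v⁻¹,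
      inv_mem hv, ?_⟩
    group

omit [Finite G] in
theorem star_le_MM {m : G} (hm : m ∈ Star ι y E) : m ∈ MM ι y E E' :=
  ⟨m, hm, 1, one_mem _, (mul_one m).symm⟩

omit [Finite G] in
theorem VS_le_MM {v : G} (hv : v ∈ VS ι y E E') : v ∈ MM ι y E E' :=
  ⟨1, one_mem _, v, hv, (one_mul v).symm⟩

/-- **Steps 4 and 5** -/
theorem big (F : Fam ι t z y) (fE : FactsE z E) (fQ : FactsQ z E E' V r s w w') :
    Big ι t y (E ⊔ V) (MM ι y E E') w w' := by
  have hE := fE.good F
  obtain ⟨k₀, hk₀, hk₀w⟩ := fQ.kw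
  obtain ⟨k₁, hk₁, hk₁w⟩ := fQ.kw'
  have hE' : Good z y E' := hE.conj F hk₀
  have hV'E : ∀ v ∈ V, ∀ e ∈ E, v * e * v⁻¹ ∈ E := by
    intro v hv e he
    by_cases h1 : v = 1
    · rw [h1, one_mul, inv_one, mul_one]; exact he
    · exact (fQ.tvV v hv h1).nor e he
  -- members of `V*`
  have hιV : ∀ v ∈ V, ι v ∈ VS ι y E E' := fun v hv =>
    ⟨ι_mem_star (fQ.VE' hv), hE.ι_mem_nor F (hV'E v hv)⟩
  have hyV : ∀ v ∈ V, v ≠ 1 → y v ∈ VS ι y E E' := fun v hv h1 =>
    ⟨y_mem_star (fQ.VE' hv) h1, mem_normalizer_fintype fun m hm =>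
      hE.tv_conj F (fQ.tvV v hv h1) m hm⟩
  have hVS : ∀ m ∈ VS ι y E E', (∃ e ∈ V, m = ι e) ∨ (∃ v ∈ V, v ≠ 1 ∧ ∃ e ∈ V, m = y v * ι e) := by
    intro m hm
    obtain ⟨v, hv, hac⟩ := hE'.starAc F m hm.1
    have hιv : ι v ∈ normalizer (Star ι y E : Set G) := by
      have h1 : ι v = t⁻¹ * (m * t * m⁻¹) := by
        unfold Ac at hac
        rw [hac]; group
      rw [h1]
      have ht := hE.t_mem_nor F
      exact mul_mem (inv_mem ht) (mul_mem (mul_mem hm.2 ht) (inv_mem hm.2))
    have hvV : v ∈ V := fQ.norV v hv fun e he => hE.ι_nor F hιv he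
    rcases hE'.form F hm.1 hv hac with ⟨-, e, he, h1⟩ | ⟨hv1, e, he, h1⟩
    · left
      refine ⟨e, fQ.norV e he fun f hf => hE.ι_nor F ?_ hf, h1⟩
      rw [← h1]; exact hm.2
    · right
      refine ⟨v, hvV, hv1, e, fQ.norV e he fun f hf => hE.ι_nor F ?_ hf, h1⟩
      have h2 : ι e = (y v)⁻¹ * m := by rw [h1]; group
      rw [h2]
      exact mul_mem (inv_mem (hyV v hvV hv1).2) hm.2
  -- `E ∩ E' = 1`
  have hEE' : ∀ e ∈ E, e ∈ E' → e = 1 := by
    intro e he he'
    apply fQ.inf e _ he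
    apply fQ.norV e he'
    intro f hf
    rw [hE.comm F he hf, mul_inv_cancel_right]
    exact hf
  have hinter : ∀ m, m ∈ Star ι y E → m ∈ Star ι y E' → m = 1 := by
    intro m hm hm'
    obtain ⟨v, hv, h1⟩ := hE.starAc F m hm
    obtain ⟨v', hv', h2⟩ := hE'.starAc F m hm'
    have h3 := Ac.inj F.toAmb h1 h2
    have hv1 : v = 1 := hEE' v hv (h3 ▸ hv')
    rw [hv1] at h1
    obtain ⟨e, he, h4⟩ := hE.star_cen F hm (Ac.one_iff.1 h1)
    obtain ⟨e', he', h5⟩ := hE'.star_cen F hm' (Ac.one_iff.1 h1)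
    have h6 : e = e' := F.inj (h4.symm.trans h5)
    rw [h4, hEE' e he (h6 ▸ he'), map_one]
  have hVt : ∀ v ∈ VS ι y E E', t * v * t ∈ VS ι y E E' := by
    intro v hv
    refine ⟨hE'.star_t F hv.1, ?_⟩
    have ht := hE.t_mem_nor F
    exact mul_mem (mul_mem ht hv.2) ht
  -- `C_M(t)`
  have hsplit : ∀ m ∈ Star ι y E, ∀ v ∈ VS ι y E E', t * (m * v) * t = m * v →
      t * m * t = m ∧ t * v * t = v := by
    intro m hm v hv h
    have h1 : t * (m * v) * t = (t * m * t) * (t * v * t) := by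
      calc t * (m * v) * t = t * m * 1 * v * t := by group
        _ = t * m * (t * t) * v * t := by rw [F.tt]
        _ = _ := by group
    rw [h1] at h
    have h2 : m⁻¹ * (t * m * t) = v * (t * v * t)⁻¹ := by
      calc m⁻¹ * (t * m * t) = m⁻¹ * ((t * m * t) * (t * v * t)) * (t * v * t)⁻¹ := by group
        _ = v * (t * v * t)⁻¹ := by rw [h]; group
    have h3 : m⁻¹ * (t * m * t) = 1 := by
      apply hinter
      · exact mul_mem (inv_mem hm) (hE.star_t F hm)
      · rw [h2]
        exact mul_mem hv.1 (inv_mem (hVt v hv).1)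
    refine ⟨(inv_mul_eq_one.1 h3).symm, ?_⟩
    rw [h3] at h2
    exact (mul_inv_eq_one.1 h2.symm).symm
  have htt : ∀ x : G, t * x * t = x → x * t = t * x := by
    intro x h
    calc x * t = t * t * (x * t) := by rw [F.tt, one_mul]
      _ = t * (t * x * t) := by group
      _ = t * x := by rw [h]
  have htt' : ∀ x : G, x * t = t * x → t * x * t = x := by
    intro x h
    rw [mul_assoc, h, ← mul_assoc, F.tt, one_mul]
  have hcenV : ∀ v ∈ VS ι y E E', v * t = t * v → ∃ e ∈ V, v = ι e := by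
    intro v hv h
    rcases hVS v hv with ⟨e, he, h1⟩ | ⟨u, hu, hu1, e, he, h1⟩
    · exact ⟨e, he, h1⟩
    · exfalso
      have huC := hE'.EC u (fQ.VE' hu) hu1
      have h2 : Ac ι t v (u * 1) := by
        rw [h1]
        exact (F.yac huC).mul (F.ac e) (by rw [map_one, mul_one, one_mul])
      have h3 := Ac.inj F.toAmb h2 (Ac.one_iff.2 h)
      rw [mul_one] at h3
      exact hu1 h3
  have hle : ∀ q ∈ E ⊔ V, ι q ∈ MM ι y E E' := by
    have h1 : E ⊔ V ≤ (MM ι y E E').comap ι := by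
      rw [sup_le_iff]
      exact ⟨fun e he => star_le_MM (ι_mem_star he), fun v hv => VS_le_MM (hιV v hv)⟩
    exact fun q hq => h1 hq
  have hcen : ∀ m ∈ MM ι y E E', m * t = t * m → ∃ q ∈ E ⊔ V, m = ι q := by
    rintro _ ⟨m, hm, v, hv, rfl⟩ h
    obtain ⟨h1, h2⟩ := hsplit m hm v hv (htt' _ h)
    obtain ⟨e, he, h3⟩ := hE.star_cen F hm (htt _ h1)
    obtain ⟨f, hf, h4⟩ := hcenV v hv (htt _ h2)
    exact ⟨e * f, (E ⊔ V).mul_mem ((le_sup_left : E ≤ _) he) ((le_sup_right : V ≤ _) hf), by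
      rw [h3, h4, map_mul]⟩
  -- involutions of `t E*`
  have hinvE : ∀ m ∈ Star ι y E, t * m * (t * m) = 1 → ∃ n ∈ Star ι y E, n * t * n⁻¹ = t * m := by
    intro m hm h
    have h1 : t * m * t = m := by
      have h2 : t * m * t = m⁻¹ := by
        apply eq_inv_of_mul_eq_one_left
        calc t * m * t * m = t * m * (t * m) := by group
          _ = 1 := h
      rw [h2]
      exact inv_eq_of_mul_eq_one_left (hE.starSq F m hm)
    obtain ⟨e, he, h3⟩ := hE.star_cen F hm (htt _ h1)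
    by_cases he1 : e = 1
    · refine ⟨1, one_mem _, ?_⟩
      rw [h3, he1, map_one]; group
    · refine ⟨y e, y_mem_star he he1, ?_⟩
      rw [F.yt e (hE.EC e he he1), h3]
  have hMn : ∀ g, g ∈ normalizer (Star ι y E : Set G) → g ∈ normalizer (Star ι y E' : Set G) →
      g ∈ normalizer (MM ι y E E' : Set G) := by
    intro g h1 h2
    apply mem_normalizer_fintype
    rintro _ ⟨m, hm, v, hv, rfl⟩
    refine ⟨g * m * g⁻¹, (mem_normalizer_iff.1 h1 m).1 hm, g * v * g⁻¹,
      ⟨(mem_normalizer_iff.1 h2 v).1 hv.1, Subgroup.mul_mem _ (Subgroup.mul_mem _ h1 hv.2)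
        (Subgroup.inv_mem _ h1)⟩, by group⟩
  -- `y_w` normalises `E'*`
  have hyw' : ∀ {k w : X}, w ∈ Cl z → (∀ x, x ∈ E' ↔ k * x * k⁻¹ ∈ E) → k * w * k⁻¹ = r * s →
      y w ∈ normalizer (Star ι y E' : Set G) := by
    intro k w hw hk hkw
    apply mem_normalizer_fintype
    intro m hm
    have h1 : ι k * m * (ι k)⁻¹ ∈ Star ι y E := hE'.star_map F (fun e he => (hk e).1 he) hm
    have h2 := hE.rs_conj F fQ.tvr fQ.tvs fQ.rs fQ.rsC fQ.dcrs _ h1
    have h3 := hE.star_map F (E := E') (k := k⁻¹) (fun e he => (hk _).2 (by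
      have e1 : k * (k⁻¹ * e * k⁻¹⁻¹) * k⁻¹ = e := by group
      rw [e1]; exact he)) h2
    have h4 : y (r * s) = ι k * y w * (ι k)⁻¹ := by rw [← hkw, F.yeq w hw]
    have h5 : ι k⁻¹ * (y (r * s) * (ι k * m * (ι k)⁻¹) * (y (r * s))⁻¹) * (ι k⁻¹)⁻¹ =
        y w * m * (y w)⁻¹ := by
      rw [h4, map_inv]; group
    rwa [h5] at h3
  refine ⟨?_, hcen, hle, ?_, ?_, ?_, ?_⟩
  · exact hMn t (hE.t_mem_nor F) (hE'.t_mem_nor F)
  · rintro _ ⟨m, hm, v, hv, rfl⟩ h
    have h1 : t * v * t * v = 1 := by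
      have h2 : (t * m * t) * ((t * v * t) * m * (t * v * t)⁻¹) * (t * v * t * v) = 1 := by
        calc (t * m * t) * ((t * v * t) * m * (t * v * t)⁻¹) * (t * v * t * v)
            = t * m * (t * t) * v * t * m * v := by group
          _ = t * (m * v) * (t * (m * v)) := by rw [F.tt]; group
          _ = 1 := h
      have hv' := hVt v hv
      have h3 : (t * m * t) * ((t * v * t) * m * (t * v * t)⁻¹) ∈ Star ι y E :=
        mul_mem (hE.star_t F hm) ((mem_normalizer_iff.1 hv'.2 m).1 hm)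
      have h4 : t * v * t * v = ((t * m * t) * ((t * v * t) * m * (t * v * t)⁻¹))⁻¹ :=
        eq_inv_of_mul_eq_one_right h2
      apply hinter
      · rw [h4]; exact inv_mem h3
      · exact mul_mem hv'.1 hv.1
    have h2 : t * v * t = v := by
      rw [eq_inv_of_mul_eq_one_left h1]
      exact inv_eq_of_mul_eq_one_left (hE'.starSq F v hv.1)
    obtain ⟨f, hf, hfv⟩ := hcenV v hv (htt _ h2)
    by_cases hf1 : f = 1
    · rw [hfv, hf1, map_one, mul_one] at h ⊢
      obtain ⟨n, hn, h3⟩ := hinvE m hm h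
      exact ⟨n, star_le_MM hn, h3⟩
    · have hfC := hE'.EC f (fQ.VE' hf) hf1
      have hY := F.ysq f hfC
      have hYi := F.yinv hfC
      have hYV := hyV f hf hf1
      have hf2 : ι f * ι f = 1 := F.ιsq hfC
      have hfi : (ι f)⁻¹ = ι f := inv_eq_of_mul_eq_one_left hf2
      have hYf : y f * ι f = ι f * y f := (F.ycomm hfC rfl).symm
      have hYt : y f * t * y f = t * ι f := F.WtW hfC
      set m2 := ι f * (y f * m * (y f)⁻¹) * (ι f)⁻¹ with hm2
      have hm2S : m2 ∈ Star ι y E :=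
        hE.star_conj F (hV'E f hf) ((mem_normalizer_iff.1 hYV.2 m).1 hm)
      have h3 : y f * (t * (m * v)) * y f = t * m2 := by
        calc y f * (t * (m * v)) * y f = y f * t * 1 * m * v * y f := by group
          _ = y f * t * (y f * y f) * m * (ι f * y f) := by rw [hY, hfv]; group
          _ = (y f * t * y f) * (y f * m) * (y f * ι f) := by rw [← hYf]; group
          _ = t * (ι f * (y f * m * y f) * ι f) := by rw [hYt]; group
          _ = t * m2 := by rw [hm2, hYi, hfi]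
      have h4 : t * m2 * (t * m2) = 1 := by
        rw [← h3]
        calc y f * (t * (m * v)) * y f * (y f * (t * (m * v)) * y f)
            = y f * (t * (m * v)) * (y f * y f) * (t * (m * v)) * y f := by group
          _ = y f * (t * (m * v) * (t * (m * v))) * y f := by rw [hY]; group
          _ = 1 := by rw [h, mul_one, hY]
      obtain ⟨n, hn, h5⟩ := hinvE m2 hm2S h4
      refine ⟨y f * n, mul_mem (VS_le_MM hYV) (star_le_MM hn), ?_⟩
      calc y f * n * t * (y f * n)⁻¹ = y f * (n * t * n⁻¹) * (y f)⁻¹ := by group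
        _ = y f * (y f * (t * (m * v)) * y f) * y f := by rw [h5, ← h3, hYi]
        _ = (y f * y f) * (t * (m * v)) * (y f * y f) := by group
        _ = t * (m * v) := by rw [hY, one_mul, mul_one]
  · intro k
    constructor
    · intro hk q hq
      have h1 : ι k * ι q * (ι k)⁻¹ ∈ MM ι y E E' := (mem_normalizer_iff.1 hk _).1 (hle q hq)
      rw [← map_mul, ← map_inv, ← map_mul] at h1
      obtain ⟨q', hq', h2⟩ := hcen _ h1 (F.ct _)
      rw [F.inj h2]
      exact hq'
    · intro hk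
      have hkE := fQ.norQ k hk
      have hfin : Finite E := Nat.finite_of_card_ne_zero (by rw [fE.card]; norm_num)
      have hkN : k ∈ normalizer (E : Set X) := by
        have : Finite (E : Set X) := hfin
        exact mem_normalizer_fintype hkE
      apply mem_normalizer_fintype
      rintro _ ⟨m, hm, v, hv, rfl⟩
      have e1 : ι k * (m * v) * (ι k)⁻¹ = (ι k * m * (ι k)⁻¹) * (ι k * v * (ι k)⁻¹) := by group
      rw [e1]
      refine mul_mem (star_le_MM (hE.star_conj F hkE hm)) ?_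
      have hιk : ∀ e ∈ V, ι k * ι e * (ι k)⁻¹ ∈ MM ι y E E' := by
        intro e he
        rw [← map_mul, ← map_inv, ← map_mul]
        exact hle _ (hk e ((le_sup_right : V ≤ _) he))
      rcases hVS v hv with ⟨e, he, h1⟩ | ⟨u, hu, hu1, e, he, h1⟩
      · rw [h1]; exact hιk e he
      · have e2 : ι k * v * (ι k)⁻¹ = (ι k * y u * (ι k)⁻¹) * (ι k * ι e * (ι k)⁻¹) := by
          rw [h1]; group
        rw [e2]
        refine mul_mem ?_ (hιk e he)
        have huC := hE'.EC u (fQ.VE' hu) hu1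
        rw [← F.yeq u huC]
        set c := k * u * k⁻¹ with hc
        have hcC : c ∈ Cl z := Cl_conj huC k
        have hcQ : c ∈ E ⊔ V := hk u ((le_sup_right : V ≤ _) hu)
        have hcE : c ∉ E := fun h => hu1 (fQ.inf u hu ((mem_normalizer_iff.1 hkN u).2 h))
        obtain ⟨e0, he0, h2⟩ := fQ.conjV c hcQ hcC hcE
        have hv2 : e0 * c * e0⁻¹ ≠ 1 := fun h3 => F.ne1 hcC (by
          rw [mul_inv_eq_one] at h3
          exact mul_eq_left.1 h3)
        have h3 : y c = (ι e0)⁻¹ * y (e0 * c * e0⁻¹) * ι e0 := by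
          rw [F.yeq c hcC]; group
        rw [h3]
        have h4 := star_le_MM (E' := E') (y := y) (ι_mem_star (ι := ι) (y := y) he0)
        exact mul_mem (mul_mem (inv_mem h4) (VS_le_MM (hyV _ h2 hv2))) h4
  · exact hMn _ (mem_normalizer_fintype fun m hm => hE.tv_conj F fQ.tvw m hm)
      (hyw' fQ.tvw.wC hk₀ hk₀w)
  · exact hMn _ (mem_normalizer_fintype fun m hm => hE.tv_conj F fQ.tvw' m hm)
      (hyw' fQ.tvw'.wC hk₁ hk₁w)

end

end Cfsg.Agent.OddHalf.M24

end

-- merged: Cfsg.Agent.OddHalf.M24.StepOne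
section

/-!
# ODD half, D8, `K = M24`: Step 1 (helper502; text bb #10112)

`exists_fam`: the output `Out` of the front end, `Aut(X) = Inn(X)` and `FactsP` give the family `Fam`.
-/

set_option autoImplicit false

namespace Cfsg.Agent.OddHalf.M24.StepOne

open Subgroup Cfsg.Agent.OddHalf.D8.Front Cfsg.Agent.OddHalf.D8.GlueE

section Abstract

variable {X G : Type*} [Group X] [Group G] {ι : X →* G} {t : G} {z : X}

/-- the family from one member -/
theorem fam_of_one (h : Amb ι t) (zz : z * z = 1) (z1 : z ≠ 1) (tz : ∀ g, g * t * g⁻¹ ≠ ι z) {y : G}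
    (ysq : y * y = 1) (yt : y * t * y⁻¹ = t * ι z) (yc : ∀ c, c * z = z * c → y * ι c = ι c * y) :
    ∃ y : X → G, Fam ι t z y := by
  classical
  let f : X → G := fun u => if h : ∃ k, k * z * k⁻¹ = u then ι h.choose * y * (ι h.choose)⁻¹ else 1
  have hf : ∀ k, f (k * z * k⁻¹) = ι k * y * (ι k)⁻¹ := by
    intro k
    have h1 : ∃ k', k' * z * k'⁻¹ = k * z * k⁻¹ := ⟨k, rfl⟩
    have h2 : f (k * z * k⁻¹) = ι h1.choose * y * (ι h1.choose)⁻¹ := dif_pos h1
    rw [h2]
    have h3 := h1.choose_spec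
    set k' := h1.choose
    have h4 : (k⁻¹ * k') * z = z * (k⁻¹ * k') := by
      calc (k⁻¹ * k') * z = k⁻¹ * (k' * z * k'⁻¹) * k' := by group
        _ = k⁻¹ * (k * z * k⁻¹) * k' := by rw [h3]
        _ = z * (k⁻¹ * k') := by group
    have h5 := yc _ h4
    have h6 : ι k' = ι k * ι (k⁻¹ * k') := by rw [← map_mul]; congr 1; group
    rw [h6]
    calc ι k * ι (k⁻¹ * k') * y * (ι k * ι (k⁻¹ * k'))⁻¹
        = ι k * (ι (k⁻¹ * k') * y) * (ι (k⁻¹ * k'))⁻¹ * (ι k)⁻¹ := by group
      _ = ι k * (y * ι (k⁻¹ * k')) * (ι (k⁻¹ * k'))⁻¹ * (ι k)⁻¹ := by rw [h5]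
      _ = ι k * y * (ι k)⁻¹ := by group
  refine ⟨f, { h with zz := zz, z1 := z1, tz := tz, ysq := ?_, yt := ?_, yeq := ?_ }⟩
  · rintro _ ⟨k, rfl⟩
    rw [hf]
    calc ι k * y * (ι k)⁻¹ * (ι k * y * (ι k)⁻¹) = ι k * (y * y) * (ι k)⁻¹ := by group
      _ = 1 := by rw [ysq]; group
  · rintro _ ⟨k, rfl⟩
    rw [hf, map_mul, map_mul, map_inv]
    have h1 := h.ct k
    have h2 : (ι k)⁻¹ * t * ι k = t := by rw [mul_assoc, ← h1]; group
    calc ι k * y * (ι k)⁻¹ * t * (ι k * y * (ι k)⁻¹)⁻¹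
        = ι k * (y * ((ι k)⁻¹ * t * ι k) * y⁻¹) * (ι k)⁻¹ := by group
      _ = (ι k * t) * ι z * (ι k)⁻¹ := by rw [h2, yt]; group
      _ = t * (ι k * ι z * (ι k)⁻¹) := by rw [h1]; group
  · rintro _ ⟨k', rfl⟩ k
    have h1 : k * (k' * z * k'⁻¹) * k⁻¹ = (k * k') * z * (k * k')⁻¹ := by group
    rw [h1, hf, hf, map_mul]
    group

/-- **Step 1**: an involution `y` that centralises `ι(C_X(z))`, `t ↦ t z` under `y` -/
theorem exists_one (h : Amb ι t) {E E₂ : Subgroup X} (F : FactsP z E E₂) {x : G}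
    (xt : x * t * x⁻¹ = t * ι z) (xz : x * ι z * x⁻¹ = ι z)
    (xP : ∀ c, c * z = z * c → ∃ c', c' * z = z * c' ∧ x * ι c * x⁻¹ = ι c')
    (xP' : ∀ c, c * z = z * c → ∃ c', c' * z = z * c' ∧ x⁻¹ * ι c * x = ι c') :
    ∃ y : G, y * y = 1 ∧ y * t * y⁻¹ = t * ι z ∧ ∀ c, c * z = z * c → y * ι c = ι c * y := by
  have hzz : ι z * ι z = 1 := by rw [← map_mul, F.zz, map_one]
  have hz1 : ι z ≠ 1 := fun e => F.z1 (h.inj (by rw [e, map_one]))
  have hmem : ∀ {c : X}, c ∈ centralizer ({z} : Set X) ↔ c * z = z * c := mem_centralizer_singleton_iff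
  -- the automorphism `β`
  have fw : ∀ c : centralizer ({z} : Set X), ∃ c' : centralizer ({z} : Set X),
      x * ι (c : X) * x⁻¹ = ι (c' : X) := by
    intro c
    obtain ⟨c', h1, h2⟩ := xP c (hmem.1 c.2)
    exact ⟨⟨c', hmem.2 h1⟩, h2⟩
  have bw : ∀ c : centralizer ({z} : Set X), ∃ c' : centralizer ({z} : Set X),
      x⁻¹ * ι (c : X) * x = ι (c' : X) := by
    intro c
    obtain ⟨c', h1, h2⟩ := xP' c (hmem.1 c.2)
    exact ⟨⟨c', hmem.2 h1⟩, h2⟩
  choose f hf using fw
  choose f' hf' using bw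
  let β : MulAut (centralizer ({z} : Set X)) :=
    { toFun := f
      invFun := f'
      left_inv := by
        intro c
        apply Subtype.ext
        apply h.inj
        rw [← hf', ← hf]
        group
      right_inv := by
        intro c
        apply Subtype.ext
        apply h.inj
        rw [← hf, ← hf']
        group
      map_mul' := by
        intro c d
        apply Subtype.ext
        apply h.inj
        rw [← hf, Subgroup.coe_mul, Subgroup.coe_mul, map_mul, map_mul, ← hf, ← hf]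
        group }
  have hβ : ∀ c : centralizer ({z} : Set X), x * ι (c : X) * x⁻¹ = ι (β c : X) := hf
  -- `x⁻¹ t x = t z`
  have xt' : x⁻¹ * t * x = t * ι z := by
    calc x⁻¹ * t * x = x⁻¹ * (t * ι z * ι z) * x := by
          rw [mul_assoc t, hzz, mul_one]
      _ = x⁻¹ * ((x * t * x⁻¹) * (x * ι z * x⁻¹)) * x := by rw [xt, xz]
      _ = t * ι z := by group
  have xz' : x⁻¹ * ι z * x = ι z := by
    calc x⁻¹ * ι z * x = x⁻¹ * (x * ι z * x⁻¹) * x := by rw [xz]
      _ = ι z := by group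
  rcases F.autE β with hE | ⟨hE, hE'⟩
  · -- `β` is inner
    obtain ⟨p, hp⟩ := F.autI β hE
    have hpz : (p : X) * z = z * p := hmem.1 p.2
    have hpz' : (ι (p : X))⁻¹ * ι z * ι (p : X) = ι z := by
      rw [mul_assoc, ← map_mul, ← hpz, map_mul]; group
    have hpt : (ι (p : X))⁻¹ * t * ι (p : X) = t := by
      rw [mul_assoc, ← h.ct]; group
    set x' : G := (ι (p : X))⁻¹ * x with hx'
    have x't : x' * t * x'⁻¹ = t * ι z := by
      calc x' * t * x'⁻¹ = (ι (p : X))⁻¹ * (x * t * x⁻¹) * ι (p : X) := by rw [hx']; group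
        _ = ((ι (p : X))⁻¹ * t * ι (p : X)) * ((ι (p : X))⁻¹ * ι z * ι (p : X)) := by rw [xt]; group
        _ = t * ι z := by rw [hpt, hpz']
    have x'c : ∀ c, c * z = z * c → x' * ι c = ι c * x' := by
      intro c hc
      have h1 := hβ ⟨c, hmem.2 hc⟩
      rw [hp, MulAut.conj_apply, Subgroup.coe_mul, Subgroup.coe_mul, map_mul, map_mul,
        InvMemClass.coe_inv, map_inv] at h1
      calc x' * ι c = (ι (p : X))⁻¹ * (x * ι c * x⁻¹) * x := by rw [hx']; group
        _ = (ι (p : X))⁻¹ * (ι (p : X) * ι c * (ι (p : X))⁻¹) * x := by rw [h1]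
        _ = ι c * x' := by rw [hx']; group
    have x'z : x' * ι z * x'⁻¹ = ι z := by rw [x'c z rfl]; group
    have x'tz : x' * (t * ι z) * x'⁻¹ = t := by
      calc x' * (t * ι z) * x'⁻¹ = (x' * t * x'⁻¹) * (x' * ι z * x'⁻¹) := by group
        _ = t := by rw [x't, x'z, mul_assoc, hzz, mul_one]
    have h1 : (x' * x') * t = t * (x' * x') := by
      calc (x' * x') * t = x' * (x' * t * x'⁻¹) * x' := by group
        _ = (x' * (t * ι z) * x'⁻¹) * (x' * x') := by rw [x't]; group
        _ = t * (x' * x') := by rw [x'tz]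
    obtain ⟨w, hw⟩ := h.spl _ h1
    have hwc : ∀ c, c * z = z * c → c * w = w * c := by
      intro c hc
      have h2 : (x' * x') * ι c = ι c * (x' * x') := by
        calc (x' * x') * ι c = x' * (x' * ι c) := by group
          _ = (x' * ι c) * x' := by rw [x'c c hc]; exact (mul_assoc _ _ _).symm.trans (by rw [x'c c hc])
          _ = ι c * (x' * x') := by rw [x'c c hc]; group
      apply h.inj
      rw [map_mul, map_mul]
      rcases hw with hw | hw
      · rw [hw] at h2
        exact h2.symm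
      · rw [hw] at h2
        have h3 := h.ct c
        have h4 : t * (ι c * ι w) = t * (ι w * ι c) := by
          calc t * (ι c * ι w) = (ι c * t) * ι w := by rw [h3]; group
            _ = ι c * (t * ι w) := by group
            _ = t * ι w * ι c := h2.symm
            _ = t * (ι w * ι c) := by group
        exact mul_left_cancel h4
    have hwz := F.cP w (hwc z rfl).symm hwc
    have hcomm : x' * (x' * x') * x'⁻¹ = x' * x' := by group
    have htne : t * ι z ≠ t := fun e => hz1 (mul_left_cancel (by rw [e, mul_one]))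
    have key : x' * x' = 1 ∨ x' * x' = ι z := by
      rcases hw with hw | hw
      · rcases hwz with rfl | rfl
        · left; rw [hw, map_one]
        · right; exact hw
      · exfalso
        rcases hwz with rfl | rfl
        · rw [map_one, mul_one] at hw
          rw [hw, x't] at hcomm
          exact htne hcomm
        · rw [hw, x'tz] at hcomm
          exact htne hcomm.symm
    rcases key with key | key
    · exact ⟨x', key, x't, x'c⟩
    · refine ⟨t * x', ?_, ?_, ?_⟩
      · calc t * x' * (t * x') = t * (x' * t * x'⁻¹) * (x' * x') := by group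
          _ = (t * t) * (ι z * ι z) := by rw [x't, key]; group
          _ = 1 := by rw [h.tt, hzz, mul_one]
      · have h2 := h.ct z
        have h3 : t⁻¹ = t := inv_eq_of_mul_eq_one_left h.tt
        calc t * x' * t * (t * x')⁻¹ = t * (x' * t * x'⁻¹) * t⁻¹ := by group
          _ = t * (t * (ι z * t)) := by rw [x't, h3]; group
          _ = t * (t * t * ι z) := by rw [h2]; group
          _ = t * ι z := by rw [h.tt, one_mul]
      · intro c hc
        calc t * x' * ι c = t * (x' * ι c) := by group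
          _ = (t * ι c) * x' := by rw [x'c c hc]; group
          _ = ι c * (t * x') := by rw [← h.ct c]; group
  · -- `β` swaps `E`, `E₂`
    exfalso
    obtain ⟨b₀, hb₀E, hb₀1, hb₀z⟩ := F.ex
    have hβ1 : ∀ c : centralizer ({z} : Set X), (β c : X) = 1 → (c : X) = 1 := by
      intro c hc
      have h1 : β c = 1 := Subtype.ext hc
      have h2 : c = 1 := β.injective (by rw [h1, map_one])
      rw [h2]; rfl
    have hβz' : β ⟨z, hmem.2 rfl⟩ = ⟨z, hmem.2 rfl⟩ := by
      apply Subtype.ext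
      apply h.inj
      rw [← hβ]
      exact xz
    have hβz : ∀ c : centralizer ({z} : Set X), (β c : X) = z → (c : X) = z := by
      intro c hc
      have h1 : β c = ⟨z, hmem.2 rfl⟩ := Subtype.ext hc
      have h2 : c = ⟨z, hmem.2 rfl⟩ := β.injective (by rw [h1, hβz'])
      rw [h2]
    let b₀' : centralizer ({z} : Set X) := ⟨b₀, hmem.2 (F.cE _ hb₀E)⟩
    let c := β b₀'
    let b := β c
    have hcE : (c : X) ∈ E₂ := hE b₀' hb₀E
    have hbE : (b : X) ∈ E := hE' c hcE
    have hc1 : (c : X) ≠ 1 := fun e => hb₀1 (hβ1 b₀' e)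
    have hcz : (c : X) ≠ z := fun e => hb₀z (hβz b₀' e)
    have hb1 : (b : X) ≠ 1 := fun e => hc1 (hβ1 c e)
    have hbz : (b : X) ≠ z := fun e => hcz (hβz c e)
    have hbE₂ : ((β b : centralizer ({z} : Set X)) : X) ∈ E₂ := hE b hbE
    have hxc : x * ι (c : X) * x⁻¹ = ι (b : X) := hβ c
    have hxb : x * ι (b : X) * x⁻¹ = ι (β b : X) := hβ b
    obtain ⟨k₂, hk₂z, hk₂c⟩ := F.rot₂ _ hcE hc1 hcz
    obtain ⟨k, hkz, hkb⟩ := F.rot _ hbE hb1 hbz
    have hbcz : (b : X) * z = z * b := F.cE _ hbE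
    -- images in `G`
    set Z := ι z with hZ
    set B := ι (b : X) with hB
    set C := ι (c : X) with hC
    set A := ι k with hA
    set A₂ := ι k₂ with hA₂
    have BZ : B * Z = Z * B := by rw [hB, hZ, ← map_mul, hbcz, map_mul]
    have BB : B * B = 1 := by
      have h1 : (b : X) * b = 1 := by
        rw [← hkz]
        calc k * z * k⁻¹ * (k * z * k⁻¹) = k * (z * z) * k⁻¹ := by group
          _ = 1 := by rw [F.zz]; group
      rw [hB, ← map_mul, h1, map_one]
    have AZ : A * Z * A⁻¹ = B := by rw [hA, hZ, hB, ← hkz, map_mul, map_mul, map_inv]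
    have AB : A * B * A⁻¹ = Z * B := by
      rw [hA, hZ, hB, ← map_mul ι z, ← hkb, map_mul, map_mul, map_inv]
    have A₂Z : A₂ * Z * A₂⁻¹ = C := by rw [hA₂, hZ, hC, ← hk₂z, map_mul, map_mul, map_inv]
    have A₂C : A₂ * C * A₂⁻¹ = Z * C := by
      rw [hA₂, hZ, hC, ← map_mul ι z, ← hk₂c, map_mul, map_mul, map_inv]
    have At : A * t * A⁻¹ = t := by rw [hA, h.ct, mul_inv_cancel_right]
    have A₂t : A₂ * t * A₂⁻¹ = t := by rw [hA₂, h.ct, mul_inv_cancel_right]
    have xZB : x * (Z * C) * x⁻¹ = Z * B := by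
      calc x * (Z * C) * x⁻¹ = (x * Z * x⁻¹) * (x * C * x⁻¹) := by group
        _ = Z * B := by rw [xz, hxc]
    -- `H = x A₂ x⁻¹`
    set H : G := x * A₂ * x⁻¹ with hH
    have HZ : H * Z * H⁻¹ = B := by
      calc H * Z * H⁻¹ = x * (A₂ * (x⁻¹ * Z * x) * A₂⁻¹) * x⁻¹ := by rw [hH]; group
        _ = B := by rw [xz', A₂Z, hxc]
    have HB : H * B * H⁻¹ = Z * B := by
      calc H * B * H⁻¹ = H * (x * C * x⁻¹) * H⁻¹ := by rw [hxc]
        _ = x * (A₂ * C * A₂⁻¹) * x⁻¹ := by rw [hH]; group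
        _ = Z * B := by rw [A₂C, xZB]
    have Ht : H * t * H⁻¹ = t * (Z * B) := by
      calc H * t * H⁻¹ = x * (A₂ * (x⁻¹ * t * x) * A₂⁻¹) * x⁻¹ := by rw [hH]; group
        _ = x * ((A₂ * t * A₂⁻¹) * (A₂ * Z * A₂⁻¹)) * x⁻¹ := by rw [xt']; group
        _ = (x * t * x⁻¹) * (x * C * x⁻¹) := by rw [A₂t, A₂Z]; group
        _ = t * (Z * B) := by rw [xt, hxc]; group
    -- `A⁻¹`
    have A'B : A⁻¹ * B * A = Z := by rw [← AZ]; group
    have A'Z : A⁻¹ * Z * A = Z * B := by
      calc A⁻¹ * Z * A = A⁻¹ * (Z * B * B) * A := by rw [mul_assoc Z, BB, mul_one]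
        _ = A⁻¹ * ((A * B * A⁻¹) * (A * Z * A⁻¹)) * A := by rw [AB, AZ]
        _ = B * Z := by group
        _ = Z * B := BZ
    have A't : A⁻¹ * t * A = t := by rw [mul_assoc, hA, ← h.ct, inv_mul_cancel_left]
    -- `M' = H A⁻¹`
    have M'Z : (H * A⁻¹) * Z * (H * A⁻¹)⁻¹ = Z := by
      calc (H * A⁻¹) * Z * (H * A⁻¹)⁻¹ = H * (A⁻¹ * Z * A) * H⁻¹ := by group
        _ = (H * Z * H⁻¹) * (H * B * H⁻¹) := by rw [A'Z]; group
        _ = (B * Z) * B := by rw [HZ, HB]; group
        _ = Z * (B * B) := by rw [BZ]; group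
        _ = Z := by rw [BB, mul_one]
    have M'B : (H * A⁻¹) * B * (H * A⁻¹)⁻¹ = B := by
      calc (H * A⁻¹) * B * (H * A⁻¹)⁻¹ = H * (A⁻¹ * B * A) * H⁻¹ := by group
        _ = B := by rw [A'B, HZ]
    have M't : (H * A⁻¹) * t * (H * A⁻¹)⁻¹ = t * (Z * B) := by
      calc (H * A⁻¹) * t * (H * A⁻¹)⁻¹ = H * (A⁻¹ * t * A) * H⁻¹ := by group
        _ = t * (Z * B) := by rw [A't, Ht]
    -- `M = A M' A⁻¹`
    set M : G := A * (H * A⁻¹) * A⁻¹ with hM
    have Mt : M * t * M⁻¹ = t * Z := by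
      calc M * t * M⁻¹ = A * ((H * A⁻¹) * (A⁻¹ * t * A) * (H * A⁻¹)⁻¹) * A⁻¹ := by
            rw [hM]; simp only [mul_assoc, mul_inv_rev, inv_inv, inv_mul_cancel_left]
        _ = (A * t * A⁻¹) * ((A * Z * A⁻¹) * (A * B * A⁻¹)) := by rw [A't, M't]; group
        _ = t * ((B * Z) * B) := by rw [At, AZ, AB]; group
        _ = t * Z := by rw [BZ, mul_assoc Z, BB, mul_one]
    have MB : M * B * M⁻¹ = B := by
      calc M * B * M⁻¹ = A * ((H * A⁻¹) * (A⁻¹ * B * A) * (H * A⁻¹)⁻¹) * A⁻¹ := by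
            rw [hM]; simp only [mul_assoc, mul_inv_rev, inv_inv, inv_mul_cancel_left]
        _ = B := by rw [A'B, M'Z, AZ]
    have MZ : M * Z * M⁻¹ = Z := by
      calc M * Z * M⁻¹ = A * ((H * A⁻¹) * (A⁻¹ * Z * A) * (H * A⁻¹)⁻¹) * A⁻¹ := by
            rw [hM]; simp only [mul_assoc, mul_inv_rev, inv_inv, inv_mul_cancel_left]
        _ = A * (((H * A⁻¹) * Z * (H * A⁻¹)⁻¹) * ((H * A⁻¹) * B * (H * A⁻¹)⁻¹)) * A⁻¹ := by
            rw [A'Z]; group
        _ = (A * Z * A⁻¹) * (A * B * A⁻¹) := by rw [M'Z, M'B]; group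
        _ = (B * Z) * B := by rw [AZ, AB]; group
        _ = Z := by rw [BZ, mul_assoc, BB, mul_one]
    have M't2 : M⁻¹ * t * M = t * Z := by
      calc M⁻¹ * t * M = M⁻¹ * (t * Z * Z) * M := by rw [mul_assoc t, hzz, mul_one]
        _ = M⁻¹ * ((M * t * M⁻¹) * (M * Z * M⁻¹)) * M := by rw [Mt, MZ]
        _ = t * Z := by group
    have M'Z2 : M⁻¹ * Z * M = Z := by
      calc M⁻¹ * Z * M = M⁻¹ * (M * Z * M⁻¹) * M := by rw [MZ]
        _ = Z := by group
    have M'B2 : M⁻¹ * B * M = B := by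
      calc M⁻¹ * B * M = M⁻¹ * (M * B * M⁻¹) * M := by rw [MB]
        _ = B := by group
    -- `x M⁻¹` centralises `t` and `z`
    have Nt : (x * M⁻¹) * t = t * (x * M⁻¹) := by
      calc (x * M⁻¹) * t = x * (M⁻¹ * t * M) * M⁻¹ := by group
        _ = ((x * t * x⁻¹) * (x * Z * x⁻¹)) * (x * M⁻¹) := by rw [M't2]; group
        _ = t * (Z * Z) * (x * M⁻¹) := by rw [xt, xz]; group
        _ = t * (x * M⁻¹) := by rw [hzz, mul_one]
    have NZ : (x * M⁻¹) * Z = Z * (x * M⁻¹) := by
      calc (x * M⁻¹) * Z = x * (M⁻¹ * Z * M) * M⁻¹ := by group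
        _ = (x * Z * x⁻¹) * (x * M⁻¹) := by rw [M'Z2]; group
        _ = Z * (x * M⁻¹) := by rw [xz]
    have NB : (x * M⁻¹) * B * (x * M⁻¹)⁻¹ = ι (β b : X) := by
      calc (x * M⁻¹) * B * (x * M⁻¹)⁻¹ = x * (M⁻¹ * B * M) * x⁻¹ := by group
        _ = ι (β b : X) := by rw [M'B2, hxb]
    obtain ⟨p, hp⟩ := h.spl _ Nt
    have hpz : p * z = z * p := by
      apply h.inj
      rw [map_mul, map_mul]
      rcases hp with hp | hp
      · rw [hp] at NZ; exact NZ
      · rw [hp] at NZ
        have h3 := h.ct z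
        have h4 : t * (ι p * ι z) = t * (ι z * ι p) := by
          calc t * (ι p * ι z) = t * ι p * ι z := by group
            _ = ι z * (t * ι p) := NZ
            _ = (ι z * t) * ι p := by group
            _ = t * (ι z * ι p) := by rw [h3]; group
        exact mul_left_cancel h4
    have hpb : p * b * p⁻¹ = (β b : X) := by
      apply h.inj
      rw [map_mul, map_mul, map_inv, ← NB]
      rcases hp with hp | hp
      · rw [hp]
      · rw [hp]
        have h5 : t * (ι p * ι (b : X) * (ι p)⁻¹) = (ι p * ι (b : X) * (ι p)⁻¹) * t := by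
          have := h.ct (p * b * p⁻¹)
          rw [map_mul, map_mul, map_inv] at this
          exact this.symm
        calc ι p * ι (b : X) * (ι p)⁻¹ = (ι p * ι (b : X) * (ι p)⁻¹) * t * t⁻¹ := by group
          _ = t * (ι p * ι (b : X) * (ι p)⁻¹) * t⁻¹ := by rw [h5]
          _ = t * ι p * B * (t * ι p)⁻¹ := by rw [hB]; group
    have hfin := F.inf (β b : X) (by rw [← hpb]; exact F.nE p hpz _ hbE) hbE₂
    rcases hfin with e | e
    · exact hb1 (hβ1 b e)
    · exact hbz (hβz b e)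

end Abstract

section Main

universe u v

variable {X : Type v} {G : Type u} [Group X] [Group G] {K : Subgroup G} {t q : G} {z : X}

/-- all automorphisms of a group isomorphic to `X` are inner -/
theorem inner_of_equiv {K : Type*} [Group K] (e : X ≃* K)
    (inn : ∀ α : MulAut X, ∃ k, α = MulAut.conj k) (α : MulAut K) : ∃ k, α = MulAut.conj k := by
  obtain ⟨k, hk⟩ := inn ((e.trans α).trans e.symm)
  refine ⟨e k, ?_⟩
  ext y
  have h1 := congrArg (fun f : MulAut X => f (e.symm y)) hk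
  have h2 : e.symm (α (e (e.symm y))) = k * e.symm y * k⁻¹ := h1
  rw [e.apply_symm_apply] at h2
  have h3 := congrArg e h2
  rw [e.apply_symm_apply] at h3
  rw [h3]
  simp only [_root_.map_mul, _root_.MulEquiv.apply_symm_apply, _root_.map_inv, _root_.MulAut.conj_apply]

/-- `C_G(t) = ⟨t⟩ × K` -/
theorem amb_of_start (st : Front.FE.Start K t q) (Q2 : ∀ y ∈ zpowers q, y = 1 ∨ y = t) (e : X ≃* K)
    (inn : ∀ α : MulAut X, ∃ k, α = MulAut.conj k) : Amb (K.subtype.comp e.toMonoidHom) t where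
  inj := K.subtype_injective.comp e.injective
  tt := st.tt
  tι := by
    intro x h
    apply st.t1
    refine st.cen t ?_ fun y hy => st.Kt y hy
    rw [← h]
    exact (e x).2
  ct x := st.Kt _ (e x).2
  spl := by
    intro g hg
    obtain ⟨k, hk⟩ := inner_of_equiv e inn (K.normalizerMonoidHom ⟨g, st.nK g hg⟩)
    have h2 := exists_of_conj (st.nK g hg) hk
    have hkt := st.Kt (k : G) k.2
    have h3 : (k : G)⁻¹ * g ∈ zpowers q := by
      apply st.cK
      · have h4 := st.Kt (k : G)⁻¹ (K.inv_mem k.2)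
        calc (k : G)⁻¹ * g * t = (k : G)⁻¹ * (g * t) := by group
          _ = ((k : G)⁻¹ * t) * g := by rw [hg]; group
          _ = t * ((k : G)⁻¹ * g) := by rw [h4]; group
      · exact h2
    refine ⟨e.symm k, ?_⟩
    have h5 : (K.subtype.comp e.toMonoidHom) (e.symm k) = (k : G) := by
      show ((e (e.symm k) : K) : G) = k
      rw [e.apply_symm_apply]
    rw [h5]
    rcases Q2 _ h3 with h | h
    · left
      exact (inv_mul_eq_one.1 h).symm
    · right
      rw [← hkt, ← h]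
      group

/-- **Step 1** of the row `M24`. -/
theorem exists_fam {P : Subgroup K} {e : X ≃* K} (o : Out K t q (e z) P)
    (hP : ∀ x : K, x * e z = e z * x → x ∈ P) (inn : ∀ α : MulAut X, ∃ k, α = MulAut.conj k)
    {E E₂ : Subgroup X} (F : FactsP z E E₂) :
    ∃ y, Fam (K.subtype.comp e.toMonoidHom) t z y := by
  have hA := amb_of_start o.emb.st o.Q2 e inn
  set ι := K.subtype.comp e.toMonoidHom with hι
  have hιe : ∀ x, ι x = ((e x : K) : G) := fun _ => rfl
  obtain ⟨x, -, hxt, hxz⟩ := o.swap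
  have hmem : ∀ c, c * z = z * c → ι c ∈ P.map K.subtype := by
    intro c hc
    refine ⟨e c, hP _ ?_, rfl⟩
    rw [← map_mul, hc, map_mul]
  have hback : ∀ g, g ∈ P.map K.subtype → ∃ c', c' * z = z * c' ∧ g = ι c' := by
    rintro _ ⟨p, hp, rfl⟩
    refine ⟨e.symm p, ?_, ?_⟩
    · apply e.injective
      rw [map_mul, map_mul, e.apply_symm_apply]
      exact o.emb.sh.cen p hp
    · rw [hιe, e.apply_symm_apply]
      rfl
  obtain ⟨y, h1, h2, h3⟩ := exists_one hA F hxt hxz
    (fun c hc => hback _ ((o.emb.conj_P_swap hxt hxz).1 (hmem c hc)))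
    (fun c hc => hback _ ((o.emb.conj_P_swap hxt hxz).2 (by
      have e1 : x * (x⁻¹ * ι c * x) * x⁻¹ = ι c := by group
      rw [e1]
      exact hmem c hc)))
  exact fam_of_one hA F.zz F.z1 o.ne h1 h2 h3

end Main

end Cfsg.Agent.OddHalf.M24.StepOne

end

-- merged: Cfsg.Agent.OddHalf.M24.Row
section

/-!
# ODD half, D8: the row `K = M24` from the facts about the group `M24` (helper785)

`kill`: the sign kill (helper121) applied to the doubled group `Q* = E* V*`. `row_of`: the row.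
-/

set_option autoImplicit false

namespace Cfsg.Agent.OddHalf.M24

open Subgroup Cfsg Cfsg.Agent.OddHalf.D8 Cfsg.Agent.OddHalf.D8.Front Cfsg.Agent.OddHalf.D8.GlueE
  Cfsg.Agent.OddHalf.D8.Sheet Cfsg.Agent.OddHalf.Front.FE

universe u

/-- facts about `R/Q`, `R = N_X(Q)` -/
structure FactsL {X : Type*} [Group X] (Q : Subgroup X) : Prop where
  good : ∃ (L0 : Type) (_ : Group L0) (ρ : normalizer (Q : Set X) →* L0), Function.Surjective ρ ∧
    (∀ r, ρ r = 1 ↔ (r : X) ∈ Q) ∧ SignKill.GoodL L0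
  odd : Odd (normalizer (Q : Set X)).index

/-- facts about a Sylow 2-subgroup and `C_X(z)` -/
structure FactsS {X : Type*} [Group X] (z : X) : Prop where
  syl : ∃ S : Sylow 2 X, z ∈ S ∧ (∀ x ∈ S, x * z = z * x) ∧
    ∀ y ∈ S, (∀ x ∈ S, x * y = y * x) → y = 1 ∨ y = z
  perf : ⁅centralizer ({z} : Set X), centralizer ({z} : Set X)⁆ = centralizer ({z} : Set X)

/-- all facts about `M24` -/
structure All (X : Type*) [Group X] : Prop where
  ex : ∃ (z : X) (E E₂ E' V : Subgroup X) (r s w w' : X), FactsP z E E₂ ∧ FactsE z E ∧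
    FactsQ z E E' V r s w w' ∧ FactsL (E ⊔ V) ∧ FactsS z
  inn : ∀ α : MulAut X, ∃ k, α = MulAut.conj k

/-- **the kill** -/
theorem kill {X G : Type*} [Group X] [Group G] [Finite G] {ι : X →* G} {t : G} {z : X} {y : X → G}
    {E E' V : Subgroup X} {r s w w' : X} (F : Fam ι t z y) (fE : FactsE z E)
    (fQ : FactsQ z E E' V r s w w') (fL : FactsL (E ⊔ V)) : ∃ f : G →* ℤˣ, f t = -1 := by
  have hfin : Finite X := Finite.of_injective ι F.inj
  have B := big F fE fQ
  obtain ⟨L0, _, ρ, hρ, hker, hL⟩ := fL.good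
  have hnor : ∀ k : X, (∀ q ∈ E ⊔ V, k * q * k⁻¹ ∈ E ⊔ V) ↔
      k ∈ normalizer ((E ⊔ V : Subgroup X) : Set X) := by
    intro k
    exact ⟨fun h => mem_normalizer_fintype h, fun h q hq => (mem_normalizer_iff.1 h q).1 hq⟩
  have hwn : ∀ {w : X}, y w ∈ normalizer (MM ι y E E' : Set G) → w ∈ Cl z →
      w ∈ normalizer ((E ⊔ V : Subgroup X) : Set X) := by
    intro w hw hC
    rw [← hnor, ← B.nor]
    have h1 : ι w = t⁻¹ * (y w * t * (y w)⁻¹) := by rw [F.yt w hC]; group
    rw [h1]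
    exact mul_mem (inv_mem B.tM) (mul_mem (mul_mem hw B.tM) (inv_mem hw))
  have hwC := fQ.tvw.wC
  have hw'C := fQ.tvw'.wC
  refine SignKill.main ι F.inj t F.tt F.ct F.tι F.spl (MM ι y E E') (E ⊔ V)
    (normalizer ((E ⊔ V : Subgroup X) : Set X)) B.tM ?_ B.le ?_ ?_ ρ hρ hker hL fL.odd w w'
    (hwn B.yw hwC) (hwn B.yw' hw'C) (F.sq hwC) (F.sq hw'C) fQ.wQ fQ.w'Q fQ.ww'Q fQ.ww' ?_
    (y w) (y w') B.yw B.yw' (F.yt w hwC) (F.ycomm hwC rfl).symm (F.ycomm hwC fQ.ww'.symm).symm
    (F.yt w' hw'C) (F.ycomm hw'C fQ.ww').symm (F.ycomm hw'C rfl).symm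
  · intro m hm h
    obtain ⟨q, hq, e⟩ := B.cen m hm h
    exact ⟨q, hq, e.symm⟩
  · intro m hm h
    exact B.inv m hm h
  · intro k
    rw [B.nor, hnor]
  · intro h
    obtain ⟨g, hg⟩ := isConj_iff.1 h
    obtain ⟨k, hk⟩ := hwC
    apply F.tz ((ι k)⁻¹ * g)
    calc (ι k)⁻¹ * g * t * ((ι k)⁻¹ * g)⁻¹ = (ι k)⁻¹ * (g * t * g⁻¹) * ι k := by group
      _ = ι z := by rw [hg, ← hk, map_mul, map_mul, map_inv]; group

/-- **the row `K = M24`** from the facts -/
theorem row_of (h : All Cfsg.M24) : Rows.Row.{u} (fun K _ => Spor.IsoM24 K) := by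
  intro G _ C K S hcyc hK
  have hfin := C.fin
  obtain ⟨e'⟩ := hK
  set e : Cfsg.M24 ≃* K := e'.symm with he
  obtain ⟨⟨z, E, E₂, E', V, r, s, w, w', fP, fE, fQ, fL, fS⟩, inn⟩ := h
  -- automorphisms of `K` are inner
  have innK : ∀ α : MulAut K, ∃ k, α = MulAut.conj k := by
    intro α
    obtain ⟨k, hk⟩ := inn ((e.trans α).trans e.symm)
    refine ⟨e k, ?_⟩
    ext1 x
    have h1 := DFunLike.congr_fun hk (e.symm x)
    have h2 : e.symm (α (e (e.symm x))) = k * e.symm x * k⁻¹ := h1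
    rw [e.apply_symm_apply] at h2
    have h3 := congrArg e h2
    rw [e.apply_symm_apply, map_mul, map_mul, map_inv, e.apply_symm_apply] at h3
    rw [h3, MulAut.conj_apply]
  have hrange : (MulAut.conj : K →* MulAut K).range = ⊤ := by
    rw [eq_top_iff]
    intro α _
    obtain ⟨k, hk⟩ := innK α
    exact ⟨k, hk.symm⟩
  have hz1 : e z ≠ 1 := fun e1 => fP.z1 (e.injective (by rw [e1, map_one]))
  set P : Subgroup K := (centralizer ({z} : Set Cfsg.M24)).map e.toMonoidHom with hP
  have hPc : P = centralizer ({e z} : Set K) := (SheetMap.centralizer_map e z).symm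
  have hB : Basic (e z) P :=
    { zz := by rw [← map_mul, fP.zz, map_one]
      z1 := hz1
      syl := SheetMap.syl_map e fS.syl
      zP := ⟨z, mem_centralizer_singleton_iff.2 rfl, rfl⟩
      cen := by
        intro x hx
        rw [hPc] at hx
        exact mem_centralizer_singleton_iff.1 hx
      perf := by rw [hP, ← map_commutator, fS.perf]
      der := ⟨0, by rw [TR.dser_zero, hPc]⟩
      out := by rw [hrange, index_top]; norm_num
      schreier := ⟨0, by rw [hrange]; exact le_top⟩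
      sylAut := fun _ _ α _ _ => innK α }
  have hcen : center ↥K = ⊥ := by
    rw [eq_bot_iff]
    intro x hx
    rw [mem_bot]
    have hx' : ∀ p, p * e.symm x = e.symm x * p := by
      intro p
      have h1 := mem_center_iff.1 hx (e p)
      have h2 := congrArg e.symm h1
      rwa [map_mul, map_mul, e.symm_apply_apply] at h2
    rcases fP.cP (e.symm x) (hx' z).symm (fun p _ => hx' p) with h1 | h1
    · have h2 := congrArg e h1
      rwa [e.apply_symm_apply, map_one] at h2
    · exfalso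
      obtain ⟨b, hb, hb1, hbz⟩ := fP.ex
      obtain ⟨k, hk, -⟩ := fP.rot b hb hb1 hbz
      apply hbz
      rw [← hk, ← h1, hx' k, mul_inv_cancel_right]
  obtain ⟨t, q, st⟩ := exists_start C S hcyc hcen
  have hE : Emb K t q (e z) P := ⟨st, hB⟩
  have o : Out K t q (e z) P := MainE.out_of_emb C hE
  obtain ⟨y, F⟩ := StepOne.exists_fam o (fun x hx => by
    rw [hPc]; exact mem_centralizer_singleton_iff.2 hx) inn fP
  obtain ⟨f, hf⟩ := kill F fE fQ fL
  have h1 := TR.Frame.hom_eq_one (index_ne_two C) f t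
  rw [hf] at h1
  exact absurd h1 (by decide)

end Cfsg.Agent.OddHalf.M24

end

-- merged: Cfsg.Agent.OddHalf.M24.FactsPM24
section

/-!
# `FactsP` for `X = M24` (helper269)

`z = X15`, `E = E1 = ⟨X12, X13, X14, X15⟩`, `E₂ = E2 = ⟨X15, X25, X35, X45⟩`.
-/

set_option autoImplicit false

namespace Cfsg.Agent.OddHalf.M24.FactsPM24

open Cfsg Cfsg.Agent.SporadicRecognition.HeldModel Cfsg.Agent.Held.AffineIso
  Cfsg.Agent.KFacts.TwoSix.Aut Cfsg.Agent.KFacts.TwoSix.U Cfsg.Agent.KFacts.TwoSix.SheetDef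
  Cfsg.Agent.KFacts.TwoSix.Sheet Cfsg.Agent.KFacts.TwoSix.M24
open Cfsg.Agent.KFacts.M24Pair.Letters (xx weqb weq ev ev_cons ev_nil)
open Cfsg.Agent.KFacts.M24Two.CentZ (z E1 E2 C)

theorem conj_eq {k j i : ℕ} {w : List ℕ} (h : weqb [k, j] (w ++ [k]) = true) (hw : ev w = xx i) :
    xx k * xx j * (xx k)⁻¹ = xx i := by
  have h1 := weq h
  rw [KFacts.M24Pair.Letters.ev_append, hw, ev_cons, ev_cons, ev_cons, ev_nil, mul_one, mul_one] at h1
  rw [h1, mul_inv_cancel_right]

theorem rot_of {E : Subgroup M24} {P R : Subgroup M24} (h : Half z P R E) {b₀ k₀ : M24}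
    (hb : b₀ ∈ E) (h1 : b₀ ≠ 1) (hz : b₀ ≠ z) (hk : k₀ * z * k₀⁻¹ = b₀) (hk' : k₀ * b₀ * k₀⁻¹ = z * b₀)
    (hP : ∀ p ∈ P, p * z = z * p) (b : M24) (hbE : b ∈ E) (hb1 : b ≠ 1) (hbz : b ≠ z) :
    ∃ k, k * z * k⁻¹ = b ∧ k * b * k⁻¹ = z * b := by
  obtain ⟨p, hp, e⟩ := h.trans b₀ hb h1 hz b hbE hb1 hbz
  have hpz : p * z * p⁻¹ = z := by rw [hP p hp, mul_inv_cancel_right]
  have hpz' : p⁻¹ * z * p = z := by rw [mul_assoc, ← hP p hp, inv_mul_cancel_left]
  have e' : p⁻¹ * b * p = b₀ := by rw [← e]; group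
  refine ⟨p * k₀ * p⁻¹, ?_, ?_⟩
  · calc p * k₀ * p⁻¹ * z * (p * k₀ * p⁻¹)⁻¹ = p * (k₀ * (p⁻¹ * z * p) * k₀⁻¹) * p⁻¹ := by group
      _ = b := by rw [hpz', hk, e]
  · calc p * k₀ * p⁻¹ * b * (p * k₀ * p⁻¹)⁻¹ = p * (k₀ * (p⁻¹ * b * p) * k₀⁻¹) * p⁻¹ := by group
      _ = (p * z * p⁻¹) * (p * b₀ * p⁻¹) := by rw [e', hk']; group
      _ = z * b := by rw [hpz, e]

theorem xx_ne {i j : ℕ} (h : (List.range 24).any (fun a =>
    !(Nat.beq (SporadicA.GolayPerm.papp (SporadicStructure.M24El.prodW KFacts.M24Pair.Letters.gx [i]) a)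
      (SporadicA.GolayPerm.papp (SporadicStructure.M24El.prodW KFacts.M24Pair.Letters.gx [j]) a))) = true) :
    xx i ≠ xx j := by
  have h1 := KFacts.M24Pair.Letters.wne h
  rwa [ev_cons, ev_nil, mul_one, ev_cons, ev_nil, mul_one] at h1

/-- **the facts about `P = C(z)` for `M24`** -/
theorem factsP : FactsP z E1 E2 := by
  obtain ⟨f, hf, hx⟩ := exists_f
  have hS := sheet_of hf.inj
  rw [im_R1 hx, im_R2 hx, hf.map_zz] at hS
  have hr : ∀ {p : M24}, p ∈ f.range ↔ p * z = z * p := by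
    intro p
    rw [hf.range, Subgroup.mem_centralizer_singleton_iff]
  have hP : ∀ p ∈ f.range, p * z = z * p := fun p hp => hr.1 hp
  have hE1 : ∀ e ∈ E1, e * z = z * e := fun e he => hP e (hS.RP (hS.h1.ER he))
  have hE2 : ∀ e ∈ E2, e * z = z * e := fun e he => hP e (hS.RP (hS.h2.ER he))
  have m2 : xx 2 ∈ E1 := KFacts.M24Two.CentZ.xx_mem (by decide)
  have m6 : xx 6 ∈ E2 := KFacts.M24Two.CentZ.xx_mem (by decide)
  have n2 : xx 2 ≠ 1 := KFacts.M24Pair.Letters.X_ne_one (i := 1) (j := 4) (by norm_num)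
  have n6 : xx 6 ≠ 1 := KFacts.M24Pair.Letters.X_ne_one (i := 2) (j := 5) (by norm_num)
  have nz2 : xx 2 ≠ z := xx_ne (i := 2) (j := 3) (by decide +kernel)
  have nz6 : xx 6 ≠ z := xx_ne (i := 6) (j := 3) (by decide +kernel)
  have c14 : xx 14 * z * (xx 14)⁻¹ = xx 2 := conj_eq (k := 14) (j := 3) (w := [2]) (by decide +kernel)
    (by rw [ev_cons, ev_nil, mul_one])
  have c14' : xx 14 * xx 2 * (xx 14)⁻¹ = z * xx 2 := by
    have h1 := weq (u := [14, 2]) (v := [3, 2, 14]) (by decide +kernel)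
    simp only [ev_cons, ev_nil, mul_one] at h1
    rw [h1, ← mul_assoc, mul_inv_cancel_right]
    rfl
  have c12 : xx 12 * z * (xx 12)⁻¹ = xx 6 := conj_eq (k := 12) (j := 3) (w := [6]) (by decide +kernel)
    (by rw [ev_cons, ev_nil, mul_one])
  have c12' : xx 12 * xx 6 * (xx 12)⁻¹ = z * xx 6 := by
    have h1 := weq (u := [12, 6]) (v := [3, 6, 12]) (by decide +kernel)
    simp only [ev_cons, ev_nil, mul_one] at h1
    rw [h1, ← mul_assoc, mul_inv_cancel_right]
    rfl
  -- the isomorphism `CC ≃* C(z)`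
  let e : CC ≃* Subgroup.centralizer ({z} : Set M24) :=
    (MonoidHom.ofInjective hf.inj).trans (MulEquiv.subgroupCongr hf.range)
  have he : ∀ u : CC, ((e u : Subgroup.centralizer ({z} : Set M24)) : M24) = f u := fun _ => rfl
  have hm1 : ∀ u : CC, (f u ∈ E1 ↔ (u : L5) ∈ R1) := fun u => by rw [← im_R1 hx, f_mem_im hf.inj]
  have hm2 : ∀ u : CC, (f u ∈ E2 ↔ (u : L5) ∈ R2) := fun u => by rw [← im_R2 hx, f_mem_im hf.inj]
  let b (β : MulAut (Subgroup.centralizer ({z} : Set M24))) : CC ≃* CC := (e.trans β).trans e.symm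
  have hb : ∀ (β : MulAut (Subgroup.centralizer ({z} : Set M24))) (u : CC), e (b β u) = β (e u) :=
    fun β u => e.apply_symm_apply _
  have hfb : ∀ (β : MulAut (Subgroup.centralizer ({z} : Set M24))) (u : CC),
      f (b β u) = (β (e u) : Subgroup.centralizer ({z} : Set M24)) :=
    fun β u => congrArg Subtype.val (hb β u)
  refine ⟨KFacts.M24Two.CentZ.zz, KFacts.M24Two.CentZ.z_ne, hS.h1.zE, hS.h2.zE, ?_, hE1, hE2,
    fun p hp e he => hS.h1.norE p (hr.2 hp) e he, fun p hp e he => hS.h2.norE p (hr.2 hp) e he,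
    hS.inter, ⟨xx 2, m2, n2, nz2⟩, rot_of hS.h1 m2 n2 nz2 c14 c14' hP, rot_of hS.h2 m6 n6 nz6 c12 c12' hP,
    ?_, ?_⟩
  · intro c hc hcc
    apply hS.cR c (hr.2 hc)
    intro r hr'
    exact (hcc r (hP r (hS.RP hr'))).symm
  · intro β
    rcases aut_cases (b β) with h | h
    · left
      intro a ha
      obtain ⟨u, rfl⟩ := e.surjective a
      rw [← hfb, hm1]
      exact h u ((hm1 u).1 ha)
    · right
      obtain ⟨p, hp⟩ := aut_outer (b β) h
      refine ⟨?_, ?_⟩
      · intro a ha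
        obtain ⟨u, rfl⟩ := e.surjective a
        rw [← hfb, hm2]
        exact h u ((hm1 u).1 ha)
      · intro a ha
        obtain ⟨u, rfl⟩ := e.surjective a
        rw [← hfb, hm1, hp]
        have h2 : ((tauE u : CC) : L5) ∈ R1 := tau_mem_R1 ((hm2 u).1 ha)
        exact KFacts.TwoSix.Facts.norm_R1 p.2 h2
  · intro β h
    obtain ⟨p, hp⟩ := aut_inner (b β) (by
      intro u hu
      rw [← hm1, hfb]
      exact h (e u) ((hm1 u).2 hu))
    refine ⟨e p, ?_⟩
    ext1 a
    obtain ⟨u, rfl⟩ := e.surjective a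
    rw [← hb, hp, map_mul, map_mul, map_inv]
    rfl

end Cfsg.Agent.OddHalf.M24.FactsPM24

end

-- merged: Cfsg.Agent.KFacts.M24Two.Join
section

/-!
# The facts about the octad group in the notation of `KFacts/M24Pair/Sub`

`cl_eq_gen : CentZ.cl ls = Sub.gen ls`; `factsE : FactsE (xx 3) (Sub.gen [0, 1, 2, 3])`.
-/

set_option autoImplicit false

namespace Cfsg.Agent.KFacts.M24Two.Join

open Cfsg Cfsg.Agent.KFacts.M24Pair.Letters Cfsg.Agent.OddHalf.M24 Cfsg.Agent.KFacts.M24Pair

theorem factsE : FactsE (xx 3) (Sub.gen [0, 1, 2, 3]) := Octad.factsE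

end Cfsg.Agent.KFacts.M24Two.Join

end

-- merged: Cfsg.Agent.KFacts.M24Pair.Pairs
section

/-!
# Double centralizers `C_K(C_K(u, v))` of the fifteen pairs of root involutions of the sextet
  group of `K = M24`

`dc_ij_kl`: an element commuting with `C_K(X i j, X k l)` is one of the words of the list (numbers
  of letters as in
`Letters`: `12 13 14 15 23 24 25 34 35 45 = 0 … 9`).
-/

set_option autoImplicit false
set_option Elab.async false

namespace Cfsg.Agent.KFacts.M24Pair.Pairs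

open Cfsg Cfsg.Agent.KFacts.M24Pair.Cent Cfsg.Agent.KFacts.M24Pair.Letters

private noncomputable def _root_.Cfsg.Agent.LsF.fb6f244_12 : {f // @Cfsg.Agent.SporadicA.GolayPerm.pimg = f} := ⟨_, by first | (delta Cfsg.Agent.SporadicA.GolayPerm.pimg; rewrite [Cfsg.Agent.LsF.fb6f244_1.2, Cfsg.Agent.LsF.nmod_pat, Cfsg.Agent.LsF.nxor_pat, Cfsg.Agent.LsF.nshl_pat, Cfsg.Agent.LsF.nshr_pat]; exact rfl) | exact rfl⟩
private noncomputable def _root_.Cfsg.Agent.LsF.fb6f244_13 : {f // @Cfsg.Agent.SporadicA.GolayPerm.isPerm = f} := ⟨_, by first | (delta Cfsg.Agent.SporadicA.GolayPerm.isPerm; rewrite [Cfsg.Agent.LsF.fb6f244_12.2]; exact rfl) | exact rfl⟩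
private noncomputable def _root_.Cfsg.Agent.LsF.fb6f244_14 : {f // @Cfsg.Agent.SporadicA.GolayBase.enc = f} := ⟨_, by first | (delta Cfsg.Agent.SporadicA.GolayBase.enc; rewrite [Cfsg.Agent.LsF.nmul_pat, Cfsg.Agent.LsF.nmod_pat, Cfsg.Agent.LsF.nxor_pat, Cfsg.Agent.LsF.nshr_pat]; exact rfl) | exact rfl⟩
private noncomputable def _root_.Cfsg.Agent.LsF.fb6f244_15 : {f // @Cfsg.Agent.SporadicA.GolayBase.isCode = f} := ⟨_, by first | (delta Cfsg.Agent.SporadicA.GolayBase.isCode; rewrite [Cfsg.Agent.LsF.fb6f244_14.2]; exact rfl) | exact rfl⟩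
private noncomputable def _root_.Cfsg.Agent.LsF.fb6f244_16 : {f // @Cfsg.Agent.SporadicA.GolayPerm.isAut = f} := ⟨_, by first | (delta Cfsg.Agent.SporadicA.GolayPerm.isAut; rewrite [Cfsg.Agent.LsF.fb6f244_15.2, Cfsg.Agent.LsF.fb6f244_12.2, Cfsg.Agent.LsF.and_eq]; exact rfl) | exact rfl⟩
private noncomputable def _root_.Cfsg.Agent.LsF.fb6f244_17 : {f // @Cfsg.Agent.SporadicStructure.M24El.ok = f} := ⟨_, by first | (delta Cfsg.Agent.SporadicStructure.M24El.ok; rewrite [Cfsg.Agent.LsF.fb6f244_13.2, Cfsg.Agent.LsF.fb6f244_16.2, Cfsg.Agent.LsF.and_eq]; exact rfl) | exact rfl⟩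
private noncomputable def _root_.Cfsg.Agent.LsF.fb6f244_18 : {f // @Cfsg.Agent.KFacts.M24Pair.Cent.ap = f} := ⟨_, by first | (delta Cfsg.Agent.KFacts.M24Pair.Cent.ap; rewrite [Cfsg.Agent.LsF.fb6f244_1.2, Cfsg.Agent.LsF.foldr_eq, Cfsg.Agent.LsF.getD_eq]; exact rfl) | exact rfl⟩
private noncomputable def _root_.Cfsg.Agent.LsF.fb6f244_19 : {f // @Cfsg.Agent.KFacts.M24Pair.Cent.wdOk = f} := ⟨_, by first | (delta Cfsg.Agent.KFacts.M24Pair.Cent.wdOk; rewrite [Cfsg.Agent.LsF.fb6f244_18.2, Cfsg.Agent.LsF.and_eq, Cfsg.Agent.LsF.all_eq, Cfsg.Agent.LsF.range_eq, Cfsg.Agent.LsF.getD_eq, Cfsg.Agent.LsF.length_eq]; exact rfl) | exact rfl⟩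
private noncomputable def _root_.Cfsg.Agent.LsF.fb6f244_20 : {f // @Cfsg.Agent.KFacts.M24Pair.Cent.stOk = f} := ⟨_, by first | (delta Cfsg.Agent.KFacts.M24Pair.Cent.stOk; rewrite [Cfsg.Agent.LsF.fb6f244_18.2, Cfsg.Agent.LsF.and_eq, Cfsg.Agent.LsF.all_eq]; exact rfl) | exact rfl⟩
private noncomputable def _root_.Cfsg.Agent.LsF.fb6f244_21 : {f // @Cfsg.Agent.KFacts.M24Pair.Cent.search = f} := ⟨_, by first | (delta Cfsg.Agent.KFacts.M24Pair.Cent.search List.brecOn List.brecOn.go Cfsg.Agent.KFacts.M24Pair.Cent.search._f; rewrite [Cfsg.Agent.LsF.lappend_pat, Cfsg.Agent.LsF.all_eq]; (try delta Cfsg.Agent.KFacts.M24Pair.Cent.search.match_1); (try delta List.casesOn); first | dsimp -zeta only | exact rfl) | exact rfl⟩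
private noncomputable def _root_.Cfsg.Agent.LsF.fb6f244_22 : {f // @Cfsg.Agent.KFacts.M24Pair.Cent.build = f} := ⟨_, by first | (delta Cfsg.Agent.KFacts.M24Pair.Cent.build; rewrite [Cfsg.Agent.LsF.fb6f244_0.2, Cfsg.Agent.LsF.fb6f244_18.2, Cfsg.Agent.LsF.map_eq, Cfsg.Agent.LsF.getD_eq]; exact rfl) | exact rfl⟩
private noncomputable def _root_.Cfsg.Agent.LsF.fb6f244_23 : {f // @Cfsg.Agent.KFacts.M24Pair.Cent.test = f} := ⟨_, by first | (delta Cfsg.Agent.KFacts.M24Pair.Cent.test; rewrite [Cfsg.Agent.LsF.fb6f244_17.2, Cfsg.Agent.LsF.fb6f244_22.2, Cfsg.Agent.LsF.or_eq, Cfsg.Agent.LsF.not_eq, Cfsg.Agent.LsF.any_eq]; exact rfl) | exact rfl⟩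
private noncomputable def _root_.Cfsg.Agent.LsF.fb6f244_24 : {f // @Cfsg.Agent.KFacts.M24Pair.Cent.cand = f} := ⟨_, by first | (delta Cfsg.Agent.KFacts.M24Pair.Cent.cand; rewrite [Cfsg.Agent.LsF.fb6f244_18.2, Cfsg.Agent.LsF.all_eq, Cfsg.Agent.LsF.filter_eq, Cfsg.Agent.LsF.range_eq]; exact rfl) | exact rfl⟩
private noncomputable def _root_.Cfsg.Agent.LsF.fb6f244_25 : {f // @Cfsg.Agent.KFacts.M24Pair.Cent.chk = f} := ⟨_, by first | (delta Cfsg.Agent.KFacts.M24Pair.Cent.chk; rewrite [Cfsg.Agent.LsF.fb6f244_17.2, Cfsg.Agent.LsF.fb6f244_19.2, Cfsg.Agent.LsF.fb6f244_20.2, Cfsg.Agent.LsF.fb6f244_21.2, Cfsg.Agent.LsF.fb6f244_23.2, Cfsg.Agent.LsF.fb6f244_24.2, Cfsg.Agent.LsF.and_eq, Cfsg.Agent.LsF.all_eq, Cfsg.Agent.LsF.map_eq]; exact rfl) | exact rfl⟩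
/-- `|C_K(X24, X35)| = 128`, double centralizer of order 8 -/
theorem dc_24_35 (g : M24) (hg : ∀ c : M24, (∀ r ∈ [5, 8], c * xx r = xx r * c) → c * g = g * c) :
    ∃ w ∈ ([[], [5], [8], [5, 8], [2, 7, 3, 6], [2, 5, 7, 3, 6], [2, 7, 3, 6, 8], [2, 5, 7, 3, 6,
      8]] : List (List ℕ)), g = ev w :=
  dcent (rs := [5, 8])
    (cs := [966182495608011597979346698634378445, 594856635887919976957034139183789455,
      734318663824161615662852924535936001, 152776707554988253945882190966144205])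
    (data := [(0, [[1, 1], [0, 2, 0]]), (3, [[0], [1, 2]]), (9, [[0], [3, 1]]), (7, [[1, 0], [2,
      0]]), (8, [[3], [1, 0]])])
    (wd := [(0, []), (0, [2]), (0, [1, 0]), (1, []), (2, [3]), (0, [0, 0]), (0, [2, 1]), (3, []),
      (4, []), (2, []), (4, [2]), (3, [0, 0]), (0, [2, 0]), (0, [0]), (1, [2]), (0, [1]), (3,
      [0]), (1, [1]), (2, [1]), (2, [2]), (3, [1]), (4, [0]), (4, [1]), (1, [3])])
    (by ((try (rewrite [Cfsg.Agent.LsF.fb6f244_25.2, Cfsg.Agent.LsF.fb6f244_3.2, Cfsg.Agent.LsF.map_eq])); decide +kernel)) (by decide +kernel) g hg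

end Cfsg.Agent.KFacts.M24Pair.Pairs

end

-- merged: Cfsg.Agent.KFacts.M24Pair.FactsQ
section

/-!
# `FactsQ` for `X = Cfsg.M24`

`z = X15`, `E = ⟨X12, X13, X14, X15⟩`, `E' = ⟨X21, X23, X24, X25⟩`, `V = ⟨X23, X24, X25⟩`, `r = X24`, `s = X35`,
`w = X34`, `w' = X35` (letters of `M24Pair.Letters`).
-/

set_option autoImplicit false
set_option Elab.async false

namespace Cfsg.Agent.KFacts.M24Pair.FactsQ

open Cfsg Cfsg.Agent.SporadicA.GolayBase Cfsg.Agent.SporadicA.GolayPerm
open Cfsg.Agent.SporadicStructure.M24El Cfsg.Agent.KFacts.M24Pair.Cent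
open Cfsg.Agent.KFacts.M24Pair.Letters Cfsg.Agent.KFacts.M24Pair.Sub
open Cfsg.Agent.KFacts.M24Pair.TrioQ Cfsg.Agent.KFacts.M24Pair.Fix
open Cfsg.Agent.OddHalf.M24

/-! ### Transvections on `E` -/

/-- `Tv` without the elements `c` of (K3). -/
structure T0 {X : Type*} [Group X] (z : X) (E : Subgroup X) (w : X) : Prop where
  wC : w ∈ Cl z
  wE : w ∉ E
  nor : ∀ e ∈ E, w * e * w⁻¹ ∈ E
  tv : ∃ a ∈ E, a ≠ 1 ∧ w * a = a * w ∧ (∀ e ∈ E, w * e = e * w ∨ w * e * w⁻¹ = e * a) ∧
    ∃ e ∈ E, w * e * w⁻¹ = e * a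
  k3 : ∀ q, q * q = 1 → (∀ e ∈ E, w * e = e * w → q * e = e * q) → q * w = w * q ∨ q ∈ E

theorem T0.toTv {X : Type*} [Group X] {z : X} {E : Subgroup X} {w : X} (h : T0 z E w) :
    Tv z E w :=
  ⟨h.wC, h.wE, h.nor, h.tv, fun q h1 h2 _ => h.k3 q h1 h2⟩

theorem T0.conj {X : Type*} [Group X] {z : X} {E : Subgroup X} {w : X} (h : T0 z E w) {k : X}
    (hk : ∀ e ∈ E, k * e * k⁻¹ ∈ E) (hk' : ∀ e ∈ E, k⁻¹ * e * k ∈ E) :
    T0 z E (k * w * k⁻¹) where
  wC := by
    obtain ⟨c, hc⟩ := h.wC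
    exact ⟨k * c, by rw [← hc]; group⟩
  wE hE := h.wE (by
    have h1 := hk' _ hE
    have h2 : k⁻¹ * (k * w * k⁻¹) * k = w := by group
    rwa [h2] at h1)
  nor e he := by
    have h1 := hk _ (h.nor _ (hk' e he))
    have h2 : k * (w * (k⁻¹ * e * k) * w⁻¹) * k⁻¹ = k * w * k⁻¹ * e * (k * w * k⁻¹)⁻¹ := by group
    rwa [h2] at h1
  tv := by
    obtain ⟨a, ha, ha1, hwa, h1, e, he, hee⟩ := h.tv
    refine ⟨k * a * k⁻¹, hk a ha, ?_, ?_, ?_, k * e * k⁻¹, hk e he, ?_⟩
    · intro h2
      exact ha1 (by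
        have h3 : a = k⁻¹ * (k * a * k⁻¹) * k := by group
        rw [h3, h2]
        group)
    · have h2 : k * w * k⁻¹ * (k * a * k⁻¹) = k * (w * a) * k⁻¹ := by group
      rw [h2, hwa]
      group
    · intro e he
      rcases h1 _ (hk' e he) with h2 | h2
      · left
        have h3 : k * w * k⁻¹ * e = k * (w * (k⁻¹ * e * k)) * k⁻¹ := by group
        rw [h3, h2]
        group
      · right
        have h3 : k * w * k⁻¹ * e * (k * w * k⁻¹)⁻¹ = k * (w * (k⁻¹ * e * k) * w⁻¹) * k⁻¹ := by group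
        rw [h3, h2]
        group
    · have h3 : k * w * k⁻¹ * (k * e * k⁻¹) * (k * w * k⁻¹)⁻¹ = k * (w * e * w⁻¹) * k⁻¹ := by group
      rw [h3, hee]
      group
  k3 q hq hc := by
    have hq' : k⁻¹ * q * k * (k⁻¹ * q * k) = 1 := by
      have h1 : k⁻¹ * q * k * (k⁻¹ * q * k) = k⁻¹ * (q * q) * k := by group
      rw [h1, hq]
      group
    rcases h.k3 _ hq' (fun e he hwe => by
      have h1 : k * w * k⁻¹ * (k * e * k⁻¹) = k * e * k⁻¹ * (k * w * k⁻¹) := by
        have h2 : k * w * k⁻¹ * (k * e * k⁻¹) = k * (w * e) * k⁻¹ := by group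
        rw [h2, hwe]
        group
      have h3 := hc _ (hk e he) h1
      have h4 : k⁻¹ * q * k * e = k⁻¹ * (q * (k * e * k⁻¹)) * k := by group
      rw [h4, h3]
      group) with h1 | h1
    · left
      have h2 : q * (k * w * k⁻¹) = k * (k⁻¹ * q * k * w) * k⁻¹ := by group
      rw [h2, h1]
      group
    · right
      have h2 := hk _ h1
      have h3 : k * (k⁻¹ * q * k) * k⁻¹ = q := by group
      rwa [h3] at h2

theorem mem_Cl {g : M24} (h : IsConj (xx 3) g) : g ∈ Cl (xx 3) := isConj_iff.1 h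

theorem isConj_of_mem_Cl {g : M24} (h : g ∈ Cl (xx 3)) : IsConj (xx 3) g := isConj_iff.2 h

theorem xx_ne_one {k : ℕ} (hk : k < 18) : xx k ≠ 1 := by
  have key : ∀ k < 18, (List.range 24).any (fun i =>
      !(Nat.beq (papp (prodW gx [k]) i) (papp (prodW gx []) i))) = true := by decide +kernel
  have h := wne (key k hk)
  rwa [ev_cons, ev_nil, mul_one] at h

theorem tv5_tab : ∀ u ∈ subs [0,1,2,3],
    weqb (5 :: u) (u ++ [5]) = true ∨ weqb (5 :: u) (u ++ [2, 5]) = true := by
  decide +kernel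

theorem sq_tab : ∀ u ∈ subs [0,1,2,3], ∀ v ∈ subs [4,5,6], v = [] ∨ 0 ∉ u ∨
    Nat.beq (can (prodW gx (u ++ v ++ (u ++ v)))) (can (prodW gx [])) = false := by
  (refine of_decide_eq_true ?_; (try (rewrite [Cfsg.Agent.LsF.dMemE_pat, Cfsg.Agent.LsF.fb6f244_4.2, Cfsg.Agent.LsF.fb6f244_8.2, Cfsg.Agent.LsF.fb6f244_3.2, Cfsg.Agent.LsF.lappend_pat, Cfsg.Agent.LsF.instDecEq_eq, Cfsg.Agent.LsF.dOr_eq, Cfsg.Agent.LsF.dNot_eq, Cfsg.Agent.LsF.dBoolEq_eq, Cfsg.Agent.LsF.dBAll_eq, Cfsg.Agent.LsF.decide_eq])); decide +kernel)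

theorem V5_tab : ∀ v ∈ subs [4,5,6], weqb (v ++ [5]) (5 :: v) = true := by decide +kernel

theorem t0_X24 : T0 (xx 3) (gen [0,1,2,3]) (xx 5) where
  wC := mem_Cl (V_conj_z (xx_mem (by decide)) (xx_ne_one (by norm_num)))
  wE h := xx_ne_one (k := 5) (by norm_num) (eq_one_of_mem h (xx_mem (by decide)))
  nor e he := V_norm (xx_mem (by decide)) he
  tv := by
    refine ⟨xx 2, xx_mem (by decide), xx_ne_one (by norm_num), ?_, ?_, xx 0, xx_mem (by decide), ?_⟩
    · have h := weq (u := [5, 2]) (v := [2, 5]) (by decide +kernel)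
      simpa only [ev_cons, ev_nil, mul_one] using h
    · intro e he
      obtain ⟨u, hu, rfl⟩ := (mem_gen_iff clo_E e).1 he
      rcases tv5_tab u hu with h | h
      · left
        have h1 := weq h
        rwa [ev_append, ev_cons, ev_cons, ev_nil, mul_one] at h1
      · right
        have h1 := weq h
        rw [ev_append, ev_cons, ev_cons, ev_cons, ev_nil, mul_one] at h1
        rw [h1]
        group
    · have h := weq (u := [5, 0]) (v := [0, 2, 5]) (by decide +kernel)
      simp only [ev_cons, ev_nil, mul_one] at h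
      rw [h]
      group
  k3 q hq hc := by
    have hQ : q ∈ gen [0,1,2,3,4,5,6] := by
      apply mem_Q_of_comm
      intro a ha
      exact hc a (A_le_E ha) (A_comm ha (xx_mem (by decide))).symm
    obtain ⟨u, hu, v, hv, rfl⟩ := exists_words hQ
    rcases sq_tab u hu v hv with rfl | h | h
    · right
      rw [ev_nil, mul_one]
      exact ev_mem_E hu
    · left
      have hA : ev u ∈ gen [1,2,3] := by
        have h3 := mem_of_mem_subs hu
        refine ev_mem fun k hk => xx_mem ?_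
        have h4 := h3 k hk
        have h5 : k ≠ 0 := fun h' => h (h' ▸ hk)
        simp only [List.mem_cons, List.not_mem_nil, or_false] at h4 ⊢
        (clear * - h5 h4; tauto)
      have h1 := weq (V5_tab v hv)
      rw [ev_append, ev_cons, ev_cons, ev_nil, mul_one] at h1
      rw [mul_assoc, h1, ← mul_assoc, A_comm hA (xx_mem (ls := [0,1,2,3,4,5,6]) (by decide)),
        mul_assoc]
    · exfalso
      rw [← ev_append, ← ev_append, ← ev_nil, ← el_prodW_eq, ← el_prodW_eq] at hq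
      rw [can_eq_of_el (ok_prodW gx_ok _) (ok_prodW gx_ok _) hq, Nat.beq_refl] at h
      exact Bool.noConfusion h

/-- reversed inverse words in the letters `< 18` -/
def iv (u : List ℕ) : List ℕ :=
  (u.map fun k => if k = 12 then 13 else if k = 13 then 12 else if k = 14 then 15 else
    if k = 15 then 14 else k).reverse

/-- the elements of `N(E)` conjugating `X24` to the other transvections -/
def tabT : List (List ℕ × List ℕ) := [([4], [7, 11]), ([5], []), ([6], [15]), ([4, 5], [11]),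
  ([4, 6], [15, 11]), ([5, 6], [9]), ([4, 5, 6], [11, 9]), ([8], [15, 4, 10]), ([7], [4, 10])]

private noncomputable def _root_.Cfsg.Agent.LsF.fb6f244_26 : {f // @Cfsg.Agent.KFacts.M24Pair.TrioQ.nb = f} := ⟨_, by first | (delta Cfsg.Agent.KFacts.M24Pair.TrioQ.nb; rewrite [Cfsg.Agent.LsF.fb6f244_4.2, Cfsg.Agent.LsF.fb6f244_5.2, Cfsg.Agent.LsF.lappend_pat, Cfsg.Agent.LsF.all_eq, Cfsg.Agent.LsF.any_eq]; exact rfl) | exact rfl⟩
private noncomputable def _root_.Cfsg.Agent.LsF.fb6f244_27 : {f // @Cfsg.Agent.KFacts.M24Pair.FactsQ.iv = f} := ⟨_, by first | (delta Cfsg.Agent.KFacts.M24Pair.FactsQ.iv; rewrite [Cfsg.Agent.LsF.instDecEq_eq, Cfsg.Agent.LsF.map_eq, Cfsg.Agent.LsF.reverse_eq, Cfsg.Agent.LsF.ite_eq]; exact rfl) | exact rfl⟩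
theorem tabT_ok : ∀ p ∈ tabT, weqb (p.2 ++ [5]) (p.1 ++ p.2) = true ∧
    nb p.2 [0,1,2,3] [0,1,2,3] = true ∧ nb (iv p.2) [0,1,2,3] [0,1,2,3] = true ∧
      weqb (iv p.2 ++ p.2) [] = true := by
  (refine of_decide_eq_true ?_; (try (rewrite [Cfsg.Agent.LsF.fb6f244_5.2, Cfsg.Agent.LsF.fb6f244_26.2, Cfsg.Agent.LsF.fb6f244_27.2, Cfsg.Agent.LsF.lappend_pat, Cfsg.Agent.LsF.dAnd_eq, Cfsg.Agent.LsF.dBoolEq_eq, Cfsg.Agent.LsF.dBAll_eq, Cfsg.Agent.LsF.decide_eq])); decide +kernel)

theorem t0_of_tab {p : List ℕ × List ℕ} (hp : p ∈ tabT) : T0 (xx 3) (gen [0,1,2,3]) (ev p.1) := by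
  obtain ⟨h1, h2, h3, h4⟩ := tabT_ok p hp
  have h5 := weq h1
  rw [ev_append, ev_append, ev_cons, ev_nil, mul_one] at h5
  have h6 := weq h4
  rw [ev_append, ev_nil, mul_eq_one_iff_eq_inv] at h6
  have h7 : ev p.1 = ev p.2 * xx 5 * (ev p.2)⁻¹ := by rw [h5]; group
  rw [h7]
  refine t0_X24.conj (fun e he => conj_mem h2 he) fun e he => ?_
  have h8 := conj_mem h3 he
  rwa [h6, inv_inv] at h8

/-- `V# ` consists of transvections on `E`. -/
theorem t0_V {v : M24} (hv : v ∈ gen [4,5,6]) (h1 : v ≠ 1) : T0 (xx 3) (gen [0,1,2,3]) v := by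
  obtain ⟨u, hu, rfl⟩ := (mem_gen_iff clo_V v).1 hv
  have h : ∀ u ∈ subs [4,5,6], u = [] ∨ u ∈ tabT.map Prod.fst := by decide
  rcases h u hu with rfl | h2
  · exact absurd ev_nil h1
  · obtain ⟨p, hp, rfl⟩ := List.mem_map.1 h2
    exact t0_of_tab hp

theorem ev_single (k : ℕ) : ev [k] = xx k := by rw [ev_cons, ev_nil, mul_one]

theorem t0_X35 : T0 (xx 3) (gen [0,1,2,3]) (xx 8) := by
  have h := t0_of_tab (p := ([8], [15, 4, 10])) (by decide)
  rwa [ev_single] at h

theorem t0_X34 : T0 (xx 3) (gen [0,1,2,3]) (xx 7) := by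
  have h := t0_of_tab (p := ([7], [4, 10])) (by decide)
  rwa [ev_single] at h

/-! ### `FactsQ` -/

theorem EV_eq : gen [0,1,2,3] ⊔ gen [4,5,6] = gen [0,1,2,3,4,5,6] := by
  apply le_antisymm (sup_le E_le_Q V_le_Q)
  refine gen_le fun k hk => ?_
  have h : k ∈ [0,1,2,3] ∨ k ∈ [4,5,6] := by
    simp only [List.mem_cons, List.not_mem_nil, or_false] at hk ⊢
    omega
  rcases h with h | h
  · exact Subgroup.mem_sup_left (xx_mem h)
  · exact Subgroup.mem_sup_right (xx_mem h)

theorem notMem_Q_tab : ∀ u ∈ ([[7], [8], [7, 8]] : List (List ℕ)), ∀ w ∈ subs [0,1,2,3,4,5,6],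
    Nat.beq (can (prodW gx u)) (can (prodW gx w)) = false := by
  (refine of_decide_eq_true ?_; (try (rewrite [Cfsg.Agent.LsF.fb6f244_4.2, Cfsg.Agent.LsF.fb6f244_8.2, Cfsg.Agent.LsF.fb6f244_3.2, Cfsg.Agent.LsF.dBoolEq_eq, Cfsg.Agent.LsF.dBAll_eq, Cfsg.Agent.LsF.decide_eq])); decide +kernel)

theorem notMem_Q {u : List ℕ} (hu : u ∈ ([[7], [8], [7, 8]] : List (List ℕ))) :
    ev u ∉ gen [0,1,2,3,4,5,6] := by
  intro h
  obtain ⟨w, hw, h1⟩ := (mem_gen_iff clo_Q _).1 h
  have h2 := notMem_Q_tab u hu w hw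
  rw [← el_prodW_eq, ← el_prodW_eq] at h1
  rw [can_eq_of_el (ok_prodW gx_ok _) (ok_prodW gx_ok _) h1, Nat.beq_refl] at h2
  exact Bool.noConfusion h2

/-- Conjugations in both directions. -/
theorem conj_iff {u ls ls' : List ℕ} (h1 : nb u ls ls' = true) (h2 : nb (iv u) ls' ls = true)
    (h3 : weqb (iv u ++ u) [] = true) (x : M24) :
    x ∈ gen ls ↔ ev u * x * (ev u)⁻¹ ∈ gen ls' := by
  refine ⟨conj_mem h1, fun h => ?_⟩
  have h4 := conj_mem h2 h
  have h6 := weq h3
  rw [ev_append, ev_nil, mul_eq_one_iff_eq_inv] at h6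
  have h5 : ev (iv u) * (ev u * x * (ev u)⁻¹) * (ev (iv u))⁻¹ = x := by
    rw [h6]
    group
  rwa [h5] at h4

theorem B2_norm : ∀ k ∈ ([2,3,5,6,7,8] : List ℕ), nb [k] [0,1,2,3] [0,1,2,3] = true := by
  decide +kernel

/-- Words in letters normalising `E` normalise `E`. -/
theorem norm_of_word {w : List ℕ} (hw : ∀ k ∈ w, k ∈ ([2,3,5,6,7,8] : List ℕ)) :
    ∀ e ∈ gen [0,1,2,3], ev w * e * (ev w)⁻¹ ∈ gen [0,1,2,3] := by
  induction w with
  | nil =>
    intro e he
    rw [ev_nil]
    simpa only [_root_.one_mul, _root_.inv_one, _root_.mul_one] using he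
  | cons k w ih =>
    intro e he
    have h1 := ih (fun l hl => hw l (List.mem_cons_of_mem _ hl)) e he
    have h2 := conj_mem (B2_norm k (hw k List.mem_cons_self)) h1
    rw [ev_single] at h2
    rw [ev_cons]
    have h3 : xx k * ev w * e * (xx k * ev w)⁻¹ = xx k * (ev w * e * (ev w)⁻¹) * (xx k)⁻¹ := by
      group
    rwa [h3]

/-- **`FactsQ` for `M24`.** -/
theorem factsQ : FactsQ (xx 3) (gen [0,1,2,3]) (gen [16,4,5,6]) (gen [4,5,6]) (xx 5) (xx 8) (xx 7)
    (xx 8) where
  VE' := V_le_E'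
  norV e he h := norm_E' he h
  inf v hv hE := eq_one_of_mem hE hv
  tvV v hv h1 := (t0_V hv h1).toTv
  tvr := t0_X24.toTv
  tvs := t0_X35.toTv
  tvw := t0_X34.toTv
  tvw' := t0_X35.toTv
  rs := by
    have h := weq (u := [5, 8]) (v := [8, 5]) (by decide +kernel)
    simpa only [ev_cons, ev_nil, mul_one] using h
  rsC := by
    have h := weq (u := [16, 10, 12] ++ [3]) (v := [5, 8] ++ [16, 10, 12]) (by decide +kernel)
    rw [ev_append, ev_append, ev_single] at h
    refine ⟨ev [16, 10, 12], ?_⟩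
    rw [h, mul_inv_cancel_right, ev_cons, ev_single]
  dcrs x hx := by
    obtain ⟨w, hw, rfl⟩ := Pairs.dc_24_35 x (fun c hc => by
      have h5 := hc 5 (by decide)
      have h8 := hc 8 (by decide)
      exact (hx c h5 h8).symm)
    have h : ∀ w ∈ ([[], [5], [8], [5, 8], [2, 7, 3, 6], [2, 5, 7, 3, 6], [2, 7, 3, 6, 8],
        [2, 5, 7, 3, 6, 8]] : List (List ℕ)), ∀ k ∈ w, k ∈ ([2,3,5,6,7,8] : List ℕ) := by decide
    exact norm_of_word (h w hw)
  kw := ⟨ev [15, 4, 0, 17], conj_iff (by decide +kernel) (by decide +kernel) (by decide +kernel), by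
    have h := weq (u := [15, 4, 0, 17] ++ [7]) (v := [5, 8] ++ [15, 4, 0, 17]) (by decide +kernel)
    rw [ev_append, ev_append, ev_single] at h
    rw [h, mul_inv_cancel_right, ev_cons, ev_single]⟩
  kw' := ⟨ev [4, 0, 17], conj_iff (by decide +kernel) (by decide +kernel) (by decide +kernel), by
    have h := weq (u := [4, 0, 17] ++ [8]) (v := [5, 8] ++ [4, 0, 17]) (by decide +kernel)
    rw [ev_append, ev_append, ev_single] at h
    rw [h, mul_inv_cancel_right, ev_cons, ev_single]⟩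
  norQ k hk e he := by
    rw [EV_eq] at hk
    exact normQ_normE hk he
  conjV c hc hC hE := by
    rw [EV_eq] at hc
    exact fuse_Q hc hE (isConj_of_mem_Cl hC)
  ww' := by
    have h := weq (u := [7, 8]) (v := [8, 7]) (by decide +kernel)
    simpa only [ev_cons, ev_nil, mul_one] using h
  wQ := by
    rw [EV_eq, ← ev_single]
    exact notMem_Q (by decide)
  w'Q := by
    rw [EV_eq, ← ev_single]
    exact notMem_Q (by decide)
  ww'Q := by
    have h := notMem_Q (u := [7, 8]) (by decide)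
    rw [ev_cons, ev_single] at h
    rw [EV_eq]
    exact h

end Cfsg.Agent.KFacts.M24Pair.FactsQ

end

-- merged: Cfsg.Agent.KFacts.M24Pair.LGood
section

/-!
# `GoodL` for `N(Q) / Q = L3(2)` (ODD half, D8, `K = M24`, fact (F))

* `goodL_of_simple`: a simple group of order 168 is `GoodL`;
* `exists_rho`: `R = N(Q)`, `ρ : R → MulAut A` onto with kernel `Q`, `GoodL`, `|M24 : R|` odd.
-/

set_option autoImplicit false
set_option Elab.async false

namespace Cfsg.Agent.KFacts.M24Pair.LGood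

open Cfsg Subgroup Cfsg.Agent.OddHalf.D8
open Cfsg.Agent.KFacts.M24Pair.LQuot Cfsg.Agent.KFacts.M24Pair.Sub
open Cfsg.Agent.KFacts.M24Pair.Letters

theorem orderOf_two {L : Type*} [Group L] {a : L} (h : a * a = 1) (h1 : a ≠ 1) : orderOf a = 2 :=
  orderOf_eq_prime (by rw [pow_two, h]) h1

theorem orderOf_two_iff {L : Type*} [Group L] {a : L} : orderOf a = 2 ↔ a * a = 1 ∧ a ≠ 1 := by
  constructor
  · intro h
    refine ⟨by rw [← pow_two, ← h, pow_orderOf_eq_one], ?_⟩
    rintro rfl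
    rw [orderOf_one] at h
    omega
  · rintro ⟨h, h1⟩
    exact orderOf_two h h1

/-- A simple group of order 168. -/
theorem goodL_of_simple {L : Type*} [Group L] [IsSimpleGroup L] (h : Nat.card L = 168) :
    SignKill.GoodL L where
  perf f l := by
    have : Finite L := Nat.finite_of_card_ne_zero (by rw [h]; norm_num)
    rcases (inferInstance : f.ker.Normal).eq_bot_or_eq_top with h1 | h1
    · exfalso
      have h2 : Function.Injective f := (MonoidHom.ker_eq_bot_iff f).1 h1
      have h3 := Nat.card_le_card_of_injective f h2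
      have h4 : Nat.card ℤˣ = 2 := by rw [Nat.card_eq_fintype_card]; rfl
      omega
    · exact MonoidHom.mem_ker.1 (h1 ▸ mem_top l)
  inv := by
    have : Finite L := Nat.finite_of_card_ne_zero (by rw [h]; norm_num)
    have h1 := SmallSimple.Simple168Classes.card_orderOf_two h
    have h2 : Nat.card {l : L // l * l = 1 ∧ l ≠ 1} = Nat.card {l : L // orderOf l = 2} :=
      Nat.card_congr (Equiv.subtypeEquivRight fun l => orderOf_two_iff.symm)
    rw [h2, h1]
  conj a b ha ha1 hb hb1 := by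
    have : Finite L := Nat.finite_of_card_ne_zero (by rw [h]; norm_num)
    exact SmallSimple.Simple168Classes.isConj_of_orderOf_two h a b (orderOf_two ha ha1)
      (orderOf_two hb hb1)
  four a b ha ha1 hb hb1 hab hc := by
    have : Finite L := Nat.finite_of_card_ne_zero (by rw [h]; norm_num)
    have ia : a⁻¹ = a := inv_eq_of_mul_eq_one_left ha
    have ib : b⁻¹ = b := inv_eq_of_mul_eq_one_left hb
    let U : Subgroup L :=
      { carrier := {x | x = 1 ∨ x = a ∨ x = b ∨ x = a * b}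
        one_mem' := Or.inl rfl
        mul_mem' := by
          rintro x y (rfl | rfl | rfl | rfl) (rfl | rfl | rfl | rfl)
          · left; rw [mul_one]
          · right; left; rw [one_mul]
          · right; right; left; rw [one_mul]
          · right; right; right; rw [one_mul]
          · right; left; rw [mul_one]
          · left; exact ha
          · right; right; right; rfl
          · right; right; left; rw [← mul_assoc, ha, one_mul]
          · right; right; left; rw [mul_one]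
          · right; right; right; exact hc.symm
          · left; exact hb
          · right; left; rw [hc, ← mul_assoc, hb, one_mul]
          · right; right; right; rw [mul_one]
          · right; right; left; rw [mul_assoc, ← hc, ← mul_assoc, ha, one_mul]
          · right; left; rw [mul_assoc, hb, mul_one]
          · left
            calc a * b * (a * b) = a * (b * a) * b := by group
              _ = a * (a * b) * b := by rw [hc]
              _ = (a * a) * (b * b) := by group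
              _ = 1 := by rw [ha, hb, one_mul]
        inv_mem' := by
          rintro x (rfl | rfl | rfl | rfl)
          · left; rw [inv_one]
          · right; left; exact ia
          · right; right; left; exact ib
          · right; right; right; rw [mul_inv_rev, ia, ib, hc] }
    have haU : a ∈ U := Or.inr (Or.inl rfl)
    have hbU : b ∈ U := Or.inr (Or.inr (Or.inl rfl))
    have hab1 : a * b ≠ 1 := by
      intro h1
      apply hab
      rw [mul_eq_one_iff_eq_inv.1 h1, ib]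
    have habU : a * b ≠ a := fun h1 => hb1 (mul_eq_left.1 h1)
    have habU' : a * b ≠ b := fun h1 => ha1 (mul_eq_right.1 h1)
    have hcU : Nat.card U = 4 := by
      classical
      have h1 : (U : Set L) = (({1, a, b, a * b} : Finset L) : Set L) := by
        ext x
        simp only [Finset.coe_insert, Finset.coe_singleton, Set.mem_insert_iff,
          Set.mem_singleton_iff]
        rfl
      have h2 : Nat.card U = (U : Set L).ncard := rfl
      rw [h2, h1, Set.ncard_coe_finset]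
      rw [Finset.card_insert_of_notMem, Finset.card_insert_of_notMem, Finset.card_insert_of_notMem,
        Finset.card_singleton]
      · rw [Finset.mem_singleton]; exact fun h3 => habU' h3.symm
      · rw [Finset.mem_insert, Finset.mem_singleton]
        rintro (h3 | h3)
        · exact hab h3
        · exact habU h3.symm
      · rw [Finset.mem_insert, Finset.mem_insert, Finset.mem_singleton]
        rintro (h3 | h3 | h3)
        · exact ha1 h3.symm
        · exact hb1 h3.symm
        · exact hab1 h3.symm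
    have hK : IsKleinFour U := by
      refine ⟨hcU, ?_⟩
      have hsq : ∀ x : U, x ^ 2 = 1 := by
        rintro ⟨x, hx⟩
        apply Subtype.ext
        change x ^ 2 = 1
        rw [pow_two]
        rcases hx with rfl | rfl | rfl | rfl
        · rw [one_mul]
        · exact ha
        · exact hb
        · calc a * b * (a * b) = a * (b * a) * b := by group
            _ = a * (a * b) * b := by rw [hc]
            _ = (a * a) * (b * b) := by group
            _ = 1 := by rw [ha, hb, one_mul]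
      have hd : Monoid.exponent U ∣ 2 := Monoid.exponent_dvd_of_forall_pow_eq_one hsq
      rcases (Nat.dvd_prime Nat.prime_two).1 hd with h3 | h3
      · exfalso
        have h4 := Monoid.pow_exponent_eq_one (⟨a, haU⟩ : U)
        rw [h3, pow_one] at h4
        exact ha1 (congrArg Subtype.val h4)
      · exact h3
    refine ⟨normalizer (U : Set L), ?_, ?_, ?_⟩
    · rw [SmallSimple.Simple168Klein.card_normalizer h hK]
      norm_num
    · intro r hr
      have h1 : r * a * r⁻¹ ∈ U := (mem_normalizer_iff.1 hr a).1 haU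
      rcases h1 with h1 | h1
      · exact absurd (conj_eq_one_iff.1 h1) ha1
      · exact h1
    · intro r hr
      have h1 : r * b * r⁻¹ ∈ U := (mem_normalizer_iff.1 hr b).1 hbU
      rcases h1 with h1 | h1
      · exact absurd (conj_eq_one_iff.1 h1) hb1
      · exact h1
  n16 := by rw [h]; norm_num

/-- `|M24 : N(Q)|` is odd. -/
theorem odd_index : Odd N.index := by
  have h1 := N.card_mul_index
  have hM : Nat.card M24 = 244823040 := Cfsg.Agent.SporadicA.M24Trans.card_M24
  have h2 : Nat.card N = 128 * 168 := by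
    have h3 : Nat.card φ.ker * φ.ker.index = Nat.card N := φ.ker.card_mul_index
    have h4 : Nat.card φ.ker = 128 := by
      rw [ker_φ, ← card_Q]
      exact Nat.card_congr (subgroupOfEquivOfLe (le_normalizer (H := Q))).toEquiv
    have h5 : φ.ker.index = 168 := by
      rw [index_ker, range_φ, card_top]
      exact oct_A.card_aut
    rw [← h3, h4, h5]
  rw [h2, hM] at h1
  have h3 : N.index = 11385 := by omega
  rw [h3]
  decide

/-- **Fact (F).** -/
theorem exists_rho : SignKill.GoodL (MulAut A) ∧ Function.Surjective φ ∧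
    (∀ r : N, φ r = 1 ↔ (r : M24) ∈ Q) ∧ Odd N.index := by
  have := oct_A.simple_aut
  exact ⟨goodL_of_simple oct_A.card_aut, φ_surjective,
    fun r => (MonoidHom.mem_ker (f := φ)).symm.trans mem_ker, odd_index⟩

end Cfsg.Agent.KFacts.M24Pair.LGood

end

-- merged: Cfsg.Agent.OddHalf.M24.RowM24
section

/-!
# ODD half, D8: the row `K = M24` (helper785)

Facts by helper269 (`FactsP`), helper946 (`FactsE`, automorphisms), helper508 (`FactsQ`), helper138 (`FactsL`).
-/

set_option autoImplicit false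

namespace Cfsg.Agent.OddHalf.M24.RowM24

open Subgroup Cfsg Cfsg.Agent.KFacts.TwoSix.M24 Cfsg.Agent.KFacts.TwoSix.Sheet
open Cfsg.Agent.KFacts.M24Pair.Letters (xx)
open Cfsg.Agent.KFacts.M24Two.CentZ (z E1 E2 C)

universe u

theorem factsS : FactsS z := by
  refine ⟨?_, KFacts.M24Two.CentZ.C_perfect⟩
  obtain ⟨f, hf, hx⟩ := exists_f
  have hS := sheet_of hf.inj
  rw [im_R1 hx, im_R2 hx, hf.map_zz, hf.range] at hS
  have : Fact (Nat.Prime 2) := ⟨Nat.prime_two⟩
  set D : Subgroup M24 := centralizer ({z} : Set M24) with hD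
  obtain ⟨T⟩ : Nonempty (Sylow 2 D) := inferInstance
  set S0 : Subgroup M24 := (T : Subgroup D).map D.subtype with hS0
  have hle : S0 ≤ D := map_subtype_le _
  have hrel : ¬ 2 ∣ S0.relIndex D := by
    have h1 : S0.subgroupOf D = T := comap_map_eq_self_of_injective D.subtype_injective _
    rw [relIndex, h1]
    exact T.not_dvd_index
  have hcard : Nat.card D = 21504 := KFacts.M24Two.CentZ.card_C
  have hM : Nat.card M24 = 244823040 := Cfsg.Agent.SporadicA.M24Trans.card_M24
  have hidx : D.index = 11385 := by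
    have h1 := D.card_mul_index
    rw [hcard, hM] at h1
    omega
  have hindex : ¬ 2 ∣ S0.index := by
    rw [← relIndex_mul_index hle, Nat.Prime.dvd_mul Nat.prime_two, hidx]
    intro h
    rcases h with h | h
    · exact hrel h
    · omega
  have hp : IsPGroup 2 S0 := T.isPGroup'.map _
  have hSc : ∀ x ∈ S0, x * z = z * x := fun x hx => mem_centralizer_singleton_iff.1 (hle hx)
  have hcoe : ((hp.toSylow hindex : Sylow 2 M24) : Subgroup M24) = S0 := rfl
  have hmem : ∀ x, x ∈ hp.toSylow hindex ↔ x ∈ S0 := fun x => Iff.rfl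
  have hzS : z ∈ S0 := by
    have h1 : IsPGroup 2 ((zpowers z ⊔ S0 : Subgroup M24)) := by
      refine IsPGroup.to_sup_of_normal_right' (TR.Frame.isPGroup_zpowers KFacts.M24Two.CentZ.zz) hp ?_
      · rw [zpowers_le, mem_normalizer_iff]
        intro x
        have hz2 := KFacts.M24Two.CentZ.zz
        constructor
        · intro hx
          have : z * x * z⁻¹ = x := by rw [← hSc x hx, mul_inv_cancel_right]
          rwa [this]
        · intro hx
          have h3 := hSc _ hx
          have h4 : x = z * x * z⁻¹ := by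
            have h5 : z * x = z * (z * x * z⁻¹) := by rw [← h3]; group
            exact mul_left_cancel h5
          rwa [← h4] at hx
    have h2 := (hp.toSylow hindex).is_maximal' h1 le_sup_right
    have h3 : z ∈ zpowers z ⊔ S0 := (le_sup_left : zpowers z ≤ _) (mem_zpowers z)
    rw [h2] at h3
    exact h3
  refine ⟨hp.toSylow hindex, hzS, fun x hx => hSc x hx, fun y hy hc => ?_⟩
  exact hS.syl S0 hle hp hrel y (hle hy) fun s hs => (hc s hs).symm

theorem factsL : FactsL (KFacts.M24Pair.LQuot.E ⊔ KFacts.M24Pair.LQuot.V) := by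
  rw [KFacts.M24Pair.LQuot.E_sup_V]
  obtain ⟨h1, h2, h3, h4⟩ := KFacts.M24Pair.LGood.exists_rho
  exact ⟨⟨_, _, _, h2, h3, h1⟩, h4⟩

/-- **all facts about `M24`** -/
theorem all : All Cfsg.M24 where
  ex := ⟨_, _, _, _, _, _, _, _, _, FactsPM24.factsP, KFacts.M24Two.Join.factsE,
    KFacts.M24Pair.FactsQ.factsQ, factsL, factsS⟩
  inn := KFacts.M24Two.Out.exists_conj

/-- **the row `K = M24`** -/
theorem row : D8.Rows.Row.{u} (fun K _ => Spor.IsoM24 K) := row_of all

end Cfsg.Agent.OddHalf.M24.RowM24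

end
end
end

-- part: OddHalf/Quat/RowPSU
section
prune_inst 0x4343067046d2202000000051000002064200000000000000048e00502080982000d0208000a000400180280800004002001080010420000000a000000000501000001120690480000000008000000000000000000000000000000000000000000000000000
set_option linter.all false
open scoped Cfsg.Agent.FastGrp

/-!
# Node Q: `KBig` for `PSU n F q`, `n ≥ 3`, `q ≥ 4` even
-/

set_option autoImplicit false

namespace Cfsg.Agent.OddHalf.Quat.UniRow

open Cfsg Cfsg.Agent.LieClassical.HermBasic Cfsg.Agent.LieClassical.HermSiegel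
  Cfsg.Agent.LieClassical.HermGen Cfsg.Agent.LieClassical.SUBasic
  Cfsg.Agent.ClassicalGeometry.PSUAutBasic Cfsg.Agent.ClassicalGeometry.PSUAutSylow
  Cfsg.Agent.ClassicalGeometry.PSUAutUnip Cfsg.Agent.KFacts.Unit Cfsg.Agent.OddHalf.D7.Uni.Ex

open scoped commutatorElement

variable {F : Type*} [Field F] [Fintype F] [CharP F 2] {q n : ℕ}

/-- the centre of a Sylow 2-subgroup -/
theorem exists_center (hF : Fintype.card F = q ^ 2) (hn : 3 ≤ n) (T : Sylow 2 (PSU n F q)) :
    ∃ (u : Fin n → F) (_ : u ≠ 0) (hu : hermForm n F q u u = 0),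
      QQ hF u hu ≤ (T : Subgroup (PSU n F q)) ∧ ∀ x, x ∈ XZ (T : Subgroup (PSU n F q)) ↔ x ∈ RR hF u hu := by
  obtain ⟨S, hS⟩ := exists_sylow_lift 2 T
  obtain ⟨u, hu0, hu, hfix⟩ := Cfsg.Agent.ClassicalGeometry.PSUAutSylow.exists_fixed 2 hF (by omega) S.isPGroup'
  have hle := siegG_le_sylow 2 hF S hu hfix
  have hc := cent_sylow 2 hF hn S hu0 hu hfix
  rw [hS] at hc
  refine ⟨u, hu0, hu, by rw [← hS]; exact Subgroup.map_mono hle, fun x => ?_⟩
  have hm : x ∈ RR hF u hu ↔ x ∈ cent (T : Subgroup (PSU n F q)) := by rw [hc]; rfl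
  rw [hm]
  constructor
  · rintro ⟨h1, -, h3⟩
    exact ⟨h1, Subgroup.mem_centralizer_iff.mpr h3⟩
  · rintro ⟨h1, h3⟩
    refine ⟨h1, ?_, Subgroup.mem_centralizer_iff.mp h3⟩
    have hR : x ∈ RR hF u hu := hm.mpr ⟨h1, h3⟩
    obtain ⟨f, H⟩ := exists_hyp hF hu0 hu
    exact (heis hF hn H).X2 hR

omit [CharP F 2] in
/-- conjugation of a transvection by an element stabilising the point -/
theorem conj_tv (hF : Fintype.card F = q ^ 2) {u : Fin n → F} (hu : hermForm n F q u u = 0) {g : SU n F q} {c : F}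
    (hc : act g u = c • u) {μ : F} (hμ : μ + μ ^ q = 0) (hμ' : c * c ^ q * μ + (c * c ^ q * μ) ^ q = 0) :
    pr n F q g * pr n F q (transv hF u hu μ hμ) * (pr n F q g)⁻¹ =
      pr n F q (transv hF u hu (c * c ^ q * μ) hμ') := by
  rw [← map_inv, ← map_mul, ← map_mul]
  congr 1
  rw [transv, conj_siegel]
  apply ext_act
  intro v
  rw [act_siegel, act_transv, hc, act_zero, smul_zero, herm_zero_right hF, herm_smul_right]
  funext i
  simp only [Pi.add_apply, Pi.smul_apply, smul_eq_mul, Pi.zero_apply]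
  ring

omit [CharP F 2] in
theorem tv_ok (hF : Fintype.card F = q ^ 2) (c : F) {μ : F} (hμ : μ + μ ^ q = 0) :
    c * c ^ q * μ + (c * c ^ q * μ) ^ q = 0 := by
  rw [mul_pow, mul_pow, pow_q_pow_q hF]
  linear_combination (c * c ^ q) * hμ

theorem inv_conj_mem {K : Type*} [Group K] [Finite K] {R : Subgroup K} {g : K} (h : ∀ y ∈ R, g * y * g⁻¹ ∈ R) :
    ∀ y ∈ R, g⁻¹ * y * g ∈ R := by
  intro z hz
  have hmap : R.map (MulAut.conj g).toMonoidHom = R := by
    apply Subgroup.eq_of_le_of_card_ge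
    · rintro _ ⟨w, hw, rfl⟩; exact h w hw
    · rw [Nat.card_congr (R.equivMapOfInjective (MulAut.conj g).toMonoidHom (MulAut.conj g).injective).toEquiv]
  rw [← hmap] at hz
  obtain ⟨w, hw, rfl⟩ := hz
  change g⁻¹ * (g * w * g⁻¹) * g ∈ R
  have : g⁻¹ * (g * w * g⁻¹) * g = w := by group
  rw [this]; exact hw

omit [CharP F 2] in
theorem exists_theta (hF : Fintype.card F = q ^ 2) (hq : 4 ≤ q) : ∃ θ : F, θ ^ q = θ ∧ θ ≠ 0 ∧ θ ≠ 1 := by
  classical
  by_contra hcon
  push Not at hcon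
  have h := card_fixed (F := F) hF
  have hle : Nat.card {x : F // x ^ q = x} ≤ Nat.card Bool := by
    refine Nat.card_le_card_of_injective (fun x => decide (x.1 = 0)) ?_
    intro x y hxy
    simp only [decide_eq_decide] at hxy
    by_cases hx : x.1 = 0
    · exact Subtype.ext (hx.trans (hxy.mp hx).symm)
    · exact Subtype.ext ((hcon _ x.2 hx).trans (hcon _ y.2 (fun h => hx (hxy.mpr h))).symm)
  rw [h, Nat.card_eq_fintype_card, Fintype.card_bool] at hle
  omega

theorem tr (hF : Fintype.card F = q ^ 2) (hn : 3 ≤ n) (hq : 4 ≤ q) (T : Sylow 2 (PSU n F q)) :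
    Tr (T : Subgroup (PSU n F q)) := by
  obtain ⟨u, hu0, hu, -, hm⟩ := exists_center hF hn T
  refine Tr.of_center T hm ?_ ?_ ?_
  · obtain ⟨θ, hθ, h0, h1⟩ := exists_theta hF hq
    obtain ⟨f, H⟩ := exists_hyp hF hu0 hu
    have K := heis hF hn H
    have e1 : sig hF (1 : F) = 1 := map_one _
    have hθ' : sig hF θ = θ := hθ
    refine ⟨SS hF u f 0 1, K.mem_X e1, SS hF u f 0 θ, K.mem_X hθ', fun h => ?_, fun h => ?_, fun h => ?_⟩
    · exact one_ne_zero (K.inj _ _ (K.tr0 e1) h).2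
    · exact h0 (K.inj _ _ (K.tr0 hθ') h).2
    · exact h1 (K.eq_iff (K.tr0 e1) (K.tr0 hθ') h).2.symm
  · intro x hx y hy hx1 hy1
    obtain ⟨μ, hμ, rfl⟩ := mem_RR.1 hx
    obtain ⟨ν, hν, rfl⟩ := mem_RR.1 hy
    obtain ⟨f, H⟩ := exists_hyp hF hu0 hu
    have hμq := fixed_of_tr hμ
    have hνq := fixed_of_tr hν
    have hμ0 : μ ≠ 0 := by
      rintro rfl
      exact hx1 (by rw [transv, siegel_zero, map_one])
    have hν0 : ν ≠ 0 := by
      rintro rfl
      exact hy1 (by rw [transv, siegel_zero, map_one])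
    obtain ⟨b, hb, hbq⟩ := exists_sqrt q (c := ν / μ) (by rw [div_pow, hμq, hνq])
    have hb0 : b ≠ 0 := by
      rintro rfl
      rw [zero_pow two_ne_zero] at hb
      exact div_ne_zero hν0 hμ0 hb.symm
    have e : b ^ 2 * μ = ν := by rw [hb, div_mul_cancel₀ _ hμ0]
    have h1 := hyp_conj_transv hF H hb0 hbq hμ (by rw [e]; exact hν)
    refine ⟨pr n F q (hyp hF H b hb0 hbq), ?_⟩
    rw [← map_inv, ← map_mul, ← map_mul, h1]
    congr 2
  · intro g h hg hh y hy
    obtain ⟨g, rfl⟩ := pr_surjective g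
    obtain ⟨h, rfl⟩ := pr_surjective h
    have key : ∀ k : SU n F q, (∀ y ∈ RR hF u hu, pr n F q k * y * (pr n F q k)⁻¹ ∈ RR hF u hu) →
        ∃ c : F, act k u = c • u := by
      intro k hk
      have : NormRR hF u hu (pr n F q k) := by
        intro y
        refine ⟨inv_conj_mem hk y, fun hy => ?_⟩
        have := hk _ hy
        have e : pr n F q k * ((pr n F q k)⁻¹ * y * pr n F q k) * (pr n F q k)⁻¹ = y := by group
        rwa [e] at this
      obtain ⟨c, -, hc⟩ := (normRR_iff hF hn hu0 hu k).1 this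
      exact ⟨c, hc⟩
    obtain ⟨c, hc⟩ := key g hg
    obtain ⟨d, hd⟩ := key h hh
    obtain ⟨μ, hμ, rfl⟩ := mem_RR.1 hy
    rw [conj_tv hF hu hd hμ (tv_ok hF d hμ), conj_tv hF hu hc _ (tv_ok hF c (tv_ok hF d hμ)),
      conj_tv hF hu hc hμ (tv_ok hF c hμ), conj_tv hF hu hd _ (tv_ok hF d (tv_ok hF c hμ))]
    congr 1
    simp only [transv]
    exact siegel_congr hF _ _ rfl rfl (by ring)

omit [CharP F 2] in
theorem exists_NN (hF : Fintype.card F = q ^ 2) (hn : 3 ≤ n) (u f : Fin n → F) : ∃ w : NN q u f, w ≠ 0 := by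
  by_contra hcon
  push Not at hcon
  have hinj : Function.Injective fun v : Fin n → F => (hermForm n F q v u, hermForm n F q v f) := by
    intro v w hvw
    simp only [Prod.mk.injEq] at hvw
    have hm : v - w ∈ NN q u f := by
      refine ⟨?_, ?_⟩
      · change hermForm n F q (v - w) u = 0
        rw [sub_eq_add_neg, herm_add_left, ← neg_one_smul F w, herm_smul_left, hvw.1]; ring
      · change hermForm n F q (v - w) f = 0
        rw [sub_eq_add_neg, herm_add_left, ← neg_one_smul F w, herm_smul_left, hvw.2]; ring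
    have h := hcon ⟨v - w, hm⟩
    exact sub_eq_zero.mp (congrArg Subtype.val h)
  have h := Nat.card_le_card_of_injective _ hinj
  rw [Nat.card_prod, Nat.card_fun, Nat.card_eq_fintype_card (α := Fin n), Fintype.card_fin,
    Nat.card_eq_fintype_card, hF] at h
  have hq := two_le hF
  have h3 : (q ^ 2) ^ 3 ≤ (q ^ 2) ^ n := Nat.pow_le_pow_right (by positivity) hn
  have h4 : q ^ 2 * q ^ 2 < (q ^ 2) ^ 3 := by
    have h5 : 1 < q ^ 2 := by nlinarith
    calc q ^ 2 * q ^ 2 = (q ^ 2) ^ 2 := by ring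
      _ < (q ^ 2) ^ 3 := Nat.pow_lt_pow_right h5 (by norm_num)
  omega

omit [Fintype F] [CharP F 2] in
theorem heis_card {G N : Type*} [Group G] [AddCommGroup N] [Module F N] {σ : F →+* F} {B : N → N → F}
    {X Q : Subgroup G} {S : N → F → G} [Finite G] (H : Heis σ B X Q S) {w : N} (hw : w ≠ 0) :
    Nat.card F * Nat.card {a : F // σ a = a} ≤ Nat.card Q := by
  choose A hA using H.exists_S
  rw [← Nat.card_prod]
  have hok : ∀ (c : F) (ν : {a : F // σ a = a}), (A (c • w) + ν.1) + σ (A (c • w) + ν.1) = B (c • w) (c • w) := by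
    intro c ν
    rw [map_add, ν.2, ← hA (c • w)]
    linear_combination H.two ν.1
  refine Nat.card_le_card_of_injective (fun p => (⟨S (p.1 • w) (A (p.1 • w) + p.2.1), H.mem_Q (hok p.1 p.2)⟩ : Q)) ?_
  intro p r hpr
  have h := H.eq_iff (hok p.1 p.2) (hok r.1 r.2) (congrArg Subtype.val hpr)
  have h1 : p.1 = r.1 := by
    have h2 : (p.1 - r.1) • w = 0 := by rw [sub_smul, h.1, sub_self]
    exact sub_eq_zero.mp ((smul_eq_zero.mp h2).resolve_right hw)
  have h3 := h.2
  rw [h1, add_left_cancel_iff] at h3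
  exact Prod.ext h1 (Subtype.ext h3)

omit [CharP F 2] in
/-- the 2-part of the order of `PSU` -/
theorem dvd_card (hF : Fintype.card F = q ^ 2) (hn : 2 ≤ n) {a : ℕ} (hqa : q = 2 ^ a) (ha : 1 ≤ a) :
    2 ^ (a * (n * (n - 1) / 2)) ∣ Nat.card (PSU n F q) := by
  have h := Cfsg.Agent.S0280.result hF n hn
  have h1 : 2 ^ (a * (n * (n - 1) / 2)) ∣ Nat.gcd n (q + 1) * ((q + 1) * Nat.card (PSU n F q)) := by
    rw [h, hqa, ← pow_mul]; exact dvd_mul_right _ _
  have hodd : Odd (q + 1) := by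
    rw [hqa]; exact (Nat.even_pow.mpr ⟨even_two, by omega⟩).add_one
  have c1 : Nat.Coprime (2 ^ (a * (n * (n - 1) / 2))) (q + 1) := (Nat.coprime_two_left.mpr hodd).pow_left _
  have c2 : Nat.Coprime (2 ^ (a * (n * (n - 1) / 2))) (Nat.gcd n (q + 1)) :=
    c1.coprime_dvd_right (Nat.gcd_dvd_right _ _)
  exact c1.dvd_of_dvd_mul_left (c2.dvd_of_dvd_mul_left h1)

omit [Fintype F] [CharP F 2] in
theorem heis_semi {G N : Type*} [Group G] [AddCommGroup N] [Module F N] {σ : F →+* F} {B : N → N → F}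
    {X Q : Subgroup G} {S : N → F → G} (H : Heis σ B X Q S) {u : G} (hu : u ∈ Q) (huX : u ∉ X) {x : G} (hx : x ∈ X) :
    ∃ v ∈ Q, ⁅u, v⁆ = x := by
  obtain ⟨y, b, hb, rfl⟩ := (H.memQ u).1 hu
  obtain ⟨c, hc, rfl⟩ := (H.memX x).1 hx
  have hy : y ≠ 0 := by
    rintro rfl
    apply huX
    refine H.mem_X ?_
    rw [H.zero_left, add_eq_zero_iff_eq_neg, H.neg_eq] at hb
    exact hb.symm
  obtain ⟨w, hw⟩ := H.exists_one hy
  obtain ⟨d, hd⟩ := H.exists_tr hc
  obtain ⟨a1, ha1⟩ := H.exists_S (d • w)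
  refine ⟨S (d • w) a1, H.mem_Q ha1, ?_⟩
  rw [commutatorElement_def, H.comm ha1 hb, H.smul_left, hw, mul_one, hd]

/-- **the unitary groups** -/
theorem row {F : Type*} [Field F] [Fintype F] {q n a : ℕ} (hF : Fintype.card F = q ^ 2) (hn : 3 ≤ n) (hqa : q = 2 ^ a)
    (ha : 2 ≤ a) : ∃ U : Sylow 2 (PSU n F q), KBig (U : Subgroup (PSU n F q)) := by
  have hq4 : 4 ≤ q := by
    rw [hqa]; calc 4 = 2 ^ 2 := by norm_num
      _ ≤ 2 ^ a := Nat.pow_le_pow_right (by norm_num) ha
  have hc2 : CharP F 2 := by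
    obtain ⟨p, hp⟩ := CharP.exists F
    have : Fact p.Prime := ⟨CharP.char_is_prime F p⟩
    have h1 := prime_dvd_q (p := p) hF
    rw [hqa] at h1
    have h2 : p ∣ 2 := (CharP.char_is_prime F p).dvd_of_dvd_pow h1
    have h3 : p = 2 := (Nat.prime_dvd_prime_iff_eq (CharP.char_is_prime F p) Nat.prime_two).mp h2
    rw [← h3]; exact hp
  obtain ⟨T⟩ : Nonempty (Sylow 2 (PSU n F q)) := inferInstance
  have hT := tr hF hn hq4 T
  have hdv := T.pow_dvd_card_of_pow_dvd_card (dvd_card hF (by omega) hqa (by omega))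
  have hle := Nat.le_of_dvd Nat.card_pos hdv
  have h3 : 3 ≤ n * (n - 1) / 2 := by
    rw [Nat.le_div_iff_mul_le (by norm_num)]
    calc 3 * 2 = 3 * (3 - 1) := by norm_num
      _ ≤ n * (n - 1) := Nat.mul_le_mul hn (by omega)
  by_cases hsm : 7 ≤ a * (n * (n - 1) / 2)
  · refine ⟨T, KBig.of_trans T.isPGroup' (lt_of_lt_of_le ?_ hle) hT⟩
    calc 64 < 2 ^ 7 := by norm_num
      _ ≤ _ := Nat.pow_le_pow_right (by norm_num) hsm
  -- `n = 3`, `q = 4`
  push Not at hsm
  have ha2 : a = 2 := by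
    by_contra hne
    have : 3 * 3 ≤ a * (n * (n - 1) / 2) := Nat.mul_le_mul (by omega) h3
    omega
  have hn3 : n = 3 := by
    by_contra hne
    have h4 : 6 ≤ n * (n - 1) / 2 := by
      rw [Nat.le_div_iff_mul_le (by norm_num)]
      calc 6 * 2 = 4 * (4 - 1) := by norm_num
        _ ≤ n * (n - 1) := Nat.mul_le_mul (by omega) (by omega)
    have : 2 * 6 ≤ a * (n * (n - 1) / 2) := Nat.mul_le_mul ha h4
    omega
  subst hn3 ha2
  have hq : q = 4 := by rw [hqa]; norm_num
  subst hq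
  have hcard : Nat.card (PSU 3 F 4) = 64 * 975 := by
    have h := Cfsg.Agent.S0280.result hF 3 (by norm_num)
    norm_num [Finset.prod_range_succ, Nat.even_iff] at h
    omega
  have hTc : Nat.card (T : Subgroup (PSU 3 F 4)) = 64 := by
    obtain ⟨k, hk⟩ := IsPGroup.iff_card.mp T.isPGroup'
    have h1 : Nat.card (T : Subgroup (PSU 3 F 4)) ∣ 64 * 975 := by
      rw [← hcard]; exact Subgroup.card_subgroup_dvd_card _
    rw [hk] at h1
    have h2 : 2 ^ k ∣ 64 := by
      refine Nat.Coprime.dvd_of_dvd_mul_right (Nat.Coprime.pow_left k (by norm_num)) h1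
    have h3 : 64 ∣ 2 ^ k := by
      rw [← hk]
      have := hdv
      norm_num at this
      exact this
    rw [hk]; exact Nat.dvd_antisymm h2 h3
  obtain ⟨u, hu0, hu, hQT, hm⟩ := exists_center hF hn T
  obtain ⟨f, H⟩ := exists_hyp hF hu0 hu
  have K := heis hF hn H
  obtain ⟨w, hw⟩ := exists_NN hF hn u f
  have hfix : Nat.card {a : F // sig hF a = a} = 4 := card_fixed hF
  have hQc : 64 ≤ Nat.card (QQ hF u hu) := by
    have h := heis_card K hw
    rw [hfix, Nat.card_eq_fintype_card, hF] at h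
    exact h
  have hQT' : QQ hF u hu = (T : Subgroup (PSU 3 F 4)) :=
    Subgroup.eq_of_le_of_card_ge hQT (by rw [hTc]; exact hQc)
  refine ⟨T, KBig.of_semi hT ⟨?_, ?_⟩ ?_ hTc⟩
  · intro x hx y hy
    rw [← hQT'] at hx hy
    exact (hm _).mpr (K.QQ x hx y hy)
  · intro x hx hxX y hy
    have hx' : x ∈ QQ hF u hu := by rw [hQT']; exact hx
    obtain ⟨v, hv, e⟩ := heis_semi K hx' (fun h => hxX ((hm x).mpr h)) ((hm y).mp hy)
    exact ⟨v, by rw [← hQT']; exact hv, e⟩
  · have e : XZs (T : Subgroup (PSU 3 F 4)) = RR hF u hu := Subgroup.ext hm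
    rw [e]
    refine Eq.trans ?_ hfix
    refine (Nat.card_eq_of_bijective (fun a : {a : F // sig hF a = a} =>
      (⟨SS hF u f 0 a.1, K.mem_X a.2⟩ : RR hF u hu)) ⟨?_, ?_⟩).symm
    · intro a b hab
      exact Subtype.ext (K.eq_iff (K.tr0 a.2) (K.tr0 b.2) (congrArg Subtype.val hab)).2
    · rintro ⟨x, hx⟩
      obtain ⟨a, ha, rfl⟩ := (K.memX x).1 hx
      exact ⟨⟨a, ha⟩, rfl⟩

end Cfsg.Agent.OddHalf.Quat.UniRow
end

-- part: OddHalf/D5/Seven/Pattern
section
prune_inst 0x4302604482202000000050210003c06d2000100002b0000d9a00600078e5b210d002f20f4800b001900a2240034002001080059421000002a000200411d0080802a72868348a10426000980b803180c00000000000000000000000000041000000000000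
set_option linter.all false
open scoped Cfsg.Agent.FastGrp

-- merged: Cfsg.Agent.OddHalf.D5.Seven.Count
section

/-!
# ODD D5, `n = 7`: counting the conjugates of `t` in `C(t) = ⟨t⟩ × S₇` (helper905; text: bb ODD 9179, helper307)
-/

set_option autoImplicit false

namespace Cfsg.Agent.OddHalf.D5.Seven.Count

open Subgroup Equiv Cfsg Cfsg.Agent.OddHalf.D3

variable {G : Type*} [Group G] {t : G} {ι : S7 →* G}

/-! ### `C(t) = ℤˣ × S₇` -/

/-- the isomorphism `ℤˣ × S₇ → C(t)` -/
theorem exists_equiv (h : Spl t ι) :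
    ∃ E : ℤˣ × S7 ≃* centralizer ({t} : Set G), ∀ x, (E x : G) = (if x.1 = 1 then 1 else t) * ι x.2 := by
  classical
  have h1 : (-1 : ℤˣ) ≠ 1 := by decide
  have h2 : (-1 : ℤˣ) * -1 = 1 := by decide
  let f : ℤˣ × S7 →* G :=
    { toFun := fun x => (if x.1 = 1 then 1 else t) * ι x.2
      map_one' := by simp
      map_mul' := by
        rintro ⟨e, a⟩ ⟨e', b⟩
        rcases Int.units_eq_one_or e with he | he <;> rcases Int.units_eq_one_or e' with he' | he'
        · simp [he, he']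
        · simp only [he, he', Prod.mk_mul_mk, one_mul, if_neg h1, if_true, map_mul]
          rw [← mul_assoc, h.comm a, mul_assoc]
        · simp only [he, he', Prod.mk_mul_mk, one_mul, mul_one, if_neg h1, if_true, map_mul, mul_assoc]
        · simp only [he, he', Prod.mk_mul_mk, one_mul, if_neg h1, if_true, map_mul, h2]
          calc ι a * ι b = (t * t) * ι a * ι b := by rw [h.tt, one_mul]
            _ = t * (t * ι a) * ι b := by group
            _ = t * (ι a * t) * ι b := by rw [h.comm a]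
            _ = t * ι a * (t * ι b) := by group }
  have hf : ∀ x, f x = (if x.1 = 1 then 1 else t) * ι x.2 := fun _ => rfl
  have hmem : ∀ x, f x ∈ centralizer ({t} : Set G) := by
    rintro ⟨e, a⟩
    rw [mem_centralizer_singleton_iff, hf]
    rcases Int.units_eq_one_or e with he | he
    · simp only [he, if_true, one_mul]; exact h.comm' a
    · simp only [he, if_neg h1]
      rw [mul_assoc, ← h.comm a]
  let F : ℤˣ × S7 →* centralizer ({t} : Set G) := f.codRestrict _ hmem
  have hFc : ∀ x, (F x : G) = (if x.1 = 1 then 1 else t) * ι x.2 := fun _ => rfl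
  have hF : Function.Bijective F := by
    constructor
    · rintro ⟨e, a⟩ ⟨e', b⟩ hab
      have hab' : (F (e, a) : G) = F (e', b) := congrArg Subtype.val hab
      rw [hFc, hFc] at hab'
      rcases Int.units_eq_one_or e with he | he <;> rcases Int.units_eq_one_or e' with he' | he'
      · simp only [he, he', if_true, one_mul] at hab'
        rw [he, he', h.inj hab']
      · simp only [he, he', if_true, one_mul, if_neg h1] at hab'
        exact absurd hab' (h.tne _ _)
      · simp only [he, he', if_true, one_mul, if_neg h1] at hab'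
        exact absurd hab'.symm (h.tne _ _)
      · simp only [he, he', if_neg h1] at hab'
        rw [he, he', h.inj (mul_left_cancel hab')]
    · rintro ⟨x, hx⟩
      obtain ⟨a, ha | ha⟩ := h.cases (mem_centralizer_singleton_iff.1 hx)
      · refine ⟨(1, a), Subtype.ext ?_⟩
        rw [hFc, if_pos rfl, one_mul]
        exact ha.symm
      · refine ⟨(-1, a), Subtype.ext ?_⟩
        rw [hFc, if_neg h1]
        exact ha.symm
  exact ⟨MulEquiv.ofBijective F hF, hFc⟩

theorem card_cent (h : Spl t ι) : Nat.card (centralizer ({t} : Set G)) = 10080 := by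
  obtain ⟨E, -⟩ := exists_equiv h
  rw [← Nat.card_congr E.toEquiv, Nat.card_prod, Nat.card_perm, Nat.card_eq_fintype_card, Nat.card_fin]
  simp [Nat.factorial]

/-! ### Types -/

/-- `(4 5)` -/
def e1 : S7 := swap (4 : Fin 7) 5
/-- `(0 1)(2 3)` -/
def e2 : S7 := swap (0 : Fin 7) 1 * swap (2 : Fin 7) 3
/-- `(0 1)(2 3)(4 5)` -/
def e3 : S7 := swap (0 : Fin 7) 1 * swap (2 : Fin 7) 3 * swap (4 : Fin 7) 5

theorem ct1 : e1.cycleType = {2} := Perm.isSwap_iff_cycleType.1 ⟨4, 5, by decide, rfl⟩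

theorem ct2 : e2.cycleType = {2, 2} := by
  have hd : Perm.Disjoint (swap (0 : Fin 7) 1 : S7) (swap (2 : Fin 7) 3) := by
    rw [Perm.disjoint_iff_disjoint_support, Perm.support_swap (by decide), Perm.support_swap (by decide)]
    decide
  rw [e2, hd.cycleType_mul, Perm.isSwap_iff_cycleType.1 ⟨0, 1, by decide, rfl⟩,
    Perm.isSwap_iff_cycleType.1 ⟨2, 3, by decide, rfl⟩]
  rfl

theorem ct3 : e3.cycleType = {2, 2, 2} := by
  have hd : Perm.Disjoint (swap (0 : Fin 7) 1 * swap (2 : Fin 7) 3 : S7) (swap (4 : Fin 7) 5) := by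
    intro x
    revert x
    decide
  have h2 := ct2
  rw [e2] at h2
  rw [e3, hd.cycleType_mul, h2, Perm.isSwap_iff_cycleType.1 ⟨4, 5, by decide, rfl⟩]
  rfl

theorem card1 : (Finset.univ.filter (fun a : S7 => a.cycleType = {2})).card = 21 := by
  rw [Perm.card_of_cycleType]; simp [Nat.factorial]

theorem card2 : (Finset.univ.filter (fun a : S7 => a.cycleType = {2, 2})).card = 105 := by
  rw [Perm.card_of_cycleType]; simp [Nat.factorial]

theorem card3 : (Finset.univ.filter (fun a : S7 => a.cycleType = {2, 2, 2})).card = 105 := by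
  rw [Perm.card_of_cycleType]; simp [Nat.factorial]

theorem type_of_sq {a : S7} (ha : a * a = 1) :
    a = 1 ∨ a.cycleType = {2} ∨ a.cycleType = {2, 2} ∨ a.cycleType = {2, 2, 2} := by
  by_cases ha1 : a = 1
  · exact Or.inl ha1
  right
  have ho : orderOf a = 2 := orderOf_eq_prime (by rw [pow_two, ha]) ha1
  obtain ⟨n, hn⟩ := Perm.cycleType_prime_order (σ := a) (by rw [ho]; exact Nat.prime_two)
  rw [ho] at hn
  have h7 := Perm.sum_cycleType_le a
  rw [hn] at h7
  simp only [Multiset.sum_replicate, smul_eq_mul, Fintype.card_fin] at h7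
  have h012 : n = 0 ∨ n = 1 ∨ n = 2 := by omega
  rcases h012 with rfl | rfl | rfl
  · exact Or.inl hn
  · exact Or.inr (Or.inl hn)
  · exact Or.inr (Or.inr hn)

/-- a class function counted by types -/
theorem card_types (P : S7 → Prop) [DecidablePred P] (hP : ∀ a, P a → a * a = 1)
    (hc : ∀ a b, a.cycleType = b.cycleType → P a → P b) [Decidable (P 1)] [Decidable (P e1)] [Decidable (P e2)]
    [Decidable (P e3)] :
    (Finset.univ.filter P).card = (if P 1 then 1 else 0) + (if P e1 then 21 else 0) +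
      (if P e2 then 105 else 0) + (if P e3 then 105 else 0) := by
  have n01 : (1 : S7).cycleType ≠ e1.cycleType := by rw [ct1, Perm.cycleType_one]; decide
  have n02 : (1 : S7).cycleType ≠ e2.cycleType := by rw [ct2, Perm.cycleType_one]; decide
  have n03 : (1 : S7).cycleType ≠ e3.cycleType := by rw [ct3, Perm.cycleType_one]; decide
  have n12 : e1.cycleType ≠ e2.cycleType := by rw [ct1, ct2]; decide
  have n13 : e1.cycleType ≠ e3.cycleType := by rw [ct1, ct3]; decide
  have n23 : e2.cycleType ≠ e3.cycleType := by rw [ct2, ct3]; decide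
  have key : ∀ a : S7, (if P a then 1 else 0) =
      (if a = 1 then (if P 1 then 1 else 0) else 0) +
      (if a.cycleType = e1.cycleType then (if P e1 then 1 else 0) else 0) +
      (if a.cycleType = e2.cycleType then (if P e2 then 1 else 0) else 0) +
      (if a.cycleType = e3.cycleType then (if P e3 then 1 else 0) else 0) := by
    intro a
    by_cases ha : a * a = 1
    · have ht := type_of_sq ha
      rw [← ct3, ← ct2, ← ct1] at ht
      rcases ht with h | h | h | h
      · rw [h, if_pos rfl, if_neg n01, if_neg n02, if_neg n03]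
        simp
      · have h1 : a ≠ 1 := by
          rintro rfl
          exact n01 h
        have h2 : P a ↔ P e1 := ⟨hc _ _ h, hc _ _ h.symm⟩
        rw [if_neg h1, h, if_pos rfl, if_neg n12, if_neg n13]
        simp [h2]
      · have h1 : a ≠ 1 := by
          rintro rfl
          exact n02 h
        have h2 : P a ↔ P e2 := ⟨hc _ _ h, hc _ _ h.symm⟩
        rw [if_neg h1, h, if_neg n12.symm, if_pos rfl, if_neg n23]
        simp [h2]
      · have h1 : a ≠ 1 := by
          rintro rfl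
          exact n03 h
        have h2 : P a ↔ P e3 := ⟨hc _ _ h, hc _ _ h.symm⟩
        rw [if_neg h1, h, if_neg n13.symm, if_neg n23.symm, if_pos rfl]
        simp [h2]
    · have h0 : ¬ P a := fun h => ha (hP a h)
      have h1 : a ≠ 1 := by
        rintro rfl
        exact ha (one_mul 1)
      have hsq : ∀ b : S7, b * b = 1 → a.cycleType ≠ b.cycleType := by
        intro b hb e
        obtain ⟨c, hc'⟩ := isConj_iff.1 (Perm.isConj_iff_cycleType_eq.2 e.symm)
        apply ha
        rw [← hc']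
        calc c * b * c⁻¹ * (c * b * c⁻¹) = c * (b * b) * c⁻¹ := by group
          _ = 1 := by rw [hb]; group
      rw [if_neg h0, if_neg h1, if_neg (hsq e1 (by decide)), if_neg (hsq e2 (by decide)), if_neg (hsq e3 (by decide))]
  have hs : ∀ (Q : S7 → Prop) [DecidablePred Q] (n : ℕ), (∑ a : S7, if Q a then n else 0) =
      (Finset.univ.filter Q).card * n := by
    intro Q _ n
    rw [← Finset.sum_filter, Finset.sum_const, smul_eq_mul]
  rw [Finset.card_filter, Finset.sum_congr rfl (fun a _ => key a), Finset.sum_add_distrib, Finset.sum_add_distrib,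
    Finset.sum_add_distrib, hs, hs, hs, hs, ct1, ct2, ct3, card1, card2, card3]
  have h1 : (Finset.univ.filter (fun a : S7 => a = 1)).card = 1 := by
    rw [Finset.filter_eq']; simp
  rw [h1]
  simp

/-! ### The conjugates of `t` -/

theorem conj_iota {a b : S7} (e : a.cycleType = b.cycleType) (ha : IsConj t (ι a)) : IsConj t (ι b) := by
  obtain ⟨c, rfl⟩ := isConj_iff.1 (Perm.isConj_iff_cycleType_eq.2 e)
  refine ha.trans (isConj_iff.2 ⟨ι c, ?_⟩)
  rw [map_mul, map_mul, map_inv]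

theorem conj_t_iota (h : Spl t ι) {a b : S7} (e : a.cycleType = b.cycleType) (ha : IsConj t (t * ι a)) :
    IsConj t (t * ι b) := by
  obtain ⟨c, rfl⟩ := isConj_iff.1 (Perm.isConj_iff_cycleType_eq.2 e)
  refine ha.trans (isConj_iff.2 ⟨ι c, ?_⟩)
  rw [map_mul, map_mul, map_inv]
  calc ι c * (t * ι a) * (ι c)⁻¹ = (ι c * t) * ι a * (ι c)⁻¹ := by group
    _ = t * (ι c * ι a * (ι c)⁻¹) := by rw [h.comm' c]; group

theorem sq_of_conj {y : G} (h : Spl t ι) (hy : IsConj t y) : y * y = 1 := by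
  obtain ⟨c, rfl⟩ := isConj_iff.1 hy
  calc c * t * c⁻¹ * (c * t * c⁻¹) = c * (t * t) * c⁻¹ := by group
    _ = 1 := by rw [h.tt]; group

theorem sq_iota (h : Spl t ι) {a : S7} (ha : IsConj t (ι a)) : a * a = 1 := by
  apply h.inj
  rw [map_mul, map_one]
  exact sq_of_conj h ha

theorem sq_t_iota (h : Spl t ι) {a : S7} (ha : IsConj t (t * ι a)) : a * a = 1 := by
  apply h.inj
  rw [map_mul, map_one]
  have h1 := sq_of_conj h ha
  calc ι a * ι a = (t * t) * (ι a * ι a) := by rw [h.tt, one_mul]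
    _ = t * (t * ι a) * ι a := by group
    _ = t * (ι a * t) * ι a := by rw [h.comm a]
    _ = 1 := by rw [← h1]; group

theorem not_conj_one (h : Spl t ι) : ¬ IsConj t (ι 1) := by
  intro hc
  rw [map_one] at hc
  obtain ⟨c, hc⟩ := isConj_iff.1 hc
  apply h.t1
  rw [mul_inv_eq_one] at hc
  exact mul_eq_left.1 hc

open Classical in
/-- the number of `a` with `t ι a` conjugate to `t` -/
theorem card_A (h : Spl t ι) : (Finset.univ.filter (fun a : S7 => IsConj t (t * ι a))).card =
    1 + (if IsConj t (t * ι e1) then 21 else 0) + (if IsConj t (t * ι e2) then 105 else 0) +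
      (if IsConj t (t * ι e3) then 105 else 0) := by
  rw [card_types (fun a : S7 => IsConj t (t * ι a)) (fun a => sq_t_iota h) (fun a b => conj_t_iota h)]
  rw [if_pos]
  rw [map_one, mul_one]

open Classical in
/-- the number of `a` with `ι a` conjugate to `t` -/
theorem card_B (h : Spl t ι) (disj : ∀ a, Perm.sign a = 1 → ¬ IsConj t (ι a)) :
    (Finset.univ.filter (fun a : S7 => IsConj t (ι a))).card =
    (if IsConj t (ι e1) then 21 else 0) + (if IsConj t (ι e3) then 105 else 0) := by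
  rw [card_types (fun a : S7 => IsConj t (ι a)) (fun a => sq_iota h) (fun a b => conj_iota),
    if_neg (disj 1 (by simp)), if_neg (disj e2 (by decide))]
  omega

open Classical in
theorem even_A [Finite G] (hG : ∀ H : Subgroup G, H.index ≠ 2) (h : Spl t ι) :
    Even (1 + (if IsConj t (t * ι e1) then 21 else 0) + (if IsConj t (t * ι e2) then 105 else 0) +
      (if IsConj t (t * ι e3) then 105 else 0)) := by
  obtain ⟨E, hE⟩ := exists_equiv h
  have h1 : (-1 : ℤˣ) ≠ 1 := by decide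
  have h2 := TForm.even_card_hom hG h.tt ((MonoidHom.fst ℤˣ S7).comp E.symm.toMonoidHom)
  rw [← card_A h]
  have e : {x : centralizer ({t} : Set G) // (MonoidHom.fst ℤˣ S7).comp E.symm.toMonoidHom x = -1 ∧ IsConj t (x : G)} ≃
      {a : S7 // a ∈ Finset.univ.filter (fun a : S7 => IsConj t (t * ι a))} :=
    { toFun := fun x => ⟨(E.symm x.1).2, by
        rw [Finset.mem_filter]
        refine ⟨Finset.mem_univ _, ?_⟩
        have h3 := hE (E.symm x.1)
        rw [E.apply_symm_apply, if_neg (by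
          have h4 : (E.symm x.1).1 = -1 := x.2.1
          rw [h4]; exact h1)] at h3
        rw [← h3]
        exact x.2.2⟩
      invFun := fun a => ⟨E (-1, a.1), by
        refine ⟨?_, ?_⟩
        · show (E.symm (E (-1, a.1))).1 = -1
          rw [E.symm_apply_apply]
        · rw [hE, if_neg h1]
          exact (Finset.mem_filter.1 a.2).2⟩
      left_inv := fun x => by
        apply Subtype.ext
        show E (-1, (E.symm x.1).2) = x.1
        have h4 : (E.symm x.1).1 = -1 := x.2.1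
        have h5 : ((-1 : ℤˣ), (E.symm x.1).2) = E.symm x.1 := Prod.ext h4.symm rfl
        rw [h5, E.apply_symm_apply]
      right_inv := fun a => by
        apply Subtype.ext
        show (E.symm (E (-1, a.1))).2 = a.1
        rw [E.symm_apply_apply] }
  rw [Nat.card_congr e, Nat.card_eq_fintype_card, Fintype.card_coe] at h2
  exact h2

open Classical in
theorem even_B [Finite G] (hG : ∀ H : Subgroup G, H.index ≠ 2) (h : Spl t ι) :
    Even (1 + (if IsConj t (ι e1) then 21 else 0) + (if IsConj t (t * ι e2) then 105 else 0) +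
      (if IsConj t (ι e3) then 105 else 0)) := by
  obtain ⟨E, hE⟩ := exists_equiv h
  have h1 : (-1 : ℤˣ) ≠ 1 := by decide
  have h2 := TForm.even_card_hom hG h.tt
    ((MonoidHom.fst ℤˣ S7 * Perm.sign.comp (MonoidHom.snd ℤˣ S7)).comp E.symm.toMonoidHom)
  set P : S7 → Prop := fun a => (Perm.sign a = 1 ∧ IsConj t (t * ι a)) ∨ (Perm.sign a = -1 ∧ IsConj t (ι a)) with hP
  have hc : (Finset.univ.filter P).card = 1 + (if IsConj t (ι e1) then 21 else 0) +
      (if IsConj t (t * ι e2) then 105 else 0) + (if IsConj t (ι e3) then 105 else 0) := by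
    have s1 : Perm.sign e1 = -1 := by decide
    have s2 : Perm.sign e2 = 1 := by decide
    have s3 : Perm.sign e3 = -1 := by decide
    rw [card_types P ?_ ?_]
    · have p1 : P 1 ↔ True := by
        rw [hP]
        simp only [map_one, true_and, mul_one, iff_true]
        exact Or.inl (IsConj.refl t)
      have p2 : P e1 ↔ IsConj t (ι e1) := by
        rw [hP]; simp only [s1, h1, false_and, false_or, true_and]
      have p3 : P e2 ↔ IsConj t (t * ι e2) := by
        rw [hP]; simp only [s2, h1.symm, false_and, or_false, true_and]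
      have p4 : P e3 ↔ IsConj t (ι e3) := by
        rw [hP]; simp only [s3, h1, false_and, false_or, true_and]
      simp only [p1, p2, p3, p4, if_true]
    · rintro a (⟨-, ha⟩ | ⟨-, ha⟩)
      · exact sq_t_iota h ha
      · exact sq_iota h ha
    · intro a b e
      have hs : Perm.sign a = Perm.sign b := by
        obtain ⟨c, rfl⟩ := isConj_iff.1 (Perm.isConj_iff_cycleType_eq.2 e)
        rw [map_mul, map_mul, map_inv, mul_comm (Perm.sign c), mul_assoc, mul_inv_cancel, mul_one]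
      rintro (⟨h3, ha⟩ | ⟨h3, ha⟩)
      · exact Or.inl ⟨hs.symm.trans h3, conj_t_iota h e ha⟩
      · exact Or.inr ⟨hs.symm.trans h3, conj_iota e ha⟩
  rw [← hc]
  have key : ∀ x : ℤˣ × S7, (x.1 * Perm.sign x.2 = -1 ∧ IsConj t (E x : G)) ↔ (x.1 = -Perm.sign x.2 ∧ P x.2) := by
    rintro ⟨ε, a⟩
    rw [hE, hP]
    rcases Int.units_eq_one_or ε with he | he <;> rcases Int.units_eq_one_or (Perm.sign a) with ha | ha
    · simp [he, ha]
    · simp [he, ha]
    · simp [he, ha]
    · simp [he, ha]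
  have e : {x : centralizer ({t} : Set G) // ((MonoidHom.fst ℤˣ S7 * Perm.sign.comp (MonoidHom.snd ℤˣ S7)).comp
      E.symm.toMonoidHom) x = -1 ∧ IsConj t (x : G)} ≃ {a : S7 // a ∈ Finset.univ.filter P} :=
    { toFun := fun x => ⟨(E.symm x.1).2, by
        rw [Finset.mem_filter]
        refine ⟨Finset.mem_univ _, ?_⟩
        exact ((key (E.symm x.1)).1 ⟨x.2.1, by rw [E.apply_symm_apply]; exact x.2.2⟩).2⟩
      invFun := fun a => ⟨E (-Perm.sign a.1, a.1), by
        have h3 := (key (-Perm.sign a.1, a.1)).2 ⟨rfl, (Finset.mem_filter.1 a.2).2⟩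
        refine ⟨?_, h3.2⟩
        show (E.symm (E (-Perm.sign a.1, a.1))).1 * Perm.sign (E.symm (E (-Perm.sign a.1, a.1))).2 = -1
        rw [E.symm_apply_apply]
        exact h3.1⟩
      left_inv := fun x => by
        apply Subtype.ext
        show E (-Perm.sign (E.symm x.1).2, (E.symm x.1).2) = x.1
        have h4 := ((key (E.symm x.1)).1 ⟨x.2.1, by rw [E.apply_symm_apply]; exact x.2.2⟩).1
        rw [← h4, Prod.mk.eta, E.apply_symm_apply]
      right_inv := fun a => by
        apply Subtype.ext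
        show (E.symm (E (-Perm.sign a.1, a.1))).2 = a.1
        rw [E.symm_apply_apply] }
  rw [Nat.card_congr e, Nat.card_eq_fintype_card, Fintype.card_coe] at h2
  exact h2

open Classical in
theorem mod_four [Finite G] (hG : ∀ H : Subgroup G, H.index ≠ 2) (h : Spl t ι)
    (disj : ∀ a, Perm.sign a = 1 → ¬ IsConj t (ι a)) :
    (centralizer ({t} : Set G)).index ≡
      (1 + (if IsConj t (t * ι e1) then 21 else 0) + (if IsConj t (t * ι e2) then 105 else 0) +
      (if IsConj t (t * ι e3) then 105 else 0)) +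
      ((if IsConj t (ι e1) then 21 else 0) + (if IsConj t (ι e3) then 105 else 0)) [MOD 4] := by
  have h1 := Lib.ModFour.card_conj_modEq hG t h.tt
  rw [Lib.ModFour.card_isConj] at h1
  rw [← card_A h, ← card_B h disj]
  have h2 : Nat.card {y : G // IsConj t y ∧ y * t = t * y} =
      (Finset.univ.filter (fun a : S7 => IsConj t (t * ι a))).card +
      (Finset.univ.filter (fun a : S7 => IsConj t (ι a))).card := by
    obtain ⟨E, hE⟩ := exists_equiv h
    have h3 : (-1 : ℤˣ) ≠ 1 := by decide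
    have e : {y : G // IsConj t y ∧ y * t = t * y} ≃ {x : ℤˣ × S7 // IsConj t (E x : G)} :=
      { toFun := fun y => ⟨E.symm ⟨y.1, mem_centralizer_singleton_iff.2 y.2.2⟩, by
          rw [E.apply_symm_apply]; exact y.2.1⟩
        invFun := fun x => ⟨(E x.1 : G), x.2, mem_centralizer_singleton_iff.1 (E x.1).2⟩
        left_inv := fun y => by
          apply Subtype.ext
          show (E (E.symm ⟨y.1, _⟩) : G) = y.1
          rw [E.apply_symm_apply]
        right_inv := fun x => by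
          apply Subtype.ext
          show E.symm ⟨(E x.1 : G), _⟩ = x.1
          rw [MulEquiv.symm_apply_eq] }
    have e2 : {x : ℤˣ × S7 // IsConj t (E x : G)} ≃
        {a : S7 // a ∈ Finset.univ.filter (fun a : S7 => IsConj t (t * ι a))} ⊕
        {a : S7 // a ∈ Finset.univ.filter (fun a : S7 => IsConj t (ι a))} :=
      { toFun := fun x => if hx : x.1.1 = 1 then Sum.inr ⟨x.1.2, by
            rw [Finset.mem_filter]
            refine ⟨Finset.mem_univ _, ?_⟩
            have := x.2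
            rwa [hE, if_pos hx, one_mul] at this⟩
          else Sum.inl ⟨x.1.2, by
            rw [Finset.mem_filter]
            refine ⟨Finset.mem_univ _, ?_⟩
            have := x.2
            rwa [hE, if_neg hx] at this⟩
        invFun := fun s => match s with
          | Sum.inl a => ⟨(-1, a.1), by
              rw [hE, if_neg h3]; exact (Finset.mem_filter.1 a.2).2⟩
          | Sum.inr a => ⟨(1, a.1), by
              rw [hE, if_pos rfl, one_mul]; exact (Finset.mem_filter.1 a.2).2⟩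
        left_inv := by
          rintro ⟨⟨ε, a⟩, hx⟩
          rcases Int.units_eq_one_or ε with he | he
          · subst he
            simp
          · subst he
            simp [h3]
        right_inv := by
          rintro (⟨a, ha⟩ | ⟨a, ha⟩)
          · simp [h3]
          · simp }
    rw [Nat.card_congr (e.trans e2), Nat.card_sum, Nat.card_eq_fintype_card, Nat.card_eq_fintype_card,
      Fintype.card_coe, Fintype.card_coe]
  rw [← h2]
  exact h1

end Cfsg.Agent.OddHalf.D5.Seven.Count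

end

-- merged: Cfsg.Agent.OddHalf.D5.Seven.Four
section

/-!
# ODD D5, `n = 7`: four-groups of `A₇` centralised by an element of order three, and the centraliser of `(4 5)`,
`(0 1)(2 3)` (helper905)
-/

set_option autoImplicit false

namespace Cfsg.Agent.OddHalf.D5.Seven.Four

open Equiv Five
open Cfsg.Agent.OddHalf.D5.Seven.Count

/-- a permutation commuting with `(0 1)(2 3)` preserves `{4, 5, 6}` -/
theorem fix_iff {c : S7} (hc : c * e2 = e2 * c) (x : Fin 7) : e2 (c x) = c x ↔ e2 x = x := by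
  have h := congrArg (fun f : S7 => f x) hc
  simp only [Perm.mul_apply] at h
  rw [← h]
  exact c.injective.eq_iff

/-- the points `4, 5, 6` -/
def pt : Fin 3 → Fin 7 := ![4, 5, 6]
/-- the inverse -/
def ix : Fin 7 → Fin 3 := ![0, 0, 0, 0, 0, 1, 2]
/-- the points `0, 1, 2, 3` -/
def pt4 : Fin 4 → Fin 7 := ![0, 1, 2, 3]
/-- the inverse -/
def ix4 : Fin 7 → Fin 4 := ![0, 1, 2, 3, 0, 0, 0]
/-- the involution on four points -/
def zz4 : Fin 4 → Fin 4 := ![1, 0, 3, 2]

theorem pt_ix : ∀ x : Fin 7, e2 x = x → pt (ix x) = x := by decide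
theorem ix_pt : ∀ i, ix (pt i) = i := by decide
theorem pt4_ix : ∀ x : Fin 7, e2 x ≠ x → pt4 (ix4 x) = x := by decide
theorem ix4_pt : ∀ i, ix4 (pt4 i) = i := by decide
theorem e2_pt : ∀ i, e2 (pt i) = pt i := by decide
theorem e2_pt4 : ∀ i, e2 (pt4 i) ≠ pt4 i := by decide
theorem e2_zz4 : ∀ i, e2 (pt4 i) = pt4 (zz4 i) := by decide

theorem three_pts : ∀ D B : Fin 3 → Fin 3, (∀ i, D (D (D i)) = i) ∧ (∀ i, D (B i) = B (D i)) ∧ (∀ i, B (B i) = i) ∧
    (∃ i, D i ≠ i) → ∀ i, B i = i := by decide +kernel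

theorem four_pts : ∀ F : Fin 4 → Fin 4, (∀ i, F (F (F i)) = i) ∧ (∀ i, F (zz4 i) = zz4 (F i)) → ∀ i, F i = i := by
  decide +kernel

/-- an element of order three commuting with `(0 1)(2 3)` moves one of `4, 5, 6` -/
theorem moves {d : S7} (hd : d * e2 = e2 * d) (h3 : d * d * d = 1) (h1 : d ≠ 1) : ∃ i, ix (d (pt i)) ≠ i := by
  by_contra hcon
  push Not at hcon
  have h3' : ∀ x, d (d (d x)) = x := fun x => congrArg (fun f : S7 => f x) h3
  have hd4 : ∀ i, pt4 (ix4 (d (pt4 i))) = d (pt4 i) := fun i => pt4_ix _ (fun e => e2_pt4 i ((fix_iff hd _).1 e))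
  have key := four_pts (fun i => ix4 (d (pt4 i))) ⟨fun i => by
    show ix4 (d (pt4 (ix4 (d (pt4 (ix4 (d (pt4 i)))))))) = i
    rw [hd4, hd4, h3', ix4_pt], fun i => by
    show ix4 (d (pt4 (zz4 i))) = zz4 (ix4 (d (pt4 i)))
    have e : d (e2 (pt4 i)) = e2 (d (pt4 i)) := congrArg (fun f : S7 => f (pt4 i)) hd
    rw [← e2_zz4, e, ← hd4 i, e2_zz4, ix4_pt, ix4_pt]⟩
  apply h1
  ext1 x
  show d x = x
  by_cases hx : e2 x = x
  · have e := hcon (ix x)
    rw [pt_ix x hx] at e
    have e' := pt_ix (d x) ((fix_iff hd x).2 hx)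
    rw [e, pt_ix x hx] at e'
    exact e'.symm
  · have e := key (ix4 x)
    have e' : pt4 (ix4 (d (pt4 (ix4 x)))) = pt4 (ix4 x) := congrArg pt4 e
    rw [hd4, pt4_ix x hx] at e'
    exact e'

/-- an involution commuting with `(0 1)(2 3)` and an element of order three fixes `4, 5, 6` -/
theorem fixes {b d : S7} (hb : b * e2 = e2 * b) (hd : d * e2 = e2 * d) (h3 : d * d * d = 1) (h1 : d ≠ 1)
    (hbd : b * d = d * b) (hbb : b * b = 1) (i : Fin 3) : b (pt i) = pt i := by
  obtain ⟨j, hj⟩ := moves hd h3 h1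
  have h3' : ∀ x, d (d (d x)) = x := fun x => congrArg (fun f : S7 => f x) h3
  have hbb' : ∀ x, b (b x) = x := fun x => congrArg (fun f : S7 => f x) hbb
  have hdp : ∀ i, pt (ix (d (pt i))) = d (pt i) := fun i => pt_ix _ ((fix_iff hd _).2 (e2_pt i))
  have hbp : ∀ i, pt (ix (b (pt i))) = b (pt i) := fun i => pt_ix _ ((fix_iff hb _).2 (e2_pt i))
  have key := three_pts (fun i => ix (d (pt i))) (fun i => ix (b (pt i))) ⟨fun i => by
    show ix (d (pt (ix (d (pt (ix (d (pt i)))))))) = i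
    rw [hdp, hdp, h3', ix_pt], fun i => by
    show ix (d (pt (ix (b (pt i))))) = ix (b (pt (ix (d (pt i)))))
    rw [hbp, hdp]
    have e : b (d (pt i)) = d (b (pt i)) := congrArg (fun f : S7 => f (pt i)) hbd
    rw [e], fun i => by
    show ix (b (pt (ix (b (pt i))))) = i
    rw [hbp, hbb', ix_pt], ⟨j, hj⟩⟩ i
  rw [← hbp i]
  exact congrArg pt key

theorem five_VV : ∀ b : Perm (Fin 5), b * z5 = z5 * b ∧ Perm.sign b = 1 ∧ b ≠ 1 ∧ b ≠ z5 → b = v5 ∨ b = z5 * v5 := by
  (set_option synthInstance.maxSize 9000 in open scoped Cfsg.Agent.Lib.FastPerm in decide +kernel)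

theorem em_z5' : em z5 = e2 := em_z5

/-- **Four-groups of `A₇` centralised by an element of order three are conjugate.** -/
theorem exists_c {a b d : S7} (ha : a * a = 1) (ha1 : a ≠ 1) (hsa : Perm.sign a = 1) (hb : b * b = 1) (hb1 : b ≠ 1)
    (hsb : Perm.sign b = 1) (hab : a ≠ b) (hcab : a * b = b * a) (hd : d * d * d = 1) (hd1 : d ≠ 1)
    (hda : d * a = a * d) (hdb : d * b = b * d) : ∃ c : S7, c * a * c⁻¹ = em z5 ∧ c * b * c⁻¹ = em v5 := by
  -- `a` is conjugate to `(0 1)(2 3)`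
  have hta : a.cycleType = e2.cycleType := by
    have hsc : ∀ x : S7, a.cycleType = x.cycleType → Perm.sign x = 1 := by
      intro x hx
      obtain ⟨c, rfl⟩ := isConj_iff.1 (Perm.isConj_iff_cycleType_eq.2 hx)
      rw [map_mul, map_mul, map_inv, hsa, mul_one, mul_inv_cancel]
    rcases type_of_sq ha with h | h | h | h
    · exact absurd h ha1
    · exact absurd (hsc e1 (h.trans ct1.symm)) (by decide)
    · exact h.trans ct2.symm
    · exact absurd (hsc e3 (h.trans ct3.symm)) (by decide)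
  obtain ⟨c, hc⟩ := isConj_iff.1 (Perm.isConj_iff_cycleType_eq.2 hta)
  -- transport
  obtain ⟨b', hb'⟩ : ∃ b', b' = c * b * c⁻¹ := ⟨_, rfl⟩
  obtain ⟨d', hd'⟩ : ∃ d', d' = c * d * c⁻¹ := ⟨_, rfl⟩
  have h1 : b' * e2 = e2 * b' := by
    rw [hb', ← hc]
    calc c * b * c⁻¹ * (c * a * c⁻¹) = c * (b * a) * c⁻¹ := by group
      _ = c * (a * b) * c⁻¹ := by rw [hcab]
      _ = c * a * c⁻¹ * (c * b * c⁻¹) := by group
  have h2 : d' * e2 = e2 * d' := by
    rw [hd', ← hc]
    calc c * d * c⁻¹ * (c * a * c⁻¹) = c * (d * a) * c⁻¹ := by group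
      _ = c * (a * d) * c⁻¹ := by rw [hda]
      _ = c * a * c⁻¹ * (c * d * c⁻¹) := by group
  have h3 : b' * d' = d' * b' := by
    rw [hd', hb']
    calc c * b * c⁻¹ * (c * d * c⁻¹) = c * (b * d) * c⁻¹ := by group
      _ = c * (d * b) * c⁻¹ := by rw [hdb]
      _ = c * d * c⁻¹ * (c * b * c⁻¹) := by group
  have h4 : d' * d' * d' = 1 := by
    rw [hd']
    calc c * d * c⁻¹ * (c * d * c⁻¹) * (c * d * c⁻¹) = c * (d * d * d) * c⁻¹ := by group
      _ = 1 := by rw [hd]; group
  have h5 : d' ≠ 1 := by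
    rw [hd', ne_eq, mul_inv_eq_one]
    intro e
    exact hd1 (mul_eq_left.1 e)
  have h6 : b' * b' = 1 := by
    rw [hb']
    calc c * b * c⁻¹ * (c * b * c⁻¹) = c * (b * b) * c⁻¹ := by group
      _ = 1 := by rw [hb]; group
  have h7 : b' ≠ 1 := by
    rw [hb', ne_eq, mul_inv_eq_one]
    intro e
    exact hb1 (mul_eq_left.1 e)
  have h8 : b' ≠ e2 := by
    rw [hb', ← hc]
    intro e
    exact hab (mul_left_cancel (mul_right_cancel e)).symm
  have h9 := fixes h1 h2 h4 h5 h3 h6
  obtain ⟨x, hx⟩ := exists_em (h9 0) (h9 1)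
  have hx1 : x * z5 = z5 * x := by
    apply em_inj
    rw [map_mul, map_mul, em_z5', hx, h1]
  have hx2 : Perm.sign x = 1 := by
    rw [← sign_em, hx, hb', map_mul, map_mul, map_inv, hsb, mul_one, mul_inv_cancel]
  have hx3 : x ≠ 1 := by
    rintro rfl
    rw [map_one] at hx
    exact h7 hx.symm
  have hx4 : x ≠ z5 := by
    rintro rfl
    rw [em_z5'] at hx
    exact h8 hx.symm
  rcases five_VV x ⟨hx1, hx2, hx3, hx4⟩ with h | h
  · refine ⟨c, by rw [hc, em_z5'], ?_⟩
    rw [← hb', ← hx, h]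
  · refine ⟨em (swap 0 1) * c, ?_, ?_⟩
    · have e : swap 0 1 * z5 * (swap 0 1)⁻¹ = z5 := by decide +kernel
      calc em (swap 0 1) * c * a * (em (swap 0 1) * c)⁻¹ = em (swap 0 1) * (c * a * c⁻¹) * (em (swap 0 1))⁻¹ := by group
        _ = Five.em (swap 0 1 * z5 * (swap 0 1)⁻¹) := by rw [hc, ← em_z5', map_mul, map_mul, map_inv]
        _ = em z5 := by rw [e]
    · have e : swap 0 1 * (z5 * v5) * (swap 0 1)⁻¹ = v5 := by decide +kernel
      calc em (swap 0 1) * c * b * (em (swap 0 1) * c)⁻¹ = em (swap 0 1) * (c * b * c⁻¹) * (em (swap 0 1))⁻¹ := by group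
        _ = Five.em (swap 0 1 * (z5 * v5) * (swap 0 1)⁻¹) := by rw [← hb', ← hx, h, map_mul em (swap 0 1 * (z5 * v5)), map_mul em (swap 0 1), map_inv]
        _ = em v5 := by rw [e]

/-! ### The centraliser of `(4 5)` and `(0 1)(2 3)` -/

theorem card_cz : Fintype.card {b : Perm (Fin 5) // b * z5 = z5 * b} = 8 := by (set_option synthInstance.maxSize 9000 in open scoped Cfsg.Agent.Lib.FastPerm in decide +kernel)

/-- a permutation commuting with `(4 5)` -/
theorem split {a : S7} (ha : a * e1 = e1 * a) : ∃ b : Perm (Fin 5), a = em b ∨ a = e1 * em b := by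
  have h2 : ∀ x : Fin 7, x = 4 ∨ x = 5 → a x = 4 ∨ a x = 5 := by
    intro x hx
    by_contra hcon
    push Not at hcon
    have h3 := congrArg (fun f : Perm (Fin 7) => f x) ha
    simp only [Perm.mul_apply] at h3
    rw [show e1 (a x) = a x from swap_apply_of_ne_of_ne hcon.1 hcon.2] at h3
    have h4 := a.injective h3
    rcases hx with rfl | rfl
    · exact absurd h4 (by decide)
    · exact absurd h4 (by decide)
  rcases h2 4 (Or.inl rfl) with h4 | h4
  · have h5 : a 5 = 5 := by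
      rcases h2 5 (Or.inr rfl) with h5 | h5
      · exact absurd (a.injective (h5.trans h4.symm)) (by decide)
      · exact h5
    obtain ⟨b, hb⟩ := exists_em h4 h5
    exact ⟨b, Or.inl hb.symm⟩
  · have h5 : a 5 = 4 := by
      rcases h2 5 (Or.inr rfl) with h5 | h5
      · exact h5
      · exact absurd (a.injective (h5.trans h4.symm)) (by decide)
    have e4 : (e1 * a) 4 = 4 := by
      rw [Perm.mul_apply, h4]; decide
    have e5 : (e1 * a) 5 = 5 := by
      rw [Perm.mul_apply, h5]; decide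
    obtain ⟨b, hb⟩ := exists_em e4 e5
    refine ⟨b, Or.inr ?_⟩
    rw [hb, ← mul_assoc, show e1 * e1 = 1 by decide, one_mul]

theorem em_comm1 (b : Perm (Fin 5)) : em b * e1 = e1 * em b := by
  have h1 : em b * swap 4 5 * (em b)⁻¹ = swap (em b 4) (em b 5) := by rw [Equiv.swap_apply_apply]
  rw [em_fix b (Or.inl rfl), em_fix b (Or.inr rfl)] at h1
  exact mul_inv_eq_iff_eq_mul.1 h1

theorem comm_e2_iff {b : Perm (Fin 5)} : em b * e2 = e2 * em b ↔ b * z5 = z5 * b := by
  rw [← em_z5', ← map_mul, ← map_mul]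
  exact em_inj.eq_iff

/-- `|C(e₁, e₂)| = 16` -/
theorem card_ce : Nat.card {a : S7 // a * e1 = e1 * a ∧ a * e2 = e2 * a} = 16 := by
  have h11 : e1 * e1 = 1 := by decide
  have h12 : e1 * e2 = e2 * e1 := by decide
  have h0 : (-1 : ℤˣ) ≠ 1 := by decide
  let f : ℤˣ × {b : Perm (Fin 5) // b * z5 = z5 * b} → {a : S7 // a * e1 = e1 * a ∧ a * e2 = e2 * a} := fun x =>
    ⟨(if x.1 = 1 then 1 else e1) * em x.2.1, by
      have hx1 := em_comm1 x.2.1
      have hx2 := comm_e2_iff.2 x.2.2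
      split_ifs
      · rw [one_mul]
        exact ⟨hx1, hx2⟩
      · refine ⟨?_, ?_⟩
        · rw [mul_assoc, hx1]
        · rw [mul_assoc, hx2, ← mul_assoc, h12, mul_assoc]⟩
  have hf : Function.Bijective f := by
    constructor
    · rintro ⟨ε, b⟩ ⟨ε', b'⟩ e
      have e1' : (if ε = 1 then 1 else e1) * em b.1 = (if ε' = 1 then 1 else e1) * em b'.1 := congrArg Subtype.val e
      have e4 := congrArg (fun g : S7 => g 4) e1'
      simp only [Perm.mul_apply, em_fix b.1 (Or.inl rfl), em_fix b'.1 (Or.inl rfl)] at e4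
      have hε : ε = ε' := by
        rcases Int.units_eq_one_or ε with he | he <;> rcases Int.units_eq_one_or ε' with he' | he'
        · rw [he, he']
        · rw [he, he', if_pos rfl, if_neg h0] at e4
          exact absurd e4 (by decide)
        · rw [he, he', if_pos rfl, if_neg h0] at e4
          exact absurd e4 (by decide)
        · rw [he, he']
      subst hε
      have := em_inj (mul_left_cancel e1')
      rw [Subtype.ext this]
    · rintro ⟨a, ha1, ha2⟩
      obtain ⟨b, hb | hb⟩ := split ha1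
      · refine ⟨(1, ⟨b, comm_e2_iff.1 (by rw [← hb]; exact ha2)⟩), Subtype.ext ?_⟩
        show (if (1 : ℤˣ) = 1 then 1 else e1) * em b = a
        rw [if_pos rfl, one_mul, hb]
      · have h3 : em b * e2 = e2 * em b := by
          rw [hb] at ha2
          apply mul_left_cancel (a := e1)
          rw [← mul_assoc, ha2, ← mul_assoc, ← mul_assoc, h12]
        refine ⟨(-1, ⟨b, comm_e2_iff.1 h3⟩), Subtype.ext ?_⟩
        show (if (-1 : ℤˣ) = 1 then 1 else e1) * em b = a
        rw [if_neg h0, hb]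
  rw [← Nat.card_eq_of_bijective f hf, Nat.card_prod, Nat.card_eq_fintype_card, Nat.card_eq_fintype_card, card_cz]
  rfl

theorem cz_small : ∀ b : Perm (Fin 5), b * z5 = z5 * b ∧ b * swap (0 : Fin 5) 1 = swap (0 : Fin 5) 1 * b ∧ b * v5 = v5 * b →
    b = 1 ∨ b = z5 := by (set_option synthInstance.maxSize 9000 in open scoped Cfsg.Agent.Lib.FastPerm in decide +kernel)

/-- the centre of `C(e₁, e₂)` -/
theorem center_ce {a : S7} (h1 : a * e1 = e1 * a) (h2 : a * e2 = e2 * a)
    (h3 : a * em (swap (0 : Fin 5) 1) = em (swap (0 : Fin 5) 1) * a) (h4 : a * em v5 = em v5 * a) :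
    a = 1 ∨ a = e1 ∨ a = e2 ∨ a = e3 := by
  have h12 : e1 * e2 = e2 * e1 := by decide
  obtain ⟨b, hb⟩ := split h1
  have key : ∀ c : Perm (Fin 5), a * em c = em c * a → b * c = c * b := by
    intro c hc
    apply em_inj
    rw [map_mul, map_mul]
    rcases hb with hb | hb
    · rw [← hb]; exact hc
    · rw [hb] at hc
      apply mul_left_cancel (a := e1)
      rw [← mul_assoc, hc, ← mul_assoc, ← mul_assoc, em_comm1]
  have h5 := cz_small b ⟨key z5 (by rw [em_z5']; exact h2), key _ h3, key _ h4⟩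
  rcases h5 with h5 | h5 <;> rcases hb with hb | hb
  · left; rw [hb, h5, map_one]
  · right; left; rw [hb, h5, map_one, mul_one]
  · right; right; left; rw [hb, h5, em_z5']
  · right; right; right
    rw [hb, h5, em_z5', h12]
    rfl

theorem conj_VV : ∀ b : Perm (Fin 5), b * z5 = z5 * b → ∀ u, VV u → VV (b * u * b⁻¹) := by (delta Cfsg.Agent.OddHalf.D5.Seven.Five.VV; set_option synthInstance.maxSize 9000 in open scoped Cfsg.Agent.Lib.FastPerm in decide +kernel)

end Cfsg.Agent.OddHalf.D5.Seven.Four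

end

-- merged: Cfsg.Agent.OddHalf.D5.Seven.Pattern
section

/-!
# ODD D5, `n = 7`: the pattern (helper905; text: bb ODD 9179, helper307, (0)-(2))

`exists_all`: `t^G ∩ C(t) = {t} ∪ t I(ι(S₇))` for a suitable complement.
-/

set_option autoImplicit false

namespace Cfsg.Agent.OddHalf.D5.Seven

open Subgroup Equiv Cfsg Cfsg.Agent.OddHalf.D3 Five Four
open Cfsg.Agent.OddHalf.D5.Seven.Count

namespace Pattern

/-! ### (0) -/

/-- `|G|₂ ≤ 2⁵` and an element of order four: sectional 2-rank at most four -/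
theorem sect_four {G : Type*} [Group G] [Finite G] (h6 : ¬ 2 ^ 6 ∣ Nat.card G) {x : G} (hx : x ^ 4 = 1)
    (hx2 : x ^ 2 ≠ 1) : SectionalPRankLE 2 4 G := by
  have : Fact (Nat.Prime 2) := ⟨Nat.prime_two⟩
  intro H N _ A _ hA
  by_contra hcon
  push Not at hcon
  have hp : IsPGroup 2 ↥A := fun a => ⟨1, by rw [pow_one]; exact Subtype.ext (hA a a.2)⟩
  obtain ⟨n, hn⟩ := hp.exists_card_eq
  rw [hn] at hcon
  have hk : 5 ≤ n := (Nat.pow_lt_pow_iff_right (by norm_num)).1 hcon
  have h32 : 2 ^ 5 ∣ Nat.card A := by rw [hn]; exact pow_dvd_pow 2 hk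
  set A' : Subgroup H := A.comap (QuotientGroup.mk' N) with hA'
  have hcA' : Nat.card A' = Nat.card A * Nat.card N := by
    have h1 : A'.index = A.index := index_comap_of_surjective A (QuotientGroup.mk'_surjective N)
    have h2 := A'.card_mul_index
    have h3 := A.card_mul_index
    have h4 := N.card_mul_index
    have h5 : Nat.card (↥H ⧸ N) = N.index := rfl
    have h6 : 0 < A.index := Nat.pos_of_ne_zero index_ne_zero_of_finite
    rw [h1] at h2
    rw [h5] at h3
    apply Nat.eq_of_mul_eq_mul_right h6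
    rw [h2, ← h4, ← h3]
    ring
  set B : Subgroup G := A'.map H.subtype with hB
  have hcB : Nat.card B = Nat.card A * Nat.card N := by
    rw [← hcA']
    exact (Nat.card_congr (A'.equivMapOfInjective H.subtype H.subtype_injective).toEquiv).symm
  have hBG : Nat.card B * B.index = Nat.card G := B.card_mul_index
  have hN : ¬ 2 ∣ Nat.card N := by
    intro h2
    apply h6
    have h1 : 2 ^ 6 ∣ Nat.card B := by
      rw [hcB, show (2 : ℕ) ^ 6 = 2 ^ 5 * 2 from rfl]
      exact mul_dvd_mul h32 h2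
    exact h1.trans (card_subgroup_dvd_card B)
  have hBi : ¬ 2 ∣ B.index := by
    intro h2
    apply h6
    rw [← hBG, show (2 : ℕ) ^ 6 = 2 ^ 5 * 2 from rfl]
    exact mul_dvd_mul (h32.trans (by rw [hcB]; exact dvd_mul_right _ _)) h2
  -- a conjugate of `x` in `B`
  have hxp : IsPGroup 2 ↥(zpowers x) := by
    intro y
    obtain ⟨k, hk⟩ := mem_zpowers_iff.1 y.2
    refine ⟨2, Subtype.ext ?_⟩
    show (y : G) ^ (2 ^ 2) = 1
    rw [← hk, ← zpow_natCast, ← zpow_mul, mul_comm k, zpow_mul, zpow_natCast]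
    norm_num
    rw [hx, one_zpow]
  obtain ⟨q, hq⟩ := hxp.nonempty_fixed_point_of_prime_not_dvd_card (G ⧸ B) (by exact hBi)
  obtain ⟨g, rfl⟩ := QuotientGroup.mk_surjective q
  have hq1 : (x • ((g : G) : G ⧸ B)) = g := hq ⟨x, mem_zpowers x⟩
  rw [MulAction.Quotient.smul_mk, smul_eq_mul, eq_comm, QuotientGroup.eq] at hq1
  have hq2 : g⁻¹ * x * g ∈ B := by rw [mul_assoc]; exact hq1
  obtain ⟨k, hk, hkg⟩ := hq2
  have hkA : (QuotientGroup.mk' N k) ∈ A := hk
  have hk2 : k ^ 2 ∈ N := by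
    rw [← QuotientGroup.eq_one_iff]
    exact hA _ hkA
  have hkg' : (k : G) = g⁻¹ * x * g := hkg
  have hk4 : (k ^ 2) ^ 2 = 1 := by
    apply Subtype.ext
    show ((k : G) ^ 2) ^ 2 = 1
    rw [← pow_mul, hkg']
    have : g⁻¹ * x * g = g⁻¹ * x * g⁻¹⁻¹ := by rw [inv_inv]
    rw [this, conj_pow, hx]; group
  have ho1 : orderOf (k ^ 2) ∣ 2 := orderOf_dvd_of_pow_eq_one hk4
  have ho2 : orderOf (k ^ 2) ∣ Nat.card N := by
    have := orderOf_dvd_natCard (⟨k ^ 2, hk2⟩ : N)
    rwa [Subgroup.orderOf_mk] at this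
  have ho3 : orderOf (k ^ 2) = 1 := by
    rcases (Nat.dvd_prime Nat.prime_two).1 ho1 with h | h
    · exact h
    · rw [h] at ho2
      exact absurd ho2 hN
  rw [orderOf_eq_one_iff] at ho3
  apply hx2
  have h7 : ((k : G)) ^ 2 = 1 := congrArg Subtype.val ho3
  rw [hkg'] at h7
  have h8 : g⁻¹ * x * g = g⁻¹ * x * g⁻¹⁻¹ := by rw [inv_inv]
  rw [h8, conj_pow, inv_inv] at h7
  calc x ^ 2 = g * (g⁻¹ * x ^ 2 * g) * g⁻¹ := by group
    _ = 1 := by rw [h7]; group

variable {G : Type*} [Group G] {t : G} {ι : S7 →* G}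

/-- the number of 2's in `|G|` -/
theorem card_G [Finite G] (h : Spl t ι) : Nat.card G = 10080 * (centralizer ({t} : Set G)).index := by
  rw [← card_cent h]
  exact (card_mul_index _).symm

theorem sect_of_odd [Finite G] (h : Spl t ι) (hodd : ¬ 2 ∣ (centralizer ({t} : Set G)).index) :
    SectionalPRankLE 2 4 G := by
  have hx : (swap 0 1 * swap 1 2 * swap 2 3 : S7) ^ 4 = 1 := by decide
  have hx2 : (swap 0 1 * swap 1 2 * swap 2 3 : S7) ^ 2 ≠ 1 := by decide
  refine sect_four (x := ι (swap 0 1 * swap 1 2 * swap 2 3)) ?_ ?_ ?_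
  · rw [card_G h]
    intro hd
    apply hodd
    have h1 : 2 ∣ 315 * (centralizer ({t} : Set G)).index := by
      obtain ⟨m, hm⟩ := hd
      exact ⟨m, by omega⟩
    rcases (Nat.Prime.dvd_mul Nat.prime_two).1 h1 with h2 | h2
    · omega
    · exact h2
  · rw [← map_pow, hx, map_one]
  · rw [← map_pow]
    intro e
    exact hx2 (h.iota_eq_one e)

/-! ### The subgroup `T` of order `32` -/

/-- `T = C(t, s, z)` -/
def TT (t : G) (ι : S7 →* G) : Subgroup G := centralizer ({t, ι e1, ι e2} : Set G)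

theorem mem_TT {y : G} : y ∈ TT t ι ↔ y * t = t * y ∧ y * ι e1 = ι e1 * y ∧ y * ι e2 = ι e2 * y := by
  rw [TT, mem_centralizer_iff]
  simp only [Set.mem_insert_iff, Set.mem_singleton_iff, forall_eq_or_imp, forall_eq]
  exact ⟨fun h => ⟨h.1.symm, h.2.1.symm, h.2.2.symm⟩, fun h => ⟨h.1.symm, h.2.1.symm, h.2.2.symm⟩⟩

/-- `t^i ι a` commutes with `ι b` iff `a` commutes with `b` -/
theorem comm_iff (h : Spl t ι) {y : G} {a b : S7} (hy : y = ι a ∨ y = t * ι a) :
    y * ι b = ι b * y ↔ a * b = b * a := by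
  constructor
  · intro e
    apply h.inj
    rw [map_mul, map_mul]
    rcases hy with rfl | rfl
    · exact e
    · apply mul_left_cancel (a := t)
      calc t * (ι a * ι b) = t * ι a * ι b := by group
        _ = ι b * (t * ι a) := e
        _ = (ι b * t) * ι a := by group
        _ = t * (ι b * ι a) := by rw [h.comm' b]; group
  · intro e
    have e' : ι a * ι b = ι b * ι a := by rw [← map_mul, e, map_mul]
    rcases hy with rfl | rfl
    · exact e'
    · calc t * ι a * ι b = t * (ι a * ι b) := by group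
        _ = (t * ι b) * ι a := by rw [e']; group
        _ = ι b * (t * ι a) := by rw [h.comm b]; group

theorem card_TT (h : Spl t ι) : Nat.card (TT t ι) = 2 ^ 5 := by
  obtain ⟨E, hE⟩ := exists_equiv h
  have hcase : ∀ x : ℤˣ × S7, (E x : G) = ι x.2 ∨ (E x : G) = t * ι x.2 := by
    intro x
    rw [hE]
    split_ifs
    · left; rw [one_mul]
    · right; rfl
  have e : TT t ι ≃ ℤˣ × {a : S7 // a * e1 = e1 * a ∧ a * e2 = e2 * a} :=
    { toFun := fun y => ((E.symm ⟨y, mem_centralizer_singleton_iff.2 (mem_TT.1 y.2).1⟩).1,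
        ⟨(E.symm ⟨y, mem_centralizer_singleton_iff.2 (mem_TT.1 y.2).1⟩).2, by
          have h1 := hcase (E.symm ⟨y, mem_centralizer_singleton_iff.2 (mem_TT.1 y.2).1⟩)
          rw [E.apply_symm_apply] at h1
          exact ⟨(comm_iff h h1).1 (mem_TT.1 y.2).2.1, (comm_iff h h1).1 (mem_TT.1 y.2).2.2⟩⟩)
      invFun := fun x => ⟨(E (x.1, x.2.1) : G), mem_TT.2
        ⟨mem_centralizer_singleton_iff.1 (E (x.1, x.2.1)).2, (comm_iff h (hcase (x.1, x.2.1))).2 x.2.2.1,
          (comm_iff h (hcase (x.1, x.2.1))).2 x.2.2.2⟩⟩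
      left_inv := fun y => by
        apply Subtype.ext
        show (E ((E.symm ⟨y, _⟩).1, (E.symm ⟨y, _⟩).2) : G) = y
        rw [Prod.mk.eta, E.apply_symm_apply]
      right_inv := fun x => by
        have h1 : E.symm ⟨(E (x.1, x.2.1) : G), (E (x.1, x.2.1)).2⟩ = (x.1, x.2.1) := by
          rw [Subtype.coe_eta, E.symm_apply_apply]
        have h2 : (E.symm ⟨(E (x.1, x.2.1) : G), (E (x.1, x.2.1)).2⟩).1 = x.1 := congrArg Prod.fst h1
        have h3 : (E.symm ⟨(E (x.1, x.2.1) : G), (E (x.1, x.2.1)).2⟩).2 = x.2.1 := congrArg Prod.snd h1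
        exact Prod.ext h2 (Subtype.ext h3) }
  rw [Nat.card_congr e, Nat.card_prod, card_ce, Nat.card_eq_fintype_card]
  rfl

/-- the elements of the centre of `T` -/
theorem center_TT (h : Spl t ι) {y : G} (hy : y ∈ TT t ι) (hc : ∀ g ∈ TT t ι, g * y = y * g) :
    ∃ a, (a = 1 ∨ a = e1 ∨ a = e2 ∨ a = e3) ∧ (y = ι a ∨ y = t * ι a) := by
  obtain ⟨h1, h2, h3⟩ := mem_TT.1 hy
  obtain ⟨a, ha⟩ := h.cases h1
  have key : ∀ b : S7, b * e1 = e1 * b → b * e2 = e2 * b → a * b = b * a := by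
    intro b hb1 hb2
    have h4 := hc (ι b) (mem_TT.2 ⟨h.comm' b, by rw [← map_mul, hb1, map_mul], by rw [← map_mul, hb2, map_mul]⟩)
    exact (comm_iff h ha).1 h4.symm
  refine ⟨a, center_ce (key e1 rfl (by decide)) (key e2 (by decide) rfl) (key _ (em_comm1 _) ?_)
    (key _ (em_comm1 _) ?_), ha⟩
  · exact comm_e2_iff.2 (by decide)
  · exact comm_e2_iff.2 (by decide +kernel)

/-- **(2), both complements**: `t^G` does not contain all the elements of `Z(T) - {z}`. -/
theorem z_case [Finite G] (h : Spl t ι) (h64 : 2 ^ 6 ∣ Nat.card G) (a1 : IsConj t (ι e1)) (a3 : IsConj t (ι e3))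
    (b1 : IsConj t (t * ι e1)) (b2 : IsConj t (t * ι e2)) (b3 : IsConj t (t * ι e3)) : False := by
  have : Fact (Nat.Prime 2) := ⟨Nat.prime_two⟩
  obtain ⟨K, hK, hTK⟩ := Sylow.exists_subgroup_card_pow_succ h64 (card_TT h)
  have hidx : ((TT t ι).subgroupOf K).index = 2 := by
    have h1 := ((TT t ι).subgroupOf K).card_mul_index
    rw [Nat.card_congr (subgroupOfEquivOfLe hTK).toEquiv, card_TT h, hK] at h1
    omega
  have hnorm : ((TT t ι).subgroupOf K).Normal := normal_of_index_eq_two hidx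
  obtain ⟨x, hx⟩ : ∃ x : K, x ∉ (TT t ι).subgroupOf K := by
    by_contra hcon
    push Not at hcon
    rw [(eq_top_iff' _).2 hcon, index_top] at hidx
    omega
  have hconj : ∀ y ∈ TT t ι, (x : G) * y * (x : G)⁻¹ ∈ TT t ι := by
    intro y hy
    exact hnorm.conj_mem ⟨y, hTK hy⟩ hy x
  have hxx : (x : G) * x ∈ TT t ι := by
    have h1 := (index_eq_two_iff.1 hidx)
    have h2 := mul_self_mem_of_index_two hidx x
    exact h2
  -- `x` centralises no conjugate of `t` in the centre of `T`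
  have kill : ∀ u : G, (∀ g ∈ TT t ι, g * u = u * g) → IsConj t u → (x : G) * u ≠ u * x := by
    intro u hu hcj hxu
    have h1 : K ≤ centralizer ({u} : Set G) := by
      intro k hk
      rw [mem_centralizer_singleton_iff]
      by_cases hkT : (⟨k, hk⟩ : K) ∈ (TT t ι).subgroupOf K
      · exact hu k hkT
      · have h2 : (⟨k, hk⟩ : K) * x⁻¹ ∈ (TT t ι).subgroupOf K := by
          rw [mul_mem_iff_of_index_two hidx]
          exact ⟨fun h3 => absurd h3 hkT, fun h3 => absurd ((inv_mem_iff).1 h3) hx⟩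
        have h3 : k * (x : G)⁻¹ ∈ TT t ι := h2
        have h4 := hu _ h3
        calc k * u = (k * (x : G)⁻¹) * (x * u) := by group
          _ = (k * (x : G)⁻¹) * (u * x) := by rw [hxu]
          _ = ((k * (x : G)⁻¹) * u) * x := by group
          _ = u * k := by rw [h4]; group
    obtain ⟨c, hc⟩ := isConj_iff.1 hcj
    have h2 : Nat.card (centralizer ({u} : Set G)) = 10080 := by
      rw [← card_cent h, ← hc, ← cj_centralizer_singleton, card_cj]
    have h3 := card_dvd_of_le h1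
    rw [hK, h2] at h3
    omega
  have hconjC : ∀ y ∈ TT t ι, (∀ g ∈ TT t ι, g * y = y * g) →
      ∀ g ∈ TT t ι, g * ((x : G) * y * (x : G)⁻¹) = ((x : G) * y * (x : G)⁻¹) * g := by
    intro y hy hc g hg
    have h1 : (x : G)⁻¹ * g * x ∈ TT t ι := by
      have := hnorm.conj_mem ⟨g, hTK hg⟩ hg x⁻¹
      have h2 : (x : G)⁻¹ * g * (x : G)⁻¹⁻¹ ∈ TT t ι := this
      rwa [inv_inv] at h2
    have h2 := hc _ h1
    calc g * ((x : G) * y * (x : G)⁻¹) = (x : G) * ((x : G)⁻¹ * g * x * y) * (x : G)⁻¹ := by group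
      _ = (x : G) * (y * ((x : G)⁻¹ * g * x)) * (x : G)⁻¹ := by rw [h2]
      _ = ((x : G) * y * (x : G)⁻¹) * g := by group
  -- the main computation
  have main : ∀ y ∈ TT t ι, (∀ g ∈ TT t ι, g * y = y * g) → y * y = 1 → IsConj t y →
      (x : G) * y * (x : G)⁻¹ = y * ι e2 := by
    intro y hy hc hyy hcj
    have h1 := hconj y hy
    have h2 := hconjC y hy hc
    have hw : y * ((x : G) * y * (x : G)⁻¹) ∈ TT t ι := mul_mem hy h1
    have hwc : ∀ g ∈ TT t ι, g * (y * ((x : G) * y * (x : G)⁻¹)) = y * ((x : G) * y * (x : G)⁻¹) * g := by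
      intro g hg
      calc g * (y * ((x : G) * y * (x : G)⁻¹)) = (g * y) * ((x : G) * y * (x : G)⁻¹) := by group
        _ = y * (g * ((x : G) * y * (x : G)⁻¹)) := by rw [hc g hg]; group
        _ = y * ((x : G) * y * (x : G)⁻¹) * g := by rw [h2 g hg]; group
    have hwx : (x : G) * (y * ((x : G) * y * (x : G)⁻¹)) = y * ((x : G) * y * (x : G)⁻¹) * x := by
      have h3 := hc _ hxx
      have h4 := hc _ h1
      calc (x : G) * (y * ((x : G) * y * (x : G)⁻¹))
          = ((x : G) * y * (x : G)⁻¹) * (((x : G) * x) * y) * (x : G)⁻¹ := by group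
        _ = ((x : G) * y * (x : G)⁻¹) * (y * ((x : G) * x)) * (x : G)⁻¹ := by rw [h3]
        _ = (((x : G) * y * (x : G)⁻¹) * y) * x := by group
        _ = y * ((x : G) * y * (x : G)⁻¹) * x := by rw [h4]
    have hncj : ¬ IsConj t (y * ((x : G) * y * (x : G)⁻¹)) := fun hcj' => kill _ hwc hcj' hwx
    have hw1 : y * ((x : G) * y * (x : G)⁻¹) ≠ 1 := by
      intro e
      apply kill y hc hcj
      have e1 : (x : G) * y * (x : G)⁻¹ = y := by
        rw [eq_inv_of_mul_eq_one_right e]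
        exact inv_eq_of_mul_eq_one_left hyy
      rw [← e1]
      calc (x : G) * ((x : G) * y * (x : G)⁻¹) = (x : G) * y := by rw [e1]
        _ = (x : G) * y * (x : G)⁻¹ * x := by group
    have hwe : y * ((x : G) * y * (x : G)⁻¹) = ι e2 := by
      obtain ⟨a, ha, hwa⟩ := center_TT h hw hwc
      rcases hwa with hwa | hwa
      · rcases ha with rfl | rfl | rfl | rfl
        · rw [map_one] at hwa
          exact absurd hwa hw1
        · rw [hwa] at hncj
          exact absurd a1 hncj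
        · exact hwa
        · rw [hwa] at hncj
          exact absurd a3 hncj
      · exfalso
        apply hncj
        rw [hwa]
        rcases ha with rfl | rfl | rfl | rfl
        · rw [map_one, mul_one]
        · exact b1
        · exact b2
        · exact b3
    rw [← hwe, ← mul_assoc, hyy, one_mul]
  have e12 : e1 * e2 = e2 * e1 := by decide
  have htT : t ∈ TT t ι := mem_TT.2 ⟨rfl, h.comm e1, h.comm e2⟩
  have hsT : ι e1 ∈ TT t ι := mem_TT.2 ⟨h.comm' e1, rfl, by rw [← map_mul, e12, map_mul]⟩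
  have hct : ∀ g ∈ TT t ι, g * t = t * g := fun g hg => (mem_TT.1 hg).1
  have hcs : ∀ g ∈ TT t ι, g * ι e1 = ι e1 * g := fun g hg => (mem_TT.1 hg).2.1
  have hcz : ∀ g ∈ TT t ι, g * ι e2 = ι e2 * g := fun g hg => (mem_TT.1 hg).2.2
  have h11 : ι e1 * ι e1 = 1 := by rw [← map_mul, show e1 * e1 = 1 by decide, map_one]
  have h22 : ι e2 * ι e2 = 1 := by rw [← map_mul, show e2 * e2 = 1 by decide, map_one]
  have ht := main t htT hct h.tt (IsConj.refl t)
  have hs := main (ι e1) hsT hcs h11 a1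
  have hcts : ∀ g ∈ TT t ι, g * (t * ι e1) = t * ι e1 * g := by
    intro g hg
    rw [← mul_assoc, hct g hg, mul_assoc, hcs g hg, mul_assoc]
  apply kill (t * ι e1) hcts b1
  have e1' : (x : G) * (t * ι e1) * (x : G)⁻¹ = t * ι e1 := by
    calc (x : G) * (t * ι e1) * (x : G)⁻¹ = ((x : G) * t * (x : G)⁻¹) * ((x : G) * ι e1 * (x : G)⁻¹) := by group
      _ = t * (ι e2 * ι e1) * ι e2 := by rw [ht, hs]; group
      _ = t * (ι e1 * ι e2) * ι e2 := by rw [← hcs (ι e2) (mem_TT.2 ⟨h.comm' e2, by rw [← map_mul, ← e12, map_mul], rfl⟩)]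
      _ = t * ι e1 * (ι e2 * ι e2) := by group
      _ = t * ι e1 := by rw [h22, mul_one]
  calc (x : G) * (t * ι e1) = ((x : G) * (t * ι e1) * (x : G)⁻¹) * x := by group
    _ = t * ι e1 * x := by rw [e1']

/-! ### (1) LEMMA B -/

/-- `E₀ = ⟨t⟩ × V` -/
def EE (h : Spl t ι) : Subgroup G where
  carrier := {y | ∃ u, VV u ∧ (y = ι (em u) ∨ y = t * ι (em u))}
  one_mem' := ⟨1, Or.inl rfl, Or.inl (by rw [map_one, map_one])⟩
  mul_mem' := by
    rintro y y' ⟨u, hu, hy⟩ ⟨u', hu', hy'⟩
    refine ⟨u * u', VV_mul u hu u' hu', ?_⟩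
    rw [map_mul, map_mul]
    rcases hy with rfl | rfl <;> rcases hy' with rfl | rfl
    · left; rfl
    · right
      rw [← mul_assoc, h.comm' (em u), mul_assoc]
    · right
      rw [mul_assoc]
    · left
      calc t * ι (em u) * (t * ι (em u')) = t * (ι (em u) * t) * ι (em u') := by group
        _ = (t * t) * (ι (em u) * ι (em u')) := by rw [h.comm' (em u)]; group
        _ = ι (em u) * ι (em u') := by rw [h.tt, one_mul]
  inv_mem' := by
    rintro y ⟨u, hu, hy⟩
    have h1 : u⁻¹ = u := inv_eq_of_mul_eq_one_left (VV_sq u hu)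
    refine ⟨u, hu, ?_⟩
    have h2 : (ι (em u))⁻¹ = ι (em u) := by rw [← map_inv, ← map_inv, h1]
    rcases hy with rfl | rfl
    · left; exact h2
    · right
      rw [mul_inv_rev, h2, h.t_inv, h.comm' (em u)]

theorem mem_EE (h : Spl t ι) {y : G} : y ∈ EE h ↔ ∃ u, VV u ∧ (y = ι (em u) ∨ y = t * ι (em u)) := Iff.rfl

theorem conj_V (h : Spl t ι) (b2 : IsConj t (t * ι e2)) {u : Perm (Fin 5)} (hu : VV u) :
    IsConj t (t * ι (em u)) := by
  by_cases hu1 : u = 1
  · rw [hu1, map_one, map_one, mul_one]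
  · obtain ⟨j, -, hj⟩ := exists_conj u (VV_sign u hu) (VV_sq u hu) hu1
    apply conj_t_iota h _ b2
    apply Perm.isConj_iff_cycleType_eq.1
    refine isConj_iff.2 ⟨em j, ?_⟩
    rw [← hj, map_mul, map_mul, map_inv, em_z5']

/-- the pattern of LEMMA B -/
def PB (t : G) (ι : S7 →* G) : Prop := ∀ y, y * t = t * y → IsConj t y →
  y = t ∨ ∃ k : S7, Perm.sign k = 1 ∧ k ≠ 1 ∧ k * k = 1 ∧ y = t * ι k

theorem pattern_B (h : Spl t ι) (disj : ∀ a, Perm.sign a = 1 → ¬ IsConj t (ι a)) (na1 : ¬ IsConj t (ι e1))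
    (na3 : ¬ IsConj t (ι e3)) (nb1 : ¬ IsConj t (t * ι e1)) (nb3 : ¬ IsConj t (t * ι e3)) : PB t ι := by
  intro y hy hc
  obtain ⟨a, rfl | rfl⟩ := h.cases hy
  · exfalso
    have hsq := sq_iota h hc
    rcases type_of_sq hsq with h1 | h1 | h1 | h1
    · rw [h1] at hc
      exact not_conj_one h hc
    · exact na1 (conj_iota (h1.trans ct1.symm) hc)
    · exact disj e2 (by decide) (conj_iota (h1.trans ct2.symm) hc)
    · exact na3 (conj_iota (h1.trans ct3.symm) hc)
  · have hsq := sq_t_iota h hc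
    rcases type_of_sq hsq with h1 | h1 | h1 | h1
    · left; rw [h1, map_one, mul_one]
    · exact absurd (conj_t_iota h (h1.trans ct1.symm) hc) nb1
    · right
      refine ⟨a, ?_, ?_, hsq, rfl⟩
      · obtain ⟨c, rfl⟩ := isConj_iff.1 (Perm.isConj_iff_cycleType_eq.2 (ct2.trans h1.symm))
        rw [map_mul, map_mul, map_inv, show Perm.sign e2 = 1 by decide, mul_one, mul_inv_cancel]
      · rintro rfl
        rw [Perm.cycleType_one] at h1
        exact absurd h1 (by decide)
    · exact absurd (conj_t_iota h (h1.trans ct3.symm) hc) nb3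

/-- `(4 5 6)` -/
def dd : S7 := swap (4 : Fin 7) 5 * swap (5 : Fin 7) 6

theorem dd_comm {u : Perm (Fin 5)} (hu : VV u) : dd * em u = em u * dd := by
  rcases hu with rfl | rfl | rfl | rfl <;> decide +kernel

/-- **fusion in `N(E₀)`** -/
theorem exists_n [Finite G] (h : Spl t ι) (b2 : IsConj t (t * ι e2)) (hP : PB t ι) {v : Perm (Fin 5)} (hv : VV v) :
    ∃ n ∈ normalizer (EE h : Set G), n * t * n⁻¹ = t * ι (em v) := by
  by_cases hv1 : v = 1
  · exact ⟨1, one_mem _, by rw [hv1, map_one, map_one]; group⟩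
  obtain ⟨g', hg'⟩ := isConj_iff.1 (conj_V h b2 hv)
  obtain ⟨g, hgdef⟩ : ∃ g, g = g'⁻¹ := ⟨_, rfl⟩
  have hg : g * (t * ι (em v)) * g⁻¹ = t := by rw [hgdef, ← hg']; group
  -- images of the elements of `V`
  have himg : ∀ w, VV w → w ≠ 1 → ∃ k : S7, Perm.sign k = 1 ∧ k ≠ 1 ∧ k * k = 1 ∧ g * ι (em w) * g⁻¹ = ι k := by
    intro w hw hw1
    have e1 : t * (g * ι (em w) * g⁻¹) = g * (t * ι (em (v * w))) * g⁻¹ := by
      rw [map_mul, map_mul]
      calc t * (g * ι (em w) * g⁻¹) = (g * (t * ι (em v)) * g⁻¹) * (g * ι (em w) * g⁻¹) := by rw [hg]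
        _ = g * (t * (ι (em v) * ι (em w))) * g⁻¹ := by group
    have hcomm : (g * ι (em w) * g⁻¹) * t = t * (g * ι (em w) * g⁻¹) := by
      have e2 : ι (em w) * (t * ι (em v)) = (t * ι (em v)) * ι (em w) := by
        have e3 : ι (em w) * ι (em v) = ι (em v) * ι (em w) := by
          rw [← map_mul, ← map_mul, VV_comm w hw v hv, map_mul, map_mul]
        calc ι (em w) * (t * ι (em v)) = (ι (em w) * t) * ι (em v) := by group
          _ = t * (ι (em w) * ι (em v)) := by rw [h.comm' (em w)]; group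
          _ = (t * ι (em v)) * ι (em w) := by rw [e3]; group
      calc (g * ι (em w) * g⁻¹) * t = (g * ι (em w) * g⁻¹) * (g * (t * ι (em v)) * g⁻¹) := by rw [hg]
        _ = g * (ι (em w) * (t * ι (em v))) * g⁻¹ := by group
        _ = (g * (t * ι (em v)) * g⁻¹) * (g * ι (em w) * g⁻¹) := by rw [e2]; group
        _ = t * (g * ι (em w) * g⁻¹) := by rw [hg]
    have hcj : IsConj t (t * (g * ι (em w) * g⁻¹)) := by
      rw [e1]
      exact (conj_V h b2 (VV_mul v hv w hw)).trans (isConj_iff.2 ⟨g, rfl⟩)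
    have h3 := hP _ (by rw [mul_assoc, hcomm]) hcj
    rcases h3 with h3 | ⟨k, hk1, hk2, hk3, hk4⟩
    · exfalso
      have h4 := mul_eq_left.1 h3
      rw [mul_inv_eq_one] at h4
      have h5 : ι (em w) = 1 := mul_eq_left.1 h4
      have h6 := h.iota_eq_one h5
      rw [← map_one em] at h6
      exact hw1 (em_inj h6)
    · exact ⟨k, hk1, hk2, hk3, mul_left_cancel hk4⟩
  -- the element of order three
  have hdd3 : dd * dd * dd = 1 := by decide
  have hdd1 : dd ≠ 1 := by decide
  have hyd : (g * ι dd * g⁻¹) * t = t * (g * ι dd * g⁻¹) := by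
    have e2 : ι dd * (t * ι (em v)) = (t * ι (em v)) * ι dd := by
      have e3 : ι dd * ι (em v) = ι (em v) * ι dd := by
        rw [← map_mul, dd_comm hv, map_mul]
      calc ι dd * (t * ι (em v)) = (ι dd * t) * ι (em v) := by group
        _ = t * (ι dd * ι (em v)) := by rw [h.comm' dd]; group
        _ = (t * ι (em v)) * ι dd := by rw [e3]; group
    calc (g * ι dd * g⁻¹) * t = (g * ι dd * g⁻¹) * (g * (t * ι (em v)) * g⁻¹) := by rw [hg]
      _ = g * (ι dd * (t * ι (em v))) * g⁻¹ := by group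
      _ = (g * (t * ι (em v)) * g⁻¹) * (g * ι dd * g⁻¹) := by rw [e2]; group
      _ = t * (g * ι dd * g⁻¹) := by rw [hg]
  have hy3 : (g * ι dd * g⁻¹) * (g * ι dd * g⁻¹) * (g * ι dd * g⁻¹) = 1 := by
    calc (g * ι dd * g⁻¹) * (g * ι dd * g⁻¹) * (g * ι dd * g⁻¹) = g * (ι dd * ι dd * ι dd) * g⁻¹ := by group
      _ = 1 := by rw [← map_mul, ← map_mul, hdd3, map_one]; group
  obtain ⟨d, hd⟩ : ∃ d, g * ι dd * g⁻¹ = ι d := by
    obtain ⟨d, hd | hd⟩ := h.cases hyd
    · exact ⟨d, hd⟩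
    · exfalso
      rw [hd] at hy3
      have e3 : t * ι (d * d * d) = 1 := by
        rw [map_mul, map_mul]
        calc t * (ι d * ι d * ι d) = (t * t) * t * (ι d * ι d * ι d) := by rw [h.tt, one_mul]
          _ = t * (t * (t * ι d)) * ι d * ι d := by group
          _ = t * (t * (ι d * t)) * ι d * ι d := by rw [h.comm d]
          _ = t * ((t * ι d) * t) * ι d * ι d := by group
          _ = t * ((ι d * t) * t) * ι d * ι d := by rw [h.comm d]
          _ = (t * ι d) * (t * (t * ι d)) * ι d := by group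
          _ = (t * ι d) * (t * (ι d * t)) * ι d := by rw [h.comm d]
          _ = (t * ι d) * (t * ι d) * (t * ι d) := by group
          _ = 1 := hy3
      apply h.ne (d * d * d)
      rw [eq_inv_of_mul_eq_one_right e3, h.t_inv]
  have hd3 : d * d * d = 1 := by
    apply h.inj
    rw [map_mul, map_mul, map_one, ← hd]
    exact hy3
  have hd1 : d ≠ 1 := by
    rintro rfl
    rw [map_one, mul_inv_eq_one] at hd
    exact hdd1 (h.iota_eq_one (mul_eq_left.1 hd))
  -- commutation
  have hdk : ∀ w k, VV w → g * ι (em w) * g⁻¹ = ι k → d * k = k * d := by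
    intro w k hw hk
    apply h.inj
    rw [map_mul, map_mul, ← hd, ← hk]
    have e3 : ι dd * ι (em w) = ι (em w) * ι dd := by
      rw [← map_mul, dd_comm hw, map_mul]
    calc g * ι dd * g⁻¹ * (g * ι (em w) * g⁻¹) = g * (ι dd * ι (em w)) * g⁻¹ := by group
      _ = g * ι (em w) * g⁻¹ * (g * ι dd * g⁻¹) := by rw [e3]; group
  -- the second generator
  have hw0 : ∃ w0, VV w0 ∧ w0 ≠ 1 ∧ w0 ≠ v ∧ (∀ S : Perm (Fin 5) → Prop, S 1 → S v → S w0 →
      (∀ u u', S u → S u' → S (u * u')) → ∀ u, VV u → S u) := by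
    have hz1 : z5 ≠ 1 := by decide +kernel
    have hvz : v5 ≠ z5 := by decide +kernel
    have hv1' : v5 ≠ 1 := by decide +kernel
    rcases hv with rfl | rfl | rfl | rfl
    · exact absurd rfl hv1
    · refine ⟨v5, by decide +kernel, hv1', hvz, ?_⟩
      intro S h1 hz hv5 hm u hu
      rcases hu with rfl | rfl | rfl | rfl
      · exact h1
      · exact hz
      · exact hv5
      · exact hm _ _ hz hv5
    · refine ⟨z5, by decide +kernel, hz1, hvz.symm, ?_⟩
      intro S h1 hv5 hz hm u hu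
      rcases hu with rfl | rfl | rfl | rfl
      · exact h1
      · exact hz
      · exact hv5
      · exact hm _ _ hz hv5
    · refine ⟨z5, by decide +kernel, hz1, by decide +kernel, ?_⟩
      intro S h1 hzv hz hm u hu
      have e : v5 = z5 * (z5 * v5) := by decide +kernel
      rcases hu with rfl | rfl | rfl | rfl
      · exact h1
      · exact hz
      · rw [e]; exact hm _ _ hz hzv
      · exact hzv
  obtain ⟨w0, hw0V, hw01, hw0v, hgen⟩ := hw0
  obtain ⟨a, ha1, ha2, ha3, ha4⟩ := himg v hv hv1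
  obtain ⟨b, hb1, hb2, hb3, hb4⟩ := himg w0 hw0V hw01
  have hab : a ≠ b := by
    rintro rfl
    have e := ha4.trans hb4.symm
    exact hw0v (em_inj (h.inj (mul_left_cancel (mul_right_cancel e)))).symm
  have hcab : a * b = b * a := by
    apply h.inj
    rw [map_mul, map_mul, ← ha4, ← hb4]
    have e3 : ι (em v) * ι (em w0) = ι (em w0) * ι (em v) := by
      rw [← map_mul, ← map_mul, VV_comm v hv w0 hw0V, map_mul, map_mul]
    calc g * ι (em v) * g⁻¹ * (g * ι (em w0) * g⁻¹) = g * (ι (em v) * ι (em w0)) * g⁻¹ := by group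
      _ = g * ι (em w0) * g⁻¹ * (g * ι (em v) * g⁻¹) := by rw [e3]; group
  obtain ⟨c, hc1, hc2⟩ := exists_c ha3 ha2 ha1 hb3 hb2 hb1 hab hcab hd3 hd1 (hdk v a hv ha4) (hdk w0 b hw0V hb4)
  -- the normalising element
  obtain ⟨n, hn⟩ : ∃ n, n = ι c * g := ⟨_, rfl⟩
  have hn1 : n * (t * ι (em v)) * n⁻¹ = t := by
    rw [hn]
    calc ι c * g * (t * ι (em v)) * (ι c * g)⁻¹ = ι c * (g * (t * ι (em v)) * g⁻¹) * (ι c)⁻¹ := by group
      _ = t := by rw [hg, h.comm' c]; group
  have hn2 : n * ι (em v) * n⁻¹ = ι (em z5) := by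
    rw [hn]
    calc ι c * g * ι (em v) * (ι c * g)⁻¹ = ι c * (g * ι (em v) * g⁻¹) * (ι c)⁻¹ := by group
      _ = ι (em z5) := by rw [ha4, ← hc1, map_mul, map_mul, map_inv]
  have hn3 : n * ι (em w0) * n⁻¹ = ι (em v5) := by
    rw [hn]
    calc ι c * g * ι (em w0) * (ι c * g)⁻¹ = ι c * (g * ι (em w0) * g⁻¹) * (ι c)⁻¹ := by group
      _ = ι (em v5) := by rw [hb4, ← hc2, map_mul, map_mul, map_inv]
  have hVE : ∀ u, VV u → n * ι (em u) * n⁻¹ ∈ EE h := by
    apply hgen (fun u => n * ι (em u) * n⁻¹ ∈ EE h)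
    · rw [map_one, map_one]
      have : n * 1 * n⁻¹ = 1 := by group
      rw [this]; exact one_mem _
    · rw [hn2]; exact ⟨z5, Or.inr (Or.inl rfl), Or.inl rfl⟩
    · rw [hn3]; exact ⟨v5, Or.inr (Or.inr (Or.inl rfl)), Or.inl rfl⟩
    · intro u u' hu hu'
      have e : n * ι (em (u * u')) * n⁻¹ = (n * ι (em u) * n⁻¹) * (n * ι (em u') * n⁻¹) := by
        rw [map_mul, map_mul]; group
      rw [e]
      exact mul_mem hu hu'
  have hnt : n * t * n⁻¹ = t * (ι (em z5))⁻¹ := by
    have e : n * t * n⁻¹ = (n * (t * ι (em v)) * n⁻¹) * (n * ι (em v) * n⁻¹)⁻¹ := by group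
    rw [e, hn1, hn2]
  have htE : t ∈ EE h := ⟨1, Or.inl rfl, Or.inr (by rw [map_one, map_one, mul_one])⟩
  have hzE : ι (em z5) ∈ EE h := ⟨z5, Or.inr (Or.inl rfl), Or.inl rfl⟩
  have hntE : n * t * n⁻¹ ∈ EE h := by
    rw [hnt]; exact mul_mem htE (inv_mem hzE)
  have hle : cj n (EE h) ≤ EE h := by
    intro y hy
    rw [mem_cj] at hy
    obtain ⟨u, hu, hy'⟩ := hy
    rcases hy' with hy' | hy'
    · have e : y = n * ι (em u) * n⁻¹ := by rw [← hy']; group
      rw [e]; exact hVE u hu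
    · have e : y = (n * t * n⁻¹) * (n * ι (em u) * n⁻¹) := by
        have : y = n * (n⁻¹ * y * n) * n⁻¹ := by group
        rw [this, hy']; group
      rw [e]; exact mul_mem hntE (hVE u hu)
  have hnN : n ∈ normalizer (EE h : Set G) := by
    rw [mem_normalizer_iff_cj]
    exact eq_of_le_of_card_ge hle (card_cj n (EE h)).symm.le
  refine ⟨n⁻¹, inv_mem hnN, ?_⟩
  calc n⁻¹ * t * n⁻¹⁻¹ = n⁻¹ * (n * (t * ι (em v)) * n⁻¹) * n := by rw [hn1, inv_inv]
    _ = t * ι (em v) := by group

/-- **LEMMA B** -/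
theorem lemma_B [Finite G] (h : Spl t ι) (disj : ∀ a, Perm.sign a = 1 → ¬ IsConj t (ι a))
    (b2 : IsConj t (t * ι e2)) (hP : PB t ι) : 2 ^ 7 ∣ Nat.card G := by
  obtain ⟨N, hN⟩ : ∃ N, N = normalizer (EE h : Set G) := ⟨_, rfl⟩
  have htE : t ∈ EE h := ⟨1, Or.inl rfl, Or.inr (by rw [map_one, map_one, mul_one])⟩
  have hEN : EE h ≤ N := by rw [hN]; exact le_normalizer
  have htN : t ∈ N := hEN htE
  -- the class of `t` in `N`
  have hclass : Nat.card {y : N // IsConj (⟨t, htN⟩ : N) y} = 4 := by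
    have hmem : ∀ u : {u // VV u}, t * ι (em u.1) ∈ N := fun u => hEN ⟨u.1, u.2, Or.inr rfl⟩
    let f : {u // VV u} → {y : N // IsConj (⟨t, htN⟩ : N) y} := fun u => ⟨⟨t * ι (em u.1), hmem u⟩, by
      obtain ⟨n, hn, hnt⟩ := exists_n h b2 hP u.2
      rw [← hN] at hn
      exact isConj_iff.2 ⟨⟨n, hn⟩, Subtype.ext hnt⟩⟩
    have hf : Function.Bijective f := by
      constructor
      · intro u u' e
        have e1 : t * ι (em u.1) = t * ι (em u'.1) := congrArg (fun y => ((y.1 : N) : G)) e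
        exact Subtype.ext (em_inj (h.inj (mul_left_cancel e1)))
      · rintro ⟨y, hy⟩
        obtain ⟨n, hn⟩ := isConj_iff.1 hy
        have hn' : (n : G) * t * (n : G)⁻¹ = y := congrArg Subtype.val hn
        have hyE : (y : G) ∈ EE h := by
          rw [← hn']
          have h1 := hN.le n.2
          exact (mem_normalizer_iff.1 h1 t).1 htE
        obtain ⟨u, hu, hy' | hy'⟩ := hyE
        · exfalso
          apply disj (em u) (by rw [sign_em]; exact VV_sign u hu)
          rw [← hy']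
          exact isConj_iff.2 ⟨n, hn'⟩
        · exact ⟨⟨u, hu⟩, Subtype.ext (Subtype.ext hy'.symm)⟩
    rw [← Nat.card_eq_of_bijective f hf, Nat.card_eq_fintype_card, card_VV]
  rw [Lib.ModFour.card_isConj] at hclass
  -- `T ≤ N ∩ C(t)`
  have hTN : TT t ι ≤ N := by
    intro y hy
    rw [hN, mem_normalizer_iff_cj]
    apply eq_of_le_of_card_ge _ (card_cj y (EE h)).symm.le
    intro x hx
    rw [mem_cj] at hx
    obtain ⟨u, hu, hx'⟩ := hx
    obtain ⟨h1, h2, h3⟩ := mem_TT.1 hy
    obtain ⟨a, ha⟩ := h.cases h1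
    have ha1 := (comm_iff h ha).1 h2
    have ha2 := (comm_iff h ha).1 h3
    obtain ⟨b, hb⟩ := split ha1
    have hbz : b * z5 = z5 * b := by
      rw [← comm_e2_iff]
      rcases hb with hb | hb
      · rw [← hb]; exact ha2
      · rw [hb] at ha2
        apply mul_left_cancel (a := e1)
        rw [← mul_assoc, ha2, ← mul_assoc, ← mul_assoc, show e1 * e2 = e2 * e1 by decide]
    have hau : a * em u * a⁻¹ = em (b * u * b⁻¹) := by
      rcases hb with hb | hb
      · rw [hb, map_mul, map_mul, map_inv]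
      · have e := em_comm1 (b * u * b⁻¹)
        rw [hb]
        calc e1 * em b * em u * (e1 * em b)⁻¹ = e1 * (em b * em u * (em b)⁻¹) * e1⁻¹ := by group
          _ = e1 * em (b * u * b⁻¹) * e1⁻¹ := by rw [map_mul, map_mul, map_inv]
          _ = em (b * u * b⁻¹) := by rw [← e]; group
    have hyu : y * ι (em u) * y⁻¹ = ι (em (b * u * b⁻¹)) := by
      rw [← hau, map_mul, map_mul, map_inv]
      rcases ha with ha | ha
      · rw [ha]
      · rw [ha]
        have e := h.comm a
        have e2 : t * ι (em u) * t⁻¹ = ι (em u) := by rw [h.comm (em u)]; group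
        calc t * ι a * ι (em u) * (t * ι a)⁻¹ = (ι a * t) * ι (em u) * (ι a * t)⁻¹ := by rw [e]
          _ = ι a * (t * ι (em u) * t⁻¹) * (ι a)⁻¹ := by group
          _ = ι a * ι (em u) * (ι a)⁻¹ := by rw [e2]
    have hyt : y * t * y⁻¹ = t := by rw [h1]; group
    refine ⟨b * u * b⁻¹, conj_VV b hbz u hu, ?_⟩
    rcases hx' with hx' | hx'
    · left
      rw [← hyu, ← hx']; group
    · right
      have : x = y * (y⁻¹ * x * y) * y⁻¹ := by group
      rw [this, hx']
      calc y * (t * ι (em u)) * y⁻¹ = (y * t * y⁻¹) * (y * ι (em u) * y⁻¹) := by group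
        _ = t * ι (em (b * u * b⁻¹)) := by rw [hyt, hyu]
  have hle : (TT t ι).subgroupOf N ≤ centralizer ({(⟨t, htN⟩ : N)} : Set N) := by
    intro y hy
    rw [mem_centralizer_singleton_iff]
    exact Subtype.ext (mem_TT.1 hy).1
  have h32 := card_dvd_of_le hle
  rw [Nat.card_congr (subgroupOfEquivOfLe hTN).toEquiv, card_TT h] at h32
  have hNc := (centralizer ({(⟨t, htN⟩ : N)} : Set N)).card_mul_index
  rw [hclass] at hNc
  have h128 : 2 ^ 7 ∣ Nat.card N := by
    rw [← hNc, show (2 : ℕ) ^ 7 = 2 ^ 5 * 4 from rfl]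
    exact mul_dvd_mul h32 (dvd_refl 4)
  exact h128.trans (card_subgroup_dvd_card N)

end Pattern

open Pattern in
/-- **(1), (2): the pattern.** -/
theorem exists_all {G : Type*} [Group G] [Finite G] {t : G} {ι : S7 →* G} (hG : ∀ H : Subgroup G, H.index ≠ 2)
    (hr : ¬ SectionalPRankLE 2 4 G) (h : Spl t ι) (disj : ∀ a, Perm.sign a = 1 → ¬ IsConj t (ι a)) :
    ∃ ι', All t ι' := by
  classical
  have hA := even_A hG h
  have hB := even_B hG h
  have hM := mod_four hG h disj
  have hcard := card_G h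
  have hodd : 2 ∣ (centralizer ({t} : Set G)).index := by
    by_contra hcon
    exact hr (sect_of_odd h hcon)
  have h64 : 2 ^ 6 ∣ Nat.card G := by
    rw [hcard]
    obtain ⟨m, hm⟩ := hodd
    exact ⟨315 * m, by rw [hm]; ring⟩
  have key : IsConj t (t * ι e2) ∧ (IsConj t (ι e1) ↔ IsConj t (ι e3)) ∧
      (IsConj t (t * ι e1) ↔ IsConj t (t * ι e3)) ∧
      (IsConj t (ι e1) ∨ IsConj t (t * ι e1) ∨ (centralizer ({t} : Set G)).index % 4 = 2) := by
    rw [Nat.even_iff] at hA hB
    unfold Nat.ModEq at hM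
    by_cases p1 : IsConj t (ι e1) <;> by_cases p3 : IsConj t (ι e3) <;> by_cases q1 : IsConj t (t * ι e1) <;>
      by_cases q2 : IsConj t (t * ι e2) <;> by_cases q3 : IsConj t (t * ι e3) <;>
      simp only [p1, p3, q1, q2, q3, if_true, if_false, true_and, false_and, iff_true, iff_false,
        not_true_eq_false, true_or, false_or, or_true] at hA hB hM ⊢ <;> omega
  obtain ⟨b2, h13, g13, hlast⟩ := key
  have hcases : (IsConj t (ι e1) ∧ ¬ IsConj t (t * ι e1)) ∨ (¬ IsConj t (ι e1) ∧ IsConj t (t * ι e1)) := by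
    by_cases p1 : IsConj t (ι e1)
    · left
      refine ⟨p1, fun q1 => ?_⟩
      exact z_case h h64 p1 (h13.1 p1) q1 b2 (g13.1 q1)
    · right
      refine ⟨p1, ?_⟩
      by_contra q1
      have h2 : (centralizer ({t} : Set G)).index % 4 = 2 := by
        rcases hlast with h2 | h2 | h2
        · exact absurd h2 p1
        · exact absurd h2 q1
        · exact h2
      have h3 := lemma_B h disj b2 (pattern_B h disj p1 (fun e => p1 (h13.2 e)) q1 (fun e => q1 (g13.2 e)))
      rw [hcard] at h3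
      have h4 : 4 ∣ 315 * (centralizer ({t} : Set G)).index := by
        obtain ⟨m, hm⟩ := h3
        exact ⟨m, by omega⟩
      omega
  rcases hcases with ⟨p1, q1⟩ | ⟨p1, q1⟩
  · -- the other complement
    refine ⟨twist t h.tt ι h.comm, ?_⟩
    have ht1 : ∀ a : S7, a * a = 1 → a ≠ 1 → (a.cycleType = e1.cycleType ∧ Perm.sign a = -1) ∨
        (a.cycleType = e2.cycleType ∧ Perm.sign a = 1) ∨ (a.cycleType = e3.cycleType ∧ Perm.sign a = -1) := by
      intro a ha ha1
      have hs : ∀ b : S7, a.cycleType = b.cycleType → Perm.sign a = Perm.sign b := by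
        intro b hb
        obtain ⟨c, rfl⟩ := isConj_iff.1 (Perm.isConj_iff_cycleType_eq.2 hb.symm)
        rw [map_mul, map_mul, map_inv, mul_comm (Perm.sign c), mul_assoc, mul_inv_cancel, mul_one]
      rcases type_of_sq ha with h1 | h1 | h1 | h1
      · exact absurd h1 ha1
      · rw [← ct1] at h1
        exact Or.inl ⟨h1, (hs _ h1).trans (by decide)⟩
      · rw [← ct2] at h1
        exact Or.inr (Or.inl ⟨h1, (hs _ h1).trans (by decide)⟩)
      · rw [← ct3] at h1
        exact Or.inr (Or.inr ⟨h1, (hs _ h1).trans (by decide)⟩)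
    have hne : (-1 : ℤˣ) ≠ 1 := by decide
    refine { toSpl := spl_twist h, yes := ?_, no := ?_ }
    · intro a ha ha1
      rw [twist_apply]
      rcases ht1 a ha ha1 with ⟨h1, h2⟩ | ⟨h1, h2⟩ | ⟨h1, h2⟩
      · rw [if_neg (by rw [h2]; exact hne), ← mul_assoc, h.tt, one_mul]
        exact conj_iota h1.symm p1
      · rw [if_pos h2, one_mul]
        exact conj_t_iota h h1.symm b2
      · rw [if_neg (by rw [h2]; exact hne), ← mul_assoc, h.tt, one_mul]
        exact conj_iota h1.symm (h13.1 p1)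
    · intro a ha ha1
      rw [twist_apply]
      rcases ht1 a ha ha1 with ⟨h1, h2⟩ | ⟨h1, h2⟩ | ⟨h1, h2⟩
      · rw [if_neg (by rw [h2]; exact hne)]
        exact fun e => q1 (conj_t_iota h h1 e)
      · rw [if_pos h2, one_mul]
        exact disj a h2
      · rw [if_neg (by rw [h2]; exact hne)]
        exact fun e => q1 (g13.2 (conj_t_iota h h1 e))
  · refine ⟨ι, { toSpl := h, yes := ?_, no := ?_ }⟩
    · intro a ha ha1
      rcases type_of_sq ha with h1 | h1 | h1 | h1
      · exact absurd h1 ha1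
      · exact conj_t_iota h (ct1.trans h1.symm) q1
      · exact conj_t_iota h (ct2.trans h1.symm) b2
      · exact conj_t_iota h (ct3.trans h1.symm) (g13.1 q1)
    · intro a ha ha1
      rcases type_of_sq ha with h1 | h1 | h1 | h1
      · exact absurd h1 ha1
      · exact fun e => p1 (conj_iota (h1.trans ct1.symm) e)
      · exact fun e => disj e2 (by decide) (conj_iota (h1.trans ct2.symm) e)
      · exact fun e => p1 (h13.2 (conj_iota (h1.trans ct3.symm) e))

end Cfsg.Agent.OddHalf.D5.Seven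

end

private theorem dce_c99352caf380 : _root_.True := by
  try have : _root_.True := by simp only [_root_.Cfsg.Agent.OddHalf.D5.Seven.Count.e2.eq_1]
  try have : _root_.True := by simp only [_root_.Cfsg.Agent.OddHalf.D5.Seven.Pattern.TT.eq_1]
  try have : _root_.True := by simp only [_root_.Cfsg.Agent.OddHalf.D5.Seven.Count.e3.eq_1]
  exact _root_.True.intro
end

-- part: OddHalf/D4/L3/Double
section
prune_inst 0x400100600182200000000000230001c42d2000102004800000000020006808c400800082084a00010100020040034006001080040420000000a000000011c00800000000280080000000000000000000000000000000000000000000000000000000000000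
set_option linter.all false
open scoped Cfsg.Agent.FastGrp

-- part: OddHalf/D4/L3/FrameK
section
-- merged: Cfsg.Agent.OddHalf.D4.L3.Mat
section

/-!
# ODD, D4, row `L_3(2^a)`: matrices

`um a b c` : the unitriangular matrix with entries `a = (0,1)`, `b = (1,2)`, `c = (0,2)`; `hm x y = diag(x, y, (xy)⁻¹)`;
`nr`, `ns` : the reflections exchanging the last two, the first two coordinates.
-/

set_option autoImplicit false
set_option linter.unusedSectionVars false

namespace Cfsg.Agent.OddHalf.D4.L3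

open Cfsg.Agent.ClassicalGeometry.AutPSL.Root

variable {F : Type*} [Field F]

/-- `SL_3` -/
abbrev SL3 (F : Type*) [Field F] := Matrix.SpecialLinearGroup (Fin 3) F
/-- `PSL_3` -/
abbrev Y3 (F : Type*) [Field F] := Matrix.ProjectiveSpecialLinearGroup (Fin 3) F

/-- unitriangular -/
def um (a b c : F) : SL3 F := ⟨!![1, a, c; 0, 1, b; 0, 0, 1], by simp [Matrix.det_fin_three]⟩
/-- torus -/
def hm (x y : Fˣ) : SL3 F := ⟨!![(x : F), 0, 0; 0, (y : F), 0; 0, 0, ((x * y)⁻¹ : Fˣ)], by
  rw [Matrix.det_fin_three]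
  simp only [_root_.mul_inv_rev, _root_.Units.val_mul, _root_.Units.val_inv_eq_inv_val, _root_.Fin.isValue, _root_.Matrix.of_apply, _root_.Matrix.cons_val', _root_.Matrix.cons_val_zero, _root_.Matrix.cons_val_fin_one, _root_.Matrix.cons_val_one, _root_.Matrix.cons_val, _root_.MulZeroClass.mul_zero, _root_.sub_zero, _root_.MulZeroClass.zero_mul, _root_.add_zero]
  field_simp⟩
/-- the reflection exchanging the last two coordinates -/
def nr : SL3 F := ⟨!![1, 0, 0; 0, 0, 1; 0, -1, 0], by simp [Matrix.det_fin_three]⟩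
/-- the reflection exchanging the first two coordinates -/
def ns : SL3 F := ⟨!![0, 1, 0; -1, 0, 0; 0, 0, 1], by simp [Matrix.det_fin_three]⟩
/-- lower triangular, last two coordinates -/
def lr (t : F) : SL3 F := ⟨!![1, 0, 0; 0, 1, 0; 0, t, 1], by simp [Matrix.det_fin_three]⟩
/-- lower triangular, first two coordinates -/
def ls (t : F) : SL3 F := ⟨!![1, 0, 0; t, 1, 0; 0, 0, 1], by simp [Matrix.det_fin_three]⟩

theorem sl3_ext {A B : SL3 F} (h : ∀ i j, A.1 i j = B.1 i j) : A = B := Subtype.ext (Matrix.ext h)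

theorem um_mul (a b c a' b' c' : F) : um a b c * um a' b' c' = um (a + a') (b + b') (c + c' + a * b') := by
  apply sl3_ext
  intro i j
  rw [Matrix.SpecialLinearGroup.coe_mul, Matrix.mul_apply, Fin.sum_univ_three]
  (revert i j; simp only [um, _root_.Fin.forall_fin_succ, Fin.isValue, _root_.Matrix.of_apply, _root_.Matrix.cons_val', _root_.Matrix.cons_val_zero, _root_.Matrix.cons_val_fin_one, _root_.Matrix.cons_val_one, _root_.Matrix.cons_val, _root_.mul_one, _root_.MulZeroClass.mul_zero, _root_.add_zero, _root_.Matrix.cons_val_succ, _root_.forall_const, _root_.true_and, _root_.one_mul, _root_.add_eq_right, _root_.mul_eq_zero, _root_.true_or, _root_.MulZeroClass.zero_mul, _root_.zero_add, _root_.and_self, _root_.implies_true, _root_.and_true]) <;> (repeat' with_reducible apply And.intro) <;> ring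

theorem um_zero : um (0 : F) 0 0 = 1 := by
  apply sl3_ext
  intro i j
  (revert i j; simp only [um, _root_.Fin.forall_fin_succ, _root_.Matrix.of_apply, _root_.Matrix.cons_val', _root_.Matrix.cons_val_fin_one, _root_.Matrix.SpecialLinearGroup.coe_one, Fin.isValue, _root_.Matrix.cons_val_zero, _root_.Matrix.cons_val_succ, _root_.IsEmpty.forall_iff, _root_.and_true, _root_.Matrix.one_apply_eq, Nat.reduceAdd, _root_.Fin.succ_zero_eq_one, _root_.ne_eq, _root_.zero_ne_one, _root_.not_false_eq_true, _root_.Matrix.one_apply_ne, _root_.Fin.succ_one_eq_two, Fin.reduceEq, _root_.and_self, _root_.Fin.succ_ne_zero, _root_.true_and])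

theorem um_inv (a b c : F) : (um a b c)⁻¹ = um (-a) (-b) (a * b - c) := by
  rw [inv_eq_iff_mul_eq_one, um_mul, ← um_zero]
  congr 1 <;> ring

theorem hm_mul (x y x' y' : Fˣ) : hm x y * hm x' y' = hm (x * x') (y * y') := by
  apply sl3_ext
  intro i j
  rw [Matrix.SpecialLinearGroup.coe_mul, Matrix.mul_apply, Fin.sum_univ_three]
  (revert i j; simp only [hm, _root_.Fin.forall_fin_succ, _root_.mul_inv_rev, _root_.Units.val_mul, _root_.Units.val_inv_eq_inv_val, Fin.isValue, _root_.Matrix.of_apply, _root_.Matrix.cons_val', _root_.Matrix.cons_val_zero, _root_.Matrix.cons_val_fin_one, _root_.Matrix.cons_val_one, _root_.Matrix.cons_val, _root_.MulZeroClass.mul_zero, _root_.add_zero, _root_.Matrix.cons_val_succ, _root_.zero_add, _root_.forall_const, _root_.MulZeroClass.zero_mul, _root_.and_self, _root_.true_and]) <;> (repeat' with_reducible apply And.intro) <;> ring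

theorem hm_one : hm (1 : Fˣ) 1 = 1 := by
  apply sl3_ext
  intro i j
  (revert i j; simp only [hm, _root_.Fin.forall_fin_succ, _root_.Units.val_one, _root_.mul_one, _root_.inv_one, _root_.Matrix.of_apply, _root_.Matrix.cons_val', _root_.Matrix.cons_val_fin_one, _root_.Matrix.SpecialLinearGroup.coe_one, Fin.isValue, _root_.Matrix.cons_val_zero, _root_.Matrix.cons_val_succ, _root_.IsEmpty.forall_iff, _root_.and_true, _root_.Matrix.one_apply_eq, Nat.reduceAdd, _root_.Fin.succ_zero_eq_one, _root_.ne_eq, _root_.zero_ne_one, _root_.not_false_eq_true, _root_.Matrix.one_apply_ne, _root_.Fin.succ_one_eq_two, Fin.reduceEq, _root_.and_self, _root_.Fin.succ_ne_zero, _root_.true_and])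

theorem hm_inv (x y : Fˣ) : (hm x y)⁻¹ = hm x⁻¹ y⁻¹ := by
  rw [inv_eq_iff_mul_eq_one, hm_mul, mul_inv_cancel, mul_inv_cancel, hm_one]

theorem hm_um (x y : Fˣ) (a b c : F) :
    hm x y * um a b c = um ((x * y⁻¹ : Fˣ) * a) ((x * y ^ 2 : Fˣ) * b) ((x ^ 2 * y : Fˣ) * c) * hm x y := by
  apply sl3_ext
  intro i j
  rw [Matrix.SpecialLinearGroup.coe_mul, Matrix.mul_apply, Fin.sum_univ_three,
    Matrix.SpecialLinearGroup.coe_mul, Matrix.mul_apply, Fin.sum_univ_three]
  (revert i j; simp only [hm, um, _root_.Fin.forall_fin_succ, _root_.mul_inv_rev, _root_.Units.val_mul, _root_.Units.val_inv_eq_inv_val, Fin.isValue, _root_.Matrix.of_apply, _root_.Matrix.cons_val', _root_.Matrix.cons_val_zero, _root_.Matrix.cons_val_fin_one, _root_.Matrix.cons_val_one, _root_.Matrix.cons_val, _root_.Units.val_pow_eq_pow_val, _root_.mul_one, _root_.MulZeroClass.mul_zero, _root_.add_zero, _root_.Matrix.cons_val_succ, _root_.zero_add, _root_.forall_const, _root_.one_mul, _root_.MulZeroClass.zero_mul,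 _root_.true_and, _root_.and_self, _root_.implies_true, _root_.and_true]) <;> (repeat' with_reducible apply And.intro) <;> field_simp

theorem nr_um_a (a : F) : nr * um a 0 0 = um 0 0 (-a) * nr := by
  apply sl3_ext
  intro i j
  rw [Matrix.SpecialLinearGroup.coe_mul, Matrix.mul_apply, Fin.sum_univ_three,
    Matrix.SpecialLinearGroup.coe_mul, Matrix.mul_apply, Fin.sum_univ_three]
  (revert i j; simp only [nr, um, _root_.Fin.forall_fin_succ, Fin.isValue, _root_.Matrix.of_apply, _root_.Matrix.cons_val', _root_.Matrix.cons_val_zero, _root_.Matrix.cons_val_fin_one, _root_.Matrix.cons_val_one, _root_.Matrix.cons_val, _root_.mul_one, _root_.MulZeroClass.mul_zero, _root_.add_zero, _root_.Matrix.cons_val_succ, _root_.mul_neg, _root_.zero_add, _root_.implies_true, _root_.and_true, _root_.true_and, _root_.one_mul, _root_.neg_neg, _root_.MulZeroClass.zero_mul, _root_.neg_zero, _root_.and_self])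

theorem ns_um_b (b : F) : ns * um 0 b 0 = um 0 0 b * ns := by
  apply sl3_ext
  intro i j
  rw [Matrix.SpecialLinearGroup.coe_mul, Matrix.mul_apply, Fin.sum_univ_three,
    Matrix.SpecialLinearGroup.coe_mul, Matrix.mul_apply, Fin.sum_univ_three]
  (revert i j; simp only [ns, um, _root_.Fin.forall_fin_succ, Fin.isValue, _root_.Matrix.of_apply, _root_.Matrix.cons_val', _root_.Matrix.cons_val_zero, _root_.Matrix.cons_val_fin_one, _root_.Matrix.cons_val_one, _root_.Matrix.cons_val, _root_.mul_one, _root_.MulZeroClass.mul_zero, _root_.add_zero, _root_.mul_neg, _root_.zero_add, _root_.Matrix.cons_val_succ, _root_.forall_const, _root_.true_and, _root_.neg_zero, _root_.one_mul, _root_.and_self, _root_.add_eq_right, _root_.mul_eq_zero, _root_.true_or, _root_.implies_true])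

/-- conjugation of `(0,2)` by a lower triangular element -/
theorem lr_um (t a c : F) : lr t * um a 0 c = um (a - c * t) 0 c * lr t := by
  apply sl3_ext
  intro i j
  rw [Matrix.SpecialLinearGroup.coe_mul, Matrix.mul_apply, Fin.sum_univ_three,
    Matrix.SpecialLinearGroup.coe_mul, Matrix.mul_apply, Fin.sum_univ_three]
  (revert i j; simp only [lr, um, _root_.Fin.forall_fin_succ, Fin.isValue, _root_.Matrix.of_apply, _root_.Matrix.cons_val', _root_.Matrix.cons_val_zero, _root_.Matrix.cons_val_fin_one, _root_.Matrix.cons_val_one, _root_.Matrix.cons_val, _root_.mul_one, _root_.MulZeroClass.mul_zero, _root_.add_zero, _root_.Matrix.cons_val_succ, _root_.zero_add, _root_.forall_const, _root_.true_and, _root_.one_mul, _root_.sub_add_cancel, _root_.and_self, _root_.add_eq_right, _root_.mul_eq_zero, _root_.MulZeroClass.zero_mul, _root_.true_or, _root_.implies_true])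

theorem ls_um (t b c : F) : ls t * um 0 b c = um 0 (b + t * c) c * ls t := by
  apply sl3_ext
  intro i j
  rw [Matrix.SpecialLinearGroup.coe_mul, Matrix.mul_apply, Fin.sum_univ_three,
    Matrix.SpecialLinearGroup.coe_mul, Matrix.mul_apply, Fin.sum_univ_three]
  (revert i j; simp only [ls, um, _root_.Fin.forall_fin_succ, Fin.isValue, _root_.Matrix.of_apply, _root_.Matrix.cons_val', _root_.Matrix.cons_val_zero, _root_.Matrix.cons_val_fin_one, _root_.Matrix.cons_val_one, _root_.Matrix.cons_val, _root_.mul_one, _root_.MulZeroClass.mul_zero, _root_.add_zero, _root_.Matrix.cons_val_succ, _root_.zero_add, _root_.forall_const, _root_.true_and, _root_.MulZeroClass.zero_mul, _root_.one_mul, _root_.and_self, _root_.implies_true, _root_.and_true]) <;> (repeat' with_reducible apply And.intro) <;> ring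

/-- an upper triangular matrix -/
theorem upper_decomp (g : SL3 F) (h1 : g.1 1 0 = 0) (h2 : g.1 2 0 = 0) (h3 : g.1 2 1 = 0) :
    ∃ (x y : Fˣ) (a b c : F), g = hm x y * um a b c := by
  have hd : g.1.det = 1 := g.2
  rw [Matrix.det_fin_three, h1, h2, h3] at hd
  have hd' : g.1 0 0 * g.1 1 1 * g.1 2 2 = 1 := by
    linear_combination hd
  have hx : g.1 0 0 ≠ 0 := by
    intro h0; rw [h0, zero_mul, zero_mul] at hd'; exact zero_ne_one hd'
  have hy : g.1 1 1 ≠ 0 := by
    intro h0; rw [h0, mul_zero, zero_mul] at hd'; exact zero_ne_one hd'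
  refine ⟨Units.mk0 _ hx, Units.mk0 _ hy, (g.1 0 0)⁻¹ * g.1 0 1, (g.1 1 1)⁻¹ * g.1 1 2, (g.1 0 0)⁻¹ * g.1 0 2, ?_⟩
  apply sl3_ext
  intro i j
  rw [Matrix.SpecialLinearGroup.coe_mul, Matrix.mul_apply, Fin.sum_univ_three]
  (revert i j; simp only [hm, um, h1, h2, h3, hx, hy, _root_.Fin.forall_fin_succ, Fin.isValue, _root_.Units.val_mk0, _root_.mul_inv_rev, _root_.Units.val_mul, _root_.Units.val_inv_eq_inv_val, _root_.Matrix.of_apply, _root_.Matrix.cons_val', _root_.Matrix.cons_val_zero, _root_.Matrix.cons_val_fin_one, _root_.Matrix.cons_val_one, _root_.Matrix.cons_val, _root_.mul_one, _root_.MulZeroClass.mul_zero, _root_.add_zero, _root_.Matrix.cons_val_succ, _root_.Fin.succ_zero_eq_one, _root_.Fin.succ_one_eq_two, _root_.IsEmpty.forall_iff, _root_.ne_eq, _root_.not_false_eq_true, _root_.mul_inv_cancel_left₀, _root_.MulZeroClass.zero_mul, _root_.zero_add, _root_.and_true, _root_.true_and]) <;> (repeat' with_reducible apply And.intro)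
  field_simp
  linear_combination hd'

theorem um_eq01 (a : F) : um a 0 0 = Matrix.SpecialLinearGroup.transvection (show (0 : Fin 3) ≠ 1 by decide) a := by
  apply sl3_ext
  intro i j
  show _ = (1 + Matrix.single 0 1 a : Matrix (Fin 3) (Fin 3) F) i j
  (revert i j; simp only [um, Matrix.single_apply, _root_.Fin.forall_fin_succ, _root_.Matrix.of_apply, _root_.Matrix.cons_val', _root_.Matrix.cons_val_fin_one, Fin.isValue, _root_.Matrix.add_apply, _root_.Matrix.cons_val_zero, _root_.one_ne_zero, _root_.and_false, ↓reduceIte, _root_.add_zero, _root_.Matrix.cons_val_succ, _root_.Fin.succ_zero_eq_one, _root_.and_true, _root_.Fin.succ_one_eq_two, Fin.reduceEq, _root_.IsEmpty.forall_iff, _root_.Matrix.one_apply_eq, Nat.reduceAdd, _root_.ne_eq, _root_.zero_ne_one, _root_.not_false_eq_true, _root_.Matrix.one_apply_ne, _root_.zero_add, _root_.and_self, _root_.Fin.succ_ne_zero, _root_.true_and])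

theorem um_eq12 (a : F) : um 0 a 0 = Matrix.SpecialLinearGroup.transvection (show (1 : Fin 3) ≠ 2 by decide) a := by
  apply sl3_ext
  intro i j
  show _ = (1 + Matrix.single 1 2 a : Matrix (Fin 3) (Fin 3) F) i j
  (revert i j; simp only [um, Matrix.single_apply, _root_.Fin.forall_fin_succ, _root_.Matrix.of_apply, _root_.Matrix.cons_val', _root_.Matrix.cons_val_fin_one, Fin.isValue, _root_.Matrix.add_apply, _root_.Matrix.cons_val_zero, Fin.reduceEq, _root_.and_false, ↓reduceIte, _root_.add_zero, _root_.Matrix.cons_val_succ, _root_.Fin.succ_zero_eq_one, _root_.Fin.succ_one_eq_two, _root_.and_true, _root_.IsEmpty.forall_iff, _root_.Matrix.one_apply_eq, Nat.reduceAdd, _root_.ne_eq, _root_.zero_ne_one, _root_.not_false_eq_true, _root_.Matrix.one_apply_ne, _root_.one_ne_zero, _root_.and_self, _root_.Fin.succ_ne_zero, _root_.zero_add, _root_.true_and])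

theorem um_eq02 (a : F) : um 0 0 a = Matrix.SpecialLinearGroup.transvection (show (0 : Fin 3) ≠ 2 by decide) a := by
  apply sl3_ext
  intro i j
  show _ = (1 + Matrix.single 0 2 a : Matrix (Fin 3) (Fin 3) F) i j
  (revert i j; simp only [um, Matrix.single_apply, _root_.Fin.forall_fin_succ, _root_.Matrix.of_apply, _root_.Matrix.cons_val', _root_.Matrix.cons_val_fin_one, Fin.isValue, _root_.Matrix.add_apply, _root_.Matrix.cons_val_zero, Fin.reduceEq, _root_.and_false, ↓reduceIte, _root_.add_zero, _root_.Matrix.cons_val_succ, _root_.Fin.succ_zero_eq_one, _root_.Fin.succ_one_eq_two, _root_.and_true, _root_.IsEmpty.forall_iff, _root_.Matrix.one_apply_eq, Nat.reduceAdd, _root_.ne_eq, _root_.zero_ne_one, _root_.not_false_eq_true, _root_.Matrix.one_apply_ne, _root_.zero_add, _root_.and_self, _root_.Fin.succ_ne_zero, _root_.true_and])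

theorem lr_eq (a : F) : lr a = Matrix.SpecialLinearGroup.transvection (show (2 : Fin 3) ≠ 1 by decide) a := by
  apply sl3_ext
  intro i j
  show _ = (1 + Matrix.single 2 1 a : Matrix (Fin 3) (Fin 3) F) i j
  (revert i j; simp only [lr, Matrix.single_apply, _root_.Fin.forall_fin_succ, _root_.Matrix.of_apply, _root_.Matrix.cons_val', _root_.Matrix.cons_val_fin_one, Fin.isValue, _root_.Matrix.add_apply, _root_.Matrix.cons_val_zero, _root_.one_ne_zero, _root_.and_false, ↓reduceIte, _root_.add_zero, _root_.Matrix.cons_val_succ, _root_.Fin.succ_zero_eq_one, _root_.and_true, _root_.Fin.succ_one_eq_two, Fin.reduceEq, _root_.IsEmpty.forall_iff, _root_.Matrix.one_apply_eq, Nat.reduceAdd, _root_.ne_eq, _root_.zero_ne_one, _root_.not_false_eq_true, _root_.Matrix.one_apply_ne, _root_.and_self, _root_.Fin.succ_ne_zero, _root_.true_and, _root_.zero_add])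

theorem ls_eq (a : F) : ls a = Matrix.SpecialLinearGroup.transvection (show (1 : Fin 3) ≠ 0 by decide) a := by
  apply sl3_ext
  intro i j
  show _ = (1 + Matrix.single 1 0 a : Matrix (Fin 3) (Fin 3) F) i j
  (revert i j; simp only [ls, Matrix.single_apply, _root_.Fin.forall_fin_succ, _root_.Matrix.of_apply, _root_.Matrix.cons_val', _root_.Matrix.cons_val_fin_one, Fin.isValue, _root_.Matrix.add_apply, _root_.Matrix.cons_val_zero, _root_.and_true, _root_.Matrix.cons_val_succ, _root_.Fin.succ_zero_eq_one, _root_.zero_ne_one, _root_.and_false, ↓reduceIte, _root_.add_zero, _root_.Fin.succ_one_eq_two, Fin.reduceEq, _root_.IsEmpty.forall_iff, _root_.Matrix.one_apply_eq, _root_.one_ne_zero, Nat.reduceAdd, _root_.ne_eq, _root_.not_false_eq_true, _root_.Matrix.one_apply_ne, _root_.and_self, _root_.Fin.succ_ne_zero, _root_.zero_add, _root_.right_eq_ite_iff])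

/-- the last root group is a commutator -/
theorem l20 (t : F) : Matrix.SpecialLinearGroup.transvection (show (2 : Fin 3) ≠ 0 by decide) t =
    lr t * ls 1 * lr (-t) * ls (-1) := by
  apply sl3_ext
  intro i j
  show (1 + Matrix.single 2 0 t : Matrix (Fin 3) (Fin 3) F) i j = _
  simp only [Matrix.SpecialLinearGroup.coe_mul, Matrix.mul_apply, Fin.sum_univ_three]
  (revert i j; simp only [lr, ls, Matrix.single_apply, _root_.Fin.forall_fin_succ, Fin.isValue, _root_.Matrix.add_apply, _root_.Matrix.of_apply, _root_.Matrix.cons_val', _root_.Matrix.cons_val_zero, _root_.Matrix.cons_val_fin_one, _root_.mul_one, _root_.Matrix.cons_val_one, _root_.Matrix.cons_val, _root_.MulZeroClass.mul_zero, _root_.add_zero, _root_.zero_add, _root_.mul_neg, _root_.and_true, _root_.neg_add_rev, _root_.neg_neg, _root_.Matrix.cons_val_succ, _root_.Fin.succ_zero_eq_one, _root_.zero_ne_one, _root_.and_false, ↓reduceIte, _root_.Fin.succ_one_eq_two, Fin.reduceEq, _root_.IsEmpty.forall_iff,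 _root_.Matrix.one_apply_eq, _root_.MulZeroClass.zero_mul, _root_.neg_zero, Nat.reduceAdd, _root_.ne_eq, _root_.not_false_eq_true, _root_.Matrix.one_apply_ne, _root_.and_self, _root_.Fin.succ_ne_zero, _root_.add_neg_cancel, _root_.one_mul, _root_.ite_eq_left_iff, _root_.not_true_eq_false])

/-- equality in `PSL_3` of unitriangular matrices -/
theorem pr_um_inj {a b c a' b' c' : F} (h : pr (um a b c) = pr (um a' b' c')) : a = a' ∧ b = b' ∧ c = c' := by
  obtain ⟨r, hr⟩ := exists_smul_of_pr_eq h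
  have h0 := congrFun (congrFun hr 0) 0
  have h1 := congrFun (congrFun hr 0) 1
  have h2 := congrFun (congrFun hr 1) 2
  have h3 := congrFun (congrFun hr 0) 2
  simp only [um, _root_.Cfsg.Agent.OddHalf.D4.L3.um, _root_.Fin.isValue, _root_.Matrix.of_apply, _root_.Matrix.cons_val', _root_.Matrix.cons_val_zero, _root_.Matrix.cons_val_fin_one, _root_.Matrix.smul_apply, _root_.smul_eq_mul, _root_.mul_one, _root_.Matrix.cons_val_one, _root_.Matrix.cons_val] at h0 h1 h2 h3
  subst h0
  exact ⟨by rw [h1, one_mul], by rw [h2, one_mul], by rw [h3, one_mul]⟩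

end Cfsg.Agent.OddHalf.D4.L3

end

-- merged: Cfsg.Agent.OddHalf.D4.L3.Aut
section

/-!
# ODD, D4, row `L_3(2^a)`: automorphisms of `PSL_3(F)`

* `conj_of_smul` : `A = r g`, `det g = 1`: conjugation by `A` is inner;
* `inner_of_two` : a 2-element of `PGL_3` is in `PSL_3`;
* `comm_pgl` : commutators of automorphisms are in `PGL_3`;
* `fix_row`, `fix_col` : automorphisms trivial on one of the two elementary abelian subgroups of order `q²` of a Sylow
  2-subgroup.
-/

set_option autoImplicit false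
set_option linter.unusedSectionVars false

namespace Cfsg.Agent.OddHalf.D4.L3

open Matrix Cfsg.Agent.ClassicalGeometry.AutPSL.Root Cfsg.Agent.ClassicalGeometry.AutPSL.Auto
  Cfsg.Agent.ClassicalGeometry.AutPSL.Main Cfsg.Agent.Schreier.ClassPSL
open scoped commutatorElement

variable {F : Type*} [Field F]

/-- conjugation by a multiple of a matrix of determinant 1 is inner -/
theorem conj_of_smul {A : GL (Fin 3) F} {g : SL3 F} {r : F} (h : (A : Matrix (Fin 3) (Fin 3) F) = r • g.1) :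
    lift (cj A) = MulAut.conj (pr g) := by
  apply MulEquiv.ext
  intro x
  obtain ⟨x, rfl⟩ := pr_surjective x
  rw [lift_pr, MulAut.conj_apply, ← map_inv, ← map_mul, ← map_mul]
  (with_reducible congr 1)
  apply Subtype.ext
  rw [coe_cj]
  have hr : r ≠ 0 := by
    rintro rfl
    rw [zero_smul] at h
    have h1 : (A : Matrix (Fin 3) (Fin 3) F) * ((A⁻¹ : GL (Fin 3) F) : Matrix (Fin 3) (Fin 3) F) = 1 := by
      rw [← Units.val_mul, mul_inv_cancel, Units.val_one]
    rw [h, zero_mul] at h1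
    have := congrFun (congrFun h1 0) 0
    simp at this
  have hg : g.1 * (g⁻¹ : SL3 F).1 = 1 := by
    have : (g * g⁻¹ : SL3 F).1 = 1 := by rw [mul_inv_cancel]; rfl
    exact this
  have hinv : ((A⁻¹ : GL (Fin 3) F) : Matrix (Fin 3) (Fin 3) F) = r⁻¹ • (g⁻¹ : SL3 F).1 := by
    have h1 : (A : Matrix (Fin 3) (Fin 3) F) * (r⁻¹ • (g⁻¹ : SL3 F).1) = 1 := by
      rw [h, Matrix.smul_mul, Matrix.mul_smul, hg, smul_smul, mul_inv_cancel₀ hr, one_smul]
    have h2 : ((A⁻¹ : GL (Fin 3) F) : Matrix (Fin 3) (Fin 3) F) * (A : Matrix (Fin 3) (Fin 3) F) = 1 := by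
      rw [← Units.val_mul, inv_mul_cancel, Units.val_one]
    calc ((A⁻¹ : GL (Fin 3) F) : Matrix (Fin 3) (Fin 3) F)
        = ((A⁻¹ : GL (Fin 3) F) : Matrix (Fin 3) (Fin 3) F) *
          ((A : Matrix (Fin 3) (Fin 3) F) * (r⁻¹ • (g⁻¹ : SL3 F).1)) := by rw [h1, mul_one]
      _ = _ := by rw [← mul_assoc, h2, one_mul]
  rw [hinv, h, Matrix.smul_mul, Matrix.smul_mul, Matrix.mul_smul, smul_smul, mul_inv_cancel₀ hr, one_smul]
  rfl

/-- the cube of an element of `PGL_3` is in `PSL_3` -/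
theorem cube_inner (A : GL (Fin 3) F) : ∃ y : Y3 F, lift (cj A) ^ 3 = MulAut.conj y := by
  have hd : (A : Matrix (Fin 3) (Fin 3) F).det ≠ 0 := by
    have := A.det.ne_zero
    rwa [Matrix.GeneralLinearGroup.val_det_apply] at this
  set d := (A : Matrix (Fin 3) (Fin 3) F).det with hdd
  let g : SL3 F := ⟨d⁻¹ • ((A ^ 3 : GL (Fin 3) F) : Matrix (Fin 3) (Fin 3) F), by
    rw [Matrix.det_smul, Units.val_pow_eq_pow_val, Matrix.det_pow, ← hdd, Fintype.card_fin, ← mul_pow,
      inv_mul_cancel₀ hd, one_pow]⟩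
  refine ⟨pr g, ?_⟩
  rw [← map_pow, ← map_pow]
  apply conj_of_smul (r := d)
  show ((A ^ 3 : GL (Fin 3) F) : Matrix (Fin 3) (Fin 3) F) = d • (d⁻¹ • _)
  rw [smul_smul, mul_inv_cancel₀ hd, one_smul]

/-- the inner automorphisms -/
def Inn (Y : Type*) [Group Y] : Subgroup (MulAut Y) := (MulAut.conj : Y →* MulAut Y).range

theorem mem_Inn {Y : Type*} [Group Y] {α : MulAut Y} : α ∈ Inn Y ↔ ∃ y, α = MulAut.conj y :=
  ⟨fun ⟨y, hy⟩ => ⟨y, hy.symm⟩, fun ⟨y, hy⟩ => ⟨y, hy.symm⟩⟩

/-- a 2-element of `PGL_3` is in `PSL_3` -/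
theorem inner_of_two {A : GL (Fin 3) F} {k : ℕ} (h : lift (cj A) ^ 2 ^ k = (1 : MulAut (Y3 F))) :
    lift (cj A) ∈ Inn (Y3 F) := by
  have h3 : lift (cj A) ^ 3 ∈ Inn (Y3 F) := mem_Inn.2 (cube_inner A)
  have hc : Nat.Coprime 3 (2 ^ k) := by
    apply Nat.Coprime.pow_right
    norm_num
  have h1 : (1 : ℤ) = 3 * Nat.gcdA 3 (2 ^ k) + (2 ^ k : ℕ) * Nat.gcdB 3 (2 ^ k) := by
    have := Nat.gcd_eq_gcd_ab 3 (2 ^ k)
    rw [Nat.Coprime.gcd_eq_one hc] at this
    exact_mod_cast this
  have h2 : lift (cj A) = (lift (cj A) ^ 3) ^ Nat.gcdA 3 (2 ^ k) := by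
    calc lift (cj A) = lift (cj A) ^ (1 : ℤ) := by rw [zpow_one]
      _ = lift (cj A) ^ ((3 : ℤ) * Nat.gcdA 3 (2 ^ k) + (2 ^ k : ℕ) * Nat.gcdB 3 (2 ^ k)) := by rw [← h1]
      _ = (lift (cj A) ^ 3) ^ Nat.gcdA 3 (2 ^ k) * (lift (cj A) ^ (2 ^ k : ℕ)) ^ Nat.gcdB 3 (2 ^ k) := by
          rw [_root_.zpow_add, _root_.zpow_mul, _root_.zpow_mul]
          norm_cast
      _ = _ := by rw [h, _root_.one_zpow, mul_one]
  rw [h2]
  exact zpow_mem h3 _

/-- Every automorphism is a product of an element of `PGL_3`, a field automorphism and possibly the inverse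
transpose. -/
theorem forms [Finite F] (α : MulAut (Y3 F)) :
    (∃ (A : GL (Fin 3) F) (σ : F ≃+* F), α = lift (cj A * fld σ)) ∨
    (∃ (A : GL (Fin 3) F) (σ : F ≃+* F), α = lift (cj A * fld σ * itr)) := by
  have := Fintype.ofFinite F
  obtain ⟨p, hp⟩ := CharP.exists F
  have hprime : Fact p.Prime := ⟨CharP.char_is_prime F p⟩
  exact surj_three p le_rfl α

/-- commutators of automorphisms are in `PGL_3` -/
theorem comm_pgl [Finite F] (α β : MulAut (Y3 F)) : ∃ A : GL (Fin 3) F, ⁅α, β⁆ = lift (cj A) := by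
  let D : Subgroup (MulAut (Y3 F)) := ((cj : GL (Fin 3) F →* _).range).map lift
  have key : ∀ α : MulAut (Y3 F), ∃ d ∈ D, ∃ f : MulAut (Y3 F), (∃ σ : F ≃+* F, f = lift (fld σ) ∨ f = lift (fld σ * itr)) ∧
      α = d * f := by
    intro α
    rcases forms α with ⟨A, σ, rfl⟩ | ⟨A, σ, rfl⟩
    · exact ⟨_, ⟨_, ⟨A, rfl⟩, rfl⟩, _, ⟨σ, Or.inl rfl⟩, by rw [map_mul]⟩
    · exact ⟨_, ⟨_, ⟨A, rfl⟩, rfl⟩, _, ⟨σ, Or.inr rfl⟩, by rw [mul_assoc, map_mul]⟩
  have hff := fun σ τ : F ≃+* F => fld_comm (ι := Fin 3) σ τ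
  have hif := fun σ : F ≃+* F => itr_mul_fld (ι := Fin 3) σ
  have hlm : ∀ a b : MulAut (SL3 F), lift (a * b) = lift a * lift b := fun a b => map_mul lift a b
  have hnorm : ∀ f : MulAut (Y3 F), (∃ σ : F ≃+* F, f = lift (fld σ) ∨ f = lift (fld σ * itr)) →
      ∀ d ∈ D, f * d * f⁻¹ ∈ D := by
    rintro f ⟨σ, rfl | rfl⟩ _ ⟨x, hx, rfl⟩
    · rw [← map_inv, ← map_mul, ← map_mul]
      exact ⟨_, cj_norm_fld σ hx, rfl⟩
    · rw [← map_inv, ← map_mul, ← map_mul]
      refine ⟨_, ?_, rfl⟩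
      have h1 : fld σ * itr * x * (fld σ * itr)⁻¹ = fld σ * (itr * x * itr⁻¹) * (fld σ)⁻¹ := by
        group
      rw [h1]
      exact cj_norm_fld σ (cj_norm_itr hx)
  have hcomm : ∀ f g : MulAut (Y3 F), (∃ σ : F ≃+* F, f = lift (fld σ) ∨ f = lift (fld σ * itr)) →
      (∃ σ : F ≃+* F, g = lift (fld σ) ∨ g = lift (fld σ * itr)) → f * g = g * f := by
    rintro f g ⟨σ, rfl | rfl⟩ ⟨τ, rfl | rfl⟩
    · rw [← hlm, ← hlm, hff]
    · rw [← hlm, ← hlm, ← mul_assoc, hff, mul_assoc, mul_assoc, hif]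
    · rw [← hlm, ← hlm, mul_assoc, hif, ← mul_assoc, hff, mul_assoc]
    · rw [← hlm, ← hlm]
      (with_reducible congr 1)
      calc fld σ * itr * (fld τ * itr) = fld σ * (itr * fld τ) * itr := by group
        _ = fld σ * fld τ * (itr * itr) := by rw [hif]; group
        _ = fld τ * fld σ * (itr * itr) := by rw [hff]
        _ = fld τ * (fld σ * itr) * itr := by group
        _ = fld τ * (itr * fld σ) * itr := by rw [hif]
        _ = _ := by group
  obtain ⟨d, hd, f, hf, rfl⟩ := key α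
  obtain ⟨e, he, g, hg, rfl⟩ := key β
  have h1 : ⁅d * f, e * g⁆ ∈ D := by
    have e1 : ⁅d * f, e * g⁆ = d * (f * e * f⁻¹) * (g * d⁻¹ * g⁻¹) * e⁻¹ := by
      rw [commutatorElement_def]
      have h2 : f * g = g * f := hcomm f g hf hg
      calc d * f * (e * g) * (d * f)⁻¹ * (e * g)⁻¹
          = d * (f * e * f⁻¹) * ((f * g) * f⁻¹ * d⁻¹ * g⁻¹) * e⁻¹ := by group
        _ = d * (f * e * f⁻¹) * ((g * f) * f⁻¹ * d⁻¹ * g⁻¹) * e⁻¹ := by rw [h2]
        _ = d * (f * e * f⁻¹) * (g * d⁻¹ * g⁻¹) * e⁻¹ := by group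
    rw [e1]
    exact mul_mem (mul_mem (mul_mem hd (hnorm f hf e he)) (hnorm g hg _ (inv_mem hd))) (inv_mem he)
  obtain ⟨_, ⟨A, rfl⟩, h2⟩ := h1
  exact ⟨A, h2.symm⟩

/-! ### Automorphisms and root elements -/

theorem eqA {A : GL (Fin 3) F} {σ : F ≃+* F} {i j k l : Fin 3} {hij : i ≠ j} {hkl : k ≠ l} {s t : F}
    (h : lift (cj A * fld σ) (pr (Matrix.SpecialLinearGroup.transvection hij s)) =
      pr (Matrix.SpecialLinearGroup.transvection hkl t)) :
    (A : Matrix (Fin 3) (Fin 3) F) * single i j (σ s) = single k l t * (A : Matrix (Fin 3) (Fin 3) F) := by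
  rw [lift_pr, MulAut.mul_apply, fld_transvection] at h
  exact cj_transvection_eq h

theorem eqB {A : GL (Fin 3) F} {σ : F ≃+* F} {i j k l : Fin 3} {hij : i ≠ j} {hkl : k ≠ l} {s t : F}
    (h : lift (cj A * fld σ * itr) (pr (Matrix.SpecialLinearGroup.transvection hij s)) =
      pr (Matrix.SpecialLinearGroup.transvection hkl t)) :
    (A : Matrix (Fin 3) (Fin 3) F) * single j i (-(σ s)) = single k l t * (A : Matrix (Fin 3) (Fin 3) F) := by
  rw [lift_pr, MulAut.mul_apply, itr_transvection, MulAut.mul_apply, fld_transvection, map_neg] at h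
  exact cj_transvection_eq h

theorem col_ne (A : GL (Fin 3) F) (j : Fin 3) : ¬ ∀ i, (A : Matrix (Fin 3) (Fin 3) F) i j = 0 := by
  intro h
  have h1 : ((A⁻¹ : GL (Fin 3) F) : Matrix (Fin 3) (Fin 3) F) * (A : Matrix (Fin 3) (Fin 3) F) = 1 := by
    rw [← Units.val_mul, inv_mul_cancel, Units.val_one]
  have h2 := congrFun (congrFun h1 j) j
  rw [Matrix.mul_apply] at h2
  simp [h] at h2

theorem row_ne (A : GL (Fin 3) F) (i : Fin 3) : ¬ ∀ j, (A : Matrix (Fin 3) (Fin 3) F) i j = 0 := by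
  intro h
  have h1 : (A : Matrix (Fin 3) (Fin 3) F) * ((A⁻¹ : GL (Fin 3) F) : Matrix (Fin 3) (Fin 3) F) = 1 := by
    rw [← Units.val_mul, mul_inv_cancel, Units.val_one]
  have h2 := congrFun (congrFun h1 i) i
  rw [Matrix.mul_apply] at h2
  simp [h] at h2

/-- entries of the equation `A e_ij s = e_kl t A` -/
theorem ent {M : Matrix (Fin 3) (Fin 3) F} {i j k l : Fin 3} {s t : F} (h : M * single i j s = single k l t * M)
    (r c : Fin 3) : (if j = c then M r i * s else 0) = (if k = r then t * M l c else 0) := by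
  have h1 := congrFun (congrFun h r) c
  rw [Matrix.mul_apply, Matrix.mul_apply] at h1
  simp only [Matrix.single_apply] at h1
  rw [Finset.sum_eq_single i, Finset.sum_eq_single l] at h1
  · by_cases hj : j = c <;> by_cases hk : k = r <;> simp only [hj, hk, _root_.and_self, ↓ _root_.reduceIte, _root_.and_true, _root_.MulZeroClass.zero_mul, _root_.mul_eq_zero, _root_.and_false, _root_.MulZeroClass.mul_zero, _root_.zero_eq_mul] at h1 ⊢ <;> exact h1
  · intro b _ hb
    rw [if_neg (fun h => hb h.2.symm), zero_mul]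
  · intro h4; exact absurd (Finset.mem_univ _) h4
  · intro b _ hb
    rw [if_neg (fun h => hb h.1.symm), mul_zero]
  · intro h4; exact absurd (Finset.mem_univ _) h4

/-- an automorphism trivial on the first row -/
theorem fix_row [Finite F] {α : MulAut (Y3 F)} (h1 : ∀ a, α (pr (um a 0 0)) = pr (um a 0 0))
    (h2 : ∀ c, α (pr (um 0 0 c)) = pr (um 0 0 c)) : ∃ a c : F, α = MulAut.conj (pr (um a 0 c)) := by
  rcases forms α with ⟨A, σ, rfl⟩ | ⟨A, σ, rfl⟩
  · have e1 : ∀ a, (A : Matrix (Fin 3) (Fin 3) F) * single 0 1 (σ a) = single 0 1 a * (A : Matrix (Fin 3) (Fin 3) F) := by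
      intro a
      have := h1 a
      rw [um_eq01] at this
      exact eqA this
    have e2 : ∀ a, (A : Matrix (Fin 3) (Fin 3) F) * single 0 2 (σ a) = single 0 2 a * (A : Matrix (Fin 3) (Fin 3) F) := by
      intro a
      have := h2 a
      rw [um_eq02] at this
      exact eqA this
    have a10 := ent (e1 1) 0 0
    have b1 := ent (e1 1) 0 1
    have b2 := ent (e1 1) 0 2
    have b3 := ent (e1 1) 1 1
    have b4 := ent (e1 1) 2 1
    have c1 := ent (e2 1) 0 1
    have c2 := ent (e2 1) 0 2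
    simp only [map_one, mul_one, one_mul, if_true, if_false, reduceIte, Fin.isValue, one_ne_zero, zero_ne_one,
      reduceCtorEq, show (1 : Fin 3) ≠ 2 by decide, show (2 : Fin 3) ≠ 1 by decide, show (0 : Fin 3) ≠ 2 by decide,
      show (2 : Fin 3) ≠ 0 by decide] at a10 b1 b2 b3 b4 c1 c2
    have h00 : (A : Matrix (Fin 3) (Fin 3) F) 0 0 ≠ 0 := by
      intro h0
      apply col_ne A 0
      intro i
      fin_cases i
      · exact h0
      · exact b3
      · exact b4
    have hσ : σ = 1 := by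
      apply RingEquiv.ext
      intro x
      have := ent (e1 x) 0 1
      simp only [if_true, reduceIte] at this
      rw [← b1, mul_comm] at this
      exact mul_right_cancel₀ h00 this
    refine ⟨((A : Matrix (Fin 3) (Fin 3) F) 0 0)⁻¹ * (A : Matrix (Fin 3) (Fin 3) F) 0 1,
      ((A : Matrix (Fin 3) (Fin 3) F) 0 0)⁻¹ * (A : Matrix (Fin 3) (Fin 3) F) 0 2, ?_⟩
    rw [hσ, map_one, mul_one]
    apply conj_of_smul (r := (A : Matrix (Fin 3) (Fin 3) F) 0 0)
    ext i j
    (revert i j; simp only [um, h00, ← a10, b3, b4, ← b2, ← c1, _root_.Fin.forall_fin_succ, Fin.isValue, _root_.Matrix.smul_apply, _root_.Matrix.of_apply, _root_.Matrix.cons_val', _root_.Matrix.cons_val_fin_one, _root_.smul_eq_mul, _root_.Matrix.cons_val_zero, _root_.Matrix.cons_val_succ, _root_.Fin.succ_zero_eq_one, _root_.Fin.succ_one_eq_two, _root_.IsEmpty.forall_iff, _root_.mul_one, _root_.ne_eq, _root_.not_false_eq_true, _root_.mul_inv_cancel_left₀, _root_.MulZeroClass.mul_zero, _root_.and_true,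 _root_.true_and]) <;> (repeat' with_reducible apply And.intro) 
    · exact b1.symm
    · exact c2.symm
  · exfalso
    have e1 := eqB (by have := h1 1; rw [um_eq01] at this; exact this)
    have e2 := eqB (by have := h2 1; rw [um_eq02] at this; exact this)
    have x1 := ent e1 1 0
    have x2 := ent e1 2 0
    have y1 := ent e2 1 0
    have y2 := ent e2 2 0
    simp only [map_one, mul_one, mul_neg, one_mul, if_true, if_false, Fin.isValue, one_ne_zero, zero_ne_one,
      show (0 : Fin 3) ≠ 2 by decide, show (2 : Fin 3) ≠ 0 by decide, neg_eq_zero] at x1 x2 y1 y2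
    have hd : (A : Matrix (Fin 3) (Fin 3) F).det ≠ 0 := by
      have := A.det.ne_zero
      rwa [Matrix.GeneralLinearGroup.val_det_apply] at this
    apply hd
    rw [Matrix.det_fin_three, x1, x2, y1, y2]
    ring

/-- an automorphism trivial on the last column -/
theorem fix_col [Finite F] {α : MulAut (Y3 F)} (h1 : ∀ a, α (pr (um 0 a 0)) = pr (um 0 a 0))
    (h2 : ∀ c, α (pr (um 0 0 c)) = pr (um 0 0 c)) : ∃ b c : F, α = MulAut.conj (pr (um 0 b c)) := by
  rcases forms α with ⟨A, σ, rfl⟩ | ⟨A, σ, rfl⟩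
  · have e1 : ∀ a, (A : Matrix (Fin 3) (Fin 3) F) * single 1 2 (σ a) = single 1 2 a * (A : Matrix (Fin 3) (Fin 3) F) := by
      intro a
      have := h1 a
      rw [um_eq12] at this
      exact eqA this
    have e2 : ∀ a, (A : Matrix (Fin 3) (Fin 3) F) * single 0 2 (σ a) = single 0 2 a * (A : Matrix (Fin 3) (Fin 3) F) := by
      intro a
      have := h2 a
      rw [um_eq02] at this
      exact eqA this
    have a01 := ent (e1 1) 0 2
    have b1 := ent (e1 1) 1 2
    have b2 := ent (e1 1) 1 0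
    have b3 := ent (e1 1) 1 1
    have b4 := ent (e1 1) 2 2
    have c1 := ent (e2 1) 1 2
    have c2 := ent (e2 1) 0 2
    have c3 := ent (e2 1) 0 0
    have c4 := ent (e2 1) 0 1
    simp only [map_one, mul_one, one_mul, if_true, if_false, Fin.isValue, one_ne_zero, zero_ne_one,
      show (1 : Fin 3) ≠ 2 by decide, show (2 : Fin 3) ≠ 1 by decide, show (0 : Fin 3) ≠ 2 by decide,
      show (2 : Fin 3) ≠ 0 by decide] at a01 b1 b2 b3 b4 c1 c2 c3 c4
    have h22 : (A : Matrix (Fin 3) (Fin 3) F) 2 2 ≠ 0 := by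
      intro h0
      apply row_ne A 2
      intro i
      fin_cases i
      · exact c3.symm
      · exact c4.symm
      · exact h0
    have hσ : σ = 1 := by
      apply RingEquiv.ext
      intro x
      have := ent (e1 x) 1 2
      simp only [if_true] at this
      rw [b1, mul_comm] at this
      exact mul_right_cancel₀ h22 this
    refine ⟨((A : Matrix (Fin 3) (Fin 3) F) 2 2)⁻¹ * (A : Matrix (Fin 3) (Fin 3) F) 1 2,
      ((A : Matrix (Fin 3) (Fin 3) F) 2 2)⁻¹ * (A : Matrix (Fin 3) (Fin 3) F) 0 2, ?_⟩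
    rw [hσ, map_one, mul_one]
    apply conj_of_smul (r := (A : Matrix (Fin 3) (Fin 3) F) 2 2)
    ext i j
    (revert i j; simp only [um, h22, b1, c2, a01, c1, ← c3, ← c4, _root_.Fin.forall_fin_succ, Fin.isValue, _root_.Matrix.smul_apply, _root_.Matrix.of_apply, _root_.Matrix.cons_val', _root_.Matrix.cons_val_fin_one, _root_.smul_eq_mul, _root_.Matrix.cons_val_zero, _root_.Matrix.cons_val_succ, _root_.Fin.succ_zero_eq_one, _root_.Fin.succ_one_eq_two, _root_.IsEmpty.forall_iff, _root_.and_true, _root_.mul_one, _root_.MulZeroClass.mul_zero, _root_.ne_eq, _root_.not_false_eq_true, _root_.mul_inv_cancel_left₀, _root_.and_self])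
  · exfalso
    have e1 := eqB (by have := h1 1; rw [um_eq12] at this; exact this)
    have e2 := eqB (by have := h2 1; rw [um_eq02] at this; exact this)
    have x1 := ent e1 0 1
    have x2 := ent e1 2 1
    have y1 := ent e2 1 0
    have y2 := ent e2 2 0
    simp only [map_one, mul_one, mul_neg, one_mul, if_true, if_false, Fin.isValue, one_ne_zero, zero_ne_one,
      show (1 : Fin 3) ≠ 2 by decide, show (0 : Fin 3) ≠ 2 by decide, show (2 : Fin 3) ≠ 0 by decide,
      neg_eq_zero] at x1 x2 y1 y2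
    apply col_ne A 2
    intro i
    fin_cases i
    · exact x1
    · exact y1
    · exact y2

theorem ne_zero_of {α : MulAut (Y3 F)} {c κ : F} (hc : c ≠ 0) (h : α (pr (um 0 0 c)) = pr (um 0 0 κ)) : κ ≠ 0 := by
  rintro rfl
  apply hc
  rw [um_zero, map_one, ← map_one α] at h
  have h1 := α.injective h
  rw [← map_one (pr (ι := Fin 3) (F := F)), ← um_zero] at h1
  exact (pr_um_inj h1).2.2

/-- the action on the centre of the Sylow subgroup is semilinear; if it is trivial there is no field part -/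
theorem sem [Finite F] {α : MulAut (Y3 F)} (h : ∀ c, ∃ c', α (pr (um 0 0 c)) = pr (um 0 0 c')) :
    ∃ (κ : F) (σ : F ≃+* F), κ ≠ 0 ∧ (∀ c, α (pr (um 0 0 c)) = pr (um 0 0 (κ * σ c))) ∧
      (∃ A : GL (Fin 3) F, α = lift (cj A * fld σ) ∨ α = lift (cj A * fld σ * itr)) := by
  rcases forms α with ⟨A, σ, rfl⟩ | ⟨A, σ, rfl⟩
  · obtain ⟨κ, hκ⟩ := h 1
    have hκ0 := ne_zero_of one_ne_zero hκ
    refine ⟨κ, σ, hκ0, ?_, A, Or.inl rfl⟩
    intro c
    obtain ⟨c', hc⟩ := h c
    rw [hc]
    congr 2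
    rw [um_eq02, um_eq02] at hκ hc
    have e1 := eqA hκ
    have e2 := eqA hc
    obtain ⟨j, hj⟩ : ∃ j, (A : Matrix (Fin 3) (Fin 3) F) 2 j ≠ 0 := by
      by_contra hcon
      push Not at hcon
      exact row_ne A 2 hcon
    have f1 := ent e1 0 j
    have f2 := ent e2 0 j
    simp only [map_one, mul_one, if_true] at f1 f2
    by_cases h2 : 2 = j
    · rw [if_pos h2] at f1 f2
      rw [f1] at f2
      apply mul_right_cancel₀ hj
      rw [← f2]; ring
    · exfalso
      rw [if_neg h2] at f1 f2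
      exact mul_ne_zero hκ0 hj f1.symm
  · obtain ⟨κ, hκ⟩ := h 1
    have hκ0 := ne_zero_of one_ne_zero hκ
    refine ⟨κ, σ, hκ0, ?_, A, Or.inr rfl⟩
    intro c
    obtain ⟨c', hc⟩ := h c
    rw [hc]
    congr 2
    rw [um_eq02, um_eq02] at hκ hc
    have e1 := eqB hκ
    have e2 := eqB hc
    obtain ⟨j, hj⟩ : ∃ j, (A : Matrix (Fin 3) (Fin 3) F) 2 j ≠ 0 := by
      by_contra hcon
      push Not at hcon
      exact row_ne A 2 hcon
    have f1 := ent e1 0 j
    have f2 := ent e2 0 j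
    simp only [map_one, mul_one, if_true] at f1 f2
    by_cases h2 : 0 = j
    · rw [if_pos h2] at f1 f2
      apply mul_right_cancel₀ hj
      linear_combination -f2 + (σ c) * f1
    · exfalso
      rw [if_neg h2] at f1 f2
      exact mul_ne_zero hκ0 hj f1.symm

/-- at most one field automorphism of order 2 -/
theorem fld_invol [Finite F] {σ τ : F ≃+* F} (hs : σ * σ = 1) (ht : τ * τ = 1) : σ = 1 ∨ τ = 1 ∨ σ * τ = 1 := by
  have hc : IsCyclic (F ≃+* F) := Cfsg.Agent.LieRecognition.FieldSemilinear.isCyclic_ringAut F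
  have : Finite (F ≃+* F) := Finite.of_injective (fun e : F ≃+* F => (e : F → F)) (fun a b h => RingEquiv.ext (congrFun h))
  by_contra hcon
  push Not at hcon
  obtain ⟨h1, h2, h3⟩ := hcon
  have hst : σ ≠ τ := by
    rintro rfl
    exact h3 hs
  have := Fintype.ofFinite (F ≃+* F)
  classical
  have h4 := IsCyclic.card_pow_eq_one_le (α := F ≃+* F) (n := 2) two_pos
  have h5 : ({1, σ, τ} : Finset (F ≃+* F)) ⊆ Finset.univ.filter fun a => a ^ 2 = 1 := by
    intro a ha
    rw [Finset.mem_filter]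
    refine ⟨Finset.mem_univ _, ?_⟩
    simp only [Finset.mem_insert, Finset.mem_singleton] at ha
    rcases ha with rfl | rfl | rfl
    · exact one_pow 2
    · rw [pow_two]; exact hs
    · rw [pow_two]; exact ht
  have h6 := (Finset.card_le_card h5).trans h4
  rw [Finset.card_insert_of_notMem, Finset.card_insert_of_notMem, Finset.card_singleton] at h6
  · omega
  · simpa using hst
  · simp only [Finset.mem_insert, Finset.mem_singleton, not_or]
    exact ⟨fun h => h1 h.symm, fun h => h2 h.symm⟩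

/-- **(V)** -/
theorem no_four [Finite F] [CharP F 2] {a b : MulAut (Y3 F)} (ha : a * a = 1) (hb : b * b = 1) (hab : a * b = b * a)
    (na : a ∉ Inn (Y3 F)) (nb : b ∉ Inn (Y3 F)) (nab : a * b ∉ Inn (Y3 F))
    (za : ∀ c, ∃ c', a (pr (um 0 0 c)) = pr (um 0 0 c')) (zb : ∀ c, ∃ c', b (pr (um 0 0 c)) = pr (um 0 0 c'))
    (hc : ∀ v, v = a ∨ v = b ∨ v = a * b → (∀ c, v (pr (um 0 0 c)) = pr (um 0 0 c)) →
      (∀ c, a (pr (um 0 0 c)) = pr (um 0 0 c)) ∧ ∀ c, b (pr (um 0 0 c)) = pr (um 0 0 c)) : False := by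
  -- an involution with trivial field part centralises
  have one_of : ∀ v : MulAut (Y3 F), v * v = 1 → ∀ (κ : F) (σ : F ≃+* F),
      (∀ c, v (pr (um 0 0 c)) = pr (um 0 0 (κ * σ c))) → (σ * σ = 1 ∧ (σ = 1 → ∀ c, v (pr (um 0 0 c)) = pr (um 0 0 c))) := by
    intro v hv κ σ h
    have h1 : ∀ c, κ * σ (κ * σ c) = c := by
      intro c
      have h2 : v (v (pr (um 0 0 c))) = pr (um 0 0 c) := by
        rw [← MulAut.mul_apply, hv, MulAut.one_apply]
      rw [h, h] at h2
      exact (pr_um_inj h2).2.2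
    have h2 := h1 1
    rw [map_one, mul_one] at h2
    refine ⟨?_, ?_⟩
    · apply RingEquiv.ext
      intro c
      have h3 := h1 c
      rw [map_mul, ← mul_assoc, h2, one_mul] at h3
      exact h3
    · rintro rfl c
      have h3 : κ * κ = 1 := h2
      have h4 : (κ + 1) * (κ + 1) = 0 := by
        have h5 : (2 : F) = 0 := CharTwo.two_eq_zero
        linear_combination h3 + κ * h5 + h5
      have h5 : κ + 1 = 0 := mul_self_eq_zero.1 h4
      have h6 : κ = 1 := by
        have := CharTwo.add_eq_zero.1 h5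
        exact this
      rw [h, h6, one_mul]
      rfl
  obtain ⟨κ, σ, hκ, ea, A, fa⟩ := sem za
  obtain ⟨μ, τ, hμ, eb, B, fb⟩ := sem zb
  have hzab : ∀ c, (a * b) (pr (um 0 0 c)) = pr (um 0 0 ((κ * σ μ) * (σ * τ) c)) := by
    intro c
    rw [MulAut.mul_apply, eb, ea, map_mul]
    congr 2
    show _ = κ * σ μ * σ (τ c)
    ring
  have habab : a * b * (a * b) = 1 := by
    calc a * b * (a * b) = a * (b * a) * b := by group
      _ = a * (a * b) * b := by rw [hab]
      _ = (a * a) * (b * b) := by group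
      _ = 1 := by rw [ha, hb, one_mul]
  obtain ⟨sa, ca⟩ := one_of a ha κ σ ea
  obtain ⟨sb, cb⟩ := one_of b hb μ τ eb
  obtain ⟨-, cab⟩ := one_of _ habab _ _ hzab
  have hall : (∀ c, a (pr (um 0 0 c)) = pr (um 0 0 c)) ∧ ∀ c, b (pr (um 0 0 c)) = pr (um 0 0 c) := by
    rcases fld_invol sa sb with h | h | h
    · exact hc a (Or.inl rfl) (ca h)
    · exact hc b (Or.inr (Or.inl rfl)) (cb h)
    · exact hc _ (Or.inr (Or.inr rfl)) (cab h)
  obtain ⟨ha1, hb1⟩ := hall
  have triv : ∀ (v : MulAut (Y3 F)) (κ : F) (σ : F ≃+* F), (∀ c, v (pr (um 0 0 c)) = pr (um 0 0 (κ * σ c))) →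
      (∀ c, v (pr (um 0 0 c)) = pr (um 0 0 c)) → σ = 1 := by
    intro v κ σ h h'
    have h1 : ∀ c, κ * σ c = c := fun c => by
      have h2 := h c
      rw [h'] at h2
      exact (pr_um_inj h2).2.2.symm
    have h2 : κ = 1 := by
      have := h1 1
      rwa [map_one, mul_one] at this
    apply RingEquiv.ext
    intro c
    have := h1 c
    rw [h2, one_mul] at this
    exact this
  have hs1 := triv a κ σ ea ha1
  have ht1 := triv b μ τ eb hb1
  rw [hs1, map_one, mul_one] at fa
  rw [ht1, map_one, mul_one] at fb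
  have two : ∀ C : GL (Fin 3) F, lift (cj C) * lift (cj C) = (1 : MulAut (Y3 F)) → lift (cj C) ∈ Inn (Y3 F) := by
    intro C hC
    apply inner_of_two (k := 1)
    rw [pow_one, pow_two, hC]
  rcases fa with rfl | rfl
  · exact na (two A ha)
  · rcases fb with rfl | rfl
    · exact nb (two B hb)
    · apply nab
      have e : lift (cj A * itr) * lift (cj B * itr) = (lift (cj (A * ctr B)) : MulAut (Y3 F)) := by
        rw [← map_mul (lift (ι := Fin 3) (F := F))]
        (with_reducible congr 1)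
        calc cj A * itr * (cj B * itr) = cj A * (itr * cj B) * itr := by group
          _ = cj A * (cj (ctr B) * itr) * itr := by rw [itr_mul_cj]
          _ = cj A * cj (ctr B) * (itr * itr) := by group
          _ = cj (A * ctr B) := by rw [itr_mul_itr, mul_one, map_mul]
      rw [e]
      apply two
      rw [← e]
      exact habab

end Cfsg.Agent.OddHalf.D4.L3

end

-- merged: Cfsg.Agent.OddHalf.D4.L3.Frame
section

/-!
# ODD, D4, row `L_3(2^a)`: the subgroup `K`

`f : PSL_3(F) →* G` injective, `K = f.range`; `U f a b c` the elements of a Sylow 2-subgroup `Sf f`, `Zf f` its centre,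
`Hf f` the centraliser of `Zf f` in the torus.
* `Fr K S Z H` : the facts used in the first part; `fr`.
-/

set_option autoImplicit false
set_option linter.unusedSectionVars false

namespace Cfsg.Agent.OddHalf.D4.L3

open Cfsg.Agent.ClassicalGeometry.AutPSL.Root Cfsg.Agent.ClassicalGeometry.AutPSL.Auto
  Cfsg.Agent.ClassicalGeometry.AutPSL.Main Cfsg.Agent.OddHalf.D4.Basic
open Subgroup (normalizer centralizer mem_centralizer_iff mem_normalizer_iff zpowers)
open scoped commutatorElement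

/-- The facts on `K`, its Sylow 2-subgroup `S`, `Z = Z(S)` and a group `H` of odd order. -/
structure Fr {G : Type*} [Group G] (K S Z H : Subgroup G) : Prop where
  SK : S ≤ K
  ZS : Z ≤ S
  HK : H ≤ K
  syl : IsSyl S K
  ctr : ∀ k ∈ K, k ∈ centralizer (K : Set G) → k = 1
  zc : ∀ z ∈ Z, ∀ s ∈ S, z * s = s * z
  z2 : ∀ z ∈ Z, z * z = 1
  cm : ∀ s ∈ S, ∀ t ∈ S, s * t * s⁻¹ * t⁻¹ ∈ Z
  on : ∀ s ∈ S, s ∉ Z → ∀ z ∈ Z, ∃ t ∈ S, s * t * s⁻¹ * t⁻¹ = z
  ne : ∃ z ∈ Z, z ≠ 1
  zne : ∃ s ∈ S, s ∉ Z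
  hz : ∀ h ∈ H, ∀ z ∈ Z, h * z = z * h
  hs : ∀ h ∈ H, ∀ s ∈ S, h * s * h⁻¹ ∈ S
  sh : S ≤ ⁅S, H⁆
  F1 : ∀ y : G, y ∈ normalizer (K : Set G) → (∀ s ∈ S, y * s = s * y) →
    ∃ z ∈ Z, z⁻¹ * y ∈ centralizer (K : Set G)
  O : ∀ A B : Subgroup G, IsPGroup 2 ↥A → A ≤ normalizer (K : Set G) → B ≤ normalizer (K : Set G) → A ≤ ⁅A, B⁆ →
    ∀ a ∈ A, ∃ k ∈ K, k⁻¹ * a ∈ centralizer (K : Set G)
  inv : ∀ t ∈ K, orderOf t = 2 → ∃ k ∈ K, ∀ s ∈ S, (k * s * k⁻¹) * t = t * (k * s * k⁻¹)
  V : ∀ a b : G, a ∈ normalizer (K : Set G) → b ∈ normalizer (K : Set G) → a * a = 1 → b * b = 1 → a * b = b * a →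
    (∀ v, v = a ∨ v = b ∨ v = a * b → ∀ k ∈ K, k⁻¹ * v ∉ centralizer (K : Set G)) →
    (∀ z ∈ Z, a * z * a⁻¹ ∈ Z) → (∀ z ∈ Z, b * z * b⁻¹ ∈ Z) →
    (∀ v, v = a ∨ v = b ∨ v = a * b → (∀ z ∈ Z, v * z = z * v) → (∀ z ∈ Z, a * z = z * a) ∧ ∀ z ∈ Z, b * z = z * b) →
    False
  gen : ∀ X : Subgroup G, (∀ e ∈ S, orderOf e = 2 → ∀ k ∈ K, k * e = e * k → k ∈ X) → K ≤ X

/-! ### The action of the normalizer -/

variable {F : Type*} [Field F] {G : Type*} [Group G]

/-- conjugation by `g` on `f.range` is `α` -/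
def Rel (f : Y3 F →* G) (g : G) (α : MulAut (Y3 F)) : Prop := ∀ y, f (α y) = g * f y * g⁻¹

section rel

variable {f : Y3 F →* G} (hf : Function.Injective f)

theorem Rel.mul {g h : G} {α β : MulAut (Y3 F)} (h1 : Rel f g α) (h2 : Rel f h β) : Rel f (g * h) (α * β) := by
  intro y
  rw [MulAut.mul_apply, h1, h2]
  group

theorem Rel.inv {g : G} {α : MulAut (Y3 F)} (h1 : Rel f g α) : Rel f g⁻¹ α⁻¹ := by
  intro y
  have h2 := h1 (α⁻¹ y)
  rw [MulAut.apply_inv_self] at h2
  rw [h2]
  group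

theorem Rel.one : Rel f 1 1 := by
  intro y
  rw [MulAut.one_apply, one_mul, inv_one, mul_one]

theorem Rel.pow {g : G} {α : MulAut (Y3 F)} (h1 : Rel f g α) (n : ℕ) : Rel f (g ^ n) (α ^ n) := by
  induction n with
  | zero => rw [pow_zero, pow_zero]; exact Rel.one
  | succ n ih => rw [pow_succ, pow_succ]; exact ih.mul h1

theorem Rel.comm {g h : G} {α β : MulAut (Y3 F)} (h1 : Rel f g α) (h2 : Rel f h β) : Rel f ⁅g, h⁆ ⁅α, β⁆ := by
  rw [commutatorElement_def, commutatorElement_def]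
  exact ((h1.mul h2).mul h1.inv).mul h2.inv

include hf in
theorem Rel.ext {g : G} {α β : MulAut (Y3 F)} (h1 : Rel f g α) (h2 : Rel f g β) : α = β := by
  apply MulEquiv.ext
  intro y
  apply hf
  rw [h1, h2]

theorem Rel.mem_centralizer {g : G} {y : Y3 F} (h1 : Rel f g (MulAut.conj y)) :
    (f y)⁻¹ * g ∈ centralizer (f.range : Set G) := by
  rw [mem_centralizer_iff]
  rintro _ ⟨z, rfl⟩
  have h2 := h1 z
  rw [MulAut.conj_apply, map_mul, map_mul, map_inv] at h2
  calc f z * ((f y)⁻¹ * g) = (f y)⁻¹ * (f y * f z * (f y)⁻¹) * g := by group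
    _ = (f y)⁻¹ * g * f z := by rw [h2]; group

theorem Rel.of_centralizer {g k : G} {y : Y3 F} (hk : k = f y) (h : k⁻¹ * g ∈ centralizer (f.range : Set G)) :
    Rel f g (MulAut.conj y) := by
  intro z
  rw [MulAut.conj_apply, map_mul, map_mul, map_inv, ← hk]
  have h1 := mem_centralizer_iff.1 h (f z) ⟨z, rfl⟩
  calc k * f z * k⁻¹ = k * (f z * (k⁻¹ * g)) * g⁻¹ := by group
    _ = k * ((k⁻¹ * g) * f z) * g⁻¹ := by rw [h1]
    _ = g * f z * g⁻¹ := by group

include hf in
theorem exists_rel {g : G} (hg : g ∈ normalizer (f.range : Set G)) : ∃ α, Rel f g α := by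
  have e := MonoidHom.ofInjective hf
  have h1 : ∀ y, ∃ z, f z = g * f y * g⁻¹ := fun y =>
    ((mem_normalizer_iff.1 hg (f y)).1 ⟨y, rfl⟩)
  have h2 : ∀ y, ∃ z, f z = g⁻¹ * f y * g := fun y => by
    have := (mem_normalizer_iff.1 (inv_mem hg) (f y)).1 ⟨y, rfl⟩
    rw [inv_inv] at this
    exact this
  choose a ha using h1
  choose b hb using h2
  refine ⟨{ toFun := a, invFun := b, left_inv := ?_, right_inv := ?_, map_mul' := ?_ }, ?_⟩
  · intro y
    apply hf
    rw [hb, ha]; group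
  · intro y
    apply hf
    rw [ha, hb]; group
  · intro x y
    apply hf
    rw [ha, map_mul, map_mul, ha, ha]; group
  · intro y
    exact ha y

end rel

/-! ### The Sylow subgroup -/

section defs

variable (f : Y3 F →* G)

/-- the elements of the Sylow subgroup -/
def U (a b c : F) : G := f (pr (um a b c))

/-- the elements of the torus -/
def Tm (x y : Fˣ) : G := f (pr (hm x y))

theorem U_mul (a b c a' b' c' : F) : U f a b c * U f a' b' c' = U f (a + a') (b + b') (c + c' + a * b') := by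
  unfold U; rw [← map_mul, ← map_mul, um_mul]

theorem U_one : U f (0 : F) 0 0 = 1 := by unfold U; rw [um_zero, map_one, map_one]

theorem U_inv (a b c : F) : (U f a b c)⁻¹ = U f (-a) (-b) (a * b - c) := by
  unfold U; rw [← map_inv, ← map_inv, um_inv]

theorem Tm_mul (x y x' y' : Fˣ) : Tm f x y * Tm f x' y' = Tm f (x * x') (y * y') := by
  unfold Tm; rw [← map_mul, ← map_mul, hm_mul]

theorem Tm_one : Tm f (1 : Fˣ) 1 = 1 := by unfold Tm; rw [hm_one, map_one, map_one]

theorem Tm_inv (x y : Fˣ) : (Tm f x y)⁻¹ = Tm f x⁻¹ y⁻¹ := by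
  unfold Tm; rw [← map_inv, ← map_inv, hm_inv]

theorem Tm_U (x y : Fˣ) (a b c : F) :
    Tm f x y * U f a b c = U f ((x * y⁻¹ : Fˣ) * a) ((x * y ^ 2 : Fˣ) * b) ((x ^ 2 * y : Fˣ) * c) * Tm f x y := by
  unfold Tm U; rw [← map_mul, ← map_mul, hm_um, map_mul, map_mul]

theorem Tm_conj (x y : Fˣ) (a b c : F) :
    Tm f x y * U f a b c * (Tm f x y)⁻¹ = U f ((x * y⁻¹ : Fˣ) * a) ((x * y ^ 2 : Fˣ) * b) ((x ^ 2 * y : Fˣ) * c) := by
  rw [Tm_U, mul_inv_cancel_right]

/-- the Sylow subgroup -/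
def Sf : Subgroup G where
  carrier := {x | ∃ a b c, x = U f a b c}
  one_mem' := ⟨0, 0, 0, (U_one f).symm⟩
  mul_mem' := by
    rintro _ _ ⟨a, b, c, rfl⟩ ⟨a', b', c', rfl⟩
    exact ⟨_, _, _, U_mul f a b c a' b' c'⟩
  inv_mem' := by
    rintro _ ⟨a, b, c, rfl⟩
    exact ⟨_, _, _, U_inv f a b c⟩

/-- its centre -/
def Zf : Subgroup G where
  carrier := {x | ∃ c, x = U f 0 0 c}
  one_mem' := ⟨0, (U_one f).symm⟩
  mul_mem' := by
    rintro _ _ ⟨c, rfl⟩ ⟨c', rfl⟩
    exact ⟨c + c', by rw [U_mul]; congr 1 <;> ring⟩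
  inv_mem' := by
    rintro _ ⟨c, rfl⟩
    exact ⟨-c, by rw [U_inv]; congr 1 <;> ring⟩

/-- the torus -/
def Tf : Subgroup G where
  carrier := {t | ∃ x y, t = Tm f x y}
  one_mem' := ⟨1, 1, (Tm_one f).symm⟩
  mul_mem' := by
    rintro _ _ ⟨x, y, rfl⟩ ⟨x', y', rfl⟩
    exact ⟨_, _, Tm_mul f x y x' y'⟩
  inv_mem' := by
    rintro _ ⟨x, y, rfl⟩
    exact ⟨_, _, Tm_inv f x y⟩

/-- the elements of the torus centralising the centre -/
def Hf : Subgroup G where
  carrier := {t | ∃ x y, x ^ 2 * y = 1 ∧ t = Tm f x y}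
  one_mem' := ⟨1, 1, by simp, (Tm_one f).symm⟩
  mul_mem' := by
    rintro _ _ ⟨x, y, h, rfl⟩ ⟨x', y', h', rfl⟩
    refine ⟨_, _, ?_, Tm_mul f x y x' y'⟩
    calc (x * x') ^ 2 * (y * y') = (x ^ 2 * y) * (x' ^ 2 * y') := by
          rw [mul_pow]; ac_rfl
      _ = 1 := by rw [h, h', one_mul]
  inv_mem' := by
    rintro _ ⟨x, y, h, rfl⟩
    refine ⟨_, _, ?_, Tm_inv f x y⟩
    rw [inv_pow, ← mul_inv, h, inv_one]

theorem mem_Sf {x : G} : x ∈ Sf f ↔ ∃ a b c, x = U f a b c := Iff.rfl
theorem mem_Zf {x : G} : x ∈ Zf f ↔ ∃ c, x = U f 0 0 c := Iff.rfl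
theorem U_mem (a b c : F) : U f a b c ∈ Sf f := ⟨a, b, c, rfl⟩
theorem Z_mem (c : F) : U f 0 0 c ∈ Zf f := ⟨c, rfl⟩
theorem Tm_mem (x y : Fˣ) : Tm f x y ∈ Tf f := ⟨x, y, rfl⟩
theorem Sf_le : Sf f ≤ f.range := by rintro _ ⟨a, b, c, rfl⟩; exact ⟨_, rfl⟩
theorem Zf_le : Zf f ≤ Sf f := by rintro _ ⟨c, rfl⟩; exact U_mem f 0 0 c
theorem Tf_le : Tf f ≤ f.range := by rintro _ ⟨x, y, rfl⟩; exact ⟨_, rfl⟩
theorem Hf_le : Hf f ≤ Tf f := by rintro _ ⟨x, y, _, rfl⟩; exact Tm_mem f x y

theorem commute_U (a b c a' b' c' : F) (h : a * b' = a' * b) : U f a b c * U f a' b' c' = U f a' b' c' * U f a b c := by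
  rw [U_mul, U_mul, add_comm a a', add_comm b b', h]
  congr 1
  ring

theorem comm_U (a b c a' b' c' : F) :
    U f a b c * U f a' b' c' * (U f a b c)⁻¹ * (U f a' b' c')⁻¹ = U f 0 0 (a * b' - a' * b) := by
  have h1 : U f a b c * U f a' b' c' = U f 0 0 (a * b' - a' * b) * (U f a' b' c' * U f a b c) := by
    rw [U_mul, U_mul, U_mul]
    congr 1 <;> ring
  rw [h1]
  group

end defs

section inj

variable {f : Y3 F →* G} (hf : Function.Injective f)

include hf

theorem U_inj {a b c a' b' c' : F} (h : U f a b c = U f a' b' c') : a = a' ∧ b = b' ∧ c = c' :=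
  pr_um_inj (hf h)

theorem U_mem_Z {a b c : F} : U f a b c ∈ Zf f ↔ a = 0 ∧ b = 0 := by
  constructor
  · rintro ⟨c', h⟩
    have := U_inj hf h
    exact ⟨this.1, this.2.1⟩
  · rintro ⟨rfl, rfl⟩
    exact Z_mem f c

end inj

end Cfsg.Agent.OddHalf.D4.L3

end

-- merged: Cfsg.Agent.OddHalf.D4.L3.FrameK
section

/-!
# ODD, D4, row `L_3(2^a)`: the facts on `K`

* `K2r`, `K2s`, `K1` : elements of `N(K)` centralising two, three root groups;
* `upper_of_norm` : `N_K(Z)` is upper triangular;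
* **`fr`** : `Fr f.range (Sf f) (Zf f) (Hf f)`.
-/

set_option autoImplicit false
set_option linter.unusedSectionVars false

namespace Cfsg.Agent.OddHalf.D4.L3

open Cfsg.Agent.ClassicalGeometry.AutPSL.Root Cfsg.Agent.ClassicalGeometry.AutPSL.Auto
  Cfsg.Agent.ClassicalGeometry.AutPSL.Main Cfsg.Agent.OddHalf.D4.Basic
open Subgroup (normalizer centralizer mem_centralizer_iff mem_normalizer_iff zpowers)
open scoped commutatorElement

variable {F : Type*} [Field F] {G : Type*} [Group G]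

variable {f : Y3 F →* G} (hf : Function.Injective f)

include hf in
theorem fix_of_comm {g : G} {α : MulAut (Y3 F)} (h : Rel f g α) {y : Y3 F} (hy : g * f y = f y * g) : α y = y := by
  apply hf
  rw [h y, hy, mul_inv_cancel_right]

include hf in
/-- **(K2)** first row -/
theorem K2r [Finite F] {g : G} (hg : g ∈ normalizer (f.range : Set G)) (h1 : ∀ a c, g * U f a 0 c = U f a 0 c * g) :
    ∃ a c, (U f a 0 c)⁻¹ * g ∈ centralizer (f.range : Set G) := by
  obtain ⟨α, hα⟩ := exists_rel hf hg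
  obtain ⟨a, c, rfl⟩ := fix_row (α := α) (fun a => fix_of_comm hf hα (h1 a 0)) (fun c => fix_of_comm hf hα (h1 0 c))
  exact ⟨a, c, hα.mem_centralizer⟩

include hf in
/-- **(K2)** last column -/
theorem K2s [Finite F] {g : G} (hg : g ∈ normalizer (f.range : Set G)) (h1 : ∀ b c, g * U f 0 b c = U f 0 b c * g) :
    ∃ b c, (U f 0 b c)⁻¹ * g ∈ centralizer (f.range : Set G) := by
  obtain ⟨α, hα⟩ := exists_rel hf hg
  obtain ⟨b, c, rfl⟩ := fix_col (α := α) (fun a => fix_of_comm hf hα (h1 a 0)) (fun c => fix_of_comm hf hα (h1 0 c))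
  exact ⟨b, c, hα.mem_centralizer⟩

include hf in
/-- **(K1)** -/
theorem K1 [Finite F] {g : G} (hg : g ∈ normalizer (f.range : Set G)) (h1 : ∀ a b c, g * U f a b c = U f a b c * g) :
    ∃ c, (U f 0 0 c)⁻¹ * g ∈ centralizer (f.range : Set G) := by
  obtain ⟨a, c, h⟩ := K2r hf hg (fun a c => h1 a 0 c)
  have h2 := mem_centralizer_iff.1 h (U f 0 1 0) (Sf_le f (U_mem f 0 1 0))
  have h3 := h1 0 1 0
  have h4 : U f a 0 c * U f 0 1 0 = U f 0 1 0 * U f a 0 c := by
    calc U f a 0 c * U f 0 1 0 = U f a 0 c * (U f 0 1 0 * ((U f a 0 c)⁻¹ * g)) * g⁻¹ * U f a 0 c := by group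
      _ = U f a 0 c * (((U f a 0 c)⁻¹ * g) * U f 0 1 0) * g⁻¹ * U f a 0 c := by rw [h2]
      _ = (g * U f 0 1 0) * g⁻¹ * U f a 0 c := by group
      _ = U f 0 1 0 * U f a 0 c := by rw [h3]; group
  rw [U_mul, U_mul] at h4
  have h5 := (U_inj hf h4).2.2
  have h6 : a = 0 := by linear_combination h5
  subst h6
  exact ⟨c, h⟩

/-- the upper triangular elements of `K` -/
theorem upper_of_pr {g : SL3 F} {c c' : F} (hc : c ≠ 0) (h : pr (g * um 0 0 c * g⁻¹) = pr (um 0 0 c')) :
    ∃ (x y : Fˣ) (a b c : F), g = hm x y * um a b c := by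
  have e : g * um 0 0 c * g⁻¹ = cj (Matrix.SpecialLinearGroup.toGL g) (um 0 0 c) := by
    apply Subtype.ext
    rw [coe_cj, ← map_inv]
    rfl
  rw [e, um_eq02, um_eq02] at h
  have h1 := cj_transvection_eq h
  have h1' : g.1 * Matrix.single 0 2 c = Matrix.single 0 2 c' * g.1 := h1
  have a1 := ent h1' 1 2
  have a2 := ent h1' 2 2
  have a3 := ent h1' 0 1
  have a4 := ent h1' 0 0
  simp only [if_true, if_false, Fin.isValue, zero_ne_one, show (2 : Fin 3) ≠ 1 by decide,
    show (0 : Fin 3) ≠ 2 by decide, show (2 : Fin 3) ≠ 0 by decide] at a1 a2 a3 a4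
  have b1 : g.1 1 0 = 0 := (mul_eq_zero.1 a1).resolve_right hc
  have b2 : g.1 2 0 = 0 := (mul_eq_zero.1 a2).resolve_right hc
  have hc' : c' ≠ 0 := by
    rintro rfl
    have h2 : (g.1 * Matrix.single 0 2 c : Matrix (Fin 3) (Fin 3) F) 0 2 = 0 := by rw [h1']; simp
    rw [Matrix.mul_apply, Finset.sum_eq_single 0] at h2
    · simp only [Matrix.single_apply, and_self, if_true] at h2
      rcases mul_eq_zero.1 h2 with h3 | h3
      · have hd : g.1.det = 1 := g.2
        rw [Matrix.det_fin_three, b1, b2, h3] at hd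
        simp only [_root_.Fin.isValue, _root_.MulZeroClass.zero_mul, _root_.sub_self, _root_.MulZeroClass.mul_zero, _root_.add_zero, _root_.zero_ne_one] at hd
      · exact hc h3
    · intro b _ hb
      rw [Matrix.single_apply, if_neg (fun h => hb h.1.symm), mul_zero]
    · intro h4; exact absurd (Finset.mem_univ _) h4
  have b3 : g.1 2 1 = 0 := (mul_eq_zero.1 a3.symm).resolve_left hc'
  exact upper_decomp g b1 b2 b3

include hf in
/-- `N_K(Z)` -/
theorem upper_of_norm {k : G} (hk : k ∈ f.range) {c c' : F} (hc : c ≠ 0) (h : k * U f 0 0 c * k⁻¹ = U f 0 0 c') :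
    ∃ x y a b c, k = Tm f x y * U f a b c := by
  obtain ⟨y, rfl⟩ := hk
  obtain ⟨g, rfl⟩ := pr_surjective y
  have h1 : f (pr (g * um 0 0 c * g⁻¹)) = f (pr (um 0 0 c')) := by
    rw [map_mul, map_mul, map_mul, map_mul, map_inv, map_inv]
    exact h
  obtain ⟨x, y, a, b, c, rfl⟩ := upper_of_pr hc (hf h1)
  exact ⟨x, y, a, b, c, by unfold Tm U; rw [map_mul, map_mul]⟩

/-- unitriangular matrices -/
theorem upper_eq [Finite F] {g : SL3 F} : g ∈ Cfsg.Agent.ClassicalGeometry.AutPSL.SylowU.upper 3 F ↔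
    ∃ a b c, g = um a b c := by
  rw [Cfsg.Agent.ClassicalGeometry.AutPSL.SylowU.mem_upper]
  constructor
  · intro h
    refine ⟨g.1 0 1, g.1 1 2, g.1 0 2, ?_⟩
    apply sl3_ext
    intro i j
    have h00 := h 0 0 le_rfl
    have h11 := h 1 1 le_rfl
    have h22 := h 2 2 le_rfl
    have h10 := h 1 0 (by decide)
    have h20 := h 2 0 (by decide)
    have h21 := h 2 1 (by decide)
    simp only [if_true, if_false, Fin.isValue, one_ne_zero, show (2 : Fin 3) ≠ 1 by decide,
      show (2 : Fin 3) ≠ 0 by decide] at h00 h11 h22 h10 h20 h21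
    (revert i j; simp only [um, h00, h11, h22, h10, h20, h21, _root_.Fin.forall_fin_succ, Fin.isValue, _root_.Matrix.of_apply, _root_.Matrix.cons_val', _root_.Matrix.cons_val_fin_one, _root_.Matrix.cons_val_zero, _root_.Matrix.cons_val_succ, _root_.Fin.succ_zero_eq_one, _root_.Fin.succ_one_eq_two, _root_.IsEmpty.forall_iff, _root_.and_true, _root_.and_self])
  · rintro ⟨a, b, c, rfl⟩ i j hij
    fin_cases i <;> fin_cases j <;> simp [um] at hij ⊢

/-- `K` is generated by the centralizers of the involutions of `S` -/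
theorem gen_range (X : Subgroup G)
    (h1 : ∀ t, f (pr (lr t)) ∈ X) (h2 : ∀ t, f (pr (ls t)) ∈ X) (h3 : ∀ t, U f t 0 0 ∈ X) (h4 : ∀ t, U f 0 t 0 ∈ X)
    (h5 : ∀ t, U f 0 0 t ∈ X) : f.range ≤ X := by
  rintro _ ⟨y, rfl⟩
  obtain ⟨g, rfl⟩ := pr_surjective y
  refine Cfsg.Agent.LieClassical.SLGen.transvection_induction (fun x => f (pr x) ∈ X) (fun i j hij c => ?_)
    (fun A B hA hB => ?_) g
  · fin_cases i <;> fin_cases j
    · exact absurd rfl hij
    · have := h3 c
      unfold U at this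
      rw [um_eq01] at this
      exact this
    · have := h5 c
      unfold U at this
      rw [um_eq02] at this
      exact this
    · have := h2 c
      rw [ls_eq] at this
      exact this
    · exact absurd rfl hij
    · have := h4 c
      unfold U at this
      rw [um_eq12] at this
      exact this
    · have e := l20 c
      have h6 : f (pr (lr c * ls 1 * lr (-c) * ls (-1))) ∈ X := by
        rw [map_mul, map_mul, map_mul, map_mul, map_mul, map_mul]
        exact mul_mem (mul_mem (mul_mem (h1 _) (h2 _)) (h1 _)) (h2 _)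
      rw [← e] at h6
      exact h6
    · have := h1 c
      rw [lr_eq] at this
      exact this
    · exact absurd rfl hij
  · rw [map_mul, map_mul]
    exact mul_mem hA hB

theorem exists_cube_ne [Finite F] (h8 : 8 ≤ Nat.card F) : ∃ x : Fˣ, x ^ 3 ≠ 1 := by
  by_contra hcon
  push Not at hcon
  have := Fintype.ofFinite F
  classical
  have h1 := IsCyclic.card_pow_eq_one_le (α := Fˣ) (n := 3) (by norm_num)
  rw [Finset.filter_true_of_mem (fun x _ => hcon x), Finset.card_univ, Fintype.card_units] at h1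
  rw [Nat.card_eq_fintype_card] at h8
  omega

theorem char_two [Finite F] [CharP F 2] (x : F) : x + x = 0 := CharTwo.add_self_eq_zero x

section sylow

variable [Finite F] [CharP F 2]

theorem exists_syl : ∃ P : Sylow 2 (Y3 F), ∀ y, y ∈ (P : Subgroup (Y3 F)) ↔ ∃ a b c, y = pr (um a b c) := by
  have := Fintype.ofFinite F
  have : Fact (Nat.Prime 2) := ⟨Nat.prime_two⟩
  obtain ⟨P, hP⟩ := Cfsg.Agent.ClassicalGeometry.AutPSL.SylowU.exists_sylow (F := F) 3 2
  refine ⟨P, fun y => ?_⟩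
  rw [hP]
  constructor
  · rintro ⟨g, hg, rfl⟩
    obtain ⟨a, b, c, rfl⟩ := upper_eq.1 hg
    exact ⟨a, b, c, rfl⟩
  · rintro ⟨a, b, c, rfl⟩
    exact ⟨_, upper_eq.2 ⟨a, b, c, rfl⟩, rfl⟩

include hf in
theorem isSyl : IsSyl (Sf f) f.range := by
  obtain ⟨P, hP⟩ := exists_syl (F := F)
  have e : (P : Subgroup (Y3 F)).map f = Sf f := by
    ext x
    constructor
    · rintro ⟨y, hy, rfl⟩
      obtain ⟨a, b, c, rfl⟩ := (hP y).1 hy
      exact U_mem f a b c
    · rintro ⟨a, b, c, rfl⟩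
      exact ⟨_, (hP _).2 ⟨a, b, c, rfl⟩, rfl⟩
  refine ⟨?_, Sf_le f, ?_⟩
  · rw [← e]
    exact P.2.map f
  · intro Q hQ hle hQr x hx
    have h1 : IsPGroup 2 ↥(Q.comap f) := hQ.comap_of_injective f hf
    have h2 : (P : Subgroup (Y3 F)) ≤ Q.comap f := by
      intro y hy
      rw [Subgroup.mem_comap]
      apply hle
      rw [← e]
      exact ⟨y, hy, rfl⟩
    have h3 := P.3 h1 h2
    obtain ⟨y, rfl⟩ := hQr hx
    have h4 : y ∈ Q.comap f := hx
    rw [h3] at h4
    rw [← e]
    exact ⟨y, h4, rfl⟩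

/-- every involution of `K` is conjugate to an element of `Z` -/
theorem conj_Z (a b c : F) (h : a * b = 0) : ∃ (g : SL3 F) (c' : F), g * um a b c = um 0 0 c' * g := by
  rcases mul_eq_zero.1 h with rfl | rfl
  · by_cases hc : c = 0
    · subst hc
      -- `um 0 b 0`
      refine ⟨ns, b, ns_um_b b⟩
    · refine ⟨ls (-(b / c)), c, ?_⟩
      rw [ls_um]
      congr 2
      field_simp
      ring
  · by_cases hc : c = 0
    · subst hc
      exact ⟨nr, -a, nr_um_a a⟩
    · refine ⟨lr (a / c), c, ?_⟩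
      rw [lr_um]
      congr 2
      field_simp
      ring

theorem zc {z s : G} (hz : z ∈ Zf f) (hs : s ∈ Sf f) : z * s = s * z := by
  obtain ⟨c, rfl⟩ := hz
  obtain ⟨a', b', c', rfl⟩ := hs
  exact commute_U f _ _ _ _ _ _ (by ring)

include hf in
theorem mul_zero_of_sq {a b c : F} (h : U f a b c * U f a b c = 1) : a * b = 0 := by
  rw [U_mul, char_two a, char_two b, char_two c, zero_add, ← U_one f] at h
  exact (U_inj hf h).2.2

include hf in
theorem inv_range [Finite G] : ∀ t ∈ f.range, orderOf t = 2 →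
    ∃ k ∈ f.range, ∀ s ∈ Sf f, (k * s * k⁻¹) * t = t * (k * s * k⁻¹) := by
  intro t ht h2
  have hp : IsPGroup 2 ↥(zpowers t) := by
    rw [IsPGroup.iff_card]
    exact ⟨1, by rw [Nat.card_zpowers, h2, pow_one]⟩
  obtain ⟨m, hm, hmt⟩ := (isSyl hf).conj_into hp (by rw [Subgroup.zpowers_le]; exact ht)
  obtain ⟨a, b, c, e⟩ := hmt t (Subgroup.mem_zpowers t)
  have hsq : U f a b c * U f a b c = 1 := by
    have h3 : t * t = 1 := by rw [← pow_two, ← h2, pow_orderOf_eq_one]
    calc U f a b c * U f a b c = m * t * m⁻¹ * (m * t * m⁻¹) := by rw [e]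
      _ = m * (t * t) * m⁻¹ := by group
      _ = 1 := by rw [h3]; group
  obtain ⟨g, c', hg⟩ := conj_Z a b c (mul_zero_of_sq hf hsq)
  have hg' : f (pr g) * U f a b c = U f 0 0 c' * f (pr g) := by
    unfold U
    rw [← map_mul, ← map_mul, ← map_mul, ← map_mul, hg]
  refine ⟨(f (pr g) * m)⁻¹, inv_mem (mul_mem ⟨_, rfl⟩ hm), ?_⟩
  intro s hs
  have hz := zc (Z_mem f c') hs
  have ht' : t = (f (pr g) * m)⁻¹ * U f 0 0 c' * (f (pr g) * m) := by
    calc t = m⁻¹ * (m * t * m⁻¹) * m := by group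
      _ = m⁻¹ * (f (pr g))⁻¹ * (f (pr g) * U f a b c) * m := by rw [e]; group
      _ = _ := by rw [hg']; group
  set k0 := f (pr g) * m
  rw [ht', inv_inv]
  calc k0⁻¹ * s * k0 * (k0⁻¹ * U f 0 0 c' * k0) = k0⁻¹ * (s * U f 0 0 c') * k0 := by group
    _ = k0⁻¹ * (U f 0 0 c' * s) * k0 := by rw [hz]
    _ = _ := by group

theorem gen_S : ∀ X : Subgroup G, (∀ e ∈ Sf f, orderOf e = 2 → ∀ k ∈ f.range, k * e = e * k → k ∈ X) →
    (Function.Injective f → f.range ≤ X) := by
  intro X h hf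
  have ord : ∀ a b : F, (a = 1 ∧ b = 0) ∨ (a = 0 ∧ b = 1) → orderOf (U f a b 0) = 2 := by
    intro a b hab
    apply orderOf_eq_prime
    · rw [pow_two, U_mul, char_two a, char_two b, ← U_one f]
      congr 1
      rcases hab with ⟨rfl, rfl⟩ | ⟨rfl, rfl⟩ <;> ring
    · rw [← U_one f]
      intro h0
      have h1 := U_inj hf h0
      rcases hab with ⟨rfl, rfl⟩ | ⟨rfl, rfl⟩
      · exact one_ne_zero h1.1
      · exact one_ne_zero h1.2.1
  have hr := h _ (U_mem f 1 0 0) (ord 1 0 (Or.inl ⟨rfl, rfl⟩))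
  have hs := h _ (U_mem f 0 1 0) (ord 0 1 (Or.inr ⟨rfl, rfl⟩))
  apply gen_range X
  · intro t
    apply hr _ ⟨_, rfl⟩
    unfold U
    rw [← map_mul, ← map_mul, ← map_mul, ← map_mul, lr_um, zero_mul, sub_zero]
  · intro t
    apply hs _ ⟨_, rfl⟩
    unfold U
    rw [← map_mul, ← map_mul, ← map_mul, ← map_mul, ls_um, mul_zero, add_zero]
  · intro t
    exact hr _ (Sf_le f (U_mem f _ _ _)) (commute_U f _ _ _ _ _ _ (by ring))
  · intro t
    exact hs _ (Sf_le f (U_mem f _ _ _)) (commute_U f _ _ _ _ _ _ (by ring))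
  · intro t
    exact hr _ (Sf_le f (U_mem f _ _ _)) (commute_U f _ _ _ _ _ _ (by ring))

theorem S_le_comm (h8 : 8 ≤ Nat.card F) : Sf f ≤ ⁅Sf f, Hf f⁆ := by
  obtain ⟨x, hx⟩ := exists_cube_ne h8
  have hx3 : (x : F) ^ 3 ≠ 1 := by
    intro h
    apply hx
    ext
    rw [Units.val_pow_eq_pow_val, h, Units.val_one]
  set! y : Fˣ := (x ^ 2)⁻¹ with hy
  have hxy : x ^ 2 * y = 1 := by rw [hy, mul_inv_cancel]
  have hH : Tm f x y ∈ Hf f := ⟨x, y, hxy, rfl⟩
  have e1 : ((x * y⁻¹ : Fˣ) : F) = (x : F) ^ 3 := by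
    rw [hy, inv_inv, Units.val_mul, Units.val_pow_eq_pow_val]; ring
  have e2 : ((x * y ^ 2 : Fˣ) : F) = ((x : F) ^ 3)⁻¹ := by
    have h1 : x * y ^ 2 = (x ^ 3)⁻¹ := by
      rw [eq_inv_iff_mul_eq_one]
      calc x * y ^ 2 * x ^ 3 = (x ^ 2 * y) * (x ^ 2 * y) := by
            rw [show x ^ 3 = x ^ 2 * x from pow_succ x 2, pow_two y]
            calc x * (y * y) * (x ^ 2 * x) = x * x * y * (x ^ 2 * y) := by ac_rfl
              _ = x ^ 2 * y * (x ^ 2 * y) := by rw [pow_two]
        _ = 1 := by rw [hxy, one_mul]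
    rw [h1, Units.val_inv_eq_inv_val, Units.val_pow_eq_pow_val]
  have ha : ∀ a, U f a 0 0 ∈ ⁅Sf f, Hf f⁆ := by
    intro a
    have hne : (1 : F) - (x : F) ^ 3 ≠ 0 := sub_ne_zero.2 hx3.symm
    have h1 : ⁅U f (a / (1 - (x : F) ^ 3)) 0 0, Tm f x y⁆ ∈ ⁅Sf f, Hf f⁆ :=
      Subgroup.commutator_mem_commutator (U_mem f _ _ _) hH
    have h2 : ⁅U f (a / (1 - (x : F) ^ 3)) 0 0, Tm f x y⁆ = U f a 0 0 := by
      rw [commutatorElement_def]
      have : U f (a / (1 - (x : F) ^ 3)) 0 0 * Tm f x y * (U f (a / (1 - (x : F) ^ 3)) 0 0)⁻¹ * (Tm f x y)⁻¹ =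
          U f (a / (1 - (x : F) ^ 3)) 0 0 * (Tm f x y * U f (a / (1 - (x : F) ^ 3)) 0 0 * (Tm f x y)⁻¹)⁻¹ := by group
      rw [this, Tm_conj, e1, U_inv, U_mul]
      congr 1
      · field_simp
        ring
      · ring
      · ring
    rwa [h2] at h1
  have hb : ∀ a, U f 0 a 0 ∈ ⁅Sf f, Hf f⁆ := by
    intro a
    have hx3' : ((x : F) ^ 3)⁻¹ ≠ 1 := by
      intro h
      exact hx3 (inv_eq_one.1 h)
    have hne : (1 : F) - ((x : F) ^ 3)⁻¹ ≠ 0 := sub_ne_zero.2 hx3'.symm
    have h1 : ⁅U f 0 (a / (1 - ((x : F) ^ 3)⁻¹)) 0, Tm f x y⁆ ∈ ⁅Sf f, Hf f⁆ :=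
      Subgroup.commutator_mem_commutator (U_mem f _ _ _) hH
    have h2 : ⁅U f 0 (a / (1 - ((x : F) ^ 3)⁻¹)) 0, Tm f x y⁆ = U f 0 a 0 := by
      rw [commutatorElement_def]
      have : U f 0 (a / (1 - ((x : F) ^ 3)⁻¹)) 0 * Tm f x y * (U f 0 (a / (1 - ((x : F) ^ 3)⁻¹)) 0)⁻¹ * (Tm f x y)⁻¹ =
          U f 0 (a / (1 - ((x : F) ^ 3)⁻¹)) 0 * (Tm f x y * U f 0 (a / (1 - ((x : F) ^ 3)⁻¹)) 0 * (Tm f x y)⁻¹)⁻¹ := by
        group
      rw [this, Tm_conj, e2, U_inv, U_mul]
      congr 1
      · ring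
      · have h5 : a / (1 - ((x : F) ^ 3)⁻¹) + -(((x : F) ^ 3)⁻¹ * (a / (1 - ((x : F) ^ 3)⁻¹))) =
            (1 - ((x : F) ^ 3)⁻¹) * (a / (1 - ((x : F) ^ 3)⁻¹)) := by ring
        rw [h5, mul_div_cancel₀ _ hne]
      · ring
    rwa [h2] at h1
  have hc : ∀ a, U f 0 0 a ∈ ⁅Sf f, Hf f⁆ := by
    intro a
    have h1 := mul_mem (mul_mem (mul_mem (ha a) (hb 1)) (inv_mem (ha a))) (inv_mem (hb 1))
    rw [comm_U] at h1
    have h2 : a * 1 - 0 * 0 = a := by ring
    rwa [h2] at h1
  rintro _ ⟨a, b, c, rfl⟩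
  have h1 := mul_mem (mul_mem (ha a) (hb b)) (hc (c - a * b))
  rw [U_mul, U_mul] at h1
  have h2 : U f (a + 0 + 0) (0 + b + 0) (0 + 0 + a * b + (c - a * b) + (a + 0) * 0) = U f a b c := by
    congr 1 <;> ring
  rwa [h2] at h1

include hf in
theorem comm_range {A B : Subgroup G} (hA : IsPGroup 2 ↥A) (hAN : A ≤ normalizer (f.range : Set G))
    (hBN : B ≤ normalizer (f.range : Set G)) (h : A ≤ ⁅A, B⁆) {a : G} (ha : a ∈ A) :
    ∃ k ∈ f.range, k⁻¹ * a ∈ centralizer (f.range : Set G) := by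
  -- the elements acting as elements of `PGL_3`
  let D : Subgroup G :=
    { carrier := {x | ∃ C : Matrix.GeneralLinearGroup (Fin 3) F, Rel f x (lift (cj C))}
      one_mem' := ⟨1, by rw [map_one, map_one]; exact Rel.one⟩
      mul_mem' := by
        rintro x y ⟨C, hC⟩ ⟨C', hC'⟩
        exact ⟨C * C', by rw [map_mul, map_mul]; exact hC.mul hC'⟩
      inv_mem' := by
        rintro x ⟨C, hC⟩
        exact ⟨C⁻¹, by rw [map_inv, map_inv]; exact hC.inv⟩ }
  have h1 : ⁅A, B⁆ ≤ D := by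
    rw [Subgroup.commutator_le]
    intro x hx y hy
    obtain ⟨α, hα⟩ := exists_rel hf (hAN hx)
    obtain ⟨β, hβ⟩ := exists_rel hf (hBN hy)
    obtain ⟨C, hC⟩ := comm_pgl α β
    exact ⟨C, by rw [← hC]; exact hα.comm hβ⟩
  obtain ⟨C, hC⟩ := h1 (h ha)
  obtain ⟨k, hk⟩ := hA ⟨a, ha⟩
  have hk' : a ^ 2 ^ k = 1 := congrArg Subtype.val hk
  have h2 : lift (cj C) ^ 2 ^ k = (1 : MulAut (Y3 F)) := by
    have h3 := hC.pow (2 ^ k)
    rw [hk'] at h3
    exact h3.ext hf Rel.one
  obtain ⟨y, hy⟩ := mem_Inn.1 (inner_of_two h2)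
  rw [hy] at hC
  exact ⟨f y, ⟨y, rfl⟩, hC.mem_centralizer⟩

include hf in
theorem four_range {a b : G} (ha : a ∈ normalizer (f.range : Set G)) (hb : b ∈ normalizer (f.range : Set G))
    (ha2 : a * a = 1) (hb2 : b * b = 1) (hab : a * b = b * a)
    (hn : ∀ v, v = a ∨ v = b ∨ v = a * b → ∀ k ∈ f.range, k⁻¹ * v ∉ centralizer (f.range : Set G))
    (za : ∀ z ∈ Zf f, a * z * a⁻¹ ∈ Zf f) (zb : ∀ z ∈ Zf f, b * z * b⁻¹ ∈ Zf f)
    (hc : ∀ v, v = a ∨ v = b ∨ v = a * b → (∀ z ∈ Zf f, v * z = z * v) →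
      (∀ z ∈ Zf f, a * z = z * a) ∧ ∀ z ∈ Zf f, b * z = z * b) : False := by
  obtain ⟨α, hα⟩ := exists_rel hf ha
  obtain ⟨β, hβ⟩ := exists_rel hf hb
  have hαβ := hα.mul hβ
  have key : ∀ v γ, Rel f v γ → (∀ k ∈ f.range, k⁻¹ * v ∉ centralizer (f.range : Set G)) → γ ∉ Inn (Y3 F) := by
    intro v γ h h1 h2
    obtain ⟨y, rfl⟩ := mem_Inn.1 h2
    exact h1 (f y) ⟨y, rfl⟩ h.mem_centralizer
  have hz : ∀ v γ, Rel f v γ → (∀ z ∈ Zf f, v * z * v⁻¹ ∈ Zf f) → ∀ c, ∃ c', γ (pr (um 0 0 c)) = pr (um 0 0 c') := by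
    intro v γ h h1 c
    obtain ⟨c', hc'⟩ := h1 _ (Z_mem f c)
    refine ⟨c', hf ?_⟩
    rw [h]
    exact hc'
  have hfix : ∀ v γ, Rel f v γ → ((∀ z ∈ Zf f, v * z = z * v) ↔ ∀ c, γ (pr (um 0 0 c)) = pr (um 0 0 c)) := by
    intro v γ h
    constructor
    · intro h1 c
      apply hf
      rw [h]
      have := h1 _ (Z_mem f c)
      unfold U at this
      rw [this, mul_inv_cancel_right]
    · rintro h1 _ ⟨c, rfl⟩
      have h2 := h (pr (um 0 0 c))
      rw [h1 c] at h2
      unfold U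
      rw [eq_mul_inv_iff_mul_eq] at h2
      exact h2.symm
  refine no_four (a := α) (b := β) ?_ ?_ ?_ (key a α hα (hn a (Or.inl rfl))) (key b β hβ (hn b (Or.inr (Or.inl rfl))))
    (key _ _ hαβ (hn _ (Or.inr (Or.inr rfl)))) (hz a α hα za) (hz b β hβ zb) ?_
  · have := hα.mul hα
    rw [ha2] at this
    exact this.ext hf Rel.one
  · have := hβ.mul hβ
    rw [hb2] at this
    exact this.ext hf Rel.one
  · have := hβ.mul hα
    rw [← hab] at this
    exact hαβ.ext hf this
  · intro γ hγ h1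
    have h2 : ∃ v, (v = a ∨ v = b ∨ v = a * b) ∧ Rel f v γ := by
      rcases hγ with rfl | rfl | rfl
      · exact ⟨a, Or.inl rfl, hα⟩
      · exact ⟨b, Or.inr (Or.inl rfl), hβ⟩
      · exact ⟨_, Or.inr (Or.inr rfl), hαβ⟩
    obtain ⟨v, hv, hvγ⟩ := h2
    obtain ⟨h3, h4⟩ := hc v hv ((hfix v γ hvγ).2 h1)
    exact ⟨(hfix a α hα).1 h3, (hfix b β hβ).1 h4⟩

include hf in
/-- **the facts on `K`** -/
theorem fr [Finite G] (h8 : 8 ≤ Nat.card F)
    (hctr : ∀ k ∈ f.range, k ∈ centralizer (f.range : Set G) → k = 1) : Fr f.range (Sf f) (Zf f) (Hf f) where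
  SK := Sf_le f
  ZS := Zf_le f
  HK := (Hf_le f).trans (Tf_le f)
  syl := isSyl hf
  ctr := hctr
  zc := fun z hz s hs => zc hz hs
  z2 := by
    rintro _ ⟨c, rfl⟩
    rw [U_mul, char_two c, ← U_one f]
    congr 1 <;> ring
  cm := by
    rintro _ ⟨a, b, c, rfl⟩ _ ⟨a', b', c', rfl⟩
    rw [comm_U]
    exact Z_mem f _
  on := by
    rintro _ ⟨a, b, c, rfl⟩ hn _ ⟨z, rfl⟩
    rw [U_mem_Z hf] at hn
    by_cases ha : a = 0
    · subst ha
      have hb : b ≠ 0 := fun hb => hn ⟨rfl, hb⟩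
      refine ⟨U f (-(z / b)) 0 0, U_mem f _ _ _, ?_⟩
      rw [comm_U]
      congr 1
      field_simp
      ring
    · refine ⟨U f 0 (z / a) 0, U_mem f _ _ _, ?_⟩
      rw [comm_U]
      congr 1
      field_simp
      ring
  ne := ⟨U f 0 0 1, Z_mem f 1, fun h => by
    rw [← U_one f] at h
    exact one_ne_zero (U_inj hf h).2.2⟩
  zne := ⟨U f 1 0 0, U_mem f _ _ _, fun h => by
    rw [U_mem_Z hf] at h
    exact one_ne_zero h.1⟩
  hz := by
    rintro _ ⟨x, y, hxy, rfl⟩ _ ⟨c, rfl⟩
    rw [Tm_U, hxy]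
    congr 2 <;> simp
  hs := by
    rintro _ ⟨x, y, hxy, rfl⟩ _ ⟨a, b, c, rfl⟩
    rw [Tm_conj]
    exact U_mem f _ _ _
  sh := S_le_comm h8
  F1 := by
    intro y hy h
    obtain ⟨c, hc⟩ := K1 hf hy (fun a b c => h _ (U_mem f a b c))
    exact ⟨_, Z_mem f c, hc⟩
  O := fun A B hA hAN hBN h a ha => comm_range hf hA hAN hBN h ha
  inv := inv_range hf
  V := fun a b ha hb ha2 hb2 hab hn za zb hc => four_range hf ha hb ha2 hb2 hab hn za zb hc
  gen := fun X h => gen_S X h hf

end sylow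

end Cfsg.Agent.OddHalf.D4.L3

end
end

-- part: OddHalf/D4/L3/Double
section
-- merged: Cfsg.Agent.OddHalf.D4.L3.DblNorm
section

/-!
# ODD, D4, row l3e (text #14806 (C)): the double over a Sylow 2-subgroup, NORM TRICK

`S` a Sylow 2-subgroup of `K` with centre `X` (a root group), `[S, S] ≤ X`; `T0` the torus of `⟨X_ρ, X_{-ρ}⟩`;
`h0 ∈ K` an element of odd order normalising `S`, centralising `X`, without fixed points on `S / X`.

* `Exist.Env.exists_v0_norm` : `y` trivial on `X` and on `S / X` with `[y, R] ≤ X`; then `v0 = (y h0)^m` centralises `S`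
  and `[v0, r] = [y, r]`;
* `NLoc` : the local situation (`Loc` with `P = Q = S`, without `B`);
* **`NLoc.exists_dw`**, **`NLoc.exists_base`** : the doubled root group;
* **`NLoc.false`** : with `KTriP`: no `g` normalising `S`, `X`, `R X` moves `R`.
-/

set_option autoImplicit false

namespace Cfsg.Agent.OddHalf.DblR

open Cfsg.Agent.Nodes.Reps

variable {G : Type*} [Group G]

namespace Exist.Env

variable {K R X S T0 : Subgroup G}

/-- **The norm trick.** -/
theorem exists_v0_norm (E : Env K R X S S T0) (SS : ∀ s ∈ S, ∀ s' ∈ S, s * s' * s⁻¹ * s'⁻¹ ∈ X)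
    {h0 : G} (h0K : h0 ∈ K) (h0S : ∀ s ∈ S, h0 * s * h0⁻¹ ∈ S) (h0X : ∀ x ∈ X, h0 * x = x * h0)
    {m : ℕ} (hm : Odd m) (h0m : h0 ^ m = 1) (h0f : ∀ s ∈ S, h0 * s * h0⁻¹ * s⁻¹ ∈ X → s ∈ X)
    {y : G} (yX : ∀ x ∈ X, y * x = x * y) (yS : ∀ s ∈ S, y * s * y⁻¹ * s⁻¹ ∈ X) (yR : ∀ r ∈ R, δ r y ∈ X)
    {b : G} (hb : b ∈ R) (yb : δ b y ≠ 1) : ∃ v0 ∈ E.V, δ b v0 ≠ 1 := by
  have XXc : ∀ x ∈ X, ∀ s ∈ S, x * s = s * x := E.XPc
  have XS : X ≤ S := E.XP
  set! a := y * h0 with ha
  have aX : ∀ x ∈ X, a * x = x * a := by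
    intro x hx
    rw [ha, mul_assoc, h0X x hx, ← mul_assoc, yX x hx, mul_assoc]
  have aXn : ∀ n : ℕ, ∀ x ∈ X, a ^ n * x = x * a ^ n := fun n x hx =>
    ((show Commute a x from aX x hx).pow_left n)
  -- action of `a`
  have aS : ∀ s ∈ S, ∃ x ∈ X, a * s * a⁻¹ = x * (h0 * s * h0⁻¹) := by
    intro s hs
    refine ⟨_, yS _ (h0S s hs), ?_⟩
    rw [ha]; group
  have h0n : ∀ n : ℕ, ∀ s ∈ S, h0 ^ n * s * (h0 ^ n)⁻¹ ∈ S := by
    intro n
    induction n with
    | zero => intro s hs; simpa using hs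
    | succ n ih =>
      intro s hs
      have := h0S _ (ih s hs)
      rw [show h0 ^ (n + 1) * s * (h0 ^ (n + 1))⁻¹ = h0 * (h0 ^ n * s * (h0 ^ n)⁻¹) * h0⁻¹ by
        rw [pow_succ']; group]
      exact this
  have aSn : ∀ n : ℕ, ∀ s ∈ S, ∃ x ∈ X, a ^ n * s * (a ^ n)⁻¹ = x * (h0 ^ n * s * (h0 ^ n)⁻¹) := by
    intro n
    induction n with
    | zero => intro s _; exact ⟨1, one_mem _, by simp⟩
    | succ n ih =>
      intro s hs
      obtain ⟨x, hx, e⟩ := ih s hs
      obtain ⟨x', hx', e'⟩ := aS _ (h0n n s hs)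
      refine ⟨x * x', mul_mem hx hx', ?_⟩
      calc a ^ (n + 1) * s * (a ^ (n + 1))⁻¹ = a * (a ^ n * s * (a ^ n)⁻¹) * a⁻¹ := by rw [pow_succ']; group
        _ = (a * x) * (h0 ^ n * s * (h0 ^ n)⁻¹) * a⁻¹ := by rw [e]; group
        _ = x * (a * (h0 ^ n * s * (h0 ^ n)⁻¹) * a⁻¹) := by rw [aX x hx]; group
        _ = x * x' * (h0 ^ (n + 1) * s * (h0 ^ (n + 1))⁻¹) := by rw [e', pow_succ']; group
  -- `v0 = a ^ m`, `θ s = v0 s v0⁻¹ s⁻¹`
  set! v := a ^ m with hv
  have hθ : ∀ s ∈ S, v * s * v⁻¹ * s⁻¹ ∈ X := by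
    intro s hs
    obtain ⟨x, hx, e⟩ := aSn m s hs
    rw [h0m] at e
    rw [e]
    simpa using hx
  have hvX : ∀ x ∈ X, v * x = x * v := aXn m
  have hmul : ∀ s ∈ S, ∀ s' ∈ S, v * (s * s') * v⁻¹ * (s * s')⁻¹ = (v * s * v⁻¹ * s⁻¹) * (v * s' * v⁻¹ * s'⁻¹) := by
    intro s hs s' hs'
    have h1 := XXc _ (hθ s' hs') s hs
    calc v * (s * s') * v⁻¹ * (s * s')⁻¹ = (v * s * v⁻¹ * s⁻¹) * (s * (v * s' * v⁻¹ * s'⁻¹)) * s⁻¹ := by group
      _ = _ := by rw [← h1]; group
  -- `θ (h0 s h0⁻¹) = θ s`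
  have hinv : ∀ s ∈ S, v * (h0 * s * h0⁻¹) * v⁻¹ * (h0 * s * h0⁻¹)⁻¹ = v * s * v⁻¹ * s⁻¹ := by
    intro s hs
    obtain ⟨x, hx, e⟩ := aS s hs
    have hc : a * v = v * a := by rw [hv]; exact (Commute.refl a).pow_right m
    have hc' : a⁻¹ * v⁻¹ = v⁻¹ * a⁻¹ := by rw [← mul_inv_rev, ← mul_inv_rev, hc]
    have h1 : v * (a * s * a⁻¹) * v⁻¹ * (a * s * a⁻¹)⁻¹ = a * (v * s * v⁻¹ * s⁻¹) * a⁻¹ := by
      calc v * (a * s * a⁻¹) * v⁻¹ * (a * s * a⁻¹)⁻¹ = (v * a) * s * (a⁻¹ * v⁻¹) * (a * s * a⁻¹)⁻¹ := by group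
        _ = (a * v) * s * (v⁻¹ * a⁻¹) * (a * s * a⁻¹)⁻¹ := by rw [hc', hc]
        _ = _ := by group
    rw [aX _ (hθ s hs), mul_inv_cancel_right, e, hmul x (XS hx) _ (h0S s hs)] at h1
    rw [hvX x hx] at h1
    rw [← h1]; group
  -- the norm
  have hN : ∀ n : ℕ, ∀ s ∈ S, (s * h0) ^ n * (h0 ^ n)⁻¹ ∈ S ∧
      v * ((s * h0) ^ n * (h0 ^ n)⁻¹) * v⁻¹ * ((s * h0) ^ n * (h0 ^ n)⁻¹)⁻¹ = (v * s * v⁻¹ * s⁻¹) ^ n := by
    intro n s hs
    induction n with
    | zero => simp only [_root_.pow_zero, _root_.inv_one, _root_.mul_one, _root_.OneMemClass.one_mem, _root_.mul_inv_cancel, _root_.and_self]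
    | succ n ih =>
      have e : (s * h0) ^ (n + 1) * (h0 ^ (n + 1))⁻¹ = s * (h0 * ((s * h0) ^ n * (h0 ^ n)⁻¹) * h0⁻¹) := by
        rw [pow_succ' (s * h0), pow_succ h0 n]
        simp only [mul_inv_rev, mul_assoc]
        congr 3
        rw [← mul_inv_rev, ← mul_inv_rev, ← pow_succ, ← pow_succ']
      rw [e]
      refine ⟨mul_mem hs (h0S _ ih.1), ?_⟩
      rw [hmul s hs _ (h0S _ ih.1), hinv _ ih.1, ih.2, pow_succ']
  have hvS : ∀ s ∈ S, v * s = s * v := by
    intro s hs
    obtain ⟨h1, h2⟩ := hN m s hs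
    rw [h0m, inv_one, mul_one] at h1 h2
    -- `N = (s h0) ^ m` is fixed by `h0` modulo `X`
    have h3 : (s * h0) ^ m ∈ X := by
      apply h0f _ h1
      have e : h0 * (s * h0) ^ m * h0⁻¹ * ((s * h0) ^ m)⁻¹ = s⁻¹ * (s * h0) ^ m * s⁻¹⁻¹ * ((s * h0) ^ m)⁻¹ := by
        have key : ∀ w : G, h0 = s⁻¹ * w →
            h0 * w ^ m * h0⁻¹ * (w ^ m)⁻¹ = s⁻¹ * w ^ m * s⁻¹⁻¹ * (w ^ m)⁻¹ := by
          intro w hw
          have hc : w * w ^ m = w ^ m * w := (Commute.refl w).pow_right m
          calc h0 * w ^ m * h0⁻¹ * (w ^ m)⁻¹ = s⁻¹ * (w * w ^ m) * w⁻¹ * s * (w ^ m)⁻¹ := by rw [hw]; group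
            _ = _ := by rw [hc]; group
        exact key _ (by group)
      rw [e]
      exact SS _ (inv_mem hs) _ h1
    have h4 : v * (s * h0) ^ m * v⁻¹ * ((s * h0) ^ m)⁻¹ = 1 := by
      rw [hvX _ h3]; group
    rw [h4] at h2
    have h5 : v * s * v⁻¹ * s⁻¹ = 1 := by
      obtain ⟨k, rfl⟩ := hm
      have h6 := E.Xsq _ (hθ s hs)
      rw [pow_succ, pow_mul, pow_two, h6, one_pow, one_mul] at h2
      exact h2.symm
    calc v * s = (v * s * v⁻¹ * s⁻¹) * s * v := by group
      _ = s * v := by rw [h5, one_mul]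
  -- `[v, r] = [y, r]`
  have haδ : ∀ r ∈ R, δ r a = δ r y := by
    intro r hr
    have h1 : h0 * r = r * h0 := (E.RK r hr h0 h0K).symm
    unfold δ
    rw [ha]
    calc y * h0 * r * (y * h0)⁻¹ * r⁻¹ = y * (h0 * r) * h0⁻¹ * y⁻¹ * r⁻¹ := by group
      _ = y * r * y⁻¹ * r⁻¹ := by rw [h1]; group
  have hvδ : ∀ r ∈ R, δ r v = δ r y := by
    intro r hr
    have h1 : a * δ r a = δ r a * a := aX _ (by rw [haδ r hr]; exact yR r hr)
    rw [hv, δ_pow h1, haδ r hr]
    obtain ⟨k, rfl⟩ := hm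
    rw [pow_succ, pow_mul, pow_two, E.Xsq _ (yR r hr), one_pow, one_mul]
  exact ⟨v, ⟨hvS, fun r hr => by rw [hvδ r hr]; exact yR r hr⟩, by rw [hvδ b hb]; exact yb⟩

/-- the element `y`: trivial on `X` and on `S / X`, `[y, R] ≤ X`, `[y, R] ≠ 1` -/
theorem exists_y [Finite G] (E : Env K R X S S T0)
    (k4 : ∀ g : G, (∀ p ∈ S, g * p * g⁻¹ ∈ S) → (∀ x ∈ X, g * x * g⁻¹ ∈ X) → ∀ h1 ∈ T0, ∃ h ∈ T0,
      (∀ p ∈ S, (g * h1 * g⁻¹) * p * (g * h1 * g⁻¹)⁻¹ * (h * p * h⁻¹)⁻¹ ∈ X) ∧
      ∀ x ∈ X, (g * h1 * g⁻¹) * x * (g * h1 * g⁻¹)⁻¹ = h * x * h⁻¹)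
    {g : G} (gS : ∀ p ∈ S, g * p * g⁻¹ ∈ S) (gX : ∀ x ∈ X, g * x * g⁻¹ ∈ X)
    (gR : ∀ a ∈ R, ∃ b ∈ R, ∃ x ∈ X, g * a * g⁻¹ = b * x) (hg : ∃ a ∈ R, g * a * g⁻¹ ∉ R) :
    ∃ y : G, (∀ x ∈ X, y * x = x * y) ∧ (∀ s ∈ S, y * s * y⁻¹ * s⁻¹ ∈ X) ∧ (∀ r ∈ R, δ r y ∈ X) ∧
      ∃ b ∈ R, δ b y ≠ 1 := by
  obtain ⟨h1, hh1, x1, hx1, hne1⟩ := E.Tne
  have hfp : ∀ y ∈ X, y ≠ 1 → h1 * y * h1⁻¹ ≠ y := fun y hy hy1 => E.fpf hh1 hx1 hne1 hy hy1
  have gX' := conj_inv_mem gX
  have gS' := conj_inv_mem gS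
  obtain ⟨h, hh, hhS, hhX⟩ := k4 g gS gX h1 hh1
  set e := g * h1 * g⁻¹ with he
  obtain ⟨a, ha, haR⟩ := hg
  obtain ⟨b, hb, x, hx, hab⟩ := gR a ha
  have hxne : x ≠ 1 := by
    rintro rfl
    rw [mul_one] at hab
    exact haR (by rw [hab]; exact hb)
  have hea : ∀ a ∈ R, e * (g * a * g⁻¹) = (g * a * g⁻¹) * e := by
    intro a ha
    have := E.TR hh1 ha
    calc e * (g * a * g⁻¹) = g * (h1 * a) * g⁻¹ := by rw [he]; group
      _ = g * (a * h1) * g⁻¹ := by rw [this]
      _ = (g * a * g⁻¹) * e := by rw [he]; group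
  have heX : ∀ x ∈ X, e * x * e⁻¹ ∈ X := by
    intro x hx
    rw [hhX x hx]
    exact E.TX h hh x hx
  have hefp : ∀ x ∈ X, x ≠ 1 → e * x * e⁻¹ ≠ x := by
    intro x hx hx1 hex
    refine hfp (g⁻¹ * x * g) (gX' x hx) ?_ ?_
    · intro h
      apply hx1
      rw [show x = g * (g⁻¹ * x * g) * g⁻¹ by group, h]; group
    · calc h1 * (g⁻¹ * x * g) * h1⁻¹ = g⁻¹ * (e * x * e⁻¹) * g := by rw [he]; group
        _ = g⁻¹ * x * g := by rw [hex]
  -- `e` does not commute with `b`
  have heb : e * b ≠ b * e := by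
    intro h
    refine hefp x hx hxne ?_
    have h1 := hea a ha
    rw [hab] at h1
    have h2 : e * x = x * e := by
      calc e * x = e * (b⁻¹ * (b * x)) := by group
        _ = (e * b⁻¹) * (b * x) := by group
        _ = (b⁻¹ * (b * e) * b⁻¹) * (b * x) := by group
        _ = (b⁻¹ * (e * b) * b⁻¹) * (b * x) := by rw [h]
        _ = b⁻¹ * (e * (b * x)) := by group
        _ = b⁻¹ * ((b * x) * e) := by rw [h1]
        _ = x * e := by group
    rw [h2, mul_inv_cancel_right]
  -- `[e, R] ≤ X`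
  have heR : ∀ r ∈ R, e * r * e⁻¹ * r⁻¹ ∈ X := by
    intro r hr
    obtain ⟨s, hs, y, hy, hrs⟩ : ∃ s ∈ R, ∃ y ∈ X, r = (g * s * g⁻¹) * y := by
      let RX : Subgroup G :=
        { carrier := {z | ∃ s ∈ R, ∃ y ∈ X, z = s * y}
          one_mem' := ⟨1, one_mem _, 1, one_mem _, by group⟩
          mul_mem' := by
            rintro _ _ ⟨s, hs, y, hy, rfl⟩ ⟨s', hs', y', hy', rfl⟩
            refine ⟨s * s', mul_mem hs hs', y * y', mul_mem hy hy', ?_⟩
            have := E.RX hs' hy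
            calc s * y * (s' * y') = s * (y * s') * y' := by group
              _ = s * (s' * y) * y' := by rw [this]
              _ = _ := by group
          inv_mem' := by
            rintro _ ⟨s, hs, y, hy, rfl⟩
            refine ⟨s⁻¹, inv_mem hs, y⁻¹, inv_mem hy, ?_⟩
            rw [mul_inv_rev, E.RX (inv_mem hs) (inv_mem hy)] }
      have hRX : ∀ z ∈ RX, g * z * g⁻¹ ∈ RX := by
        rintro _ ⟨s, hs, y, hy, rfl⟩
        obtain ⟨b, hb, x, hx, h⟩ := gR s hs
        refine ⟨b, hb, x * (g * y * g⁻¹), mul_mem hx (gX y hy), ?_⟩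
        calc g * (s * y) * g⁻¹ = (g * s * g⁻¹) * (g * y * g⁻¹) := by group
          _ = b * (x * (g * y * g⁻¹)) := by rw [h]; group
      obtain ⟨s, hs, y, hy, h⟩ := conj_inv_mem hRX r ⟨r, hr, 1, one_mem _, by group⟩
      refine ⟨s, hs, g * y * g⁻¹, gX y hy, ?_⟩
      calc r = g * (g⁻¹ * r * g) * g⁻¹ := by group
        _ = (g * s * g⁻¹) * (g * y * g⁻¹) := by rw [h]; group
    have e1 : r = y * (g * s * g⁻¹) := by
      have : g * s * g⁻¹ = r * y⁻¹ := by rw [hrs]; group
      rw [this, ← mul_assoc, ← E.RX hr hy]; group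
    have e2 := hea s hs
    have e3 : e * r * e⁻¹ * r⁻¹ = (e * y * e⁻¹) * y⁻¹ := by
      nth_rewrite 1 [e1]
      calc e * (y * (g * s * g⁻¹)) * e⁻¹ * r⁻¹ = e * y * ((g * s * g⁻¹) * e⁻¹) * r⁻¹ := by group
        _ = e * y * (e⁻¹ * (e * (g * s * g⁻¹)) * e⁻¹) * r⁻¹ := by group
        _ = e * y * e⁻¹ * (g * s * g⁻¹) * r⁻¹ := by rw [e2]; group
        _ = (e * y * e⁻¹) * y⁻¹ := by rw [e1]; group
    rw [e3]
    exact mul_mem (heX y hy) (inv_mem hy)
  have hh' := inv_mem hh
  refine ⟨h⁻¹ * e, fun x hx => ?_, fun p hp => ?_, fun r hr => ?_, b, hb, ?_⟩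
  · have := hhX x hx
    calc h⁻¹ * e * x = h⁻¹ * (e * x * e⁻¹) * e := by group
      _ = x * (h⁻¹ * e) := by rw [this]; group
  · have h2 := E.TX _ hh' _ (hhS p hp)
    rwa [show h⁻¹ * (e * p * e⁻¹ * (h * p * h⁻¹)⁻¹) * h⁻¹⁻¹ = h⁻¹ * e * p * (h⁻¹ * e)⁻¹ * p⁻¹ by group] at h2
  · have h2 := E.TX _ hh' _ (heR r hr)
    have h3 : h⁻¹ * r * h = r := by rw [mul_assoc, E.TR hh hr, inv_mul_cancel_left]
    have h4 : δ r (h⁻¹ * e) = h⁻¹ * (e * r * e⁻¹ * r⁻¹) * h⁻¹⁻¹ := by
      unfold δ
      calc h⁻¹ * e * r * (h⁻¹ * e)⁻¹ * r⁻¹ = h⁻¹ * (e * r * e⁻¹) * h * r⁻¹ := by group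
        _ = h⁻¹ * (e * r * e⁻¹) * h * (h⁻¹ * r * h)⁻¹ := by rw [h3]
        _ = _ := by group
    rw [h4]; exact h2
  · rw [Ne, δ_eq_one_iff]
    intro h2
    apply heb
    calc e * b = h * (h⁻¹ * e * b) := by group
      _ = (h * b) * (h⁻¹ * e) := by rw [h2]; group
      _ = b * e := by rw [← E.TR hh hb]; group

end Exist.Env

/-! ### The local situation -/

/-- **The local situation** over a Sylow 2-subgroup `S` of `K` with centre `X`. -/
structure NLoc (K R S X T0 : Subgroup G) : Prop where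
  amb : Amb K R
  SK : S ≤ K
  XS : X ≤ S
  XX : ∀ x ∈ X, x * x = 1
  XZ : ∀ x ∈ X, ∀ p ∈ S, x * p = p * x
  SS : ∀ s ∈ S, ∀ s' ∈ S, s * s' * s⁻¹ * s'⁻¹ ∈ X
  TK : T0 ≤ K
  TX : ∀ h ∈ T0, ∀ x ∈ X, h * x * h⁻¹ ∈ X
  TS : ∀ h ∈ T0, ∀ p ∈ S, h * p * h⁻¹ ∈ S
  Tab : ∀ h ∈ T0, ∀ k ∈ T0, h * k = k * h
  Ttr : ∀ x ∈ X, x ≠ 1 → ∀ y ∈ X, y ≠ 1 → ∃ h ∈ T0, h * x * h⁻¹ = y
  big : ∃ x ∈ X, ∃ y ∈ X, x ≠ 1 ∧ y ≠ 1 ∧ x ≠ y
  two : ∀ c ∈ C1 K R, IsPGroup 2 (Subgroup.zpowers c) → c ∈ R
  k3 : ∀ c : G, (∀ a ∈ R, c * a = a * c) → (∀ p ∈ S, c * p = p * c) → ∃ x ∈ X, x⁻¹ * c ∈ C1 K R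
  k4 : ∀ g : G, (∀ p ∈ S, g * p * g⁻¹ ∈ S) → (∀ x ∈ X, g * x * g⁻¹ ∈ X) → ∀ h1 ∈ T0, ∃ h ∈ T0,
      (∀ p ∈ S, (g * h1 * g⁻¹) * p * (g * h1 * g⁻¹)⁻¹ * (h * p * h⁻¹)⁻¹ ∈ X) ∧
      ∀ x ∈ X, (g * h1 * g⁻¹) * x * (g * h1 * g⁻¹)⁻¹ = h * x * h⁻¹
  /-- an element of odd order centralising `X`, without fixed points on `S / X` -/
  h0 : ∃ h0 ∈ K, (∀ s ∈ S, h0 * s * h0⁻¹ ∈ S) ∧ (∀ x ∈ X, h0 * x = x * h0) ∧ (∃ m : ℕ, Odd m ∧ h0 ^ m = 1) ∧
    ∀ s ∈ S, h0 * s * h0⁻¹ * s⁻¹ ∈ X → s ∈ X

namespace NLoc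

variable {K R S X T0 : Subgroup G}

open Exist Exist.Env

theorem env (L : NLoc K R S X T0) : Env K R X S S T0 where
  RK := L.amb.comm
  Rsq := L.amb.tt
  C1R := fun c h1 h2 _ hj => L.two c (mem_C1.2 ⟨h1, h2⟩) (isPGroup_zpowers hj)
  PK := L.SK
  QP := le_rfl
  TK := L.TK
  XP := L.XS
  Xsq := L.XX
  XPc := L.XZ
  Xc := fun x hx h => L.amb.ctr x (L.SK (L.XS hx)) h
  TX := L.TX
  TPQ := fun h hh p hp => mul_mem (L.TS h hh p hp) (inv_mem hp)
  Tc := L.Tab
  Ttr := L.Ttr
  Tne := by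
    obtain ⟨x, hx, y, hy, hx1, hy1, hxy⟩ := L.big
    obtain ⟨h, hh, e⟩ := L.Ttr x hx hx1 y hy hy1
    exact ⟨h, hh, x, hx, by rw [e]; exact hxy.symm⟩
  tight := by
    intro g t ht ht1 hg h
    refine L.amb.tight ht ht1 hg fun a ha => ?_
    have hg' : g⁻¹ * t = t * g⁻¹ := by
      calc g⁻¹ * t = g⁻¹ * (t * g) * g⁻¹ := by group
        _ = g⁻¹ * (g * t) * g⁻¹ := by rw [hg]
        _ = t * g⁻¹ := by group
    have h1 := L.amb.nor t ht ht1 g⁻¹ hg' _ (L.SK (L.XS (h a ha)))
    have h2 : br a g = (g⁻¹ * (g * a * g⁻¹ * a⁻¹) * g⁻¹⁻¹)⁻¹ := by unfold br; group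
    rw [h2]
    exact inv_mem h1
  k3 := by
    intro c h1 h2
    obtain ⟨x, hx, hc⟩ := L.k3 c h2 h1
    exact ⟨x, hx, (mem_C1.1 hc).1⟩

/-- **(EX)**: existence of the doubled root group. -/
theorem exists_dw [Finite G] (L : NLoc K R S X T0) {g : G} (gS : ∀ p ∈ S, g * p * g⁻¹ ∈ S)
    (gX : ∀ x ∈ X, g * x * g⁻¹ ∈ X)
    (gR : ∀ a ∈ R, ∃ b ∈ R, ∃ x ∈ X, g * a * g⁻¹ = b * x) (hg : ∃ a ∈ R, g * a * g⁻¹ ∉ R) :
    ∃ h0 ∈ T0, (∀ x ∈ X, x ≠ 1 → h0 * x * h0⁻¹ ≠ x) ∧ ∃ W : Subgroup G, DW K R S X W ∧ (∀ w ∈ W, w * w ∈ X) ∧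
      (∀ c ∈ C1 K R, ∀ w ∈ W, w * c * w⁻¹ * c⁻¹ ∈ X) ∧ (∀ h ∈ T0, ∀ w ∈ W, h * w * h⁻¹ ∈ W) ∧
      ∀ k ∈ K, (∃ p ∈ S, k * h0 * k⁻¹ = h0 * p) → (∀ p ∈ S, k * p * k⁻¹ ∈ S) → (∀ x ∈ X, k * x * k⁻¹ ∈ X) →
        ∀ w ∈ W, k * w * k⁻¹ ∈ W := by
  have E := L.env
  obtain ⟨k0, hk0, k0S, k0X, ⟨m, hm, k0m⟩, k0f⟩ := L.h0
  obtain ⟨y, yX, yS, yR, r, hr, yr⟩ := E.exists_y L.k4 gS gX gR hg
  obtain ⟨v0, hv0, h0⟩ := E.exists_v0_norm L.SS hk0 k0S k0X hm k0m k0f yX yS yR hr yr
  obtain ⟨h, hh, x1, hx1, hne1⟩ := E.Tne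
  have hfp : ∀ y ∈ X, y ≠ 1 → h * y * h⁻¹ ≠ y := fun y hy hy1 => E.fpf hh hx1 hne1 hy hy1
  have hR : ∃ t ∈ R, t ≠ 1 := ⟨r, hr, by
    rintro rfl
    exact h0 (δ_eq_one_iff.2 (by rw [mul_one, one_mul]))⟩
  have hall : ∀ t ∈ R, t ≠ 1 → δ t v0 ≠ 1 := fun t ht ht1 he =>
    h0 (δ_eq_one_iff.2 (E.V_comm hv0 ht ht1 (δ_eq_one_iff.1 he) r hr))
  have hbr : ∀ {t w : G}, br t w = δ t w⁻¹ := by
    intro t w; unfold br δ; group
  have hWV : ∀ w ∈ E.W hR hh, w ∈ E.V := fun w hw => E.V2_le hR (E.W_le hR hh hw)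
  refine ⟨h, hh, hfp, E.W hR hh, ?_, fun w hw => (E.W_le hR hh hw).2,
    fun c hc w hw => (E.W_le hR hh hw).1.2 c (mem_C1.1 hc), fun k hk w hw => E.W_T hR hh hk hw, ?_⟩
  · refine ⟨E.XP, E.PK, E.X_le_W hR hh, E.Xsq, fun w hw p hp => E.V_P (hWV w hw) hp, ?_, ?_, ?_, ?_⟩
    · intro t ht w hw
      rw [hbr]
      exact E.V_δ (inv_mem (hWV w hw)) ht
    · intro t ht ht1 w hw h1
      exact E.W_fix hR hh hfp hw ht ht1 h1.symm
    · intro t ht ht1 x hx
      obtain ⟨w, hw, hwx⟩ := E.W_surj hR hh hfp hv0 ht ht1 (hall t ht ht1) x hx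
      refine ⟨w, hw, ?_⟩
      rw [hbr, E.δ_inv' ht (hWV w hw), hwx, E.xx_inv hx]
    · intro c hc w hw
      have h1 : c * w * c⁻¹ = w * δ c w⁻¹ := by unfold δ; group
      rw [h1]
      exact mul_mem hw (E.X_le_W hR hh ((inv_mem (E.W_le hR hh hw) : w⁻¹ ∈ E.V2 hR).1.2 c (mem_C1.1 hc)))
  · rintro k hk ⟨p, hp, hkh⟩ hkP hkX w hw
    exact E.W_conj hR hh hk (conj_inv_mem hkP) hkX hp hkh hw

/-- **The doubled root group, invariant under `N_K(X)`.** -/
theorem exists_base [Finite G] (L : NLoc K R S X T0) (N : NorX K S X T0) {g : G} (gS : cj g S = S) (gX : cj g X = X)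
    (gR : ∀ a ∈ R, ∃ b ∈ R, ∃ x ∈ X, g * a * g⁻¹ = b * x) (hg : ∃ a ∈ R, g * a * g⁻¹ ∉ R) :
    ∃ W : Subgroup G, Base K R S X W := by
  have invX : ∀ {k x : G} {A : Subgroup G}, cj k A = A → x ∈ A → k * x * k⁻¹ ∈ A := by
    intro k x A h hx
    have := conj_mem_cj (g := k).2 hx
    rwa [h] at this
  obtain ⟨h0, hh0, -, W, D, -, -, -, hW⟩ := L.exists_dw (fun p hp => invX gS hp) (fun p hp => invX gX hp) gR hg
  refine ⟨W, D, ?_⟩
  have key : ∀ k ∈ K, cj k X = X → cj k W ≤ W := by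
    intro k hk hX w hw
    rw [mem_cj] at hw
    obtain ⟨p, hp, e⟩ := N.nh k hk hX h0 hh0
    have := hW k hk ⟨p, hp, e⟩ (fun p hp => invX (N.nP k hk hX) hp) (fun x hx => invX hX hx) _ hw
    have e2 : k * (k⁻¹ * w * k) * k⁻¹ = w := by group
    rwa [e2] at this
  intro k hk hX
  apply le_antisymm (key k hk hX)
  have hX' : cj k⁻¹ X = X := by
    conv_lhs => rw [← hX]
    exact cj_inv_cj k X
  have := cj_mono k (key k⁻¹ (inv_mem hk) hX')
  rwa [cj_cj_inv] at this

/-- **(C) + (D)**: no `g` normalising `S`, `X`, `R X` moves `R`. -/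
theorem false [Finite G] {T Xr Xs Xd Pr Ps Pd Yr Ys Y : Subgroup G} {n m : G}
    (H : KTriP K R T Xr Xs Xd Pr Ps Pd Yr Ys Y n m) (L : NLoc K R S X T0) (N : NorX K S X T0)
    {a b c : G} (ha : a ∈ K) (hb : b ∈ K) (hc : c ∈ K) (eXa : cj a X = Xr) (eXb : cj b X = Xs) (eXc : cj c X = Xd)
    (ePa : cj a S = Pr) (ePb : cj b S = Ps) (ePc : cj c S = Pd)
    {t t' : G} (ht : t ∈ R) (ht1 : t ≠ 1) (ht' : t' ∈ R) (ht1' : t' ≠ 1) (hne : t' ≠ t)
    {g : G} (gS : cj g S = S) (gX : cj g X = X)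
    (gR : ∀ a ∈ R, ∃ b ∈ R, ∃ x ∈ X, g * a * g⁻¹ = b * x) (hg : ∃ a ∈ R, g * a * g⁻¹ ∉ R) : False := by
  obtain ⟨W, B⟩ := L.exists_base N gS gX gR hg
  exact hne ((H.triP L.amb B ha hb hc eXa eXb eXc ePa ePb ePc).eq_of_ne_one ht ht1 ht' ht1')

end NLoc

end Cfsg.Agent.OddHalf.DblR

end

-- merged: Cfsg.Agent.OddHalf.D4.L3.Double
section

/-!
# ODD, D4, row `L₃(q)`: the normaliser of the Sylow 2-subgroup `S`, existence of the doubled root group

* `exists_maps` : an element normalising `S` acts on `S / Z`, `Z` by an autotopism of `F`;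
* `T0 f` : the torus of `⟨X_ρ, X_{-ρ}⟩`;
* `exists_act` : if `g` normalises `S` and `y ∈ T0` then some `h ∈ T0` acts as `g y g⁻¹` on `S / Z` and on `Z`;
* `nloc`, `norX` : the structures `NLoc`, `NorX` of the doubling;
* **`exists_base`** : existence of the doubled root group.
-/

set_option autoImplicit false
set_option linter.unusedSectionVars false

namespace Cfsg.Agent.OddHalf.D4.L3.Double

open Cfsg.Agent.ClassicalGeometry.AutPSL.Root Cfsg.Agent.ClassicalGeometry.AutPSL.Auto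
  Cfsg.Agent.ClassicalGeometry.AutPSL.Main Cfsg.Agent.OddHalf.D4.Basic Cfsg.Agent.OddHalf.D4.L3
open Subgroup (normalizer centralizer mem_centralizer_iff mem_normalizer_iff zpowers)
open Cfsg.Agent.OddHalf.DblR Cfsg.Agent.Nodes.Reps

variable {F : Type*} [Field F] {G : Type*} [Group G] {f : Y3 F →* G}

theorem el_mul_z (a b c c' : F) : U f a b c * U f 0 0 c' = U f a b (c + c') := by
  rw [U_mul]; congr 1 <;> ring

theorem z_mul_el (a b c c' : F) : U f 0 0 c' * U f a b c = U f a b (c + c') := by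
  rw [U_mul]; congr 1 <;> ring

theorem z_comm (a b c c' : F) : U f 0 0 c' * U f a b c = U f a b c * U f 0 0 c' := by
  rw [el_mul_z, z_mul_el]

theorem z_mul (c c' : F) : U f 0 0 c * U f 0 0 c' = U f 0 0 (c + c') := by
  rw [el_mul_z]

theorem el_eq (a b c : F) : U f a b c = U f 0 b 0 * U f a 0 0 * U f 0 0 c := by
  rw [U_mul, U_mul]; congr 1 <;> ring

theorem mul_U_inv (a b c c' : F) : U f a b c * (U f a b c')⁻¹ = U f 0 0 (c - c') := by
  rw [U_inv, U_mul]; congr 1 <;> ring

theorem z_central {z u : G} (hz : z ∈ Zf f) (hu : u ∈ Sf f) : z * u = u * z := by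
  obtain ⟨c, rfl⟩ := hz
  obtain ⟨a, b, d, rfl⟩ := hu
  exact z_comm a b d c

section inj

variable (hf : Function.Injective f)
include hf

/-- an element of `S` centralising `S` -/
theorem mem_of_central {g : G} (hg : g ∈ Sf f) (h : ∀ v ∈ Sf f, g * v = v * g) : g ∈ Zf f := by
  obtain ⟨a, b, c, rfl⟩ := hg
  have h1 := h _ (U_mem f 1 0 0)
  have h2 := h _ (U_mem f 0 1 0)
  rw [U_mul, U_mul] at h1 h2
  have h3 := (U_inj hf h1).2.2
  have h4 := (U_inj hf h2).2.2
  rw [U_mem_Z hf]
  constructor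
  · linear_combination h4
  · linear_combination -h3

/-- an element normalising `S` normalises `Z` -/
theorem conj_Zf {g : G} (hg : ∀ u ∈ Sf f, g * u * g⁻¹ ∈ Sf f) (hg' : ∀ u ∈ Sf f, g⁻¹ * u * g ∈ Sf f) :
    ∀ z ∈ Zf f, g * z * g⁻¹ ∈ Zf f := by
  intro z hz
  refine mem_of_central hf (hg z (Zf_le f hz)) fun v hv => ?_
  have h1 := z_central hz (hg' v hv)
  calc g * z * g⁻¹ * v = g * (z * (g⁻¹ * v * g)) * g⁻¹ := by group
    _ = g * ((g⁻¹ * v * g) * z) * g⁻¹ := by rw [h1]
    _ = v * (g * z * g⁻¹) := by group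

variable [CharP F 2]

/-- **The action on `S / Z` and `Z`.** -/
theorem exists_maps {n : G} (hg : ∀ u ∈ Sf f, n * u * n⁻¹ ∈ Sf f) (hg' : ∀ u ∈ Sf f, n⁻¹ * u * n ∈ Sf f) :
    ∃ φ g k : F → F,
    (∀ a b, k (a * b) = φ a * g b) ∧ k 1 ≠ 0 ∧ (∀ a b, k (a + b) = k a + k b) ∧
    (∀ a b, k a = k b → a = b) ∧
    (∀ c, n * U f 0 0 c * n⁻¹ = U f 0 0 (k c)) ∧
    ((∀ a b c, ∃ c', n * U f a b c * n⁻¹ = U f (φ a) (g b) c') ∨
      (∀ a b c, ∃ c', n * U f a b c * n⁻¹ = U f (g b) (φ a) c')) := by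
  have two : (2 : F) = 0 := CharTwo.two_eq_zero
  have H1 : ∀ a b c, ∃ p q r, n * U f a b c * n⁻¹ = U f p q r := fun a b c => hg _ (U_mem f a b c)
  have H2 : ∀ c, ∃ k, n * U f 0 0 c * n⁻¹ = U f 0 0 k := fun c => conj_Zf hf hg hg' _ (Z_mem f c)
  choose p q r hpqr using H1
  choose k hk using H2
  have zinj : ∀ {a b : F}, U f 0 0 a = U f 0 0 b → a = b := fun h => (U_inj hf h).2.2
  have hkinj : ∀ a b, k a = k b → a = b := by
    intro a b hab
    have h1 := hk a
    rw [hab, ← hk b] at h1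
    exact zinj (mul_left_cancel (mul_right_cancel h1))
  have hk0 : k 0 = 0 := by
    have h1 := hk 0
    rw [U_one, mul_one, mul_inv_cancel, ← U_one f] at h1
    exact (zinj h1).symm
  have hk1 : k 1 ≠ 0 := fun h1 => one_ne_zero (hkinj 1 0 (by rw [h1, hk0]))
  have hkadd : ∀ a b, k (a + b) = k a + k b := by
    intro a b
    apply zinj
    rw [← hk, ← z_mul, ← z_mul, ← hk a, ← hk b]
    group
  have hadd : ∀ a b a' b', p (a + a') (b + b') 0 = p a b 0 + p a' b' 0 ∧
      q (a + a') (b + b') 0 = q a b 0 + q a' b' 0 := by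
    intro a b a' b'
    have h1 : (n * U f a b 0 * n⁻¹) * (n * U f a' b' 0 * n⁻¹) =
        (n * U f (a + a') (b + b') 0 * n⁻¹) * (n * U f 0 0 (a * b') * n⁻¹) := by
      calc (n * U f a b 0 * n⁻¹) * (n * U f a' b' 0 * n⁻¹)
          = n * (U f a b 0 * U f a' b' 0) * n⁻¹ := by group
        _ = n * (U f (a + a') (b + b') 0 * U f 0 0 (a * b')) * n⁻¹ := by
            rw [U_mul, el_mul_z, add_zero]
        _ = _ := by group
    rw [hpqr, hpqr, hpqr, hk, U_mul, el_mul_z] at h1
    have h2 := U_inj hf h1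
    exact ⟨h2.1.symm, h2.2.1.symm⟩
  have hsqr : ∀ a b, a * b = 0 → p a b 0 * q a b 0 = 0 := by
    intro a b hab
    have h1 : (n * U f a b 0 * n⁻¹) * (n * U f a b 0 * n⁻¹) = 1 := by
      calc (n * U f a b 0 * n⁻¹) * (n * U f a b 0 * n⁻¹)
          = n * (U f a b 0 * U f a b 0) * n⁻¹ := by group
        _ = 1 := by
          rw [U_mul, hab, CharTwo.add_self_eq_zero, CharTwo.add_self_eq_zero, CharTwo.add_self_eq_zero, add_zero, U_one]
          group
    rw [hpqr, U_mul, ← U_one f] at h1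
    have h2 := (U_inj hf h1).2.2
    rw [CharTwo.add_self_eq_zero, zero_add] at h2
    exact h2
  have hcomm : ∀ a b, k (a * b) = p a 0 0 * q 0 b 0 + p 0 b 0 * q a 0 0 := by
    intro a b
    have h1 : (n * U f a 0 0 * n⁻¹) * (n * U f 0 b 0 * n⁻¹) =
        (n * U f 0 0 (a * b) * n⁻¹) * ((n * U f 0 b 0 * n⁻¹) * (n * U f a 0 0 * n⁻¹)) := by
      have h2 : U f a 0 0 * U f 0 b 0 = U f 0 0 (a * b) * (U f 0 b 0 * U f a 0 0) := by
        rw [U_mul, U_mul, z_mul_el]
        congr 1 <;> ring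
      calc (n * U f a 0 0 * n⁻¹) * (n * U f 0 b 0 * n⁻¹)
          = n * (U f a 0 0 * U f 0 b 0) * n⁻¹ := by group
        _ = _ := by rw [h2]; group
    rw [hpqr, hpqr, hk, U_mul, U_mul, z_mul_el] at h1
    have h3 := (U_inj hf h1).2.2
    linear_combination -h3 + (- p 0 b 0 * q a 0 0) * two
  have hf1 := Cfsg.Agent.StdRank2.L3Env.zero_or_zero (f := fun a => p a 0 0) (g := fun a => q a 0 0)
    (fun a b => by have := (hadd a 0 b 0).1; rwa [add_zero] at this)
    (fun a b => by have := (hadd a 0 b 0).2; rwa [add_zero] at this)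
    (fun a => hsqr a 0 (mul_zero a))
  have hf2 := Cfsg.Agent.StdRank2.L3Env.zero_or_zero (f := fun a => p 0 a 0) (g := fun a => q 0 a 0)
    (fun a b => by have := (hadd 0 a 0 b).1; rwa [add_zero] at this)
    (fun a b => by have := (hadd 0 a 0 b).2; rwa [add_zero] at this)
    (fun a => hsqr 0 a (zero_mul a))
  have hdec : ∀ a b c, ∃ c', n * U f a b c * n⁻¹ = U f (p a 0 0 + p 0 b 0) (q a 0 0 + q 0 b 0) c' := by
    intro a b c
    have h4 : n * U f a b c * n⁻¹ = (n * U f 0 b 0 * n⁻¹) * (n * U f a 0 0 * n⁻¹) *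
        (n * U f 0 0 c * n⁻¹) := by rw [el_eq]; group
    rw [h4, hpqr, hpqr, hk, U_mul, el_mul_z, add_comm (p 0 b 0), add_comm (q 0 b 0)]
    exact ⟨_, rfl⟩
  have hkk : k (1 * 1) ≠ 0 := by rwa [one_mul]
  rcases hf1 with hf1 | hf1 <;> rcases hf2 with hf2 | hf2
  · exfalso
    apply hkk
    rw [hcomm]
    rw [hf1, hf2, zero_mul, zero_mul, add_zero]
  · refine ⟨fun a => q a 0 0, fun b => p 0 b 0, k, ?_, hk1, hkadd, hkinj, hk, Or.inr ?_⟩
    · intro a b
      rw [hcomm, hf1, zero_mul, zero_add, mul_comm]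
    · intro a b c
      obtain ⟨c', hc'⟩ := hdec a b c
      rw [hf1, hf2, add_zero, zero_add] at hc'
      exact ⟨c', hc'⟩
  · refine ⟨fun a => p a 0 0, fun b => q 0 b 0, k, ?_, hk1, hkadd, hkinj, hk, Or.inl ?_⟩
    · intro a b
      rw [hcomm, hf2, zero_mul, add_zero]
    · intro a b c
      obtain ⟨c', hc'⟩ := hdec a b c
      rw [hf1, hf2, add_zero, zero_add] at hc'
      exact ⟨c', hc'⟩
  · exfalso
    apply hkk
    rw [hcomm]
    rw [hf1, hf2, mul_zero, mul_zero, add_zero]

end inj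

/-! ### The torus `T0` -/

variable (f) in
/-- The torus of `⟨X_ρ, X_{-ρ}⟩`. -/
def T0 : Subgroup G where
  carrier := {t | ∃ x : Fˣ, t = Tm f x 1}
  one_mem' := ⟨1, (Tm_one f).symm⟩
  mul_mem' := by
    rintro _ _ ⟨x, rfl⟩ ⟨x', rfl⟩
    exact ⟨x * x', by rw [Tm_mul, one_mul]⟩
  inv_mem' := by
    rintro _ ⟨x, rfl⟩
    exact ⟨x⁻¹, by rw [Tm_inv, inv_one]⟩

theorem T0_le : T0 f ≤ f.range := by
  rintro _ ⟨x, rfl⟩
  exact Tf_le f (Tm_mem f x 1)

theorem T0_act (x : Fˣ) (a b c : F) : Tm f x 1 * U f a b c * (Tm f x 1)⁻¹ = U f (x * a) (x * b) (x * x * c) := by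
  rw [Tm_conj]
  congr 1
  · rw [inv_one, mul_one]
  · rw [one_pow, mul_one]
  · rw [mul_one, pow_two, Units.val_mul]

theorem T0_conj {t u : G} (ht : t ∈ T0 f) (hu : u ∈ Sf f) : t * u * t⁻¹ ∈ Sf f := by
  obtain ⟨x, rfl⟩ := ht
  obtain ⟨a, b, c, rfl⟩ := hu
  rw [T0_act]
  exact U_mem f _ _ _

theorem Tm_comm (x y x' y' : Fˣ) : Tm f x y * Tm f x' y' = Tm f x' y' * Tm f x y := by
  rw [Tm_mul, Tm_mul, mul_comm x, mul_comm y]

theorem Tm_pow (x y : Fˣ) (n : ℕ) : (Tm f x y) ^ n = Tm f (x ^ n) (y ^ n) := by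
  induction n with
  | zero => rw [pow_zero, pow_zero, pow_zero, Tm_one]
  | succ n ih => rw [pow_succ, ih, Tm_mul, ← pow_succ, ← pow_succ]

/-- the elements of `H` -/
theorem H_act (x : Fˣ) (a b c : F) :
    Tm f x (x⁻¹ ^ 2) * U f a b c * (Tm f x (x⁻¹ ^ 2))⁻¹ = U f ((x : F) ^ 3 * a) (((x : F) ^ 3)⁻¹ * b) c := by
  rw [Tm_conj]
  have h1 : x * (x⁻¹ ^ 2)⁻¹ = x ^ 3 := by group
  have h2 : x * (x⁻¹ ^ 2) ^ 2 = (x ^ 3)⁻¹ := by group
  have h3 : x ^ 2 * x⁻¹ ^ 2 = 1 := by group
  rw [h1, h2, h3, Units.val_one, one_mul, Units.val_inv_eq_inv_val, Units.val_pow_eq_pow_val]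

variable [CharP F 2] (hf : Function.Injective f)
include hf

/-- **The action of `n y n⁻¹`.** -/
theorem exists_act {n y : G} (hg : ∀ u ∈ Sf f, n * u * n⁻¹ ∈ Sf f) (hg' : ∀ u ∈ Sf f, n⁻¹ * u * n ∈ Sf f)
    (hy : y ∈ T0 f) : ∃ h ∈ T0 f, (∀ p ∈ Sf f, (n * y * n⁻¹) * p * (n * y * n⁻¹)⁻¹ * (h * p * h⁻¹)⁻¹ ∈ Zf f) ∧
      ∀ z ∈ Zf f, (n * y * n⁻¹) * z * (n * y * n⁻¹)⁻¹ = h * z * h⁻¹ := by
  obtain ⟨φ, g, k, H, hk1, hkadd, hkinj, hkz, hact⟩ := exists_maps hf hg hg'
  obtain ⟨μ, rfl⟩ := hy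
  have hk0 : k 0 = 0 := by
    have h1 := hkz 0
    rw [U_one, mul_one, mul_inv_cancel, ← U_one f] at h1
    exact ((U_inj hf h1).2.2).symm
  set! l0 := k μ / k 1 with hl
  have hl0 : l0 ≠ 0 := by
    rw [hl]
    refine div_ne_zero (fun h0 => μ.ne_zero ?_) hk1
    exact hkinj _ 0 (by rw [h0, hk0])
  obtain ⟨l, hll⟩ : ∃ l : Fˣ, (l : F) = l0 := ⟨Units.mk0 l0 hl0, rfl⟩
  have sem := fun x a => Cfsg.Agent.StdRank2.L3Env.semilinear H hk1 x a
  have hz : ∀ c, (n * Tm f μ 1 * n⁻¹) * U f 0 0 c * (n * Tm f μ 1 * n⁻¹)⁻¹ = U f 0 0 (l * l * c) := by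
    intro c
    obtain ⟨c', hc'⟩ : ∃ c', n⁻¹ * U f 0 0 c * n = U f 0 0 c' := by
      have := conj_Zf hf (g := n⁻¹) (fun u hu => by rw [inv_inv]; exact hg' u hu)
        (fun u hu => by rw [inv_inv]; exact hg u hu) _ (Z_mem f c)
      rw [inv_inv] at this
      exact this
    have h1 : k c' = c := by
      have e : U f 0 0 (k c') = U f 0 0 c := by
        rw [← hkz, ← hc']; group
      exact (U_inj hf e).2.2
    calc (n * Tm f μ 1 * n⁻¹) * U f 0 0 c * (n * Tm f μ 1 * n⁻¹)⁻¹ =
          n * (Tm f μ 1 * (n⁻¹ * U f 0 0 c * n) * (Tm f μ 1)⁻¹) * n⁻¹ := by group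
      _ = U f 0 0 (k (μ * μ * c')) := by rw [hc', T0_act, mul_zero, hkz]
      _ = _ := by rw [mul_assoc (μ : F), (sem μ _).2.2, (sem μ _).2.2, h1, ← hl, ← hll]; congr 1; ring
  refine ⟨Tm f l 1, ⟨l, rfl⟩, ?_, ?_⟩
  · rintro _ ⟨a, b, c, rfl⟩
    obtain ⟨a', b', c', h1⟩ := hg' _ (U_mem f a b c)
    have e1 : (n * Tm f μ 1 * n⁻¹) * U f a b c * (n * Tm f μ 1 * n⁻¹)⁻¹ =
        n * U f (μ * a') (μ * b') (μ * μ * c') * n⁻¹ := by
      rw [← T0_act, ← h1]; group
    have e2 : U f a b c = n * U f a' b' c' * n⁻¹ := by rw [← h1]; group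
    have e3 : ∃ c2, (n * Tm f μ 1 * n⁻¹) * U f a b c * (n * Tm f μ 1 * n⁻¹)⁻¹ = U f (l * a) (l * b) c2 := by
      rcases hact with hact | hact
      · obtain ⟨c1, h2⟩ := hact a' b' c'
        obtain ⟨c2, h3⟩ := hact (μ * a') (μ * b') (μ * μ * c')
        rw [← e2] at h2
        obtain ⟨ha, hb, -⟩ := U_inj hf h2
        refine ⟨c2, ?_⟩
        rw [e1, h3, (sem μ _).1, (sem μ _).2.1, ← hl, ha, hb, hll]
      · obtain ⟨c1, h2⟩ := hact a' b' c'
        obtain ⟨c2, h3⟩ := hact (μ * a') (μ * b') (μ * μ * c')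
        rw [← e2] at h2
        obtain ⟨ha, hb, -⟩ := U_inj hf h2
        refine ⟨c2, ?_⟩
        rw [e1, h3, (sem μ _).1, (sem μ _).2.1, ← hl, ha, hb, hll]
    obtain ⟨c2, e3⟩ := e3
    rw [e3, T0_act, mul_U_inv]
    exact Z_mem f _
  · rintro z ⟨c, rfl⟩
    rw [hz, T0_act, mul_zero]

/-! ### The structures -/

omit [CharP F 2] hf in
theorem cj_Tm_Sf (x y : Fˣ) : _root_.Cfsg.Agent.Nodes.Reps.cj (Tm f x y) (Sf f) = Sf f := by
  have key : ∀ x y : Fˣ, _root_.Cfsg.Agent.Nodes.Reps.cj (Tm f x y) (Sf f) ≤ Sf f := by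
    intro x y u hu
    rw [mem_cj] at hu
    obtain ⟨a, b, c, h⟩ := hu
    have e : u = Tm f x y * U f a b c * (Tm f x y)⁻¹ := by rw [← h]; group
    rw [e, Tm_conj]
    exact U_mem f _ _ _
  apply le_antisymm (key x y)
  have h1 := cj_mono (Tm f x y) (key x⁻¹ y⁻¹)
  rwa [← Tm_inv, cj_cj_inv] at h1

theorem cj_Sf_of_norm {k : G} (hk : k ∈ f.range) (hX : _root_.Cfsg.Agent.Nodes.Reps.cj k (Zf f) = Zf f) :
    ∃ (x y : Fˣ) (u : G), u ∈ Sf f ∧ k = Tm f x y * u := by
  have h1 : k * U f 0 0 1 * k⁻¹ ∈ Zf f := by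
    rw [← hX]
    exact conj_mem_cj.2 (Z_mem f 1)
  obtain ⟨c', h2⟩ := h1
  obtain ⟨x, y, a, b, c, h⟩ := upper_of_norm hf hk one_ne_zero h2
  exact ⟨x, y, _, U_mem f a b c, h⟩

theorem norX : NorX f.range (Sf f) (Zf f) (T0 f) where
  nP := by
    intro k hk hX
    obtain ⟨x, y, u, hu, rfl⟩ := cj_Sf_of_norm hf hk hX
    rw [cj_mul, cj_eq_of_mem hu, cj_Tm_Sf]
  nh := by
    intro k hk hX h hh
    obtain ⟨x, y, u, hu, rfl⟩ := cj_Sf_of_norm hf hk hX
    have h1 : h⁻¹ * u * h * u⁻¹ ∈ Sf f := by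
      refine mul_mem ?_ (inv_mem hu)
      have := T0_conj (inv_mem hh) hu
      rwa [inv_inv] at this
    have h2 : Tm f x y * (h⁻¹ * u * h * u⁻¹) * (Tm f x y)⁻¹ ∈ Sf f := by
      rw [← cj_Tm_Sf (f := f) x y]
      exact conj_mem_cj.2 h1
    refine ⟨_, h2, ?_⟩
    obtain ⟨l, rfl⟩ := hh
    have h3 : Tm f x y * Tm f l 1 = Tm f l 1 * Tm f x y := Tm_comm x y l 1
    calc Tm f x y * u * Tm f l 1 * (Tm f x y * u)⁻¹
        = (Tm f x y * Tm f l 1) * ((Tm f l 1)⁻¹ * u * Tm f l 1 * u⁻¹) * (Tm f x y)⁻¹ := by group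
      _ = _ := by rw [h3]; group

variable [Finite F] {R : Subgroup G}

theorem nloc (h8 : 8 ≤ Nat.card F) (A : Amb f.range R)
    (two : ∀ c ∈ C1 f.range R, IsPGroup 2 (zpowers c) → c ∈ R) (hR : ∃ t ∈ R, t ≠ 1) [Finite G] :
    NLoc f.range R (Sf f) (Zf f) (T0 f) := by
  obtain ⟨x0, hx0⟩ := exists_cube_ne (F := F) h8
  have hx1 : (x0 : F) ^ 3 ≠ 1 := fun e => hx0 (Units.ext (by rw [Units.val_pow_eq_pow_val, e, Units.val_one]))
  have hne : ∀ {c : F}, U f 0 0 c ≠ 1 → c ≠ 0 := fun h e => h (by rw [e, U_one])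
  exact
    { amb := A
      SK := Sf_le f
      XS := Zf_le f
      XX := by
        rintro _ ⟨c, rfl⟩
        rw [z_mul, CharTwo.add_self_eq_zero, U_one]
      XZ := fun z hz u hu => z_central hz hu
      SS := by
        rintro _ ⟨a, b, c, rfl⟩ _ ⟨a', b', c', rfl⟩
        rw [comm_U]
        exact Z_mem f _
      TK := T0_le
      TX := by
        rintro _ ⟨x, rfl⟩ _ ⟨c, rfl⟩
        rw [T0_act, mul_zero]
        exact Z_mem f _
      TS := fun t ht u hu => T0_conj ht hu
      Tab := by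
        rintro _ ⟨x, rfl⟩ _ ⟨x', rfl⟩
        exact Tm_comm _ _ _ _
      Ttr := by
        rintro _ ⟨c, rfl⟩ hc _ ⟨d, rfl⟩ hd
        obtain ⟨l, hl⟩ := Cfsg.Agent.StdRank2.L3Env.exists_sq (d / c)
        have hl0 : l ≠ 0 := by
          rintro rfl
          rw [zero_mul] at hl
          exact div_ne_zero (hne hd) (hne hc) hl.symm
        refine ⟨_, ⟨Units.mk0 l hl0, rfl⟩, ?_⟩
        rw [T0_act, mul_zero, Units.val_mk0, hl, div_mul_cancel₀ _ (hne hc)]
      big := by
        have hinj : ∀ {a b : F}, U f 0 0 a = U f 0 0 b → a = b := fun h => (U_inj hf h).2.2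
        refine ⟨U f 0 0 1, Z_mem f 1, U f 0 0 x0, Z_mem f _, ?_, ?_, ?_⟩
        · intro h
          rw [← U_one f] at h
          exact one_ne_zero (hinj h)
        · intro h
          rw [← U_one f] at h
          exact x0.ne_zero (hinj h)
        · intro h
          apply hx1
          rw [← hinj h, one_pow]
      two := two
      k3 := by
        intro c hc hcS
        obtain ⟨t, ht, ht1⟩ := hR
        have hcn : c ∈ normalizer (f.range : Set G) := by
          rw [mem_normalizer_iff]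
          have h1 := A.nor t ht ht1 c (hc t ht)
          have hc' : c⁻¹ * t = t * c⁻¹ := by
            have := hc t ht
            calc c⁻¹ * t = c⁻¹ * (t * c) * c⁻¹ := by group
              _ = c⁻¹ * (c * t) * c⁻¹ := by rw [this]
              _ = t * c⁻¹ := by group
          have h2 := A.nor t ht ht1 c⁻¹ hc'
          intro k
          refine ⟨fun hk => h1 k hk, fun hk => ?_⟩
          have := h2 _ hk
          rwa [show c⁻¹ * (c * k * c⁻¹) * c⁻¹⁻¹ = k by group] at this
        obtain ⟨d, hd⟩ := K1 hf hcn fun a b c' => hcS _ (U_mem f a b c')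
        refine ⟨_, Z_mem f d, mem_C1.2 ⟨fun k hk => (mem_centralizer_iff.1 hd k hk).symm, fun a ha => ?_⟩⟩
        have h3 := A.comm a ha _ (Sf_le f (Zf_le f (inv_mem (Z_mem f d))))
        rw [mul_assoc, hc a ha, ← mul_assoc, ← h3, mul_assoc]
      k4 := by
        intro g gS gX h1 hh1
        exact exists_act hf gS (Exist.conj_inv_mem gS) hh1
      h0 := by
        refine ⟨Tm f x0 (x0⁻¹ ^ 2), Tf_le f (Tm_mem f _ _), ?_, ?_, ⟨Nat.card F - 1, ?_, ?_⟩, ?_⟩
        · rintro _ ⟨a, b, c, rfl⟩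
          rw [H_act]
          exact U_mem f _ _ _
        · rintro _ ⟨c, rfl⟩
          have := H_act (f := f) x0 0 0 c
          rw [mul_zero, mul_zero] at this
          exact mul_inv_eq_iff_eq_mul.1 this
        · have := Fintype.ofFinite F
          obtain ⟨n, hp, hn⟩ := FiniteField.card F 2
          rw [Nat.card_eq_fintype_card, hn]
          have : 2 ∣ 2 ^ (n : ℕ) := dvd_pow_self 2 n.ne_zero
          obtain ⟨k, hk⟩ := this
          have hpos : 0 < 2 ^ (n : ℕ) := by positivity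
          exact ⟨k - 1, by omega⟩
        · have := Fintype.ofFinite F
          classical
          have h1 : ∀ y : Fˣ, y ^ (Nat.card F - 1) = 1 := by
            intro y
            apply Units.ext
            rw [Units.val_pow_eq_pow_val, Nat.card_eq_fintype_card, Units.val_one]
            exact FiniteField.pow_card_sub_one_eq_one _ y.ne_zero
          rw [Tm_pow, h1, h1, Tm_one]
        · rintro _ ⟨a, b, c, rfl⟩ h
          rw [H_act, U_inv, U_mul, U_mem_Z hf] at h
          obtain ⟨h1, h2⟩ := h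
          rw [U_mem_Z hf]
          have h3 : (x0 : F) ^ 3 ≠ 0 := pow_ne_zero _ x0.ne_zero
          constructor
          · have h4 : ((x0 : F) ^ 3 - 1) * a = 0 := by linear_combination h1
            exact (mul_eq_zero.1 h4).resolve_left (sub_ne_zero.2 hx1)
          · have h4 : (((x0 : F) ^ 3)⁻¹ - 1) * b = 0 := by linear_combination h2
            refine (mul_eq_zero.1 h4).resolve_left (sub_ne_zero.2 fun e => hx1 ?_)
            rw [← inv_inv ((x0 : F) ^ 3), e, inv_one] }

/-- **Existence of the doubled root group.** -/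
theorem exists_base [Finite G] (h8 : 8 ≤ Nat.card F) (A : Amb f.range R)
    (two : ∀ c ∈ C1 f.range R, IsPGroup 2 (zpowers c) → c ∈ R) {g : G} (gS : ∀ s ∈ Sf f, g * s * g⁻¹ ∈ Sf f)
    (gR : ∀ a ∈ R, ∃ b ∈ R, ∃ z ∈ Zf f, g * a * g⁻¹ = b * z) (hg : ∃ a ∈ R, g * a * g⁻¹ ∉ R) :
    ∃ W : Subgroup G, Base f.range R (Sf f) (Zf f) W := by
  have hR : ∃ t ∈ R, t ≠ 1 := by
    obtain ⟨a, ha, h⟩ := hg
    refine ⟨a, ha, ?_⟩
    rintro rfl
    exact h (by rw [mul_one, mul_inv_cancel]; exact one_mem _)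
  have gS' := Exist.conj_inv_mem gS
  have gZ := conj_Zf hf gS gS'
  have key : ∀ {X : Subgroup G}, (∀ s ∈ X, g * s * g⁻¹ ∈ X) → _root_.Cfsg.Agent.Nodes.Reps.cj g X = X := by
    intro X h
    have h' := Exist.conj_inv_mem h
    ext x
    rw [mem_cj]
    constructor
    · intro hx
      have := h _ hx
      rwa [show g * (g⁻¹ * x * g) * g⁻¹ = x by group] at this
    · exact fun hx => h' x hx
  exact (nloc hf h8 A two hR).exists_base (norX hf) (key gS) (key gZ) gR hg

end Cfsg.Agent.OddHalf.D4.L3.Double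

end
end

private theorem dce_ebff486ee4af : _root_.True := by
  try have : _root_.True := by simp only [_root_.Cfsg.Agent.OddHalf.D4.L3.ls.eq_1]
  try have : _root_.True := by simp only [_root_.Cfsg.Agent.OddHalf.D4.L3.um.eq_1]
  try have : _root_.True := by simp only [_root_.Cfsg.Agent.OddHalf.D4.L3.lr.eq_1]
  try have : _root_.True := by simp only [_root_.Cfsg.Agent.OddHalf.D4.L3.nr.eq_1]
  try have : _root_.True := by simp only [_root_.Cfsg.Agent.OddHalf.D4.L3.hm.eq_1]
  try have : _root_.True := by simp only [_root_.Cfsg.Agent.OddHalf.D4.L3.ns.eq_1]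
  exact _root_.True.intro
end

-- part: OddHalf/Quat/RowSpFour
section
prune_inst 0x4342063045522020000000512300020447000010200600001e8e003000a48c360880201000c8004101002aa8000040020000800100000000000000000000101000028520492480104060008800004000000000000000000000000000000000000000000000
set_option linter.all false
open scoped Cfsg.Agent.FastGrp

/-!
# Node Q: `KBig` for `PSp₄(q)`, `q ≥ 4` even
-/

set_option autoImplicit false
set_option linter.unusedSectionVars false

namespace Cfsg.Agent.OddHalf.Quat.SpFourRow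

open Subgroup
open Cfsg.Agent.StdRank2
open Cfsg.Agent.TitsThree.B2Pkg Cfsg.Agent.TitsThree.RankTwoIdentB2
  Cfsg.Agent.TitsThree.CoreB2 Cfsg.Agent.TitsThree.RankTwoIdx Cfsg.Agent.TitsThree.RankTwoRGD
  Cfsg.Agent.TitsThree.StdData
open Cfsg.Agent.StdRank2.OddLift Cfsg.Agent.StdRank2.B2Lift Cfsg.Agent.StdRank2.B2Std
  Cfsg.Agent.StdRank2.B2Torus Cfsg.Agent.StdRank2.B2Act Cfsg.Agent.StdRank2.B2Act.Std
  Cfsg.Agent.StdRank2.B2Par Cfsg.Agent.StdRank2.B2Par.Std Cfsg.Agent.StdRank2.B2Self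
  Cfsg.Agent.StdRank2.OutB2Par Cfsg.Agent.StdRank2.OutB2Aut
  Cfsg.Agent.StdRank2.OutB2Tw Cfsg.Agent.StdRank2.OutB2Data Cfsg.Agent.StdRank2.OutB2Decomp
  Cfsg.Agent.StdRank2.SpFrame Cfsg.Agent.StdRank2.SpSelf Cfsg.Agent.StdRank2.SpJe

universe u

section field

variable {F : Type*} [Field F]

theorem one_of_pow [CharP F 2] {c : F} {n : ℕ} (h : c ^ 2 ^ n = 1) : c = 1 := by
  have : ExpChar F 2 := ExpChar.prime Nat.prime_two
  have h1 := (ExpChar.pow_prime_pow_mul_eq_one_iff 2 n 1 c).1 (by rw [mul_one]; exact h)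
  rwa [pow_one] at h1

theorem exists_ne_zero_one [Finite F] (hF : 4 ≤ Nat.card F) : ∃ θ : F, θ ≠ 0 ∧ θ ≠ 1 := by
  classical
  have := Fintype.ofFinite F
  rw [Nat.card_eq_fintype_card] at hF
  by_contra hcon
  push Not at hcon
  have : (Finset.univ : Finset F) ⊆ {0, 1} := by
    intro x _
    by_cases hx : x = 0
    · simp [hx]
    · simp [hcon x hx]
  have h3 := Finset.card_le_card this
  rw [Finset.card_univ] at h3
  have h4 : ({0, 1} : Finset F).card ≤ 2 := Finset.card_le_two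
  omega

/-- a proper fixed field -/
theorem fix_sq_le [Finite F] {ρ : F ≃+* F} (hρ : ρ ≠ 1) :
    Nat.card {a : F // ρ a = a} * Nat.card {a : F // ρ a = a} ≤ Nat.card F := by
  obtain ⟨a, ha⟩ : ∃ a, ρ a ≠ a := by
    by_contra hcon
    push Not at hcon
    exact hρ (RingEquiv.ext hcon)
  rw [← Nat.card_prod]
  apply Nat.card_le_card_of_injective (fun z : {a : F // ρ a = a} × {a : F // ρ a = a} => (z.1 : F) + z.2 * a)
  rintro ⟨⟨k, hk⟩, ⟨l, hl⟩⟩ ⟨⟨k', hk'⟩, ⟨l', hl'⟩⟩ h
  have h1 : k + l * a = k' + l' * a := h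
  have h2 : ρ (k + l * a) = ρ (k' + l' * a) := by rw [h1]
  rw [map_add, map_add, map_mul, map_mul, hk, hl, hk', hl'] at h2
  have h3 : (l - l') * (ρ a - a) = 0 := by linear_combination h2 - h1
  rcases mul_eq_zero.1 h3 with h4 | h4
  · have h5 : l = l' := sub_eq_zero.1 h4
    subst h5
    have h6 : k = k' := add_right_cancel h1
    subst h6
    rfl
  · exact absurd (sub_eq_zero.1 h4) ha

end field

variable {F : Type*} [Field F] [Finite F] [CharP F 2]
variable {A : Type u} [Group A] [Finite A] (S : Std (stdSp F) A) [IsSimpleGroup A]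

/-- the centre of `U` -/
theorem mem_iff {v : A} : v ∈ XZ S.U ↔ v ∈ S.VI ⊓ S.VJ := by
  have hc2 : (2 : F) = 0 := by exact_mod_cast CharP.cast_eq_zero F 2
  constructor
  · rintro ⟨hv, -, hc⟩
    obtain ⟨a, p, b, q, rfl⟩ := exists_nf_sp S hv
    have h1 := hc _ (nf_mem (m := S.m) 1 (tt 0) 0 (tt 0))
    have h2 := hc _ (nf_mem (m := S.m) 0 (tt 0) 0 (tt 1))
    change nf S.m 1 (tt 0) 0 (tt 0) * _ = _ * nf S.m 1 (tt 0) 0 (tt 0) at h1
    change nf S.m 0 (tt 0) 0 (tt 1) * _ = _ * nf S.m 0 (tt 0) 0 (tt 1) at h2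
    rw [mul_sp, mul_sp] at h1 h2
    have e1 := (nf_inj_sp S h1).2.2.1
    have e2 := (nf_inj_sp S h2).2.2.1
    have hq : q = 0 := by linear_combination -e1
    have ha : a = 0 := by linear_combination e2
    subst hq ha
    exact ⟨mem_VI_iff.2 ⟨_, _, _, rfl⟩, mem_VJ_iff.2 ⟨_, _, _, rfl⟩⟩
  · intro hv
    obtain ⟨b, p, rfl⟩ := (SpSelf.mem_inf S).1 hv
    have e1 : S.m.z₁ (tt p) * S.m.y b = nf S.m 0 (tt p) b (tt 0) := by
      unfold B2Std.nf
      rw [show S.m.x 0 = 1 from add_zero' S.rel.x_add, ← tt_one, show S.m.z₂ 1 = 1 from mul_one' S.rel.z₂_mul,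
        one_mul, mul_one]
    rw [e1]
    refine ⟨nf_mem _ _ _ _, ?_, fun u hu => ?_⟩
    · rw [mul_sp, ← nf_one S.rel]
      have e2 : p + 0 * 0 * 0 + p = 0 := by linear_combination p * hc2
      have e3 : b + 0 * 0 + b = 0 := by linear_combination b * hc2
      rw [e2, e3, add_zero, tt_one]
    · have := comm_Z S hu p b
      rwa [mul_inv_eq_iff_eq_mul] at this

/-- `N_K(U)` fixes no involution of `Z(U)` -/
theorem mv (hF : 4 ≤ Nat.card F) {w : A} (hw : w ∈ XZ S.U) (hw1 : w ≠ 1) :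
    ∃ r ∈ normalizer (S.U : Set A), r * w ≠ w * r := by
  obtain ⟨θ, h0, h1⟩ := exists_ne_zero_one hF
  have hN : ∀ g ∈ S.H, g ∈ normalizer (S.U : Set A) := by
    intro g hg
    rw [Std.normalizer_U S]
    exact le_sup_right (a := S.U) hg
  have e0 : ∀ p b : F, S.m.z₁ (tt p) * S.m.y b = nf S.m 0 (tt p) b (tt 0) := by
    intro p b
    unfold B2Std.nf
    rw [show S.m.x 0 = 1 from add_zero' S.rel.x_add, ← tt_one, show S.m.z₂ 1 = 1 from mul_one' S.rel.z₂_mul,
      one_mul, mul_one]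
  obtain ⟨b, p, rfl⟩ := (SpSelf.mem_inf S).1 ((mem_iff S).1 hw)
  by_cases hp : p = 0
  · subst hp
    have hb : b ≠ 0 := by
      rintro rfl
      apply hw1
      rw [e0, ← nf_one S.rel, tt_one]
    have hp' : (tt θ).c ≠ 0 := h0
    have hq' : (tt (1 : F)).c ≠ 0 := one_ne_zero
    refine ⟨hII S.m (tt θ) (tt 1), hN _ (hII_mem_H hp' hq'), ?_⟩
    intro hh
    have hz : S.m.z₁ (tt (0 : F)) = 1 := by rw [← tt_one]; exact mul_one' S.rel.z₁_mul
    rw [hz, one_mul] at hh
    have h2 := hII_y S.rel hp' hq' b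
    rw [hh, mul_inv_cancel_right] at h2
    have h3 := S.y_injective h2
    have h4 : b = θ * (1 : F)⁻¹ * b := h3
    rw [inv_one, mul_one] at h4
    exact h1 (mul_right_cancel₀ hb (by rw [one_mul]; exact h4.symm))
  · refine ⟨hI S.m θ, hN _ (hI_mem_H h0), ?_⟩
    intro hh
    have h2 := hI_z₁ S.rel h0 (tt p)
    have h3 := hI_y S.rel h0 b
    have h4 : hI S.m θ * (S.m.z₁ (tt p) * S.m.y b) * (hI S.m θ)⁻¹ = S.m.z₁ (tt p) * S.m.y b := by
      rw [hh, mul_inv_cancel_right]
    have h5 : hI S.m θ * (S.m.z₁ (tt p) * S.m.y b) * (hI S.m θ)⁻¹ =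
        (hI S.m θ * S.m.z₁ (tt p) * (hI S.m θ)⁻¹) * (hI S.m θ * S.m.y b * (hI S.m θ)⁻¹) := by group
    rw [h5, h2, h3, sc_tt, e0, e0] at h4
    have h6 := (nf_inj_sp S h4).2.1
    have h7 : θ * θ = 1 := mul_right_cancel₀ hp (by rw [one_mul]; exact h6)
    have h8 : (θ - 1) * (θ - 1) = 0 := by
      have hc2 : (2 : F) = 0 := by exact_mod_cast CharP.cast_eq_zero F 2
      linear_combination h7 + (1 - θ) * hc2
    exact h1 (sub_eq_zero.1 (mul_self_eq_zero.1 h8))

/-- fixed points of field type -/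
theorem card_fld {φ : MulAut A} {u : A} (hu : u ∈ S.U) {c : Fˣ × Fˣ} {ρ : F ≃+* F}
    (e : φ = MulAut.conj u * (dg S c * fd nSp S ρ)) {B : Subgroup A} (hB : B ≤ S.U) (hfix : ∀ v ∈ B, φ v = v) :
    Nat.card B ≤ Nat.card {a : F // ρ a = a} * (Nat.card {a : F // ρ a = a} *
      (Nat.card {a : F // ρ a = a} * Nat.card {a : F // ρ a = a})) := by
  have h1 := card_le_mul B S.VI {a : F | (c.1 : F) * (c.2 : F)⁻¹ * ρ a = a} (fun x a => PX S x a)
    (by
      intro x hx
      obtain ⟨a, p, b, q, hq⟩ := exists_nf_sp S (hB hx)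
      refine ⟨a, ?_, ⟨_, _, _, hq⟩⟩
      have h2 := hfix x hx
      rw [hq, apply_nf S e] at h2
      have h3 : PX S (B2Std.nf S.m a (tt p) b (tt q)) a := ⟨_, _, _, rfl⟩
      have h4 := PX.conj (S := S) (g := B2Std.nf S.m ((c.1 : F) * (c.2 : F)⁻¹ * ρ a)
        (tt ((c.1 : F) * c.1 * ρ p)) ((c.1 : F) * c.2 * ρ b) (tt ((c.2 : F) * c.2 * ρ q)))
        (a := (c.1 : F) * (c.2 : F)⁻¹ * ρ a) ⟨_, _, _, rfl⟩ hu
      rw [h2] at h4
      exact h4.uniq h3)
    (by
      intro x hx y hy a hxa hya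
      have h2 := hxa.inv.mul hya
      rw [neg_add_cancel] at h2
      exact mem_VI_iff.2 h2)
  refine h1.trans (Nat.mul_le_mul (card_fix_le _ ρ) ?_)
  have h1' := card_le_mul (B ⊓ S.VI) (S.VI ⊓ S.VJ) {a : F | (c.2 : F) * c.2 * ρ a = a} (fun x a => PZ S x (tt a))
    (by
      rintro x ⟨hx, -⟩
      obtain ⟨a, p, b, q, hq⟩ := exists_nf_sp S (hB hx)
      refine ⟨q, ?_, ⟨_, _, _, hq⟩⟩
      have h2 := hfix x hx
      rw [hq, apply_nf S e] at h2
      obtain ⟨r, hr⟩ := exists_PZ hu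
      have h3 : PZ S (B2Std.nf S.m a (tt p) b (tt q)) (tt q) := ⟨_, _, _, rfl⟩
      have h4 := PZ.conj (S := S) (g := B2Std.nf S.m ((c.1 : F) * (c.2 : F)⁻¹ * ρ a)
        (tt ((c.1 : F) * c.1 * ρ p)) ((c.1 : F) * c.2 * ρ b) (tt ((c.2 : F) * c.2 * ρ q)))
        (q := tt ((c.2 : F) * c.2 * ρ q)) ⟨_, _, _, rfl⟩ hr
      rw [h2] at h4
      have h5 := h4.uniq h3
      have h6 : r * tt ((c.2 : F) * c.2 * ρ q) * r⁻¹ = tt ((c.2 : F) * c.2 * ρ q) := by
        rw [← comm_of_w (p := tt ((c.2 : F) * c.2 * ρ q)) rfl r]; group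
      rw [h6] at h5
      exact tt_inj h5)
    (by
      rintro x ⟨hx, hxI⟩ y ⟨hy, hyI⟩ a hxa hya
      have h2 := hxa.inv.mul hya
      rw [inv_mul_cancel] at h2
      exact Subgroup.mem_inf.mpr ⟨mul_mem (inv_mem hxI) hyI, mem_VJ_iff.2 h2⟩)
  refine h1'.trans (Nat.mul_le_mul (card_fix_le _ ρ) ?_)
  exact card_Z S hu e inf_le_right (fun v hv => hfix v hv.1.1)

/-- fixed points of graph type -/
theorem card_gr {φ : MulAut A} (hF : 3 ≤ Nat.card F) (hU : ∀ v ∈ S.U, φ v ∈ S.U)
    (h1 : ∀ v ∈ S.VI, φ v ∈ S.VJ) (h2 : ∀ v ∈ S.VJ, φ v ∈ S.VI) {B : Subgroup A} (hB : B ≤ S.U)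
    (hfix : ∀ v ∈ B, φ v = v) : Nat.card B ≤ Nat.card F * Nat.card F := by
  obtain ⟨k1, k2⟩ := OutSpGraph.gm_swap S
  obtain ⟨u, hu, c, ρ, e⟩ := decomp (N := nSp) (S := S) (φ := φ * OutSpGraph.gm S) (tySp hF)
    (fun v hv => hU _ (OutSpGraph.gm_U S hv)) (fun v hv => h2 _ (k1 v hv)) (fun v hv => h1 _ (k2 v hv))
  -- the group `y(F)` goes to `z₁(F)`
  have hy : ∀ b, φ (S.m.y b) = B2Std.nf S.m 0 (tt ((c.1 : F) * c.1 * ρ b)) 0 (tt 0) := by
    intro b
    have e1 : S.m.y b = OutSpGraph.gm S (S.m.z₁ (tt b)) := (OutSpGraph.gm_z₁ S (tt b)).symm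
    have e2 : S.m.z₁ (tt b) = B2Std.nf S.m 0 (tt b) 0 (tt 0) := z₁_eq_nf S.rel _
    have e3 := apply_nf S e 0 b 0 0
    rw [map_zero, mul_zero, mul_zero, mul_zero, comm_Z S hu, MulAut.mul_apply, ← e2, ← e1] at e3
    exact e3
  have e5 := card_le_mul B S.VI (Set.univ : Set F) (fun x a => PX S x a)
    (fun x hx => (exists_PX (hB hx)).imp fun a ha => ⟨Set.mem_univ _, ha⟩)
    (by
      intro x hx y hy a hxa hya
      have h2 := hxa.inv.mul hya
      rw [neg_add_cancel] at h2
      exact mem_VI_iff.2 h2)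
  have hu1 : Nat.card (Set.univ : Set F) = Nat.card F := Nat.card_congr (Equiv.Set.univ F)
  rw [hu1] at e5
  refine e5.trans (Nat.mul_le_mul le_rfl ?_)
  have hZ : ∀ x ∈ B ⊓ S.VI, ∃ p b, x = B2Std.nf S.m 0 (tt p) b (tt 0) := by
    rintro x ⟨hx, hxI⟩
    have h3 : x ∈ S.VJ := by
      have := h1 x hxI
      rwa [hfix x hx] at this
    obtain ⟨b, p, e6⟩ := (SpSelf.mem_inf S).1 (Subgroup.mem_inf.2 ⟨hxI, h3⟩)
    refine ⟨p, b, ?_⟩
    rw [e6]
    unfold B2Std.nf
    rw [show S.m.x 0 = 1 from add_zero' S.rel.x_add, ← tt_one, show S.m.z₂ 1 = 1 from mul_one' S.rel.z₂_mul,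
      one_mul, mul_one]
  have e6 := card_le_mul (B ⊓ S.VI) ⊥ (Set.univ : Set F) (fun x p => ∃ b, x = B2Std.nf S.m 0 (tt p) b (tt 0))
    (fun x hx => (hZ x hx).imp fun p hp => ⟨Set.mem_univ _, hp⟩)
    (by
      rintro x hx y hy' p ⟨b, hb⟩ ⟨b', hb'⟩
      have h7 : x * B2Std.nf S.m 0 (tt 0) (b' - b) (tt 0) = y := by
        rw [hb, hb', mul_sp]
        congr 2 <;> ring_nf
      have h8 : x⁻¹ * y = S.m.y (b' - b) := by
        rw [← h7, inv_mul_cancel_left]
        exact (y_eq_nf S.rel _).symm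
      have h9 := hfix _ (mul_mem (inv_mem hx.1) hy'.1)
      rw [h8, hy, y_eq_nf S.rel] at h9
      have h10 := (S.nf_inj h9).2.2.1
      rw [mem_bot, h8, ← h10]
      exact add_zero' S.rel.y_add)
  rw [hu1, inf_bot_eq, card_bot, mul_one] at e6
  exact e6

/-- **`KBig` for `Sp₄`** -/
theorem kbig (hF : 4 ≤ Nat.card F) : KBig S.U := by
  refine ⟨fun w hw hw1 => mv S hF hw hw1, fun α hα2 hαU hαX C hCU hCα => ?_⟩
  have hcard : Nat.card C ≤ Nat.card F * Nat.card F := by
    rcases par_or (S := S) (φ := α) hαU with ⟨h1, h2⟩ | ⟨h1, h2⟩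
    · obtain ⟨u, hu, c, ρ, e⟩ := decomp (N := nSp) (S := S) (φ := α) (tySp (by omega)) hαU h1 h2
      by_cases hρ : ρ = 1
      · exfalso
        subst hρ
        obtain ⟨n, hn⟩ : ∃ n : ℕ, α ^ 2 ^ n = 1 := by
          obtain ⟨n, hn⟩ := hα2 ⟨α, mem_zpowers α⟩
          exact ⟨n, by simpa using congrArg Subtype.val hn⟩
        have hact : ∀ p b : F, α (B2Std.nf S.m 0 (tt p) b (tt 0)) =
            B2Std.nf S.m 0 (tt ((c.1 : F) * c.1 * p)) ((c.1 : F) * c.2 * b) (tt 0) := by
          intro p b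
          have e3 := apply_nf S e 0 p b 0
          rw [map_zero, mul_zero, mul_zero, comm_Z S hu] at e3
          exact e3
        have hpow : ∀ (k : ℕ) (p b : F), (α ^ k) (B2Std.nf S.m 0 (tt p) b (tt 0)) =
            B2Std.nf S.m 0 (tt (((c.1 : F) * c.1) ^ k * p)) (((c.1 : F) * c.2) ^ k * b) (tt 0) := by
          intro k
          induction k with
          | zero => intro p b; rw [pow_zero, pow_zero, pow_zero, one_mul, one_mul]; rfl
          | succ k ih =>
            intro p b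
            have e1 : ((c.1 : F) * c.1) ^ (k + 1) * p = ((c.1 : F) * c.1) ^ k * ((c.1 : F) * c.1 * p) := by ring
            have e2 : ((c.1 : F) * c.2) ^ (k + 1) * b = ((c.1 : F) * c.2) ^ k * ((c.1 : F) * c.2 * b) := by ring
            rw [e1, e2, ← ih, ← hact, ← MulAut.mul_apply, ← pow_succ]
        have h3 := hpow (2 ^ n) 1 1
        rw [hn, MulAut.one_apply] at h3
        obtain ⟨-, h4, h5, -⟩ := nf_inj_sp S h3
        rw [mul_one] at h4 h5
        have h6 := one_of_pow h4.symm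
        have h7 := one_of_pow h5.symm
        obtain ⟨x, hx, hαx⟩ := hαX
        obtain ⟨b, p, rfl⟩ := (SpSelf.mem_inf S).1 ((mem_iff S).1 hx)
        apply hαx
        have e1 : S.m.z₁ (tt p) * S.m.y b = nf S.m 0 (tt p) b (tt 0) := by
          unfold B2Std.nf
          rw [show S.m.x 0 = 1 from add_zero' S.rel.x_add, ← tt_one, show S.m.z₂ 1 = 1 from mul_one' S.rel.z₂_mul,
            one_mul, mul_one]
        rw [e1, hact, h6, h7, one_mul, one_mul]
      · have h3 := card_fld S hu e hCU hCα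
        have h4 := fix_sq_le hρ
        set r := Nat.card {a : F // ρ a = a}
        calc Nat.card C ≤ r * (r * (r * r)) := h3
          _ = (r * r) * (r * r) := by ring
          _ ≤ _ := Nat.mul_le_mul h4 h4
    · exact card_gr S (by omega) hαU h1 h2 hCU hCα
  have hT : Nat.card (stdSp F).T = Nat.card F :=
    Nat.card_congr ⟨fun p => p.c, fun c => tt c, fun _ => rfl, fun _ => rfl⟩
  have hUc := S.card_U
  rw [hT] at hUc
  have h1 : Nat.card C * C.relIndex S.U = Nat.card S.U := by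
    have h2 := card_mul_index (C.subgroupOf S.U)
    rw [Nat.card_congr (subgroupOfEquivOfLe hCU).toEquiv] at h2
    exact h2
  by_contra hcon
  push Not at hcon
  set q := Nat.card F
  have h5 : q * q * (q * q) ≤ q * q * 4 := by
    calc q * q * (q * q) = q ^ 2 * q ^ 2 := by ring
      _ = Nat.card C * C.relIndex S.U := by rw [h1, hUc]
      _ ≤ q * q * 4 := Nat.mul_le_mul hcard hcon
  have h6 : q * q ≤ 4 := Nat.le_of_mul_le_mul_left h5 (by positivity)
  nlinarith

/-- **the groups `PSp₄(q)`** -/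
theorem row {F : Type*} [Field F] [Fintype F] {a : ℕ} (hF : Fintype.card F = 2 ^ a) (ha : 2 ≤ a) :
    ∃ U : Sylow 2 (Cfsg.PSp 2 F), KBig (U : Subgroup (Cfsg.PSp 2 F)) := by
  have hp2 : Fact (Nat.Prime 2) := ⟨Nat.prime_two⟩
  have hc2 : CharP F 2 := charP_of_card_eq_prime_pow hF
  have hF4 : 4 ≤ Nat.card F := by
    rw [Nat.card_eq_fintype_card, hF]
    calc 4 = 2 ^ 2 := by norm_num
      _ ≤ 2 ^ a := Nat.pow_le_pow_right (by norm_num) ha
  have hs : IsSimpleGroup (Cfsg.PSp 2 F) :=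
    Cfsg.Agent.S0270.result 2 le_rfl (fun _ => by rw [← Nat.card_eq_fintype_card]; omega)
  obtain ⟨S⟩ := Cfsg.Agent.StdRank2.B2Inst.exists_std_Sp (F := F) (by omega)
  have hZ : Odd (Nat.card (center (Cfsg.PSp 2 F))) := by
    rcases (inferInstance : (center (Cfsg.PSp 2 F)).Normal).eq_bot_or_eq_top with h | h
    · rw [h, card_bot]; exact odd_one
    · exfalso
      have h1 : B2Std.nf S.m 1 (tt 0) 0 (tt 0) * B2Std.nf S.m 0 (tt 0) 0 (tt 1) =
          B2Std.nf S.m 0 (tt 0) 0 (tt 1) * B2Std.nf S.m 1 (tt 0) 0 (tt 0) := by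
        have h2 : B2Std.nf S.m 0 (tt (0 : F)) 0 (tt 1) ∈ center (Cfsg.PSp 2 F) := by rw [h]; exact mem_top _
        exact mem_center_iff.1 h2 _
      rw [mul_sp, mul_sp] at h1
      have h3 := (nf_inj_sp S h1).2.2.1
      have h4 : (0 : F) = 1 := by linear_combination h3
      exact zero_ne_one h4
  obtain ⟨P, hP⟩ := Std.exists_sylow S scal_Sp hZ
  exact ⟨P, by rw [hP]; exact kbig S hF4⟩

end Cfsg.Agent.OddHalf.Quat.SpFourRow
end

-- part: OddHalf/NI/FrameKill
section
prune_inst 0x410006304090002000000051010003c46d2000102006b0001d9e007020f86df0104020f20fcb00e101902aab4403c0040000000590010000000000a00411901a0800b5204925cad04160009809004000000000000000000000000000000041000000000000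
set_option linter.all false
open scoped Cfsg.Agent.FastGrp

-- part: OddHalf/NI/PumpW
section
/-!
# Pump-ups in `C(W)`, `W` an elementary abelian 2-group

`blw`: `L_{2'}(C(W)) = E(C(W))` for every elementary abelian 2-subgroup `W ≠ 1`, if this holds for
involutions and the B-property holds for the subgroups. `pumpH`, `exists_over`: components of `C_H(x)` and
components of `H`, for a subgroup `H` with `L_{2'}(H) = E(H)` and an involution `x ∈ H`.
-/

set_option autoImplicit false
set_option linter.style.haveILetI false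

namespace Cfsg.Agent.OddHalf.NI

open Subgroup Cfsg Cfsg.Agent.SignalizersComponents Cfsg.Agent.OddHalf.D3
open scoped commutatorElement

/-- `L_{2'}(H) = E(H)`. -/
def BLH {G : Type*} [Group G] (H : Subgroup G) : Prop := pLayer 2 ↥H = layer ↥H

section BL

variable {G : Type*} [Group G] [Finite G]

/-- It is enough that the 2-components commute with the odd core. -/
theorem pLayer_eq_layer {X : Type*} [Group X] [Finite X]
    (hev : ∀ K : Subgroup X, IsComponent K → 2 ∣ Nat.card K)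
    (h : ∀ J : Subgroup X, IsPComponent 2 J → ⁅J, pPrimeCore 2 X⁆ = ⊥) : pLayer 2 X = layer X := by
  haveI : Fact (Nat.Prime 2) := ⟨Nat.prime_two⟩
  apply le_antisymm
  · apply sSup_le
    intro J hJ
    exact Components.component_le_layer
      (ClassificationK.PCompTransport.isComponent_of_isPComponent 2 hJ (h J hJ))
  · rw [Components.layer_le_iff]
    intro K hK
    exact le_sSup (EvenComponent.isPComponent_of_isComponent hK (hev K hK))

/-- The step from `X` to `C_X(x)`. -/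
theorem pLayer_centralizer {X : Type*} [Group X] [Finite X] (hFT : FT X)
    (hX : pLayer 2 X = layer X) (hB : HasBProperty X) {x : X} (hx : orderOf x = 2) :
    pLayer 2 ↥(centralizer ({x} : Set X)) = layer ↥(centralizer ({x} : Set X)) := by
  haveI : Fact (Nat.Prime 2) := ⟨Nat.prime_two⟩
  set C : Subgroup X := centralizer ({x} : Set X) with hC
  apply pLayer_eq_layer
  · intro K hK
    exact hFT.even' hK.2
  · intro J hJ
    have hJp : Group.IsPerfect J := Subgroup.isPerfect_iff.mpr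
      (ClassificationK.PCompTransport.isPComponent_perfect 2 hJ)
    rw [commutator_comm]
    apply Components.commutator_eq_bot_of_commutator_commutator_eq_bot hJp
    -- the images in `X`
    have h1 : (⁅pPrimeCore 2 ↥C, J⁆).map C.subtype ≤ oddCore X := by
      refine le_trans (Subgroup.map_mono ?_) (hB x hx)
      rw [commutator_comm]
      exact commutator_mono (le_sSup hJ) le_rfl
    have h2 : J.map C.subtype ≤ layer X := by
      have h3 := Cfsg.Agent.S1301.result (Subgroup.zpowers x) (isPGroup_zpowers hx)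
      have hc : Subgroup.centralizer ((Subgroup.zpowers x : Subgroup X) : Set X) =
          Subgroup.centralizer ({x} : Set X) := by
        rw [Subgroup.zpowers_eq_closure, Subgroup.centralizer_closure]
      rw [hc, hX] at h3
      exact (Subgroup.map_mono (le_sSup hJ)).trans h3
    have h4 : ⁅layer X, oddCore X⁆ = ⊥ := by
      rw [commutator_eq_bot_iff_le_centralizer, Components.layer_le_iff]
      intro K hK
      rw [← commutator_eq_bot_iff_le_centralizer]
      have hn : (pPrimeCore 2 X).Normal := Lib.Cores.pPrimeCore_normal 2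
      rcases Components.component_le_or_commutator_eq_bot_of_le_normalizer hK
        (H := oddCore X) (by rw [normalizer_eq_top_iff.mpr hn]; exact le_top) with h | h
      · exfalso
        have h5 : 2 ∣ Nat.card K := hFT.even hK.2
        have h6 : 2 ∣ Nat.card (oddCore X) := h5.trans (Subgroup.card_dvd_of_le h)
        have h7 : (Nat.card (oddCore X)).Coprime 2 := Lib.Cores.pPrimeCore_coprime 2
        exact Nat.not_coprime_of_dvd_of_dvd (by norm_num) h6 dvd_rfl h7
      · exact h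
    have h5 : (⁅⁅pPrimeCore 2 ↥C, J⁆, J⁆).map C.subtype = ⊥ := by
      rw [Subgroup.map_commutator, eq_bot_iff, ← h4, commutator_comm]
      exact commutator_mono h2 h1
    exact (Subgroup.map_eq_bot_iff_of_injective _ (Subgroup.subtype_injective _)).mp h5

theorem blh_congr {H H' : Subgroup G} (h : H = H') (hH : BLH H) : BLH H' := h ▸ hH

/-- `L_{2'} = E` is invariant under isomorphisms. -/
theorem pLayer_eq_layer_congr {X Y : Type*} [Group X] [Finite X] [Group Y] [Finite Y] (e : X ≃* Y)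
    (hX : pLayer 2 X = layer X) : pLayer 2 Y = layer Y := by
  haveI : Fact (Nat.Prime 2) := ⟨Nat.prime_two⟩
  rw [← Components.map_equiv_layer e, ← hX]
  exact (PLayerAut.map_equiv_pLayer 2 e).symm

theorem FT.sub {G : Type*} [Group G] (h : FT G) (H : Subgroup G) : FT ↥H := by
  intro K hK
  have e := K.equivMapOfInjective H.subtype (Subgroup.subtype_injective H)
  have h1 : Odd (Nat.card (K.map H.subtype)) := by rwa [← Nat.card_congr e.toEquiv]
  have h2 := h _ h1
  exact Group.isSolvable_of_isSolvable_injective (f := e.toMonoidHom) e.injective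

/-- The step from `H` to `C_H(x)`. -/
theorem BLH.centralizer (hFT : FT G) {H : Subgroup G} (hH : BLH H) (hB : HasBProperty ↥H) {x : G}
    (hxH : x ∈ H) (hx : orderOf x = 2) : BLH (H ⊓ centralizer ({x} : Set G)) := by
  have h1 := pLayer_centralizer (x := (⟨x, hxH⟩ : H)) (FT.sub hFT H) hH hB
    (by rw [Subgroup.orderOf_mk, hx])
  have h2 := subgroupOf_inf_cs (⟨x, hxH⟩ : H)
  change (H ⊓ Subgroup.centralizer ({x} : Set G)).subgroupOf H = _ at h2
  rw [← h2] at h1
  exact pLayer_eq_layer_congr (Subgroup.subgroupOfEquivOfLe (inf_le_left)) h1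

/-- An elementary abelian 2-subgroup. -/
def EA {G : Type*} [Group G] (W : Subgroup G) : Prop := ∀ w ∈ W, w * w = 1

omit [Finite G] in
theorem EA.comm {W : Subgroup G} (hW : EA W) {u v : G} (hu : u ∈ W) (hv : v ∈ W) :
    u * v = v * u := by
  have h1 := hW (u * v) (mul_mem hu hv)
  have h2 : (u * v)⁻¹ = u * v := inv_eq_of_mul_eq_one_left h1
  have h3 : u⁻¹ = u := inv_eq_of_mul_eq_one_left (hW u hu)
  have h4 : v⁻¹ = v := inv_eq_of_mul_eq_one_left (hW v hv)
  rw [mul_inv_rev, h3, h4] at h2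
  exact h2.symm

omit [Finite G] in
theorem centralizer_sup_zpowers (W : Subgroup G) (x : G) :
    Subgroup.centralizer ((W ⊔ zpowers x : Subgroup G) : Set G) =
      Subgroup.centralizer (W : Set G) ⊓ Subgroup.centralizer ({x} : Set G) := by
  apply le_antisymm
  · refine le_inf (Subgroup.centralizer_le (fun y hy => (le_sup_left : W ≤ _) hy)) ?_
    apply Subgroup.centralizer_le
    rintro y rfl
    exact (le_sup_right : zpowers y ≤ _) (mem_zpowers y)
  · rw [le_centralizer_iff, sup_le_iff]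
    constructor
    · rw [le_centralizer_iff]
      exact inf_le_left
    · rw [zpowers_le]
      rw [mem_centralizer_iff]
      rintro y ⟨-, hy⟩
      exact mem_cs.mp hy

/-- **(P0)**: `L_{2'}(C(W)) = E(C(W))` for every elementary abelian 2-subgroup `W ≠ 1`. -/
theorem blw (hFT : FT G) (hB : BL G) (hBP : ∀ H : Subgroup G, HasBProperty ↥H) (W : Subgroup G)
    (hW : EA W) (hne : W ≠ ⊥) : BLH (Subgroup.centralizer (W : Set G)) := by
  induction hn : Nat.card W using Nat.strong_induction_on generalizing W with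
  | _ n ih =>
    -- a maximal proper subgroup
    obtain ⟨W', hW', hmax⟩ : ∃ W' : Subgroup G, W' < W ∧ ∀ V : Subgroup G, W' < V → V ≤ W → V = W := by
      obtain ⟨W', h1, h2⟩ := Set.Finite.exists_maximalFor (fun V : Subgroup G => V)
        {V : Subgroup G | V < W} (Set.toFinite _) ⟨⊥, bot_lt_iff_ne_bot.mpr hne⟩
      refine ⟨W', h1, fun V hV hVW => ?_⟩
      by_contra hcon
      have h3 := h2 (j := V) (lt_of_le_of_ne hVW hcon) hV.le
      exact absurd hV (not_lt_of_ge h3)
    obtain ⟨x, hxW, hxW'⟩ := SetLike.exists_of_lt hW'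
    have hx1 : x ≠ 1 := by
      rintro rfl
      exact hxW' (one_mem _)
    have hx2 : orderOf x = 2 := order_of_sq (hW x hxW) hx1
    have hsup : W' ⊔ zpowers x = W := by
      apply hmax
      · refine lt_of_le_of_ne le_sup_left ?_
        intro h
        exact hxW' (h ▸ (le_sup_right : zpowers x ≤ W' ⊔ zpowers x) (mem_zpowers x))
      · exact sup_le hW'.le ((zpowers_le).mpr hxW)
    have hc := centralizer_sup_zpowers W' x
    rw [hsup] at hc
    by_cases hbot : W' = ⊥
    · rw [hbot] at hc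
      have h1 : Subgroup.centralizer ((⊥ : Subgroup G) : Set G) = ⊤ := by
        rw [eq_top_iff]
        intro y _
        rw [mem_centralizer_iff]
        intro z hz
        rw [Subgroup.mem_bot.mp hz, one_mul, mul_one]
      rw [h1, top_inf_eq] at hc
      exact blh_congr hc.symm (hB x hx2)
    · have hlt : Nat.card W' < n := by
        rw [← hn]
        exact Set.ncard_lt_ncard hW' (Set.toFinite _)
      have h1 := ih _ hlt W' (fun w hw => hW w (hW'.le hw)) hbot rfl
      have hxC : x ∈ Subgroup.centralizer (W' : Set G) := by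
        rw [mem_centralizer_iff]
        intro y hy
        exact hW.comm (hW'.le hy) hxW
      exact blh_congr hc.symm (h1.centralizer hFT (hBP _) hxC hx2)

end BL

section PumpH

variable {G : Type*} [Group G] [Finite G]

/-- The pump-up in `H` of a component of `C_H(x)`. -/
theorem pumpH (hFT : FT G) {H : Subgroup G} (hH : BLH H) {x : G} (hxH : x ∈ H) (hx : orderOf x = 2)
    {K : Subgroup G} (hK : CompIn (H ⊓ centralizer ({x} : Set G)) K) :
    ∃ D : Subgroup G, CompIn H D ∧ (K = D ∨ (K < D ∧ cj x D = D) ∨ Dg K D x) := by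
  have hKY : K ≤ H := hK.le.trans inf_le_left
  have hKz : K ≤ centralizer ({x} : Set G) := hK.le.trans inf_le_right
  have hzK : x ∈ centralizer (K : Set G) := by
    rw [mem_centralizer_iff]
    intro y hy
    exact mem_cs.mp (hKz hy)
  have h1 : Comp (⟨x, hxH⟩ : H) (K.subgroupOf H) := hK.comp_of hxH
  have hz' : orderOf (⟨x, hxH⟩ : H) = 2 := by rw [Subgroup.orderOf_mk, hx]
  have h2 : 2 ∣ Nat.card (K.subgroupOf H) := hFT.even' h1.quasi
  have h3 := le_layer hH hz' h1 h2
  have hsq : (⟨x, hxH⟩ : H) * ⟨x, hxH⟩ = 1 := sq_of_order hz'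
  obtain ⟨D, hD, hcase⟩ := trichotomy_of_le_layer (⟨x, hxH⟩ : H) hsq (K.subgroupOf H) h1 h3
  have hDH : D.map H.subtype ≤ H := map_subtype_le D
  have hDc : CompIn H (D.map H.subtype) := by
    refine ⟨hDH, ?_⟩
    have h1 : (D.map H.subtype).subgroupOf H = D :=
      Subgroup.comap_map_eq_self_of_injective (Subgroup.subtype_injective _) D
    rwa [h1]
  have hxn : cj x H = H := cj_eq_of_mem hxH
  refine ⟨D.map H.subtype, hDc, ?_⟩
  have hKm : (K.subgroupOf H).map H.subtype = K := Subgroup.map_subgroupOf_eq_of_le hKY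
  have hlt : ∀ D' : Subgroup G, CompIn H D' → K ≤ D' → cj x D' = D' := by
    intro D' hD' hle
    by_contra hne
    have h4 := hD'.comm (hD'.conj_of_norm hxn) (fun h => hne h.symm)
    apply not_comm_self hK.quasi
    intro y hy
    rw [mem_centralizer_iff]
    intro y' hy'
    have hy'' : y' ∈ cj x D' := by
      have := conj_mem_cj (g := x) (hle hy')
      rwa [← mem_centralizer_iff.mp hzK y' hy', mul_inv_cancel_right] at this
    exact (comm_elt h4 (hle hy) hy'').symm
  rcases hcase with h | h | ⟨h4, h5, h6⟩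
  · left
    rw [← h, hKm]
  · right; left
    have := (Subgroup.map_lt_map_iff_of_injective (Subgroup.subtype_injective H)).mpr h
    rw [hKm] at this
    exact ⟨this, hlt _ hDc this.le⟩
  · right; right
    have hne : cj x (D.map H.subtype) ≠ D.map H.subtype := by
      intro h7
      apply h4
      have h8 := cj_map_subtype D (⟨x, hxH⟩ : H)
      change (cj (⟨x, hxH⟩ : H) D).map H.subtype = cj x (D.map H.subtype) at h8
      rw [h7] at h8
      exact Subgroup.map_injective (Subgroup.subtype_injective H) h8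
    refine ⟨hDc.quasi, sq_of_order hx, hzK, hne,
      hDc.comm (hDc.conj_of_norm hxn) (fun h => hne h.symm), ?_, ?_⟩
    · rintro _ ⟨d, hd, rfl⟩
      exact h5 d hd
    · intro k hk
      obtain ⟨d, hd, hkd⟩ := h6 ⟨k, hKY hk⟩ hk
      exact ⟨d, ⟨d, hd, rfl⟩, congrArg Subtype.val hkd⟩

omit [Finite G] in
/-- The component over a subgroup which is not abelian is unique. -/
theorem CompIn.over_unique {H K D D' : Subgroup G} (hD : CompIn H D) (hD' : CompIn H D')
    (hK : IsQuasisimple K) (h1 : K ≤ D) (h2 : K ≤ D') : D = D' := by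
  by_contra hne
  apply not_comm_self hK
  intro x hx
  rw [mem_centralizer_iff]
  intro y hy
  exact (comm_elt (hD.comm hD' hne) (h1 hx) (h2 hy)).symm

end PumpH

end Cfsg.Agent.OddHalf.NI
end

-- part: OddHalf/NI/FrameKill
section
-- merged: Cfsg.Agent.OddHalf.NI.ThmXOf
section

/-!
# THEOREM X: the pump-up property `PumpV` from L-balance and the B-property
-/

set_option autoImplicit false

namespace Cfsg.Agent.OddHalf.NI.ThmXOf

open Subgroup Cfsg Cfsg.Agent.SignalizersComponents Cfsg.Agent.OddHalf.D3 Cfsg.Agent.OddHalf.NI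
open Cfsg.Agent.OddHalf.NI.ThmX

variable {G : Type*} [Group G]

/-- The group generated by pairwise commuting involutions is elementary abelian. -/
theorem ea_closure {S : Set G} (h : CInv S) : EA (Subgroup.closure S) := by
  have hcomm : ∀ x ∈ Subgroup.closure S, ∀ y ∈ Subgroup.closure S, x * y = y * x := by
    intro x hx y hy
    have h1 := Subgroup.isMulCommutative_closure (k := S) (fun a ha b hb => h.comm a ha b hb)
    exact congrArg Subtype.val (h1.is_comm.comm (⟨x, hx⟩ : Subgroup.closure S) ⟨y, hy⟩)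
  intro w hw
  induction hw using Subgroup.closure_induction with
  | mem z hz => exact sq_of_order (h.ord z hz)
  | one => exact one_mul 1
  | mul u v hu hv ihu ihv =>
    calc u * v * (u * v) = u * (v * u) * v := by group
      _ = (u * u) * (v * v) := by rw [← hcomm u hu v hv]; group
      _ = 1 := by rw [ihu, ihv, one_mul]
  | inv u _ ihu =>
    rw [← mul_inv_rev, ihu, inv_one]

theorem pumpV [Finite G] (hFT : FT G) (hB : BL G) (hBP : ∀ H : Subgroup G, HasBProperty ↥H) :
    PumpV G := by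
  intro S t K hS hI hK
  have hIS : CInv S := hI.mono (Set.subset_insert t S)
  have hne : Subgroup.closure S ≠ ⊥ := by
    obtain ⟨s, hs⟩ := hS
    intro h
    have h1 : s = 1 := by
      rw [← Subgroup.mem_bot, ← h]
      exact Subgroup.subset_closure hs
    have h2 := hIS.ord s hs
    rw [h1, orderOf_one] at h2
    exact absurd h2 (by norm_num)
  have h1 := blw hFT hB hBP _ (ea_closure hIS) hne
  rw [Subgroup.centralizer_closure] at h1
  have htC : t ∈ centralizer S := by
    rw [mem_centralizer_iff]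
    intro s hs
    exact hI.comm s (Set.mem_insert_of_mem _ hs) t (Set.mem_insert _ _)
  exact pumpH hFT h1 htC (hI.ord t (Set.mem_insert _ _)) hK

end Cfsg.Agent.OddHalf.NI.ThmXOf

end

-- merged: Cfsg.Agent.OddHalf.NI.OddQ
section

/-!
# Components modulo a central subgroup of odd order

`COdd f`: `f : Y →* Z` is surjective with central kernel of odd order. Components of `H` and of `f(H)`, and
centralizers of involutions, correspond.
-/

set_option autoImplicit false

namespace Cfsg.Agent.OddHalf.NI.OddQ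

open Subgroup Cfsg Cfsg.Agent.SignalizersComponents Cfsg.Agent.OddHalf.D3 Cfsg.Agent.OddHalf.NI
open scoped commutatorElement

variable {Y Z : Type*} [Group Y] [Group Z]

structure COdd (f : Y →* Z) : Prop where
  surj : Function.Surjective f
  cen : f.ker ≤ center Y
  odd : Odd (Nat.card f.ker)

variable {f : Y →* Z}

/-- An element of the kernel whose square lies in `K` lies in `K`. -/
theorem COdd.mem_of_sq (hf : COdd f) {K : Subgroup Y} {z : Y} (hz : z ∈ f.ker) (h : z * z ∈ K) :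
    z ∈ K := by
  have h1 : z ^ Nat.card f.ker = 1 := by
    have := pow_card_eq_one' (G := f.ker) (x := ⟨z, hz⟩)
    exact congrArg Subtype.val this
  obtain ⟨m, hm⟩ := hf.odd
  rw [hm] at h1
  have h2 : z = ((z * z) ^ m)⁻¹ := by
    rw [eq_inv_iff_mul_eq_one, ← pow_two, ← pow_mul, ← pow_succ', h1]
  rw [h2]
  exact inv_mem (pow_mem h m)

theorem COdd.eq_one_of_sq (hf : COdd f) {z : Y} (hz : z ∈ f.ker) (h : z * z = 1) : z = 1 := by
  have h1 := hf.mem_of_sq (K := ⊥) hz (by rw [h]; exact one_mem _)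
  exact Subgroup.mem_bot.mp h1

/-- Involutions: `f d` and `f x` commute iff `d` and `x` commute. -/
theorem COdd.comm_iff (hf : COdd f) {d x : Y} (hd : d * d = 1) :
    f x * f d = f d * f x ↔ x * d = d * x := by
  constructor
  · intro h
    have h1 : x * d * (d * x)⁻¹ ∈ f.ker := by
      rw [MonoidHom.mem_ker, map_mul, map_inv, map_mul, map_mul, h, mul_inv_cancel]
    set o := x * d * (d * x)⁻¹ with ho
    have hc : ∀ y, y * o = o * y := fun y => mem_center_iff.mp (hf.cen h1) y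
    have h2 : x * d = o * (d * x) := by rw [ho]; group
    have h3 : x * d * d = o * o * (d * d * x) := by
      calc x * d * d = o * (d * x) * d := by rw [h2]
        _ = o * d * (x * d) := by group
        _ = o * d * (o * (d * x)) := by rw [h2]
        _ = o * (d * o) * (d * x) := by group
        _ = o * (o * d) * (d * x) := by rw [hc]
        _ = o * o * (d * d * x) := by group
    rw [mul_assoc, hd, mul_one, one_mul] at h3
    have h4 : o * o = 1 := by
      have := congrArg (· * x⁻¹) h3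
      simpa only [_root_.mul_inv_cancel_right, _root_.mul_inv_cancel] using this.symm
    have h5 := hf.eq_one_of_sq h1 h4
    rw [h2, h5, one_mul]
  · intro h
    rw [← map_mul, ← map_mul, h]

theorem COdd.map_inf_cs (hf : COdd f) {H : Subgroup Y} {d : Y} (hd : d * d = 1) :
    (H ⊓ centralizer ({d} : Set Y)).map f = H.map f ⊓ centralizer ({f d} : Set Z) := by
  ext z
  constructor
  · rintro ⟨x, hx, rfl⟩
    exact ⟨⟨x, hx.1, rfl⟩, mem_cs.mpr ((hf.comm_iff hd).mpr (mem_cs.mp hx.2))⟩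
  · rintro ⟨⟨x, hx, rfl⟩, h⟩
    exact ⟨x, ⟨hx, mem_cs.mpr ((hf.comm_iff hd).mp (mem_cs.mp h))⟩, rfl⟩

theorem COdd.map_cs (hf : COdd f) {d : Y} (hd : d * d = 1) :
    (centralizer ({d} : Set Y)).map f = centralizer ({f d} : Set Z) := by
  have h1 := hf.map_inf_cs (H := ⊤) hd
  rwa [top_inf_eq, Subgroup.map_top_of_surjective f hf.surj, top_inf_eq] at h1

theorem COdd.orderOf_map (hf : COdd f) {d : Y} (hd : orderOf d = 2) : orderOf (f d) = 2 := by
  apply order_of_sq
  · rw [← map_mul, sq_of_order hd, map_one]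
  · intro h
    have h1 := hf.eq_one_of_sq (z := d) h (sq_of_order hd)
    rw [h1, orderOf_one] at hd
    exact absurd hd (by norm_num)

/-- An involution whose image lies in `f(K)` lies in `K`. -/
theorem COdd.mem_of_map (hf : COdd f) {K : Subgroup Y} {d : Y} (hd : d * d = 1) (h : f d ∈ K.map f) :
    d ∈ K := by
  obtain ⟨k, hk, hkd⟩ := h
  have h1 : k⁻¹ * d ∈ f.ker := by
    rw [MonoidHom.mem_ker, map_mul, map_inv, hkd, inv_mul_cancel]
  have hc : ∀ y, y * (k⁻¹ * d) = (k⁻¹ * d) * y := fun y => mem_center_iff.mp (hf.cen h1) y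
  have h2 : d = k * (k⁻¹ * d) := by group
  have h3 : (k⁻¹ * d) * (k⁻¹ * d) ∈ K := by
    have h4 : k * (k⁻¹ * d) * (k * (k⁻¹ * d)) = 1 := by rw [← h2, hd]
    have h5 : k * k * ((k⁻¹ * d) * (k⁻¹ * d)) = 1 := by
      calc k * k * ((k⁻¹ * d) * (k⁻¹ * d)) = k * (k * (k⁻¹ * d)) * (k⁻¹ * d) := by group
        _ = k * ((k⁻¹ * d) * k) * (k⁻¹ * d) := by rw [hc k]
        _ = k * (k⁻¹ * d) * (k * (k⁻¹ * d)) := by group
        _ = 1 := h4
    have h6 : (k⁻¹ * d) * (k⁻¹ * d) = (k * k)⁻¹ := by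
      rw [eq_inv_iff_mul_eq_one, ← h5]
      have h7 : ∀ y, y * ((k⁻¹ * d) * (k⁻¹ * d)) = ((k⁻¹ * d) * (k⁻¹ * d)) * y := by
        intro y
        rw [← mul_assoc, hc y, mul_assoc, hc y, ← mul_assoc]
      rw [h7]
    rw [h6]
    exact inv_mem (mul_mem hk hk)
  have h4 := hf.mem_of_sq h1 h3
  rw [h2]
  exact mul_mem hk h4

/-- The image of a component. -/
theorem COdd.comp_map (hf : COdd f) {H K : Subgroup Y} (hK : CompIn H K) : CompIn (H.map f) (K.map f) := by
  refine ⟨Subgroup.map_mono hK.le, ?_⟩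
  let g : H →* H.map f := f.subgroupMap H
  have hg : Function.Surjective g := f.subgroupMap_surjective H
  have e : (K.subgroupOf H).map g = (K.map f).subgroupOf (H.map f) := by
    ext ⟨x, hx⟩
    rw [mem_subgroupOf]
    constructor
    · rintro ⟨⟨y, hyH⟩, hy, hyx⟩
      exact ⟨y, hy, congrArg Subtype.val hyx⟩
    · rintro ⟨y, hy, hyx⟩
      exact ⟨⟨y, hK.le hy⟩, hy, Subtype.ext hyx⟩
  rw [← e]
  rcases ComponentImage.map_eq_bot_or_isComponent hg hK.comp with h | h
  · exfalso
    apply not_comm_self hK.quasi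
    intro x hx
    have h1 : (⟨x, hK.le hx⟩ : H) ∈ g.ker := by
      rw [Subgroup.map_eq_bot_iff] at h
      exact h hx
    have h2 : x ∈ f.ker := congrArg Subtype.val h1
    rw [mem_centralizer_iff]
    intro y _
    exact mem_center_iff.mp (hf.cen h2) y
  · exact h

/-- Components with the same image are equal. -/
theorem COdd.comp_inj (hf : COdd f) {H K K' : Subgroup Y} (hK : CompIn H K) (hK' : CompIn H K')
    (h : K.map f = K'.map f) : K = K' := by
  by_contra hne
  have h1 := hK.comm hK' hne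
  have h2 := (hf.comp_map hK).quasi
  apply not_comm_self h2
  rintro _ ⟨x, hx, rfl⟩
  rw [mem_centralizer_iff]
  intro z hz
  rw [h] at hz
  obtain ⟨y, hy, rfl⟩ := hz
  rw [← map_mul, ← map_mul, comm_elt h1 hx hy]

/-- The preimage of a component. -/
theorem COdd.comp_lift (hf : COdd f) {H : Subgroup Y} {L : Subgroup Z} (hL : CompIn (H.map f) L) :
    ∃ K : Subgroup Y, CompIn H K ∧ K.map f = L := by
  let g : H →* H.map f := f.subgroupMap H
  have hg : Function.Surjective g := f.subgroupMap_surjective H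
  have hgc : g.ker ≤ center H := by
    intro x hx
    have h1 : (x : Y) ∈ f.ker := congrArg Subtype.val hx
    rw [mem_center_iff]
    intro y
    exact Subtype.ext (mem_center_iff.mp (hf.cen h1) y)
  -- the full preimage
  obtain ⟨P, hP⟩ : ∃ P : Subgroup H, P = (L.subgroupOf (H.map f)).comap g := ⟨_, rfl⟩
  have hPs : P.IsSubnormal := by
    rw [hP]; exact hL.comp.1.comap g
  have hPm : P.map g = L.subgroupOf (H.map f) := by
    rw [hP, Subgroup.map_comap_eq_self_of_surjective hg]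
  have hkP : g.ker ≤ P := by
    rw [hP]
    intro x hx
    rw [mem_comap, MonoidHom.mem_ker.mp hx]
    exact one_mem _
  obtain ⟨K, hK⟩ : ∃ K : Subgroup H, K = ⁅P, P⁆ := ⟨_, rfl⟩
  have hKP : K ≤ P := hK ▸ commutator_le_self P
  have hLp : ⁅L.subgroupOf (H.map f), L.subgroupOf (H.map f)⁆ = L.subgroupOf (H.map f) :=
    Subgroup.isPerfect_iff.mp hL.comp.2.1
  have hKm : K.map g = L.subgroupOf (H.map f) := by
    rw [hK, map_commutator, hPm, hLp]
  -- `P = K · ker g`
  have hPK : P ≤ K ⊔ g.ker := by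
    intro x hx
    have h1 : g x ∈ K.map g := by rw [hKm, ← hPm]; exact ⟨x, hx, rfl⟩
    obtain ⟨k, hk, hkx⟩ := h1
    have h2 : k⁻¹ * x ∈ g.ker := by
      rw [MonoidHom.mem_ker, map_mul, map_inv, hkx, inv_mul_cancel]
    have h3 : x = k * (k⁻¹ * x) := by group
    rw [h3]
    exact mul_mem ((le_sup_left : K ≤ _) hk) ((le_sup_right : g.ker ≤ _) h2)
  have hKp : ⁅K, K⁆ = K := by
    apply le_antisymm (commutator_le_self K)
    conv_lhs => rw [hK]
    rw [commutator_le]
    intro x hx y hy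
    have hx1 := hPK hx
    have hy1 := hPK hy
    have dec : ∀ w ∈ P, ∃ k ∈ K, ∃ c ∈ g.ker, w = k * c := by
      intro w hw
      have h1 : g w ∈ K.map g := by rw [hKm, ← hPm]; exact ⟨w, hw, rfl⟩
      obtain ⟨k, hk, hkx⟩ := h1
      refine ⟨k, hk, k⁻¹ * w, ?_, by group⟩
      rw [MonoidHom.mem_ker, map_mul, map_inv, hkx, inv_mul_cancel]
    obtain ⟨k, hk, c, hc, rfl⟩ := dec x hx
    obtain ⟨l, hl, d, hd, rfl⟩ := dec y hy
    have hc' : ∀ y : H, y * c = c * y := fun y => mem_center_iff.mp (hgc hc) y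
    have hd' : ∀ y : H, y * d = d * y := fun y => mem_center_iff.mp (hgc hd) y
    have h4 : ⁅k * c, l * d⁆ = ⁅k, l⁆ := by
      rw [commutatorElement_def, commutatorElement_def, mul_inv_rev, mul_inv_rev]
      calc k * c * (l * d) * (c⁻¹ * k⁻¹) * (d⁻¹ * l⁻¹)
          = k * (c * l) * (d * (c⁻¹ * k⁻¹ * d⁻¹)) * l⁻¹ := by group
        _ = k * (l * c) * (d * (c⁻¹ * k⁻¹ * d⁻¹)) * l⁻¹ := by rw [hc' l]
        _ = k * (l * c) * ((c⁻¹ * k⁻¹ * d⁻¹) * d) * l⁻¹ := by rw [← hd' (c⁻¹ * k⁻¹ * d⁻¹)]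
        _ = k * l * k⁻¹ * l⁻¹ := by group
    rw [h4]
    exact commutator_mem_commutator hk hl
  have hKs : K.IsSubnormal := by
    refine Subgroup.IsSubnormal.trans hKP ?_ hPs
    apply Normal.isSubnormal
    rw [hK]
    exact (show (⁅P, P⁆.subgroupOf P).Normal from by
      rw [normal_subgroupOf_iff_le_normalizer (commutator_le_self P), le_normalizer_iff_commutator_le_left]
      exact commutator_mono (commutator_le_self P) le_rfl)
  have hKq : IsQuasisimple K := by
    let h : K →* (L.subgroupOf (H.map f) : Subgroup (H.map f)) :=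
      (MulEquiv.subgroupCongr hKm).toMonoidHom.comp (g.subgroupMap K)
    have hh : Function.Surjective h :=
      (MulEquiv.subgroupCongr hKm).surjective.comp (g.subgroupMap_surjective K)
    have hker : h.ker ≤ center K := by
      intro x hx
      have h1 : g x = 1 := by
        have h2 : ((h x : L.subgroupOf (H.map f)) : H.map f) = 1 := by
          rw [MonoidHom.mem_ker.mp hx]; rfl
        exact h2
      rw [mem_center_iff]
      intro y
      exact Subtype.ext (mem_center_iff.mp (hgc h1) y)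
    have e := QuotientGroup.quotientKerEquivOfSurjective h hh
    exact PCompQuot.quasisimple_of_central_quotient (Subgroup.isPerfect_iff.mpr hKp) hker
      (Components.isQuasisimple_of_mulEquiv e.symm hL.comp.2)
  refine ⟨K.map H.subtype, ⟨map_subtype_le K, ?_⟩, ?_⟩
  · have h1 : (K.map H.subtype).subgroupOf H = K :=
      Subgroup.comap_map_eq_self_of_injective (Subgroup.subtype_injective _) K
    rw [h1]
    exact ⟨hKs, hKq⟩
  · ext z
    constructor
    · rintro ⟨_, ⟨x, hx, rfl⟩, rfl⟩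
      have h1 : g x ∈ L.subgroupOf (H.map f) := by rw [← hKm]; exact ⟨x, hx, rfl⟩
      exact h1
    · intro hz
      have h1 : (⟨z, hL.le hz⟩ : H.map f) ∈ L.subgroupOf (H.map f) := hz
      rw [← hKm] at h1
      obtain ⟨x, hx, hxz⟩ := h1
      exact ⟨x, ⟨x, hx, rfl⟩, congrArg Subtype.val hxz⟩

end Cfsg.Agent.OddHalf.NI.OddQ

end

-- merged: Cfsg.Agent.OddHalf.NI.FrameKill
section

/-!
# THEOREM X from (F2'), (Sol) and (AutM)

The components `D` of `C(S)` in THEOREM X may have a centre of even and odd order; (F2') is applied to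
`D / O(D)`. In Solomon's configuration `O(Z(Du))` centralizes `Dv` (AutM), so that (Sol) can be applied to
`⟨Du, Dv⟩` modulo a central subgroup of odd order.
-/

set_option autoImplicit false

namespace Cfsg.Agent.OddHalf.NI.FrameKill

open Subgroup Cfsg Cfsg.Agent.SignalizersComponents Cfsg.Agent.OddHalf.NI
open Cfsg.Agent.OddHalf.D3 (cj Comp mem_cs sq_of_order order_of_sq not_comm_self comm_elt conj_mem_cj comm_symm)
open Cfsg.Agent.OddHalf.NI.ThmX (CInv F2p UI)
open Cfsg.Agent.OddHalf.NI.OddQ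
open scoped commutatorElement

universe u

/-- A quasisimple group with an involution `b ∉ Z(N)` in a component `B ≅ SL₂(q)` of `C(b)` is of Lie type in odd
characteristic modulo its centre (S1310; `M₁₁` is excluded by the component). -/
def LieCl : Prop :=
  ∀ (N : Type u) [Group N] [Finite N], IsQuasisimple N → ∀ (b : N) (B : Subgroup N), orderOf b = 2 →
    b ∉ center N → CompIn (centralizer ({b} : Set N)) B → b ∈ B → IsSL ↥B → Iface.LieOdd (N ⧸ center N)

/-! ### `SL₂(F)` -/

section SL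

variable {F : Type} [Field F] [Fintype F]

/-- the type of the members -/
def QQ (F : Type) [Field F] {G : Type*} [Group G] (K : Subgroup G) : Prop :=
  Nonempty (↥K ≃* Matrix.SpecialLinearGroup (Fin 2) F)

theorem sl_inv (hF : Odd (Fintype.card F)) {K : Type*} [Group K] (e : K ≃* Matrix.SpecialLinearGroup (Fin 2) F)
    {x y : K} (hx : orderOf x = 2) (hy : orderOf y = 2) : x = y := by
  have h2 := TwoFusion.QuatCoverSL.two_ne_zero_of_odd hF
  have key : ∀ z : K, orderOf z = 2 → e z = -1 := by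
    intro z hz
    have h1 : e z * e z = 1 := by rw [← map_mul, sq_of_order hz, map_one]
    rcases Lib.PSL2Inv.sq_eq_one h2 h1 with h | h
    · exfalso
      have h3 : z = 1 := e.injective (by rw [h, map_one])
      rw [h3, orderOf_one] at hz
      exact absurd hz (by norm_num)
    · exact h
  exact e.injective (by rw [key x hx, key y hy])

theorem ui_of_sl (hF : Odd (Fintype.card F)) {G : Type*} [Group G] {K : Subgroup G} (h : QQ F K) : UI K := by
  obtain ⟨e⟩ := h
  intro x hx y hy hx2 hy2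
  have := sl_inv hF e (x := ⟨x, hx⟩) (y := ⟨y, hy⟩) (by rw [Subgroup.orderOf_mk, hx2])
    (by rw [Subgroup.orderOf_mk, hy2])
  exact congrArg Subtype.val this

omit [Fintype F] in
theorem sq_eq_one_of_center {K : Type*} [Group K] (e : K ≃* Matrix.SpecialLinearGroup (Fin 2) F) {x : K}
    (hx : x ∈ center K) : x * x = 1 := by
  have h1 : e x ∈ center (Matrix.SpecialLinearGroup (Fin 2) F) := by
    rw [mem_center_iff] at hx ⊢
    intro g
    have := congrArg e (hx (e.symm g))
    simpa only [_root_.map_mul, _root_.MulEquiv.apply_symm_apply] using this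
  obtain ⟨r, hr, hre⟩ := Matrix.SpecialLinearGroup.mem_center_iff.mp h1
  apply e.injective
  rw [map_mul, map_one]
  apply Subtype.ext
  change (e x).1 * (e x).1 = 1
  rw [← hre, ← map_mul, ← pow_two]
  rw [Fintype.card_fin] at hr
  rw [hr, map_one]

/-- The image of `SL₂(F)` modulo a central subgroup of odd order. -/
theorem sl_map {Y Z : Type*} [Group Y] [Group Z] {f : Y →* Z} (hf : COdd f) {K : Subgroup Y}
    (h : QQ F K) : QQ F (K.map f) := by
  obtain ⟨e⟩ := h
  have hinj : Function.Injective (f.subgroupMap K) := by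
    rw [injective_iff_map_eq_one]
    intro x hx
    have h1 : (x : Y) ∈ f.ker := congrArg Subtype.val hx
    have h2 : x ∈ center K := by
      rw [mem_center_iff]
      intro y
      exact Subtype.ext (mem_center_iff.mp (hf.cen h1) y)
    have h3 := sq_eq_one_of_center e h2
    exact Subtype.ext (hf.eq_one_of_sq h1 (congrArg Subtype.val h3))
  exact ⟨(MulEquiv.ofBijective (f.subgroupMap K) ⟨hinj, f.subgroupMap_surjective K⟩).symm.trans e⟩

theorem isSL_of_qq (hF : Odd (Fintype.card F)) (h3 : 3 < Fintype.card F) {G : Type*} [Group G] {K : Subgroup G}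
    (h : QQ F K) : IsSL ↥K := ⟨F, inferInstance, inferInstance, hF, h3, h⟩

end SL

theorem ui_of_isSL {G : Type*} [Group G] {K : Subgroup G} (h : IsSL ↥K) : UI K := by
  obtain ⟨F, i1, i2, h1, -, h2⟩ := h
  exact ui_of_sl h1 h2

/-! ### odd cores -/

section Core

theorem center_two {N : Type*} [Group N] [Finite N] (hO : oddCore N = ⊥) : IsPGroup 2 ↥(center N) := by
  intro x
  obtain ⟨a, m, hm, hx⟩ := Nat.exists_eq_two_pow_mul_odd (n := orderOf x) (orderOf_pos x).ne'
  refine ⟨a, ?_⟩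
  set y : N := ((x ^ 2 ^ a : center N) : N) with hy
  have hyo : orderOf y = m := by
    rw [hy, Subgroup.orderOf_coe, orderOf_pow, hx, Nat.gcd_eq_right (dvd_mul_right _ _),
      Nat.mul_div_cancel_left _ (by positivity)]
  have hyc : y ∈ center N := (x ^ 2 ^ a : center N).2
  have hn : (zpowers y).Normal := by
    refine ⟨fun n hn g => ?_⟩
    have h1 : n ∈ center N := (zpowers_le.mpr hyc) hn
    rw [mem_center_iff.mp h1 g, mul_inv_cancel_right]
    exact hn
  have h1 : zpowers y ≤ oddCore N := by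
    apply Lib.Cores.le_pPrimeCore hn
    rw [Nat.card_zpowers, hyo, Nat.coprime_two_right]
    exact hm
  rw [hO, le_bot_iff, zpowers_eq_bot] at h1
  exact Subtype.ext h1

theorem oddCore_le_center {D : Type*} [Group D] [Finite D] (hq : IsQuasisimple D) {b : D}
    (hb : orderOf b = 2) : oddCore D ≤ center D := by
  rcases Components.quasisimple_normal hq (oddCore D) (Lib.Cores.pPrimeCore_normal 2) with h | h
  · exfalso
    have h1 : (Nat.card (oddCore D)).Coprime 2 := Lib.Cores.pPrimeCore_coprime 2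
    rw [h, Subgroup.card_top] at h1
    have h2 : 2 ∣ Nat.card D := hb ▸ _root_.orderOf_dvd_natCard b
    exact Nat.not_coprime_of_dvd_of_dvd (by norm_num) h2 dvd_rfl h1
  · exact h

instance oddCore_normal {D : Type*} [Group D] : (oddCore D).Normal := Lib.Cores.pPrimeCore_normal 2

theorem cOdd_mk {D : Type*} [Group D] [Finite D] (hq : IsQuasisimple D) {b : D} (hb : orderOf b = 2) :
    COdd (QuotientGroup.mk' (oddCore D)) where
  surj := QuotientGroup.mk'_surjective _
  cen := by rw [QuotientGroup.ker_mk']; exact oddCore_le_center hq hb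
  odd := by
    rw [QuotientGroup.ker_mk']
    exact Nat.coprime_two_right.mp (Lib.Cores.pPrimeCore_coprime 2)

theorem oddCore_eq_bot {Y Z : Type*} [Group Y] [Group Z] [Finite Y] [Finite Z] {f : Y →* Z} (hf : COdd f)
    (h : oddCore Y ≤ f.ker) : oddCore Z = ⊥ := by
  have h1 := ClassificationK.PCompTransport.comap_pPrimeCore 2 f (Nat.coprime_two_right.mpr hf.odd)
    (by rw [MonoidHom.range_eq_top.mpr hf.surj]; exact Subgroup.IsSubnormal.top)
  rw [eq_bot_iff]
  intro z hz
  obtain ⟨y, rfl⟩ := hf.surj z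
  have h2 : y ∈ (pPrimeCore 2 Z).comap f := hz
  rw [h1] at h2
  exact h h2

end Core

/-! ### the configuration -/

section Conf

variable (F : Type) [Field F] {G : Type*} [Group G]

/-- The data of (F2'). -/
structure PP (c d : G) (D A B B' : Subgroup G) : Prop where
  quasi : IsQuasisimple D
  cD : c ∈ centralizer (D : Set G)
  oc : orderOf c = 2
  od : orderOf d = 2
  cA : c ∈ A
  dB : d ∈ B
  cdB : c * d ∈ B'
  ne : A ≠ B
  qA : QQ F A
  qB : QQ F B
  ui : UI B'
  compA : CompIn (D ⊓ centralizer ({d} : Set G)) A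
  compB : CompIn (D ⊓ centralizer ({d} : Set G)) B
  compB' : CompIn (D ⊓ centralizer ({d} : Set G)) B'

variable {F}

theorem PP.cmem {c d : G} {D A B B' : Subgroup G} (h : PP F c d D A B B') : c ∈ D := (h.compA.le h.cA).1

theorem PP.dmem {c d : G} {D A B B' : Subgroup G} (h : PP F c d D A B B') : d ∈ D := (h.compB.le h.dB).1

theorem PP.comm {c d : G} {D A B B' : Subgroup G} (h : PP F c d D A B B') : d * c = c * d :=
  mem_centralizer_iff.mp h.cD d h.dmem

theorem PP.cne {c d : G} {D A B B' : Subgroup G}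
    (h : PP F c d D A B B') : c ≠ d := by
  intro hcd
  -- `c` would be in `A ∩ B`, hence... `C_D(d) = D`
  have h1 : D ≤ centralizer ({d} : Set G) := by
    intro x hx
    rw [mem_cs, ← hcd]
    exact mem_centralizer_iff.mp h.cD x hx
  have h2 : D ⊓ centralizer ({d} : Set G) = D := inf_eq_left.mpr h1
  have hA := h.compA
  have hB := h.compB
  rw [h2] at hA hB
  exact h.ne ((hA.eq_of_le h.quasi le_rfl hA.le).trans (hB.eq_of_le h.quasi le_rfl hB.le).symm)

theorem PP.dnc {c d : G} {D A B B' : Subgroup G} (h : PP F c d D A B B') : d ∉ centralizer (D : Set G) := by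
  intro hcd
  have h1 : D ≤ centralizer ({d} : Set G) := by
    intro x hx
    rw [mem_cs]
    exact mem_centralizer_iff.mp hcd x hx
  have h2 : D ⊓ centralizer ({d} : Set G) = D := inf_eq_left.mpr h1
  have hA := h.compA
  have hB := h.compB
  rw [h2] at hA hB
  exact h.ne ((hA.eq_of_le h.quasi le_rfl hA.le).trans (hB.eq_of_le h.quasi le_rfl hB.le).symm)

theorem PP.neA [Fintype F] (hF : Odd (Fintype.card F)) {c d : G} {D A B B' : Subgroup G}
    (h : PP F c d D A B B') : B' ≠ A := by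
  intro hA
  have h1 : c * d ∈ A := hA ▸ h.cdB
  have h2 : d ∈ A := by
    have := mul_mem (inv_mem h.cA) h1
    rwa [inv_mul_cancel_left] at this
  exact h.cne (ui_of_sl hF h.qA c h.cA d h2 h.oc h.od)

theorem PP.neB [Fintype F] (hF : Odd (Fintype.card F)) {c d : G} {D A B B' : Subgroup G}
    (h : PP F c d D A B B') : B' ≠ B := by
  intro hB
  have h1 : c * d ∈ B := hB ▸ h.cdB
  have h2 : c ∈ B := by
    have := mul_mem h1 (inv_mem h.dB)
    rwa [mul_inv_cancel_right] at this
  exact h.cne (ui_of_sl hF h.qB c h2 d h.dB h.oc h.od)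

end Conf

section S7

variable {S7 : ∀ (N : Type u) [Group N], N → N → Subgroup N → Subgroup N → Subgroup N → Prop}
variable {F : Type} [Field F] [Fintype F]

/-- (F2') for a configuration in `N` with `O(N) = 1`. -/
theorem PP.s7 (hF2 : F2' S7) (hL : LieCl.{u}) (hF : Odd (Fintype.card F)) (h3 : 3 < Fintype.card F)
    {N : Type u} [Group N] [Finite N] (hO : oddCore N = ⊥) {c d : N} {A B B' : Subgroup N}
    (h : PP F c d ⊤ A B B') : S7 N c d A B B' := by
  have hq : IsQuasisimple N := Components.isQuasisimple_of_mulEquiv Subgroup.topEquiv h.quasi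
  have hA := h.compA
  have hB := h.compB
  have hB' := h.compB'
  rw [top_inf_eq] at hA hB hB'
  have hc : c ∈ center N := by
    rw [mem_center_iff]
    intro g
    exact mem_centralizer_iff.mp h.cD g (mem_top g)
  have hd : d ∉ center N := by
    intro hd
    apply h.dnc
    rw [mem_centralizer_iff]
    intro g _
    exact mem_center_iff.mp hd g
  obtain ⟨A', hA', hcd, hSL, hall, hS⟩ := hF2 N hq (center_two hO)
    (hL N hq d B h.od hd hB h.dB (isSL_of_qq hF h3 h.qB)) c d A B hc h.oc h.od h.cA h.dB h.ne hA hB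
    ⟨F, inferInstance, inferInstance, hF, h3, h.qA, h.qB⟩
  rcases hall B' hB' with h1 | h1 | h1
  · exact absurd h1 (h.neA hF)
  · exact absurd h1 (h.neB hF)
  · rw [h1]; exact hS

end S7

section Transport

variable {F : Type} [Field F] [Fintype F]

omit [Fintype F] in
/-- A configuration in `G`, inside `Y`, as a configuration of the group `↥Y`. -/
theorem PP.sub {G : Type*} [Group G] {c d : G} {D A B B' Y : Subgroup G} (h : PP F c d D A B B') (hY : D ≤ Y)
    (hc : c ∈ Y) (hd : d ∈ Y) :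
    PP F (⟨c, hc⟩ : Y) ⟨d, hd⟩ (D.subgroupOf Y) (A.subgroupOf Y) (B.subgroupOf Y) (B'.subgroupOf Y) := by
  have hA : A ≤ Y := (h.compA.le.trans inf_le_left).trans hY
  have hB : B ≤ Y := (h.compB.le.trans inf_le_left).trans hY
  have hB' : B' ≤ Y := (h.compB'.le.trans inf_le_left).trans hY
  have hle : D ⊓ centralizer ({d} : Set G) ≤ Y := inf_le_left.trans hY
  have e : (D ⊓ centralizer ({d} : Set G)).subgroupOf Y =
      D.subgroupOf Y ⊓ centralizer ({(⟨d, hd⟩ : Y)} : Set Y) := by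
    ext x
    rw [mem_inf, mem_subgroupOf, mem_subgroupOf, mem_inf, mem_cs, mem_cs]
    exact and_congr_right fun _ => ⟨fun h => Subtype.ext h, fun h => congrArg Subtype.val h⟩
  refine ⟨?_, ?_, ?_, ?_, h.cA, h.dB, h.cdB, ?_, ?_, ?_, ?_, ?_, ?_, ?_⟩
  · exact Components.isQuasisimple_of_mulEquiv (Subgroup.subgroupOfEquivOfLe hY).symm h.quasi
  · rw [mem_centralizer_iff]
    intro x hx
    exact Subtype.ext (mem_centralizer_iff.mp h.cD x hx)
  · rw [Subgroup.orderOf_mk]; exact h.oc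
  · rw [Subgroup.orderOf_mk]; exact h.od
  · intro h1
    apply h.ne
    have := congrArg (Subgroup.map Y.subtype) h1
    rwa [Subgroup.map_subgroupOf_eq_of_le hA, Subgroup.map_subgroupOf_eq_of_le hB] at this
  · obtain ⟨e1⟩ := h.qA
    exact ⟨(Subgroup.subgroupOfEquivOfLe hA).trans e1⟩
  · obtain ⟨e1⟩ := h.qB
    exact ⟨(Subgroup.subgroupOfEquivOfLe hB).trans e1⟩
  · intro x hx y hy hx2 hy2
    apply Subtype.ext
    exact h.ui x hx y hy (by rw [Subgroup.orderOf_coe]; exact hx2) (by rw [Subgroup.orderOf_coe]; exact hy2)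
  · rw [← e]; exact h.compA.subgroupOf hle
  · rw [← e]; exact h.compB.subgroupOf hle
  · rw [← e]; exact h.compB'.subgroupOf hle

/-- The image of a configuration modulo a central subgroup of odd order. -/
theorem PP.map {Y Z : Type*} [Group Y] [Group Z] {f : Y →* Z} (hf : COdd f) {c d : Y} {D A B B' : Subgroup Y}
    (h : PP F c d D A B B') : PP F (f c) (f d) (D.map f) (A.map f) (B.map f) (B'.map f) := by
  have hcd2 : d * d = 1 := sq_of_order h.od
  refine ⟨?_, ?_, hf.orderOf_map h.oc, hf.orderOf_map h.od, mem_map_of_mem f h.cA, mem_map_of_mem f h.dB, ?_,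
    ?_, sl_map hf h.qA, sl_map hf h.qB, ?_, ?_, ?_, ?_⟩
  · have h1 : CompIn D D := by
      refine ⟨le_rfl, ?_, ?_⟩
      · rw [Subgroup.subgroupOf_self]; exact Subgroup.IsSubnormal.top
      · exact Components.isQuasisimple_of_mulEquiv (Subgroup.subgroupOfEquivOfLe le_rfl).symm h.quasi
    exact (hf.comp_map h1).quasi
  · rw [mem_centralizer_iff]
    rintro _ ⟨x, hx, rfl⟩
    rw [← map_mul, ← map_mul, mem_centralizer_iff.mp h.cD x hx]
  · rw [← map_mul]; exact mem_map_of_mem f h.cdB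
  · intro h1
    exact h.ne (hf.comp_inj h.compA h.compB h1)
  · rintro _ ⟨x, hx, rfl⟩ _ ⟨y, hy, rfl⟩ hx2 hy2
    -- lift the involutions
    have lift : ∀ x ∈ B', orderOf (f x) = 2 → ∃ x' ∈ B', f x' = f x ∧ orderOf x' = 2 := by
      intro x hx hx2
      have h1 : x * x ∈ f.ker := by
        rw [MonoidHom.mem_ker, map_mul, sq_of_order hx2]
      obtain ⟨m, hm⟩ := hf.odd
      have h2 : (x * x) ^ (2 * m + 1) = 1 := by
        have := pow_card_eq_one' (G := f.ker) (x := ⟨x * x, h1⟩)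
        rw [← hm]
        exact congrArg Subtype.val this
      refine ⟨x ^ (2 * m + 1), pow_mem hx _, ?_, ?_⟩
      · rw [map_pow, pow_succ, pow_mul, pow_two, sq_of_order hx2, one_pow, one_mul]
      · apply order_of_sq
        · rw [← (Commute.refl x).mul_pow, h2]
        · intro h3
          have h4 : f (x ^ (2 * m + 1)) = f x := by
            rw [map_pow, pow_succ, pow_mul, pow_two, sq_of_order hx2, one_pow, one_mul]
          rw [h3, map_one] at h4
          rw [← h4, orderOf_one] at hx2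
          exact absurd hx2 (by norm_num)
    obtain ⟨x', hx', e1, o1⟩ := lift x hx hx2
    obtain ⟨y', hy', e2, o2⟩ := lift y hy hy2
    rw [← e1, ← e2, h.ui x' hx' y' hy' o1 o2]
  · rw [← hf.map_inf_cs hcd2]; exact hf.comp_map h.compA
  · rw [← hf.map_inf_cs hcd2]; exact hf.comp_map h.compB
  · rw [← hf.map_inf_cs hcd2]; exact hf.comp_map h.compB'

end Transport

/-! ### (F2') for the components of `C(S)` -/

section Inst

variable {S7 : ∀ (N : Type u) [Group N], N → N → Subgroup N → Subgroup N → Subgroup N → Prop}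
variable {F : Type} [Field F] [Fintype F]

theorem f2p (hF2 : F2' S7) (hL : LieCl.{u}) (hF : Odd (Fintype.card F)) (h3 : 3 < Fintype.card F)
    {G : Type u} [Group G] [Finite G] : F2p (G := G) (QQ F) (PP F) := by
  intro S c d D A B _ _ hD hc hcD hd hcA hdB hA hB hne hcA' hcB'
  have hq := hD.quasi
  have hcm : c ∈ D := (hcA'.le hcA).1
  have hdm : d ∈ D := (hcB'.le hdB).1
  have hAD : A ≤ D := hcA'.le.trans inf_le_left
  have hBD : B ≤ D := hcB'.le.trans inf_le_left
  set c' : D := ⟨c, hcm⟩ with hc'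
  set d' : D := ⟨d, hdm⟩ with hd'
  have hc2' : orderOf c' = 2 := by rw [hc', Subgroup.orderOf_mk, hc]
  have hd2' : orderOf d' = 2 := by rw [hd', Subgroup.orderOf_mk, hd]
  have hdd : d' * d' = 1 := sq_of_order hd2'
  let f : ↥D →* (↥D ⧸ oddCore ↥D) := QuotientGroup.mk' (oddCore ↥D)
  have hf : COdd f := cOdd_mk hq hd2'
  have hcomp : ∀ K : Subgroup G, CompIn (D ⊓ centralizer ({d} : Set G)) K →
      CompIn (centralizer ({d'} : Set D)) (K.subgroupOf D) := fun K hK => compIn_of_comp (hK.comp_of hdm)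
  have hcompf : ∀ K : Subgroup G, CompIn (D ⊓ centralizer ({d} : Set G)) K →
      CompIn (centralizer ({f d'} : Set (↥D ⧸ oddCore ↥D))) ((K.subgroupOf D).map f) := by
    intro K hK
    rw [← hf.map_cs hdd]
    exact hf.comp_map (hcomp K hK)
  have hsl : ∀ K : Subgroup G, K ≤ D → QQ F K → QQ F ((K.subgroupOf D).map f) := by
    rintro K hK ⟨e⟩
    exact sl_map hf ⟨(Subgroup.subgroupOfEquivOfLe hK).trans e⟩
  have hAB : (A.subgroupOf D).map f ≠ (B.subgroupOf D).map f := by
    intro h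
    have h1 := hf.comp_inj (hcomp A hcA') (hcomp B hcB') h
    apply hne
    have := congrArg (Subgroup.map D.subtype) h1
    rwa [Subgroup.map_subgroupOf_eq_of_le hAD, Subgroup.map_subgroupOf_eq_of_le hBD] at this
  -- `N = D / O(D)`
  have hNq : IsQuasisimple (↥D ⧸ oddCore ↥D) := by
    have h1 : CompIn (⊤ : Subgroup D) ⊤ :=
      ⟨le_rfl, by rw [Subgroup.subgroupOf_self]; exact Subgroup.IsSubnormal.top,
        Components.isQuasisimple_of_mulEquiv ((Subgroup.topEquiv.trans Subgroup.topEquiv).symm.trans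
          (MulEquiv.subgroupCongr (Subgroup.subgroupOf_self _).symm)) hq⟩
    have h2 := (hf.comp_map h1).quasi
    rw [Subgroup.map_top_of_surjective f hf.surj] at h2
    exact Components.isQuasisimple_of_mulEquiv Subgroup.topEquiv h2
  have hNO : oddCore (↥D ⧸ oddCore ↥D) = ⊥ := oddCore_eq_bot hf (by rw [QuotientGroup.ker_mk'])
  have hcc : f c' ∈ center (↥D ⧸ oddCore ↥D) := by
    rw [mem_center_iff]
    intro g
    obtain ⟨x, rfl⟩ := hf.surj g
    rw [← map_mul, ← map_mul]
    exact congrArg f (Subtype.ext (mem_centralizer_iff.mp hcD x x.2))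
  have hdc : f d' ∉ center (↥D ⧸ oddCore ↥D) := by
    intro hcon
    apply hAB
    have h1 : centralizer ({f d'} : Set (↥D ⧸ oddCore ↥D)) = ⊤ := by
      rw [eq_top_iff]
      intro x _
      rw [mem_cs]
      exact mem_center_iff.mp hcon x
    have h2 := hcompf A hcA'
    have h4 := hcompf B hcB'
    rw [h1] at h2 h4
    have h5 : IsQuasisimple (⊤ : Subgroup (↥D ⧸ oddCore ↥D)) :=
      Components.isQuasisimple_of_mulEquiv Subgroup.topEquiv.symm hNq
    rw [h2.eq_of_le h5 le_rfl le_top, h4.eq_of_le h5 le_rfl le_top]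
  obtain ⟨A', hA', hcd, hSL, hall, -⟩ := hF2 (↥D ⧸ oddCore ↥D) hNq (center_two hNO)
    (hL _ hNq (f d') _ (hf.orderOf_map hd2') hdc (hcompf B hcB') (mem_map_of_mem f (show d' ∈ B.subgroupOf D from hdB))
      (isSL_of_qq hF h3 (hsl B hBD hB)))
    (f c') (f d') ((A.subgroupOf D).map f) ((B.subgroupOf D).map f) hcc (hf.orderOf_map hc2') (hf.orderOf_map hd2')
    (mem_map_of_mem f (show c' ∈ A.subgroupOf D from hcA)) (mem_map_of_mem f (show d' ∈ B.subgroupOf D from hdB)) hAB
    (hcompf A hcA') (hcompf B hcB') ⟨F, inferInstance, inferInstance, hF, h3, hsl A hAD hA, hsl B hBD hB⟩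
  -- lift the third component
  obtain ⟨K₀, hK₀, hK₀m⟩ := hf.comp_lift (H := centralizer ({d'} : Set D)) (L := A')
    (by rw [hf.map_cs hdd]; exact hA')
  have hB'c : CompIn (D ⊓ centralizer ({d} : Set G)) (K₀.map D.subtype) :=
    (compIn_of_comp_sub hK₀.toComp :)
  have hui : UI (K₀.map D.subtype) := by
    rintro _ ⟨x, hx, rfl⟩ _ ⟨y, hy, rfl⟩ hx2 hy2
    have hx2' : orderOf x = 2 := by rw [← Subgroup.orderOf_coe]; exact hx2
    have hy2' : orderOf y = 2 := by rw [← Subgroup.orderOf_coe]; exact hy2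
    have h1 : f x = f y := ui_of_isSL hSL (f x) (hK₀m ▸ mem_map_of_mem f hx) (f y)
      (hK₀m ▸ mem_map_of_mem f hy) (hf.orderOf_map hx2') (hf.orderOf_map hy2')
    have h2 : x * y ∈ f.ker := by
      rw [MonoidHom.mem_ker, map_mul, h1, sq_of_order (hf.orderOf_map hy2')]
    have hcen := mem_center_iff.mp (hf.cen h2)
    have h4 : x * y * (x * y) = 1 := by
      calc x * y * (x * y) = x * (y * (x * y)) := by group
        _ = x * (x * y * y) := by rw [hcen y]
        _ = (x * x) * (y * y) := by group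
        _ = 1 := by rw [sq_of_order hx2', sq_of_order hy2', one_mul]
    have h5 := hf.eq_one_of_sq h2 h4
    have h6 : x = y := by
      rw [mul_eq_one_iff_eq_inv] at h5
      rw [h5]
      exact inv_eq_of_mul_eq_one_left (sq_of_order hy2')
    rw [h6]
  have hcd' : c * d ∈ K₀.map D.subtype := by
    refine ⟨c' * d', ?_, rfl⟩
    apply hf.mem_of_map
    · have h1 : d' * c' = c' * d' := Subtype.ext (mem_centralizer_iff.mp hcD d hdm)
      calc c' * d' * (c' * d') = c' * (d' * c') * d' := by group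
        _ = (c' * c') * (d' * d') := by rw [h1]; group
        _ = 1 := by rw [sq_of_order hc2', hdd, one_mul]
    · rw [hK₀m, map_mul]; exact hcd
  refine ⟨K₀.map D.subtype, hB'c, hui, hcd', ?_, hq, hcD, hc, hd, hcA, hdB, hcd', hne, hA, hB, hui, hcA',
    hcB', hB'c⟩
  intro K hK
  have hKD : K ≤ D := hK.le.trans inf_le_left
  have back : ∀ L : Subgroup D, CompIn (centralizer ({d'} : Set D)) L → (K.subgroupOf D).map f = L.map f →
      K = L.map D.subtype := by
    intro L hL1 h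
    have h1 := hf.comp_inj (hcomp K hK) hL1 h
    rw [← h1, Subgroup.map_subgroupOf_eq_of_le hKD]
  rcases hall _ (hcompf K hK) with h | h | h
  · left
    rw [back _ (hcomp A hcA') h, Subgroup.map_subgroupOf_eq_of_le hAD]
  · right; left
    rw [back _ (hcomp B hcB') h, Subgroup.map_subgroupOf_eq_of_le hBD]
  · right; right
    exact back _ hK₀ (by rw [h, hK₀m])

end Inst

end Cfsg.Agent.OddHalf.NI.FrameKill

end
end
end
end
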